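import Cfsg.Agent.H8.Shult.Setup2

/-!
The general configuration for the fixed point theorem of Shult type: no assumption on the characteristic
and the order of the fixed subgroup.
-/

set_option autoImplicit false
set_option linter.unusedSectionVars false

namespace Cfsg.Agent.H24.Flav

open Subgroup
open Cfsg.Agent.H8.Shult hiding Min
open scoped commutatorElement

universe u v w

/-- An invariant normal `p`-subgroup `P` of `H` absorbs a `2`-power of every displacement of `H`. -/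
def PTwo {G : Type u} [Group G] (p : ℕ) (a : MulAut G) (H : Subgroup G) : Prop :=
  ∃ P : Subgroup G, P ≤ H ∧ IsPGroup p P ∧ Inv a P ∧ H ≤ normalizer (P : Set G) ∧
    ∀ x ∈ disp a H, ∃ j : ℕ, x ^ 2 ^ j ∈ P

/-- The minimal configuration. -/
structure Cfg {G : Type u} [Group G] [Finite G] (p r : ℕ) (a : MulAut G) {k : Type w} [Field k]
    {V : Type v} [AddCommGroup V] [Module k V] (ρ : G →* Module.End k V) (T : Module.End k V) : Prop where
  coprimely : Coprimely a r
  rep : RepData a r ρ T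
  inj : Function.Injective ρ
  odd : p ≠ 2
  ne_r : r ≠ p
  irr : ∀ S : Submodule k V, (∀ g, ∀ v ∈ S, ρ g v ∈ S) → (∀ v ∈ S, T v ∈ S) → S = ⊥ ∨ S = ⊤
  proper : ∀ H : Subgroup G, Inv a H → H ≠ ⊤ → PTwo p a H
  notTwo : ¬ IsPGroup 2 (disp a (⊤ : Subgroup G))

variable {G : Type u} [Group G] [Finite G] {p r : ℕ} [hp : Fact p.Prime] {a : MulAut G}
variable {k : Type w} [Field k] [CharP k p] {V : Type v} [AddCommGroup V] [Module k V]
variable {ρ : G →* Module.End k V} {T : Module.End k V}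

/-- An element with a `2`-power in a `p`-group and a `p`-power trivial lies in the `p`-group. -/
theorem mem_of_two_pow_mem (hp2 : p ≠ 2) {P : Subgroup G} {x : G} {j n : ℕ} (hj : x ^ 2 ^ j ∈ P)
    (hn : x ^ p ^ n = 1) : x ∈ P := by
  obtain ⟨m, hm⟩ := exists_pow_eq_self_of_coprime (x := x) (n := 2 ^ j)
    ((((Nat.coprime_primes Nat.prime_two hp.out).mpr (Ne.symm hp2)).pow j n).coprime_dvd_right
      (orderOf_dvd_of_pow_eq_one hn))
  exact hm ▸ pow_mem hj m

theorem two_pgroup_inf_eq_bot (hp2 : p ≠ 2) {A B : Subgroup G} (hA : IsPGroup p A) (hB : IsPGroup 2 B) :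
    A ⊓ B = ⊥ := by
  have : Fact (Nat.Prime 2) := ⟨Nat.prime_two⟩
  exact disjoint_iff.mp (hA.disjoint_of_ne _ _ hp2 A B hB)

/-- A `2`-subgroup commuting with everything mapped into a `p`-group. -/
theorem pow_two_eq_one_of_pGroup (hp2 : p ≠ 2) {P : Subgroup G} (hP : IsPGroup p P) {x : G} {i j : ℕ}
    (hj : x ^ 2 ^ j ∈ P) (hi : x ^ 2 ^ i = 1) : x ^ 2 ^ j = 1 := by
  obtain ⟨n, hn⟩ := hP ⟨_, hj⟩
  have hn' : (x ^ 2 ^ j) ^ p ^ n = 1 := congrArg Subtype.val hn
  refine orderOf_eq_one_iff.mp (Nat.eq_one_of_dvd_coprimes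
    (((Nat.coprime_primes hp.out Nat.prime_two).mpr hp2).pow n i) (orderOf_dvd_of_pow_eq_one hn') ?_)
  refine orderOf_dvd_of_pow_eq_one ?_
  rw [← pow_mul, mul_comm, pow_mul, hi, one_pow]

namespace Cfg

variable (M : Cfg p r a ρ T)
include M

theorem r_ne_zero : (r : k) ≠ 0 := fun h =>
  M.ne_r ((Nat.prime_dvd_prime_iff_eq hp.out M.coprimely.prime).mp ((CharP.cast_eq_zero_iff k p r).mp h)).symm

theorem two_ne_zero : (2 : k) ≠ 0 := fun h => M.odd
  ((Nat.prime_dvd_prime_iff_eq hp.out Nat.prime_two).mp ((CharP.cast_eq_zero_iff k p 2).mp (by exact_mod_cast h)))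

theorem natCard_ne_zero {H : Subgroup G} (h : ¬ p ∣ Nat.card H) : (Nat.card H : k) ≠ 0 := fun h' =>
  h ((CharP.cast_eq_zero_iff k p _).mp h')

theorem natCard_two_ne_zero {H : Subgroup G} (h : IsPGroup 2 H) : (Nat.card H : k) ≠ 0 := by
  have : Fact (Nat.Prime 2) := ⟨Nat.prime_two⟩
  obtain ⟨j, hj⟩ := IsPGroup.iff_card.mp h
  rw [hj, Nat.cast_pow, Nat.cast_ofNat]
  exact pow_ne_zero _ M.two_ne_zero

theorem nontrivial : Nontrivial V := by
  rcases subsingleton_or_nontrivial V with h | h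
  · exact absurd (fun x : disp a (⊤ : Subgroup G) => ⟨0, Subtype.ext ((pow_one _).trans
      (M.inj (Subsingleton.elim _ _)))⟩) M.notTwo
  · exact h

theorem eq_bot_of_normal_pGroup {N : Subgroup G} (hn : N.Normal) (hN : IsPGroup p N) (hNa : Inv a N) :
    N = ⊥ := by
  let S : Submodule k V := ⨅ n : N, LinearMap.ker (ρ n - 1)
  have hmem : ∀ v, v ∈ S ↔ ∀ n ∈ N, ρ n v = v := fun v => by
    simp [S, Submodule.mem_iInf, sub_eq_zero]
  have := M.nontrivial
  obtain ⟨v, hv⟩ := exists_ne (0 : V)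
  obtain ⟨w, hw0, hw⟩ := exists_fixed_of_pGroup hN (ρ.comp N.subtype) hv
  have hSg : ∀ g, ∀ u ∈ S, ρ g u ∈ S := fun g u hu => by
    rw [hmem] at hu ⊢
    intro n hn'
    have h1 : n * g = g * (g⁻¹ * n * g) := by group
    rw [← Module.End.mul_apply, ← map_mul, h1, map_mul, Module.End.mul_apply,
      hu _ (by simpa using hn.conj_mem n hn' g⁻¹)]
  have hST : ∀ u ∈ S, T u ∈ S := fun u hu => by
    rw [hmem] at hu ⊢
    intro n hn'
    obtain ⟨n', rfl⟩ := a.surjective n
    have := congrArg (fun f : Module.End k V => f u) (M.rep.compat n')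
    simp only [Module.End.mul_apply] at this
    rw [← this, hu n' (hNa.mem_iff.mp hn')]
  rcases M.irr S hSg hST with h | h
  · exact absurd ((Submodule.mem_bot k).mp (h ▸ (hmem w).mpr fun n hn => hw ⟨n, hn⟩)) hw0
  · rw [eq_bot_iff]
    intro n hn'
    rw [Subgroup.mem_bot]
    exact M.inj ((LinearMap.ext fun u => (hmem u).mp (h ▸ Submodule.mem_top) n hn').trans (map_one ρ).symm)

/-- `G` is generated by its displacements. -/
theorem disp_top : disp a (⊤ : Subgroup G) = ⊤ := by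
  by_contra hne
  set H := disp a (⊤ : Subgroup G) with hH
  have hHa : Inv a H := inv_disp inv_top
  obtain ⟨P, hPH, hP, hPa, hn, htwo⟩ := M.proper H hHa hne
  have hdH : disp a H = H := M.coprimely.disp_disp inv_top
  rw [hdH] at htwo
  have hPn : P.Normal := by
    refine normalizer_eq_top_iff.mp (top_le_iff.mp (le_normalizer_iff.mpr fun g _ x hx => ?_))
    obtain ⟨n, hx'⟩ := hP ⟨x, hx⟩
    have hconj : g * x * g⁻¹ ∈ H := (disp_top_normal (a := a)).conj_mem x (hPH hx) g
    obtain ⟨j, hj⟩ := htwo _ hconj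
    refine mem_of_two_pow_mem M.odd hj (n := n) ?_
    rw [conj_pow, show x ^ p ^ n = 1 from congrArg Subtype.val hx', mul_one, mul_inv_cancel]
  have hPbot := M.eq_bot_of_normal_pGroup hPn hP hPa
  refine M.notTwo fun x => ?_
  obtain ⟨j, hj⟩ := htwo x x.2
  exact ⟨j, Subtype.ext (by rw [hPbot, Subgroup.mem_bot] at hj; exact hj)⟩

/-- `G` is not `C H` for a proper invariant subgroup. -/
theorem not_prod {H : Subgroup G} (hne : H ≠ ⊤) (h : disp a (⊤ : Subgroup G) ≤ H) : False :=
  hne (top_le_iff.mp (M.disp_top ▸ h))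

/-- Invariant `p`-subgroups centralised by all of `G` are trivial. -/
theorem center_pElt_eq_one {z : G} (hz : z ∈ center G) {n : ℕ} (hn : z ^ p ^ n = 1) : z = 1 := by
  have hZa : Inv a (center G) := fun x hx => by
    rw [mem_center_iff] at hx ⊢
    intro g
    obtain ⟨g, rfl⟩ := a.surjective g
    rw [← map_mul, ← map_mul, hx g]
  let P : Subgroup G :=
    { carrier := {x | x ∈ center G ∧ PElt p x}
      one_mem' := ⟨one_mem _, 0, one_pow _⟩
      mul_mem' := fun {x y} hx hy => ⟨mul_mem hx.1 hy.1, by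
        obtain ⟨i, hi⟩ := hx.2
        obtain ⟨j, hj⟩ := hy.2
        refine ⟨i + j, ?_⟩
        rw [(show Commute x y from mem_center_iff.mp hy.1 x).mul_pow, pow_add, pow_mul, hi, one_pow, one_mul,
          mul_comm, pow_mul, hj, one_pow]⟩
      inv_mem' := fun {x} hx => ⟨inv_mem hx.1, hx.2.inv⟩ }
  have hPn : P.Normal := ⟨fun x hx g => by rwa [mem_center_iff.mp hx.1, mul_inv_cancel_right]⟩
  have hP : IsPGroup p P := fun x => by obtain ⟨i, hi⟩ := x.2.2; exact ⟨i, Subtype.ext hi⟩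
  have hb := M.eq_bot_of_normal_pGroup hPn hP fun x hx => ⟨hZa x hx.1, hx.2.map a.toMonoidHom⟩
  exact Subgroup.mem_bot.mp (hb ▸ (⟨hz, n, hn⟩ : z ∈ P))

theorem center_le_fixed : center G ≤ fixedBy a := by
  have hZa : Inv a (center G) := fun x hx => by
    rw [mem_center_iff] at hx ⊢
    intro g
    obtain ⟨g, rfl⟩ := a.surjective g
    rw [← map_mul, ← map_mul, hx g]
  refine M.rep.le_fixed_of_comm M.coprimely M.inj hZa (fun x hx y _ => (mem_center_iff.mp hx y).symm)
    (M.natCard_ne_zero fun h => ?_)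
  obtain ⟨x, hx⟩ := exists_prime_orderOf_dvd_card' p h
  have h1 : (x : G) = 1 := M.center_pElt_eq_one x.2 (n := 1) (by
    rw [pow_one, ← SubmonoidClass.coe_pow, ← hx, pow_orderOf_eq_one]; rfl)
  rw [show x = 1 from Subtype.ext h1, orderOf_one] at hx
  exact hp.out.ne_one hx.symm

variable [IsAlgClosed k] [FiniteDimensional k V]

theorem center_scalar {z : G} (hz : z ∈ center G) : ∃ c : k, ρ z = c • 1 := by
  have := M.nontrivial
  obtain ⟨c, hc⟩ := Module.End.exists_eigenvalue (ρ z)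
  refine ⟨c, LinearMap.ext fun v => ?_⟩
  have hcomm : ∀ g, ρ g * ρ z = ρ z * ρ g := fun g => by rw [← map_mul, ← map_mul, mem_center_iff.mp hz g]
  have hT : T * ρ z = ρ z * T := by rw [M.rep.compat, mem_fixedBy.mp (M.center_le_fixed hz)]
  have hstab : ∀ f : Module.End k V, f * ρ z = ρ z * f → ∀ v ∈ Module.End.eigenspace (ρ z) c,
      f v ∈ Module.End.eigenspace (ρ z) c := by
    intro f hf v hv
    rw [Module.End.mem_eigenspace_iff] at hv ⊢
    rw [← Module.End.mul_apply, ← hf, Module.End.mul_apply, hv, map_smul]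
  rcases M.irr _ (fun g => hstab _ (hcomm g)) (hstab _ hT) with h | h
  · exact absurd h hc
  · have hv : v ∈ Module.End.eigenspace (ρ z) c := h ▸ Submodule.mem_top
    rw [Module.End.mem_eigenspace_iff] at hv
    simpa using hv

/-- The only possible central involution is `-1`. -/
theorem center_sq {z : G} (hz : z ∈ center G) (h2 : z * z = 1) : z = 1 ∨ ρ z = -1 := by
  have := M.nontrivial
  obtain ⟨c, hc⟩ := M.center_scalar hz
  have h : ρ z * ρ z = 1 := by rw [← map_mul, h2, map_one]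
  rw [hc, smul_mul_smul_comm, one_mul] at h
  have h' : c * c = 1 := by
    have := (smul_left_injective k (one_ne_zero (α := Module.End k V))) (h.trans (one_smul k _).symm)
    exact this
  rcases mul_self_eq_one_iff.mp h' with rfl | rfl
  · exact Or.inl (M.inj (by rw [hc, one_smul, map_one]))
  · exact Or.inr (by rw [hc, neg_smul, one_smul])

theorem odd_le_fixed {q : ℕ} (hq : q.Prime) (hq2 : q ≠ 2) (hqp : q ≠ p) {Q : Subgroup G}
    (hQ : IsPGroup q Q) (hQa : Inv a Q) : Q ≤ fixedBy a := fun x hx =>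
  M.inj (M.rep.map_eq_of_qgroup M.coprimely M.r_ne_zero hq hq2
    (fun h => hqp ((Nat.prime_dvd_prime_iff_eq hp.out hq).mp ((CharP.cast_eq_zero_iff k p q).mp h)).symm) hQ hQa hx)

theorem special2_U (D : UData a) : Special2 a D.U :=
  M.rep.special2 M.coprimely M.two_ne_zero M.inj D.isPGroup_U D.inv_U (D.disp_U M.coprimely)

theorem U_ne_bot (D : UData a) : D.U ≠ ⊥ := by
  intro hU
  have h2F : Fact (Nat.Prime 2) := ⟨Nat.prime_two⟩
  obtain ⟨P, hP⟩ := M.coprimely.exists_inv_sylow p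
  have h := M.coprimely.disp_top_le (H := (P : Subgroup G)) hP fun l hl S hSP hSl hSa hmax Q hSQ hQa => by
    have : Fact l.Prime := ⟨hl⟩
    by_cases hl2 : l = 2
    · subst hl2
      obtain ⟨g, hg⟩ := MulAction.exists_smul_eq G D.S Q
      obtain ⟨c, hc, he⟩ := M.coprimely.exists_fixed_conj D.inv hQa (g := g) (congrArg Sylow.toSubgroup hg)
      rw [← he, disp_map_conj hc, show disp a (D.S : Subgroup G) = ⊥ from hU, Subgroup.map_bot]
      exact bot_le
    by_cases hlp : l = p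
    · subst hlp
      have hS : S = (P : Subgroup G) := Subgroup.eq_of_le_of_card_ge hSP (hmax _ le_rfl P.2)
      have hQP : (Q : Subgroup G) = (P : Subgroup G) := by
        refine (Subgroup.eq_of_le_of_card_ge (hS ▸ hSQ) ?_).symm
        rw [Q.card_eq_multiplicity, P.card_eq_multiplicity]
      exact (disp_le hQa).trans hQP.le
    · rw [disp_eq_bot_iff.mpr (M.odd_le_fixed hl hl2 hlp Q.2 hQa)]
      exact bot_le
  rw [M.disp_top] at h
  have hPtop : (P : Subgroup G) = ⊤ := top_le_iff.mp h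
  have hbot := M.eq_bot_of_normal_pGroup (N := (P : Subgroup G)) (hPtop ▸ inferInstance) P.2 hP
  refine M.notTwo fun x => ⟨0, Subtype.ext ?_⟩
  have hx : (x : G) ∈ (⊥ : Subgroup G) := hbot ▸ hPtop.symm ▸ mem_top (x : G)
  simpa using hx

theorem W_ne_bot (D : UData a) : D.W ≠ ⊥ := by
  intro hW
  have hsp := M.special2_U D
  refine M.U_ne_bot D ((eq_bot_iff).mpr fun x hx => ?_)
  have hcomm : ∀ u ∈ D.U, ∀ v ∈ D.U, u * v = v * u := fun u hu v hv =>
    commutatorElement_eq_one_iff_mul_comm.mp (Subgroup.mem_bot.mp (hW ▸ hsp.comm_mem u hu v hv))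
  rw [← D.disp_U M.coprimely] at hx
  refine Subgroup.mem_bot.mpr (M.inj ?_)
  rw [map_one]
  exact M.rep.eq_one_of_comm M.coprimely D.inv_U hcomm (M.natCard_two_ne_zero D.isPGroup_U) hx

theorem natCard_W_ne_zero {D : UData a} : (Nat.card D.W : k) ≠ 0 :=
  M.natCard_two_ne_zero (D.isPGroup_U.to_le D.W_le_U)

end Cfg

end Cfsg.Agent.H24.Flav
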