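import Cfsg.Agent.H24.Flav.Forms2

/-!
The isometry lemma and the shape of `U`, in the general configuration.
-/

set_option autoImplicit false
set_option linter.unusedSectionVars false

namespace Cfsg.Agent.H24.Flav

open Subgroup
open Cfsg.Agent.H8.Shult hiding Min
open scoped commutatorElement

universe u v w

variable {G : Type u} [Group G] [Finite G] {p r : ℕ} [hp : Fact p.Prime] {a : MulAut G}
variable {k : Type w} [Field k] [CharP k p] {V : Type v} [AddCommGroup V] [Module k V]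
variable [IsAlgClosed k] [FiniteDimensional k V]
variable {ρ : G →* Module.End k V} {T : Module.End k V}
variable {D : UData a}

namespace Cfg

variable (M : Cfg p r a ρ T)
include M

/-- An isometry of an irreducible section of `U` commuting with `a` acts trivially on it. -/
theorem commutator_mem_of_isometry {m : ℕ} (hr : r = 2 ^ m + 1) (hsp : Special2 a D.U) (ε : D.W →* ℤˣ)
    {B R : Subgroup G} (hBa : Inv a B) (hWR : D.W ≤ R) (hRB : R ≤ B) (hBU : B ≤ D.U)
    (hR : ∀ x : D.U, (x : G) ∈ B → ((∀ y : D.U, (y : G) ∈ B → beta hsp ε x y = 1) ↔ (x : G) ∈ R))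
    (hirr : ∀ X : Subgroup G, Inv a X → R ≤ X → X ≤ B → X = R ∨ X = B)
    (g : D.Gam) (hgB : ∀ x ∈ B, (g : G) * x * (g : G)⁻¹ ∈ B)
    (hε : ∀ x y : D.U, (x : G) ∈ B → (y : G) ∈ B →
      ε (D.conjW g (commW hsp x y)) = ε (commW hsp x y))
    {x : G} (hx : x ∈ B) : ⁅(g : G), x⁆ ∈ R := by
  classical
  have hgi : Inv (MulAut.conj (g : G)) B := fun y hy => hgB y hy
  set R' := R.subgroupOf B with hR'
  have hRn : R'.Normal := ⟨fun y hy u => by
    rw [hR', mem_subgroupOf] at hy ⊢
    exact (mem_normalizer_iff.mp (le_normalizer_of_W_le hsp hWR (hRB.trans hBU) (hBU u.2)) y).mp hy⟩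
  have hRa : Inv a R := fun y hy => by
    refine (hR (subAut D.U D.inv_U ⟨y, hBU (hRB hy)⟩) (hBa y (hRB hy))).mp fun z hz => ?_
    obtain ⟨z', rfl⟩ := (subAut D.U D.inv_U).surjective z
    rw [beta_apply, commW_apply, ← beta_apply]
    exact (hR ⟨y, hBU (hRB hy)⟩ (hRB hy)).mpr hy z' (hBa.mem_iff.mp hz)
  have hRg : Inv (MulAut.conj (g : G)) R := fun y hy => by
    refine (hR ⟨(g : G) * y * (g : G)⁻¹, D.conj_mem_U g.2.1 (hBU (hRB hy))⟩ (hgB y (hRB hy))).mp fun z hz => ?_
    have hz' : (g : G)⁻¹ * z * g ∈ B := by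
      have h := hgi.mem_iff (x := (g : G)⁻¹ * z * g)
      rw [MulAut.conj_apply, show (g : G) * ((g : G)⁻¹ * z * g) * (g : G)⁻¹ = z by group] at h
      exact h.mp hz
    have e : z = ⟨(g : G) * ((g : G)⁻¹ * z * g) * (g : G)⁻¹, D.conj_mem_U g.2.1 (hBU hz')⟩ :=
      Subtype.ext (by group)
    rw [e, beta_apply, commW_conj hsp g ⟨y, hBU (hRB hy)⟩ ⟨_, hBU hz'⟩, hε ⟨y, _⟩ ⟨_, _⟩ (hRB hy) hz']
    exact (hR ⟨y, hBU (hRB hy)⟩ (hRB hy)).mpr hy ⟨_, hBU hz'⟩ hz'
  have hσR : Inv (subAut B hBa) R' := fun y hy => hRa _ (mem_subgroupOf.mp hy)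
  have hτR : Inv (subAut B hgi) R' := fun y hy => hRg _ (mem_subgroupOf.mp hy)
  let _ : CommGroup (B ⧸ R') :=
    { (inferInstance : Group (B ⧸ R')) with
      mul_comm := fun s t => by
        induction s using QuotientGroup.induction_on with
        | _ s =>
          induction t using QuotientGroup.induction_on with
          | _ t =>
            rw [← QuotientGroup.mk_mul, ← QuotientGroup.mk_mul, QuotientGroup.eq, hR', mem_subgroupOf]
            refine hWR ?_
            have h := hsp.comm_mem _ (inv_mem (hBU t.2)) _ (inv_mem (hBU s.2))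
            have e : (((s * t)⁻¹ * (t * s) : B) : G) = ⁅(t : G)⁻¹, (s : G)⁻¹⁆ := by
              simp [commutatorElement_def, mul_assoc]
            rw [e]; exact h }
  let ι : B →* D.U := inclusion hBU
  let inner : B → ((B ⧸ R') →* ℤˣ) := fun s =>
    QuotientGroup.lift R' ((beta hsp ε (ι s)).comp ι) fun t ht => by
      rw [MonoidHom.mem_ker, MonoidHom.comp_apply, ← beta_symm]
      exact (hR (ι t) t.2).mpr (mem_subgroupOf.mp ht) (ι s) s.2
  let outer : B →* ((B ⧸ R') →* ℤˣ) := MonoidHom.mk' inner fun s t => MonoidHom.ext fun z => by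
    induction z using QuotientGroup.induction_on with
    | _ z =>
      show beta hsp ε (ι (s * t)) (ι z) = beta hsp ε (ι s) (ι z) * beta hsp ε (ι t) (ι z)
      rw [map_mul, map_mul, MonoidHom.mul_apply]
  let β : (B ⧸ R') →* (B ⧸ R') →* ℤˣ := QuotientGroup.lift R' outer fun s hs => by
    refine MonoidHom.mem_ker.mpr (MonoidHom.ext fun z => ?_)
    induction z using QuotientGroup.induction_on with
    | _ z => exact (hR (ι s) s.2).mpr (mem_subgroupOf.mp hs) (ι z) z.2
  have hβ : ∀ s t : B, β (s : B ⧸ R') (t : B ⧸ R') = beta hsp ε (ι s) (ι t) := fun s t => rfl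
  have key : quotAut R' hτR = 1 := by
    refine NoSubgroup.eq_one_of_isometry (σ := quotAut R' hσR) (m := m) (r := r) (fun z => ?_) ?_ hr
      (((M.coprimely.sub B hBa).quot R' hσR).pow) ?_ ?_ β ?_ ?_ ?_
    · induction z using QuotientGroup.induction_on with
      | _ z =>
        rw [← QuotientGroup.mk_mul, QuotientGroup.eq_one_iff, hR', mem_subgroupOf]
        exact hWR (hsp.sq_mem _ (hBU z.2))
    · intro X hX
      set X' := (X.comap (QuotientGroup.mk' R')).map B.subtype with hX'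
      have hle : R ≤ X' := fun y hy => ⟨⟨y, hRB hy⟩, by
        rw [SetLike.mem_coe, mem_comap, QuotientGroup.mk'_apply,
          (QuotientGroup.eq_one_iff _).mpr (mem_subgroupOf.mpr hy)]
        exact one_mem X, rfl⟩
      have hinv : Inv a X' := by
        rintro _ ⟨y, hy, rfl⟩
        exact ⟨subAut B hBa y, hX _ hy, rfl⟩
      have hcomap : X = (X.comap (QuotientGroup.mk' R')).map (QuotientGroup.mk' R') :=
        (map_comap_eq_self_of_surjective (QuotientGroup.mk'_surjective R') X).symm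
      rcases hirr X' hinv hle (map_subtype_le _) with h | h
      · refine Or.inl ((Subgroup.eq_bot_iff_forall _).mpr fun s hs => ?_)
        induction s using QuotientGroup.induction_on with
        | _ s =>
          refine (QuotientGroup.eq_one_iff _).mpr (mem_subgroupOf.mpr ?_)
          rw [← h]
          exact ⟨s, hs, rfl⟩
      · refine Or.inr (eq_top_iff.mpr fun s _ => ?_)
        induction s using QuotientGroup.induction_on with
        | _ s =>
          obtain ⟨s', hs', he⟩ := (h.symm ▸ s.2 : (s : G) ∈ X')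
          exact (Subtype.ext he : s' = s) ▸ hs'
    · refine MulEquiv.ext fun z => ?_
      induction z using QuotientGroup.induction_on with
      | _ z =>
        refine congrArg QuotientGroup.mk (Subtype.ext ?_)
        show a ((g : G) * z * (g : G)⁻¹) = (g : G) * a z * (g : G)⁻¹
        rw [map_mul, map_mul, map_inv, mem_fixedBy.mp g.2.2]
    · refine Nat.Coprime.coprime_dvd_left (orderOf_dvd_of_pow_eq_one (n := orderOf (g : G)) ?_)
        (Nat.Coprime.coprime_dvd_left (orderOf_dvd_natCard _)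
          ((Nat.Prime.coprime_iff_not_dvd M.coprimely.prime).mpr M.coprimely.ndvd).symm)
      refine MulEquiv.ext fun z => ?_
      induction z using QuotientGroup.induction_on with
      | _ z =>
        rw [quotAut_pow_mk, MulAut.one_apply]
        refine congrArg QuotientGroup.mk (Subtype.ext ?_)
        rw [subAut_pow_coe, ← map_pow, pow_orderOf_eq_one, map_one, MulAut.one_apply]
    · intro z hz
      induction z using QuotientGroup.induction_on with
      | _ z =>
        refine (QuotientGroup.eq_one_iff _).mpr (mem_subgroupOf.mpr ((hR (ι z) z.2).mp fun y hy => ?_))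
        rw [← beta_symm]
        exact (hβ ⟨y, hy⟩ z).symm.trans (hz _)
    · intro s t
      induction s using QuotientGroup.induction_on with
      | _ s =>
        induction t using QuotientGroup.induction_on with
        | _ t => exact congrArg ε (commW_apply hsp (ι s) (ι t))
    · intro s t
      induction s using QuotientGroup.induction_on with
      | _ s =>
        induction t using QuotientGroup.induction_on with
        | _ t => exact (congrArg ε (commW_conj hsp g (ι s) (ι t))).trans (hε (ι s) (ι t) s.2 t.2)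
  have h := congrArg (fun f : MulAut (B ⧸ R') => f ((⟨x, hx⟩ : B) : B ⧸ R')) key
  rw [MulAut.one_apply, quotAut_mk, QuotientGroup.eq, hR', mem_subgroupOf] at h
  have h2 : ((g : G) * x * (g : G)⁻¹)⁻¹ * x ∈ R := h
  have hc : ∀ y ∈ B, ∀ z ∈ R, y * z * y⁻¹ ∈ R := fun y hy z hz =>
    (mem_normalizer_iff.mp (le_normalizer_of_W_le hsp hWR (hRB.trans hBU) (hBU hy)) z).mp hz
  have h3 := hc x hx _ (inv_mem h2)
  rw [commutatorElement_def]
  simpa [mul_assoc] using h3

/-- An element of the fixed part of `N` fixing a character of `W` acts trivially modulo its radical. -/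
theorem commutator_mem_rad {m : ℕ} (hm : 0 < m) (hr : r = 2 ^ m + 1) (hsp : Special2 a D.U)
    {χ : D.W →* ℤˣ} (hidx : Nat.card D.U = 2 ^ (2 * m) * Nat.card (rad hsp χ)) (g : D.Gam)
    (hg : D.act g χ = χ) {x : G} (hx : x ∈ D.U) : ⁅(g : G), x⁆ ∈ rad hsp χ := by
  refine M.commutator_mem_of_isometry hr hsp χ D.inv_U (W_le_rad hsp χ) (rad_le hsp χ) le_rfl
    (fun y _ => ⟨fun h => mem_rad.mpr ⟨y.2, fun z => h z z.2⟩, fun h z _ => (mem_rad.mp h).choose_spec z⟩)
    (fun X hX h1 h2 => M.eq_or_eq hm hr hsp hidx hX h1 h2) g (fun y hy => D.conj_mem_U g.2.1 hy)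
    (fun y z _ _ => ?_) hx
  conv_lhs => rw [← hg]
  rw [UData.act_apply, ← MulAut.mul_apply, ← map_mul, inv_mul_cancel, map_one, MulAut.one_apply]

end Cfg

namespace Cfg

variable (M : Cfg p r a ρ T)
include M

theorem exists_shape : ∃ m, Shape ρ D r m := by
  obtain ⟨m, hm, hr, h⟩ := M.exists_fermat (D := D)
  exact ⟨m, M.special2_U D, hm, hr, h⟩

theorem occ_act {χ : D.W →* ℤˣ} (hχ : Occ ρ D χ) (g : D.Gam) : Occ ρ D (D.act g χ) := by
  refine ⟨fun h => hχ.1 ?_, fun h => hχ.2 ((Submodule.eq_bot_iff _).mpr fun v hv => ?_)⟩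
  · have h2 := congrArg (D.act g⁻¹) h
    rw [UData.act_act, inv_mul_cancel, UData.act_one] at h2
    exact h2
  · have hmem : ρ g v ∈ weight ρ D (D.act g χ) := by
      rw [mem_weight] at hv ⊢
      intro x
      have e : (x : G) * g = g * (D.conjW g⁻¹ x : D.W) := by
        rw [UData.conjW_apply, Subgroup.coe_inv, inv_inv]; group
      rw [← Module.End.mul_apply, ← map_mul, e, map_mul, Module.End.mul_apply, hv _, map_smul]
      rfl
    rw [h, Submodule.mem_bot] at hmem
    have h3 := congrArg (ρ (g : G)⁻¹) hmem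
    rwa [map_zero, ← Module.End.mul_apply, ← map_mul, inv_mul_cancel, map_one, Module.End.one_apply] at h3

variable {m : ℕ}

/-- An element of the fixed part of `N` fixing every character centralises `U`. -/
theorem centralizes_of_act (hS : Shape ρ D r m) (g : D.Gam) (hg : ∀ χ, Occ ρ D χ → D.act g χ = χ) :
    (g : G) ∈ centralizer (D.U : Set G) := by
  classical
  have hW : ∀ x : D.W, D.conjW g⁻¹ x = x := by
    intro x
    by_contra hne
    obtain ⟨χ, hχ, h⟩ := M.exists_occ (x := D.conjW g⁻¹ x * x⁻¹) fun h => hne (mul_inv_eq_one.mp h)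
    rw [map_mul, map_inv χ x, ← UData.act_apply, hg χ hχ, mul_inv_cancel] at h
    exact absurd h (by decide)
  have hW' : ∀ x ∈ D.W, (g : G) * x * (g : G)⁻¹ = x := by
    intro x hx
    have h := congrArg Subtype.val (hW ⟨x, hx⟩)
    rw [UData.conjW_apply, Subgroup.coe_inv, inv_inv] at h
    calc (g : G) * x * (g : G)⁻¹ = g * ((g : G)⁻¹ * x * g) * (g : G)⁻¹ := by rw [show (g : G)⁻¹ * x * g = x from h]
      _ = x := by group
  have hmem : ∀ x ∈ D.U, ⁅(g : G), x⁆ ∈ D.W := by
    intro x hx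
    by_contra hne
    have hxU : ⁅(g : G), x⁆ ∈ D.U := by
      rw [commutatorElement_def]
      exact mul_mem (D.conj_mem_U g.2.1 hx) (inv_mem hx)
    obtain ⟨χ, hχ, hle⟩ := M.exists_occ_not_le (D := D) (B := D.W ⊔ zpowers ⁅(g : G), x⁆)
      (sup_le D.W_le_U (zpowers_le.mpr hxU)) fun h => hne (h (mem_sup_right (mem_zpowers _)))
    exact hle (sup_le (W_le_rad _ χ) (zpowers_le.mpr (M.commutator_mem_rad hS.pos hS.eq _ (hS.idx χ hχ) g (hg χ hχ) hx)))
  refine mem_centralizer_iff.mpr fun x hx => ?_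
  have h1 : ⁅(g : G), x⁆ = 1 := by
    refine M.eq_one_of_inv_map D.inv_U D.W_le_U le_rfl (fun y => ⁅(g : G), y⁆) (fun y hy z hz => ?_)
      (fun y hy => ?_) (fun y hy => ?_) hx
    · have h := hS.sp.fix_central _ (hmem z hz) y hy
      calc ⁅(g : G), y * z⁆ = ⁅(g : G), y⁆ * (y * ⁅(g : G), z⁆) * y⁻¹ := by simp [commutatorElement_def, mul_assoc]
        _ = _ := by rw [← h, mul_assoc, mul_assoc, mul_inv_cancel, mul_one]
    · conv_lhs => rw [← mem_fixedBy.mp g.2.2, ← map_commutatorElement]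
      exact mem_fixedBy.mp (hmem y hy).2
    · rw [commutatorElement_def, hW' y hy, mul_inv_cancel]
  exact ((commutatorElement_eq_one_iff_mul_comm).mp h1).symm

theorem act_eq_of_centralizes {g : D.Gam} (hg : (g : G) ∈ centralizer (D.U : Set G)) (χ : D.W →* ℤˣ) :
    D.act g χ = χ := by
  refine MonoidHom.ext fun x => ?_
  rw [UData.act_apply]
  refine congrArg χ (Subtype.ext ?_)
  rw [UData.conjW_apply, Subgroup.coe_inv, inv_inv, mul_assoc,
    mem_centralizer_iff.mp hg x x.2.1, inv_mul_cancel_left]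

/-- A translation leaving the set of occurring characters invariant bounds `U`. -/
theorem card_le_of_translation (hS : Shape ρ D r m) {ε : D.W →* ℤˣ} (hε : ε ≠ 1)
    (h : ∀ χ, Occ ρ D χ → Occ ρ D (χ * ε)) :
    Nat.card D.U ≤ 2 ^ (2 * (2 * m)) * Nat.card D.W ∧ rad hS.sp ε = D.W := by
  have hprod : ∀ χ : D.W →* ℤˣ, χ * (χ * ε) = ε := fun χ => by
    rw [← mul_assoc, show χ * χ = 1 from MonoidHom.ext fun x => Int.units_mul_self _, one_mul]
  have hεU : rad hS.sp ε ≠ D.U := fun he => hε (M.eq_one_of_rad_eq hS.sp he.ge)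
  have key : ∀ χ, Occ ρ D χ → rad hS.sp ε ≤ rad hS.sp χ ∧
      Nat.card D.U ≤ 2 ^ (2 * (2 * m)) * Nat.card (rad hS.sp ε) := by
    intro χ hχ
    by_cases he : rad hS.sp χ = rad hS.sp (χ * ε)
    · have hge := rad_mul_ge hS.sp χ (χ * ε)
      rw [← he, inf_idem, hprod] at hge
      rcases M.eq_or_eq hS.pos hS.eq hS.sp (hS.idx χ hχ) (inv_rad hS.sp ε) hge (rad_le hS.sp ε) with h' | h'
      · refine ⟨h'.le, (hS.idx χ hχ).le.trans ?_⟩
        rw [h']
        exact Nat.mul_le_mul_right _ (Nat.pow_le_pow_right two_pos (by omega))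
      · exact absurd h' hεU
    · obtain ⟨h1, h2⟩ := M.rad_mul_eq hS.pos hS.eq hS.sp (hS.idx χ hχ) (hS.idx _ (h χ hχ)) he
      rw [hprod] at h1 h2
      exact ⟨h1.le.trans inf_le_left, h2.le⟩
  have hle : rad hS.sp ε ≤ D.W := by
    by_contra hne
    obtain ⟨χ, hχ, h1⟩ := M.exists_occ_not_le (D := D) (rad_le hS.sp ε) hne
    exact h1 (key χ hχ).1
  have hW : rad hS.sp ε = D.W := le_antisymm hle (W_le_rad hS.sp ε)
  obtain ⟨x, hx, hx1⟩ := D.W.bot_or_exists_ne_one.resolve_left (M.W_ne_bot D)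
  obtain ⟨χ, hχ, -⟩ := M.exists_occ (x := ⟨x, hx⟩) fun e => hx1 (congrArg Subtype.val e)
  exact ⟨hW ▸ (key χ hχ).2, hW⟩

/-- With one constituent every nontrivial character is nondegenerate. -/
theorem rad_eq_W (hS : Shape ρ D r m) (hU : Nat.card D.U = 2 ^ (2 * m) * Nat.card D.W) {ε : D.W →* ℤˣ}
    (hε : ε ≠ 1) : rad hS.sp ε = D.W := by
  obtain ⟨j, hj⟩ := M.exists_card hS.pos hS.eq (inv_rad hS.sp ε) (W_le_rad hS.sp ε) (rad_le hS.sp ε)
  rcases Nat.eq_zero_or_pos j with rfl | hj0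
  · exact (Subgroup.eq_of_le_of_card_ge (W_le_rad hS.sp ε) (by rw [hj]; simp)).symm
  · refine absurd (M.eq_one_of_rad_eq hS.sp (Subgroup.eq_of_le_of_card_ge (rad_le hS.sp ε) ?_).ge) hε
    rw [hU, hj]
    exact Nat.mul_le_mul_right _ (Nat.pow_le_pow_right two_pos (Nat.le_mul_of_pos_right _ hj0))

/-- An element of the fixed part of `N` trivial on `U ⧸ W` centralises `U`. -/
theorem centralizes_of_trivial (hS : Shape ρ D r m) (g : D.Gam) (hmem : ∀ x ∈ D.U, ⁅(g : G), x⁆ ∈ D.W) :
    (g : G) ∈ centralizer (D.U : Set G) := by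
  refine M.centralizes_of_act hS g fun χ _ => MonoidHom.ext fun w => ?_
  have hfix : ∀ u v : D.U, D.conjW g (commW hS.sp u v) = commW hS.sp u v := by
    intro u v
    rw [← commW_conj]
    have hu : (g : G) * u * (g : G)⁻¹ = ⁅(g : G), (u : G)⁆ * u := by rw [commutatorElement_def]; group
    have hv : (g : G) * v * (g : G)⁻¹ = ⁅(g : G), (v : G)⁆ * v := by rw [commutatorElement_def]; group
    refine Subtype.ext ?_
    show ⁅(g : G) * u * (g : G)⁻¹, (g : G) * v * (g : G)⁻¹⁆ = ⁅(u : G), (v : G)⁆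
    rw [hu, hv]
    have c1 := hS.sp.fix_central _ (hmem u u.2)
    have c2 := hS.sp.fix_central _ (hmem v v.2)
    set s := ⁅(g : G), (u : G)⁆
    set t := ⁅(g : G), (v : G)⁆
    have hs : Commute s ((u : G) * (t * v) * (u : G)⁻¹ * (t * v)⁻¹) :=
      c1 _ (mul_mem (mul_mem (mul_mem u.2 (mul_mem (hmem v v.2).1 v.2)) (inv_mem u.2))
        (inv_mem (mul_mem (hmem v v.2).1 v.2)))
    have ht : Commute t (u : G) := c2 _ u.2
    have hst : Commute s (t * v) := c1 _ (mul_mem (hmem v v.2).1 v.2)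
    calc ⁅s * (u : G), t * (v : G)⁆
        = s * ((u : G) * (t * v) * (u : G)⁻¹) * s⁻¹ * (t * v)⁻¹ := by simp [commutatorElement_def, mul_assoc]
      _ = s * ((u : G) * (t * v) * (u : G)⁻¹) * (s⁻¹ * (t * v)⁻¹) := by group
      _ = s * ((u : G) * (t * v) * (u : G)⁻¹) * ((t * v)⁻¹ * s⁻¹) := by rw [(hst.inv_inv).eq]
      _ = s * ((u : G) * (t * v) * (u : G)⁻¹ * (t * v)⁻¹) * s⁻¹ := by group
      _ = (u : G) * (t * v) * (u : G)⁻¹ * (t * v)⁻¹ := by rw [hs.eq, mul_inv_cancel_right]
      _ = (u : G) * t * (v : G) * (u : G)⁻¹ * ((v : G)⁻¹ * t⁻¹) := by group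
      _ = t * ((u : G) * v * (u : G)⁻¹ * (v : G)⁻¹) * t⁻¹ := by rw [← ht.eq]; group
      _ = _ := by
        rw [c2 _ (mul_mem (mul_mem (mul_mem u.2 v.2) (inv_mem u.2)) (inv_mem v.2)), mul_inv_cancel_right]
        rfl
  have hgen : ∀ y : D.W, (y : G) ∈ ⁅D.U, D.U⁆ → D.conjW g y = y := by
    suffices ∀ z ∈ ⁅D.U, D.U⁆, ∃ hz : z ∈ D.W, D.conjW g ⟨z, hz⟩ = ⟨z, hz⟩ from
      fun y hy => (this y hy).choose_spec
    intro z hz
    rw [Subgroup.commutator_def] at hz
    induction hz using Subgroup.closure_induction with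
    | mem z hz =>
      obtain ⟨u, hu, v, hv, rfl⟩ := hz
      exact ⟨hS.sp.comm_mem u hu v hv, hfix ⟨u, hu⟩ ⟨v, hv⟩⟩
    | one => exact ⟨one_mem _, map_one _⟩
    | mul y z _ _ ihy ihz =>
      obtain ⟨hy, hy'⟩ := ihy
      obtain ⟨hz, hz'⟩ := ihz
      exact ⟨mul_mem hy hz, (map_mul (D.conjW g) ⟨y, hy⟩ ⟨z, hz⟩).trans (by rw [hy', hz']; rfl)⟩
    | inv y _ ihy =>
      obtain ⟨hy, hy'⟩ := ihy
      exact ⟨inv_mem hy, (map_inv (D.conjW g) ⟨y, hy⟩).trans (by rw [hy']; rfl)⟩
  rw [UData.act_apply]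
  refine congrArg χ ?_
  have h3 := congrArg (D.conjW g⁻¹) (hgen w (hS.sp.fix_le w.2))
  rw [← MulAut.mul_apply, ← map_mul, inv_mul_cancel, map_one, MulAut.one_apply] at h3
  exact h3.symm

/-- With one constituent the fixed part of `N` acts semiregularly on the characters. -/
theorem centralizes_of_one (hS : Shape ρ D r m) (hU : Nat.card D.U = 2 ^ (2 * m) * Nat.card D.W)
    {ε : D.W →* ℤˣ} (hε : ε ≠ 1) {g : D.Gam} (hg : D.act g ε = ε) :
    (g : G) ∈ centralizer (D.U : Set G) := by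
  have hidx : Nat.card D.U = 2 ^ (2 * m) * Nat.card (rad hS.sp ε) := by rw [M.rad_eq_W hS hU hε]; exact hU
  have hmem : ∀ x ∈ D.U, ⁅(g : G), x⁆ ∈ D.W := fun x hx =>
    (M.rad_eq_W hS hU hε).le (M.commutator_mem_rad hS.pos hS.eq hS.sp hidx g hg hx)
  exact M.centralizes_of_trivial hS g hmem

end Cfg

end Cfsg.Agent.H24.Flav
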