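import Cfsg.Agent.H24.Flav.Commutant
import Cfsg.Agent.H24.Flav.Forms3

/-!
On a weight space the commutant of `U` commutes with the operator without fixed vectors.
-/

set_option autoImplicit false
set_option linter.unusedSectionVars false

namespace Cfsg.Agent.H24.Flav

open Subgroup
open Cfsg.Agent.H8.Shult hiding Min
open scoped commutatorElement

universe u v w

variable {G : Type u} [Group G] [Finite G] {p r : ℕ} [hp : Fact p.Prime] {a : MulAut G}
variable {k : Type w} [Field k] [CharP k p] {V : Type v} [AddCommGroup V] [Module k V]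
variable [IsAlgClosed k] [FiniteDimensional k V]
variable {ρ : G →* Module.End k V} {T : Module.End k V}
variable {D : UData a}

namespace Cfg

variable (M : Cfg p r a ρ T) {m : ℕ}
include M

/-- An operator commuting with `U` on an occurring weight space commutes with `T` there. -/
theorem commute_T_of_weight (hS : Shape ρ D r m) {χ : D.W →* ℤˣ} (hχ : Occ ρ D χ) (f : Module.End k V)
    (hfw : ∀ v ∈ weight ρ D χ, f v ∈ weight ρ D χ)
    (hf : ∀ u ∈ D.U, ∀ v ∈ weight ρ D χ, ρ u (f v) = f (ρ u v)) :
    ∀ v ∈ weight ρ D χ, T (f v) = f (T v) := by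
  have hrF : Fact r.Prime := ⟨M.coprimely.prime⟩
  have h2F : Fact (Nat.Prime 2) := ⟨Nat.prime_two⟩
  set hsp := hS.sp
  set Vχ := weight ρ D χ
  have : Nontrivial Vχ := Submodule.nontrivial_iff_ne_bot.mpr hχ.2
  let ρU : D.U →* Module.End k Vχ :=
    { toFun := fun x => (ρ x).restrict fun v hv => M.weight_inv_U x.2 hv
      map_one' := LinearMap.ext fun v => Subtype.ext (by simp)
      map_mul' := fun x y => LinearMap.ext fun v => Subtype.ext (by simp) }
  let T' : Module.End k Vχ := T.restrict fun v hv => M.weight_inv_T hv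
  have hscal : ∀ x y : D.U, ρU ⁅x, y⁆ = sgn k (χ (commW hsp x y)) • 1 := fun x y =>
    LinearMap.ext fun v => Subtype.ext (mem_weight.mp v.2 (commW hsp x y))
  have hT' : ∀ n v, (((T' ^ n) v : Vχ) : V) = (T ^ n) v := restrict_pow_coe _
  have hcomm : ∀ x y, ρU x * ρU y = sgn k (χ (commW hsp x y)) • (ρU y * ρU x) := fun x y => by
    rw [← map_mul, ← map_mul, show x * y = ⁅x, y⁆ * (y * x) by rw [commutatorElement_def]; group,
      map_mul, hscal, smul_mul_assoc, one_mul]
  have hmem : ∀ x : D.U, (∀ y, Commute (ρU x) (ρU y)) → (x : G) ∈ rad hsp χ := by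
    intro x h
    refine mem_rad.mpr ⟨x.2, fun y => (Int.units_eq_one_or _).resolve_right fun hneg => ?_⟩
    have h1 := hcomm x y
    rw [show χ (commW hsp x y) = -1 from hneg, (h y).eq, sgn_neg_one, ← map_mul] at h1
    obtain ⟨v, hv⟩ := exists_ne (0 : Vχ)
    refine hv ?_
    have h2 := congrArg (fun f : Module.End k Vχ => ρU (y * x)⁻¹ (f v)) h1
    simp only [LinearMap.smul_apply, map_smul] at h2
    rw [← Module.End.mul_apply, ← map_mul, inv_mul_cancel, map_one, Module.End.one_apply] at h2
    have h3 : (2 : k) • v = 0 := by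
      rw [two_smul]; nth_rw 2 [h2]; rw [neg_one_smul, add_neg_cancel]
    exact (smul_eq_zero.mp h3).resolve_left M.two_ne_zero
  set N := (rad hsp χ).subgroupOf D.U
  have hNn : N.Normal := ⟨fun x hx y => by
    rw [mem_subgroupOf] at hx ⊢
    exact (mem_normalizer_iff.mp (le_normalizer_of_W_le hsp (W_le_rad hsp χ) (rad_le hsp χ) y.2) x).mp hx⟩
  -- elements of the radical are scalar on the commutant level
  have hradc : ∀ x : D.U, (x : G) ∈ rad hsp χ → ∀ y, Commute (ρU x) (ρU y) := fun x hx y => by
    obtain ⟨_, h⟩ := mem_rad.mp hx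
    exact (hcomm x y).trans (by rw [show χ (commW hsp x y) = 1 from h y, sgn_one, one_smul])
  have hidx : N.index = (r - 1) * (r - 1) := by
    have h := N.card_mul_index
    rw [Nat.card_congr (subgroupOfEquivOfLe (rad_le hsp χ)).toEquiv, hS.idx χ hχ, mul_comm (2 ^ _)] at h
    rw [Nat.eq_of_mul_eq_mul_left Nat.card_pos h, hS.eq, Nat.add_sub_cancel, two_mul, pow_add]
  have hU : (N.index : k) ≠ 0 := by
    rw [hidx, hS.eq, Nat.add_sub_cancel, Nat.cast_mul, Nat.cast_pow, Nat.cast_ofNat]
    exact mul_ne_zero (pow_ne_zero _ M.two_ne_zero) (pow_ne_zero _ M.two_ne_zero)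
  have hTN : ∀ x ∈ N, Commute T' (ρU x) := by
    intro x hx
    have hR : RepData (subAut D.U D.inv_U) r ρU T' :=
      ⟨fun x => LinearMap.ext fun v => Subtype.ext
        (congrArg (fun f : Module.End k V => f v) (M.rep.compat x)), subRep_sum M.rep.sum _ _⟩
    set K := ρU.ker
    have hKa : Inv (subAut D.U D.inv_U) K := fun y hy => by
      rw [MonoidHom.mem_ker] at hy ⊢
      have h1 := hR.compat y
      rw [hy, mul_one] at h1
      have h2 := congrArg (· * T' ^ (r - 1)) h1
      simp only [mul_assoc, ← pow_succ', show r - 1 + 1 = r from Nat.succ_pred_eq_of_pos M.coprimely.prime.pos,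
        hR.pow_eq_one, mul_one] at h2
      exact h2.symm
    let ρq : D.U ⧸ K →* Module.End k Vχ := QuotientGroup.lift K ρU le_rfl
    have hRq : RepData (quotAut K hKa) r ρq T' := ⟨fun q => by
      obtain ⟨q, rfl⟩ := QuotientGroup.mk_surjective q
      exact hR.compat q, hR.sum⟩
    have hinj : Function.Injective ρq := by
      refine (injective_iff_map_eq_one ρq).mpr fun q hq => ?_
      obtain ⟨q, rfl⟩ := QuotientGroup.mk_surjective q
      exact (QuotientGroup.eq_one_iff q).mpr hq
    have hA : Inv (quotAut K hKa) (N.map (QuotientGroup.mk' K)) := by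
      rintro _ ⟨y, hy, rfl⟩
      refine ⟨subAut D.U D.inv_U y, ?_, (quotAut_mk K hKa y).symm⟩
      exact inv_rad hsp χ _ hy
    have hfix := hRq.le_fixed_of_comm ((M.coprimely.sub D.U D.inv_U).quot K hKa) hinj hA
      (by
        rintro _ ⟨y, hy, rfl⟩ q ⟨z, -, rfl⟩
        exact hinj (by rw [map_mul, map_mul]; exact (hradc y hy z).eq))
      (by
        obtain ⟨j, hj⟩ := IsPGroup.iff_card.mp ((D.isPGroup_U.to_quotient K).to_subgroup (N.map (QuotientGroup.mk' K)))
        rw [hj, Nat.cast_pow, Nat.cast_ofNat]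
        exact pow_ne_zero _ M.two_ne_zero) (⟨x, hx, rfl⟩ : (x : D.U ⧸ K) ∈ N.map (QuotientGroup.mk' K))
    have h1 := hRq.compat (x : D.U ⧸ K)
    rw [mem_fixedBy.mp hfix] at h1
    exact h1
  let f' : Module.End k Vχ := f.restrict hfw
  have hfpf : ∀ x : D.U, x⁻¹ * subAut D.U D.inv_U x ∈ N → x ∈ N := by
    intro x hx
    rw [mem_subgroupOf] at hx ⊢
    obtain ⟨c, hc, hcx⟩ := M.coprimely.exists_fixed_coset (inv_rad hsp χ) (g := (x : G)) hx
    have hcU : c ∈ D.U := by simpa using mul_mem x.2 (rad_le hsp χ hcx)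
    have := mul_mem (W_le_rad hsp χ ⟨hcU, hc⟩) (inv_mem hcx)
    simpa using this
  intro v hv
  have hcard : (Nat.card D.U : k) ≠ 0 := M.natCard_two_ne_zero D.isPGroup_U
  have h := commute_of_commutant' (ρ := ρU) (N := N) (p := r) (fun x y => ⟨_, hscal x y⟩)
    (fun x => ⟨hmem x, hradc x⟩) hcard M.r_ne_zero (subAut D.U D.inv_U) T'
    (LinearMap.ext fun v => Subtype.ext (by rw [hT', M.rep.pow_eq_one]; rfl))
    (subRep_sum M.rep.sum _ _)
    (fun x => LinearMap.ext fun v => Subtype.ext
      (congrArg (fun f : Module.End k V => f v) (M.rep.compat x))) hTN hfpf hidx f'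
    (fun x => LinearMap.ext fun v => Subtype.ext (hf x x.2 v v.2))
  exact congrArg Subtype.val (congrArg (fun g : Module.End k Vχ => g ⟨v, hv⟩) h.eq)

/-- Displacements of an invariant subgroup centralising `U` act trivially on occurring weight spaces. -/
theorem map_disp_of_centralizes (hS : Shape ρ D r m) {χ : D.W →* ℤˣ} (hχ : Occ ρ D χ) {X : Subgroup G}
    (hXU : X ≤ centralizer (D.U : Set G)) {x : G} (hx : x ∈ disp a X) :
    ∀ v ∈ weight ρ D χ, ρ x v = v := by
  have hmem : ∀ y ∈ X, ∀ v ∈ weight ρ D χ, ρ y v ∈ weight ρ D χ := by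
    intro y hy v hv
    rw [mem_weight] at hv ⊢
    intro z
    rw [← Module.End.mul_apply, ← map_mul, mem_centralizer_iff.mp (hXU hy) z z.2.1, map_mul,
      Module.End.mul_apply, hv z, map_smul]
  have hfix : ∀ y ∈ X, ∀ v ∈ weight ρ D χ, ρ (a y) v = ρ y v := by
    intro y hy v hv
    have h1 := M.commute_T_of_weight hS hχ (ρ y) (hmem y hy) (fun u hu v _ => by
      rw [← Module.End.mul_apply, ← map_mul, mem_centralizer_iff.mp (hXU hy) u hu, map_mul,
        Module.End.mul_apply])
    have hT : ∀ w, T (((T ^ (r - 1) : Module.End k V)) w) = w := fun w => by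
      rw [← Module.End.mul_apply, ← pow_succ', show r - 1 + 1 = r from
        Nat.succ_pred_eq_of_pos M.coprimely.prime.pos, M.rep.pow_eq_one, Module.End.one_apply]
    have hw : (T ^ (r - 1) : Module.End k V) v ∈ weight ρ D χ := by
      have : ∀ n : ℕ, (T ^ n) v ∈ weight ρ D χ := fun n => by
        induction n with
        | zero => exact hv
        | succ n ih => rw [pow_succ', Module.End.mul_apply]; exact M.weight_inv_T ih
      exact this _
    have h2 := h1 _ hw
    rw [hT, ← Module.End.mul_apply, M.rep.compat, Module.End.mul_apply, hT] at h2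
    exact h2
  intro v hv
  induction hx using Subgroup.closure_induction generalizing v with
  | mem z hz =>
    obtain ⟨y, hy, rfl⟩ := hz
    rw [map_mul, Module.End.mul_apply, hfix y hy v hv, ← Module.End.mul_apply, ← map_mul, inv_mul_cancel,
      map_one, Module.End.one_apply]
  | one => rw [map_one, Module.End.one_apply]
  | mul y z _ _ ihy ihz => rw [map_mul, Module.End.mul_apply, ihz v hv, ihy v hv]
  | inv y _ ih =>
    conv_lhs => rw [← ih v hv]
    rw [← Module.End.mul_apply, ← map_mul, inv_mul_cancel, map_one, Module.End.one_apply]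

end Cfg

end Cfsg.Agent.H24.Flav
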