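import Cfsg.Agent.H24.Flav.CommonRadFamily
import Cfsg.Agent.H24.Flav.WeightCommutant

/-!
Two weight spaces with a common radical: a commutative invariant space of maps between them composes to zero.
-/

set_option autoImplicit false
set_option linter.unusedSectionVars false

namespace Cfsg.Agent.H24.Flav

open Subgroup
open Cfsg.Agent.H8.Shult hiding Min
open scoped commutatorElement

universe u v w

variable {G : Type u} [Group G] [Finite G] {p r : ℕ} [hp : Fact p.Prime] {a : MulAut G}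
variable {k : Type w} [Field k] [CharP k p] {V : Type v} [AddCommGroup V] [Module k V]
variable [IsAlgClosed k] [FiniteDimensional k V]
variable {ρ : G →* Module.End k V} {T : Module.End k V}
variable {D : UData a}

/-- The kernel of a form is its radical. -/
theorem beta_ker_map (hsp : Special2 a D.U) (ε : D.W →* ℤˣ) :
    (beta hsp ε).ker.map D.U.subtype = rad hsp ε := by
  refine congrArg (Subgroup.map D.U.subtype) (Subgroup.ext fun x => ?_)
  rw [MonoidHom.mem_ker, mem_radR]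
  exact ⟨fun h y => by rw [beta_symm, h]; rfl, fun h => MonoidHom.ext fun y => (beta_symm hsp ε y x).trans (h y)⟩

theorem mem_beta_ker (hsp : Special2 a D.U) (ε : D.W →* ℤˣ) {x : D.U} :
    x ∈ (beta hsp ε).ker ↔ (x : G) ∈ rad hsp ε := by
  rw [← beta_ker_map hsp ε]
  exact (Subgroup.mem_map_iff_mem D.U.subtype_injective).symm

/-- `U` on a weight space. -/
def Cfg.weightRep (M : Cfg p r a ρ T) (χ : D.W →* ℤˣ) : D.U →* Module.End k (weight ρ D χ) where
  toFun x := (ρ x).restrict fun _ hv => M.weight_inv_U x.2 hv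
  map_one' := LinearMap.ext fun v => Subtype.ext (by simp)
  map_mul' x y := LinearMap.ext fun v => Subtype.ext (by simp)

/-- `T` on a weight space. -/
def Cfg.weightT (M : Cfg p r a ρ T) (χ : D.W →* ℤˣ) : Module.End k (weight ρ D χ) :=
  T.restrict fun _ hv => M.weight_inv_T hv

namespace Cfg

variable (M : Cfg p r a ρ T)
include M

theorem weightRep_semi (χ : D.W →* ℤˣ) :
    Heis.Semi (subAut D.U D.inv_U) (M.weightRep χ) (M.weightT χ) := fun x v =>
  Subtype.ext (congrArg (fun f : Module.End k V => f v) (M.rep.compat x))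

theorem weightT_pow (χ : D.W →* ℤˣ) : M.weightT (D := D) χ ^ r = 1 :=
  LinearMap.ext fun v => Subtype.ext (by rw [Cfg.weightT, restrict_pow_coe, M.rep.pow_eq_one]; rfl)

theorem weightRep_comm (hsp : Special2 a D.U) (χ : D.W →* ℤˣ) :
    Heis.Comm (beta hsp χ) (M.weightRep χ) := fun x y v => Subtype.ext (by
  show ρ x (ρ y v) = sgn k (beta hsp χ x y) • ρ y (ρ x v)
  rw [← Module.End.mul_apply, ← map_mul, show (x : G) * y = ⁅(x : G), (y : G)⁆ * (y * x) by
      rw [commutatorElement_def]; group, map_mul, Module.End.mul_apply, ← Module.End.mul_apply (ρ y), ← map_mul]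
  exact mem_weight.mp (M.weight_inv_U (mul_mem y.2 x.2) v.2) (commW hsp x y))

/-- Operators commuting with `U` on a weight space commute with `T`. -/
theorem weight_commutant {m : ℕ} (hS : Shape ρ D r m) {χ : D.W →* ℤˣ} (hχ : Occ ρ D χ) :
    ∀ f ∈ Heis.eqv (M.weightRep (D := D) χ) (M.weightRep χ), ∀ v, M.weightT χ (f v) = f (M.weightT χ v) := by
  intro f hf v
  obtain ⟨F, hF⟩ := LinearMap.exists_extend ((weight ρ D χ).subtype ∘ₗ f)
  have hFv : ∀ w : weight ρ D χ, F w = f w := fun w => LinearMap.congr_fun hF w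
  refine Subtype.ext ?_
  have h := M.commute_T_of_weight hS hχ F (fun w hw => by rw [hFv ⟨w, hw⟩]; exact Submodule.coe_mem _)
    (fun u hu w hw => by
      rw [hFv ⟨w, hw⟩]
      show ρ u (f ⟨w, hw⟩) = F ((M.weightRep χ ⟨u, hu⟩ ⟨w, hw⟩ : weight ρ D χ) : V)
      rw [hFv, hf]
      rfl) v v.2
  rw [hFv] at h
  exact h.trans (hFv (M.weightT χ v))

/-- The radical acts by signs on a weight space. -/
theorem exists_scal {m : ℕ} (hS : Shape ρ D r m) {χ : D.W →* ℤˣ} (hχ : Occ ρ D χ) :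
    ∃ l : D.U → ℤˣ, Heis.Scal (beta hS.sp χ) l (M.weightRep χ) := by
  classical
  have hfix : ∀ x ∈ rad hS.sp χ, ∀ v ∈ weight ρ D χ, ρ (a x) v = ρ x v := by
    intro x hx v hv
    obtain ⟨hxU, hx'⟩ := mem_rad.mp hx
    have h := M.commute_T_of_weight hS hχ (ρ x) (fun w hw => M.weight_inv_U hxU hw) (fun u hu w hw => by
      have h1 := congrArg Subtype.val (M.weightRep_comm hS.sp χ ⟨x, hxU⟩ ⟨u, hu⟩ ⟨w, hw⟩)
      rw [show beta hS.sp χ ⟨x, hxU⟩ ⟨u, hu⟩ = 1 from hx' ⟨u, hu⟩, sgn_one, one_smul] at h1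
      exact h1.symm)
    have hw : ∀ i : ℕ, (T ^ i) v ∈ weight ρ D χ := fun i => by
      induction i with
      | zero => exact hv
      | succ i ih => rw [pow_succ', Module.End.mul_apply]; exact M.weight_inv_T ih
    have hT := Heis.pow_pred_apply (τ := T) M.coprimely.prime.pos M.rep.pow_eq_one v
    have h2 := h _ (hw (r - 1))
    rw [hT.2, ← Module.End.mul_apply, M.rep.compat, Module.End.mul_apply, hT.2] at h2
    exact h2
  have hdisp : ∀ x ∈ disp a (rad hS.sp χ), ∀ v ∈ weight ρ D χ, ρ x v = v := by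
    intro x hx
    induction hx using Subgroup.closure_induction with
    | mem z hz =>
      obtain ⟨y, hy, rfl⟩ := hz
      intro v hv
      rw [map_mul, Module.End.mul_apply, hfix y hy v hv, Heis.act_inv_act]
    | one => intro v _; rw [map_one, Module.End.one_apply]
    | mul y z _ _ ihy ihz => intro v hv; rw [map_mul, Module.End.mul_apply, ihz v hv, ihy v hv]
    | inv y _ ih =>
      intro v hv
      conv_lhs => rw [← ih v hv]
      rw [Heis.act_inv_act]
  refine ⟨fun x => if ∀ v, M.weightRep χ x v = v then 1 else -1, fun x hx v => ?_⟩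
  obtain ⟨d, hd, c, hc, hxcd⟩ := M.coprimely.exists_disp_mul (inv_rad hS.sp χ) ((mem_beta_ker hS.sp χ).mp hx)
  rw [M.inf_fixed_eq_W (W_le_rad hS.sp χ) (rad_le hS.sp χ)] at hc
  have hval : ∀ w : weight ρ D χ, M.weightRep χ x w = sgn k (χ ⟨c, hc⟩) • w := fun w => Subtype.ext (by
    show ρ x (w : V) = sgn k (χ ⟨c, hc⟩) • (w : V)
    rw [hxcd, map_mul, Module.End.mul_apply, hdisp d hd w w.2]
    exact mem_weight.mp w.2 ⟨c, hc⟩)
  show M.weightRep χ x v = sgn k (if _ then _ else _) • v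
  split_ifs with h
  · rw [h, sgn_one, one_smul]
  · rw [hval]
    rcases Int.units_eq_one_or (χ ⟨c, hc⟩) with h1 | h1
    · exact absurd (fun w => by rw [hval, h1, sgn_one, one_smul]) h
    · rw [h1]

/-- The setting of a form of index `2 ^ (2 * m)`. -/
theorem env_beta {m : ℕ} (hS : Shape ρ D r m) [Fintype D.U] {ε : D.W →* ℤˣ}
    (hidx : Nat.card D.U = 2 ^ (2 * m) * Nat.card (rad hS.sp ε)) :
    Heis.Env k (beta hS.sp ε) (subAut D.U D.inv_U) r (2 ^ m) := by
  refine
    { prime := M.coprimely.prime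
      eq := hS.eq
      two_le := Nat.le_self_pow hS.pos.ne' 2
      symm := fun x y => (beta_symm hS.sp ε x y).symm
      sq := fun x => (mem_beta_ker hS.sp ε).mpr (W_le_rad hS.sp ε (hS.sp.sq_mem x x.2))
      idx := ?_
      pow := (M.coprimely.sub D.U D.inv_U).pow
      inv := fun x y => congrArg ε (commW_apply hS.sp x y)
      fpf := fun x hx => (mem_beta_ker hS.sp ε).mpr ?_
      irr := fun H hle hH => ?_
      two := M.two_ne_zero
      r_ne := M.r_ne_zero
      card := M.natCard_two_ne_zero D.isPGroup_U }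
  · rw [← pow_add, ← two_mul, hidx, ← beta_ker_map hS.sp ε, Subgroup.card_map_of_injective D.U.subtype_injective]
  · have hx' : (x : G)⁻¹ * a x ∈ rad hS.sp ε := (mem_beta_ker hS.sp ε).mp hx
    obtain ⟨c, hc, hcx⟩ := M.coprimely.exists_fixed_coset (inv_rad hS.sp ε) hx'
    have hcU : c ∈ D.U := by simpa using mul_mem x.2 (rad_le hS.sp ε hcx)
    simpa using mul_mem (W_le_rad hS.sp ε ⟨hcU, hc⟩) (inv_mem hcx)
  · rcases M.eq_or_eq hS.pos hS.eq hS.sp hidx (B := H.map D.U.subtype)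
        (by rintro _ ⟨x, hx, rfl⟩; exact ⟨_, hH x hx, rfl⟩)
        (beta_ker_map hS.sp ε ▸ Subgroup.map_mono hle) (map_subtype_le H) with h | h
    · exact Or.inl (Subgroup.map_injective D.U.subtype_injective (h.trans (beta_ker_map hS.sp ε).symm))
    · exact Or.inr (Subgroup.map_injective D.U.subtype_injective
        (h.trans ((MonoidHom.range_eq_map _).symm.trans (Subgroup.range_subtype D.U)).symm))

/-- A commutative invariant space of maps between two weight spaces with a common radical composes to zero. -/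
theorem eq_zero_of_common_rad {m : ℕ} (hS : Shape ρ D r m) {χ ψ : D.W →* ℤˣ}
    (hχ : Occ ρ D χ) (hψ : Occ ρ D ψ) (hne : χ ≠ ψ) (hrad : rad hS.sp χ = rad hS.sp ψ)
    (L : Submodule k (Module.End k V))
    (hU : ∀ u ∈ D.U, ∀ f ∈ L, ρ u * f * ρ u⁻¹ ∈ L) (hT : ∀ f ∈ L, T * f * T ^ (r - 1) ∈ L)
    (hcomm : ∀ f ∈ L, ∀ g ∈ L, f * g = g * f)
    (hmap : ∀ f ∈ L, ∀ v ∈ weight ρ D χ, f v ∈ weight ρ D ψ)
    (hmap' : ∀ f ∈ L, ∀ v ∈ weight ρ D ψ, f v ∈ weight ρ D χ) :
    ∀ f ∈ L, ∀ g ∈ L, ∀ v ∈ weight ρ D χ, f (g v) = 0 := by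
  classical
  let _ : Fintype D.U := Fintype.ofFinite _
  have hμ1 : χ * ψ ≠ 1 := fun h => hne (MonoidHom.ext fun x => by
    have h1 := DFunLike.congr_fun h x
    rwa [MonoidHom.mul_apply, MonoidHom.one_apply, mul_eq_one_iff_eq_inv, Int.units_inv_eq_self] at h1)
  have hμrad : rad hS.sp (χ * ψ) = rad hS.sp χ := by
    have hge := rad_mul_ge hS.sp χ ψ
    rw [← hrad, inf_idem] at hge
    exact (M.eq_or_eq hS.pos hS.eq hS.sp (hS.idx χ hχ) (inv_rad hS.sp _) hge (rad_le hS.sp _)).resolve_right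
      fun h => hμ1 (M.eq_one_of_rad_eq hS.sp h.ge)
  have hker : ∀ {ε ε' : D.W →* ℤˣ}, rad hS.sp ε = rad hS.sp ε' →
      (beta hS.sp ε).ker = (beta hS.sp ε').ker := fun h => Subgroup.ext fun x => by
    rw [mem_beta_ker, mem_beta_ker, h]
  have t : Heis.Triple k (beta hS.sp (χ * ψ)) (beta hS.sp χ) (beta hS.sp ψ) (subAut D.U D.inv_U) r (2 ^ m) :=
    ⟨M.env_beta hS (hμrad ▸ hS.idx χ hχ), M.env_beta hS (hS.idx χ hχ), M.env_beta hS (hS.idx ψ hψ),
      hker hμrad.symm, hker (hrad.symm.trans hμrad.symm), MonoidHom.ext fun x => MonoidHom.ext fun y => by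
        rw [MonoidHom.mul_apply, MonoidHom.mul_apply, beta_apply, beta_apply, beta_apply, MonoidHom.mul_apply,
          mul_comm (χ _ * ψ _), ← mul_assoc, Int.units_mul_self, one_mul]⟩
  obtain ⟨lχ, hlχ⟩ := M.exists_scal hS hχ
  obtain ⟨lψ, hlψ⟩ := M.exists_scal hS hψ
  have : Nontrivial (weight ρ D χ) := Submodule.nontrivial_iff_ne_bot.mpr hχ.2
  have : Nontrivial (weight ρ D ψ) := Submodule.nontrivial_iff_ne_bot.mpr hψ.2
  let Φ : L →ₗ[k] ((weight ρ D χ →ₗ[k] weight ρ D ψ) × (weight ρ D ψ →ₗ[k] weight ρ D χ)) :=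
    { toFun := fun f => ((f : Module.End k V).restrict (hmap f f.2), (f : Module.End k V).restrict (hmap' f f.2))
      map_add' := fun f g => Prod.ext (LinearMap.ext fun v => Subtype.ext rfl)
        (LinearMap.ext fun v => Subtype.ext rfl)
      map_smul' := fun c f => Prod.ext (LinearMap.ext fun v => Subtype.ext rfl)
        (LinearMap.ext fun v => Subtype.ext rfl) }
  have h := t.family_comp_eq_zero hlχ (M.weightRep_comm hS.sp χ) hlψ (M.weightRep_comm hS.sp ψ)
    (M.weightRep_semi χ) (M.weightT_pow χ) (M.weightRep_semi ψ) (M.weightT_pow ψ)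
    (M.weight_commutant hS hχ) (M.weight_commutant hS hψ) (LinearMap.range Φ) ?_ ?_ ?_
  · intro f hf g hg v hv
    exact congrArg Subtype.val (LinearMap.congr_fun (h _ ⟨⟨f, hf⟩, rfl⟩ _ ⟨⟨g, hg⟩, rfl⟩) ⟨v, hv⟩)
  · rintro x _ ⟨f, rfl⟩
    exact ⟨⟨ρ x * f * ρ (x : G)⁻¹, hU x x.2 f f.2⟩, Prod.ext (LinearMap.ext fun v => Subtype.ext rfl)
      (LinearMap.ext fun v => Subtype.ext rfl)⟩
  · rintro _ ⟨f, rfl⟩
    refine ⟨⟨T * f * T ^ (r - 1), hT f f.2⟩, Prod.ext (LinearMap.ext fun v => Subtype.ext ?_)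
      (LinearMap.ext fun v => Subtype.ext ?_)⟩
    · show T ((f : Module.End k V) ((T ^ (r - 1)) v)) = T ((f : Module.End k V) _)
      exact congrArg (fun z => T ((f : Module.End k V) z)) (restrict_pow_coe _ (r - 1) v).symm
    · show T ((f : Module.End k V) ((T ^ (r - 1)) v)) = T ((f : Module.End k V) _)
      exact congrArg (fun z => T ((f : Module.End k V) z)) (restrict_pow_coe _ (r - 1) v).symm
  · rintro _ ⟨f, rfl⟩ _ ⟨g, rfl⟩
    refine LinearMap.ext fun v => Subtype.ext ?_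
    exact congrArg (fun F : Module.End k V => F v) (hcomm f f.2 g g.2)

end Cfg

end Cfsg.Agent.H24.Flav
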