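import Cfsg.Agent.H24.Flav.CoreWeights

/-!
An abelian `p`-group of the fixed part of `N` moving a character cannot absorb all nontrivial twists.
-/

set_option autoImplicit false
set_option linter.unusedSectionVars false

namespace Cfsg.Agent.H24.Flav

open Subgroup
open Cfsg.Agent.H8.Shult hiding Min
open scoped commutatorElement

universe u v w

/-- A sum of a function invariant under an element of order `p` vanishes in characteristic `p`. -/
theorem sum_eq_zero_of_shift {Q : Type*} [CommGroup Q] [Fintype Q] {p : ℕ} [hp : Fact p.Prime] {k : Type*} [Field k]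
    [CharP k p] (g : Q → k) {b : Q} (hb : b ≠ 1) (hbp : b ^ p = 1) (hg : ∀ q, g (q * b) = g q) :
    ∑ q, g q = 0 := by
  classical
  let B := zpowers b
  have hB : Nat.card B = p := by rw [Nat.card_zpowers]; exact orderOf_eq_prime hbp hb
  have hz : ∀ h ∈ B, ∀ q, g (q * h) = g q := by
    intro h hh
    obtain ⟨n, rfl⟩ := mem_powers_iff_mem_zpowers.mpr hh
    induction n with
    | zero => intro q; simp
    | succ n ih => intro q; show g (q * b ^ (n + 1)) = g q; rw [pow_succ, ← mul_assoc, hg]; exact ih (mem_zpowers_iff.mpr ⟨n, by simp⟩) q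
  have hcls : ∀ q, g q = g ((q : Q ⧸ B).out) := by
    intro q
    obtain ⟨h, hh⟩ := QuotientGroup.mk_out_eq_mul B q
    rw [hh, hz h h.2]
  rw [← Finset.sum_fiberwise Finset.univ (fun q : Q => (q : Q ⧸ B)) g]
  refine Finset.sum_eq_zero fun c _ => ?_
  rw [Finset.sum_congr rfl (g := fun _ => g c.out) fun q hq => ?_, Finset.sum_const, nsmul_eq_mul,
    show (Finset.univ.filter fun q : Q => (q : Q ⧸ B) = c).card = p from ?_, CharP.cast_eq_zero, zero_mul]
  · rw [← hB, Nat.card_eq_fintype_card (α := B)]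
    refine Finset.card_bij (fun q hq => (⟨c.out⁻¹ * q, ?_⟩ : B)) (fun q hq => Finset.mem_univ _)
      (fun q _ q' _ h => mul_left_cancel (congrArg Subtype.val h)) fun h _ => ⟨c.out * h, ?_, ?_⟩
    · rw [← QuotientGroup.eq, QuotientGroup.out_eq']
      exact (Finset.mem_filter.mp hq).2.symm
    · refine Finset.mem_filter.mpr ⟨Finset.mem_univ _, ?_⟩
      rw [QuotientGroup.mk_mul, (QuotientGroup.eq_one_iff (h : Q)).mpr h.2, mul_one, QuotientGroup.out_eq']
    · exact Subtype.ext (inv_mul_cancel_left _ _)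
  · rw [hcls q, (Finset.mem_filter.mp hq).2]

variable {G : Type u} [Group G] [Finite G] {p r : ℕ} [hp : Fact p.Prime] {a : MulAut G}
variable {k : Type w} [Field k] [CharP k p] {V : Type v} [AddCommGroup V] [Module k V]
variable [IsAlgClosed k] [FiniteDimensional k V]
variable {ρ : G →* Module.End k V} {T : Module.End k V}
variable {D : UData a}

namespace Cfg

variable (M : Cfg p r a ρ T)
include M

/-- No element `y` can be twisted off an abelian `p`-group `Z` by all powers of `a`. -/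
theorem false_of_shift {Z : Subgroup G} (hZ : Z ≤ D.Gam) (hZc : ∀ x ∈ Z, ∀ y ∈ Z, x * y = y * x)
    (hZp : ∀ x ∈ Z, x ^ p = 1) {χ : D.W →* ℤˣ} (hχ : weight ρ D χ ≠ ⊥) (y : G)
    (h : ∀ i, i ≠ 0 → i < r → ∃ s z : G, ∃ hz : z ∈ Z, D.act ⟨z, hZ hz⟩ χ ≠ χ ∧ (∀ q ∈ Z, Commute q s) ∧
      (∀ x ∈ D.W, Commute x s) ∧ (∀ v ∈ weight ρ D χ, ρ s v = v) ∧
      y⁻¹ * (a ^ i) y * s * (y⁻¹ * (a ^ i) y)⁻¹ = s * z) : False := by
  classical
  obtain ⟨e, he, he1, he0, hec, heg, -⟩ := M.exists_wproj χ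
  set Vχ := weight ρ D χ
  let _ : CommGroup Z := { (inferInstance : Group Z) with mul_comm := fun x y => Subtype.ext (hZc x x.2 y y.2) }
  let ι : Z →* D.Gam := inclusion hZ
  let St : Subgroup Z :=
    { carrier := {x | D.act (ι x) χ = χ}
      one_mem' := by show D.act (ι 1) χ = χ; rw [map_one, UData.act_one]
      mul_mem' := fun {x y} (hx : D.act (ι x) χ = χ) (hy : D.act (ι y) χ = χ) => by
        show D.act (ι (x * y)) χ = χ
        rw [map_mul, ← UData.act_act, hy, hx]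
      inv_mem' := fun {x} (hx : D.act (ι x) χ = χ) => by
        show D.act (ι x⁻¹) χ = χ
        conv_lhs => rw [← hx, UData.act_act, ← map_mul, inv_mul_cancel, map_one, UData.act_one] }
  have hSt : ∀ x : Z, x ∈ St ↔ D.act (ι x) χ = χ := fun _ => Iff.rfl
  have hmapS : ∀ x ∈ St, ∀ v ∈ Vχ, ρ ((x : Z) : G) v ∈ Vχ := by
    intro x hx v hv
    have := map_mem_weight_act (ι x) hv
    rwa [(hSt x).mp hx] at this
  let ρ0 : St →* Module.End k Vχ :=
    { toFun := fun x => (ρ ((x : Z) : G)).restrict (hmapS x x.2)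
      map_one' := LinearMap.ext fun v => Subtype.ext (by simp)
      map_mul' := fun x y => LinearMap.ext fun v => Subtype.ext (by simp) }
  let ρd : St →* Module.End k (Module.Dual k Vχ) :=
    { toFun := fun x => (ρ0 x⁻¹).dualMap
      map_one' := by rw [inv_one, map_one]; rfl
      map_mul' := fun x y => by
        rw [mul_inv_rev, map_mul]
        rfl }
  obtain ⟨v₀, hv₀, hv₀0⟩ := (Submodule.ne_bot_iff _).mp hχ
  obtain ⟨φ₀, hφ₀⟩ : ∃ φ₀ : Module.Dual k Vχ, φ₀ ≠ 0 := by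
    by_contra hno
    push Not at hno
    refine hv₀0 (congrArg Subtype.val ((Module.forall_dual_apply_eq_zero_iff k (⟨v₀, hv₀⟩ : Vχ)).mp fun φ => ?_))
    rw [hno φ, LinearMap.zero_apply]
  have hStp : IsPGroup p St := fun x => ⟨1, Subtype.ext (Subtype.ext (by
    rw [pow_one, SubmonoidClass.coe_pow, SubmonoidClass.coe_pow]
    exact hZp _ x.1.2))⟩
  obtain ⟨φ, hφ0, hφ⟩ := exists_fixed_of_pGroup hStp ρd hφ₀
  refine hφ0 (LinearMap.ext fun u => ?_)
  rw [LinearMap.zero_apply]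
  let e' : V →ₗ[k] Vχ := e.codRestrict Vχ he
  have he'fix : ∀ x ∈ St, ∀ v, φ (e' (ρ ((x : Z) : G) v)) = φ (e' v) := by
    intro x hx v
    have h1 : e' (ρ ((x : Z) : G) v) = ρ0 ⟨x, hx⟩ (e' v) :=
      Subtype.ext (congrArg (fun f : Module.End k V => f v) (heg (ι x) ((hSt x).mp hx)).eq).symm
    have h2 := congrArg (fun f : Module.Dual k Vχ => f (e' v)) (hφ (⟨x, hx⟩ : St)⁻¹)
    rw [h1, ← h2]
    show φ (ρ0 ⟨x, hx⟩ (e' v)) = φ (ρ0 ((⟨x, hx⟩ : St)⁻¹)⁻¹ (e' v))
    rw [inv_inv]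
  let _ := Fintype.ofFinite (Z ⧸ St)
  let g : V → Z ⧸ St → k := fun v q => φ (e' (ρ ((q.out⁻¹ : Z) : G) v))
  have hg : ∀ v (z : Z), g v z = φ (e' (ρ ((z⁻¹ : Z) : G) v)) := by
    intro v z
    obtain ⟨t, ht⟩ := QuotientGroup.mk_out_eq_mul St z
    show φ (e' (ρ (((z : Z ⧸ St).out)⁻¹ : Z) v)) = _
    rw [ht, show (z * (t : Z))⁻¹ = (t : Z)⁻¹ * z⁻¹ from mul_inv_rev _ _, Subgroup.coe_mul, map_mul,
      Module.End.mul_apply]
    exact he'fix _ (inv_mem t.2) _
  have hTmem : ∀ (i : ℕ) (v : V), v ∈ Vχ → (T ^ i) v ∈ Vχ := fun i v hv => by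
    induction i with
    | zero => exact hv
    | succ i ih => rw [pow_succ', Module.End.mul_apply]; exact M.weight_inv_T ih
  -- the twisted summands vanish
  have hvan : ∀ i, i ≠ 0 → i < r → ∀ w ∈ Vχ, ∑ q, g (ρ (y⁻¹ * (a ^ i) y) w) q = 0 := by
    intro i hi hir w hw
    obtain ⟨s, z, hz, hzχ, hsZ, hsW, hs, hconj⟩ := h i hi hir
    set x := y⁻¹ * (a ^ i) y
    set v := ρ x w
    have hfix : ρ (s * z) v = v := by
      show ρ (s * z) (ρ x w) = ρ x w
      rw [← Module.End.mul_apply, ← map_mul, ← hconj, show x * s * x⁻¹ * x = x * s by group, map_mul,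
        Module.End.mul_apply, hs w hw]
    refine sum_eq_zero_of_shift (p := p) (g v) (b := ((⟨z, hz⟩ : Z) : Z ⧸ St)⁻¹)
      (fun h1 => hzχ ((hSt ⟨z, hz⟩).mp ((QuotientGroup.eq_one_iff _).mp (inv_eq_one.mp h1)))) ?_ fun q => ?_
    · rw [inv_pow, ← QuotientGroup.mk_pow, show (⟨z, hz⟩ : Z) ^ p = 1 from Subtype.ext (hZp z hz)]
      simp
    obtain ⟨q, rfl⟩ := QuotientGroup.mk_surjective q
    rw [← QuotientGroup.mk_inv, ← QuotientGroup.mk_mul, hg, hg]
    conv_rhs => rw [← hfix, ← Module.End.mul_apply, ← map_mul]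
    have e1 : ((q⁻¹ : Z) : G) * (s * z) = s * (((q * (⟨z, hz⟩ : Z)⁻¹)⁻¹ : Z) : G) := by
      have e2 : ((q * (⟨z, hz⟩ : Z)⁻¹)⁻¹ : Z) = q⁻¹ * ⟨z, hz⟩ := by rw [mul_inv, inv_inv]
      rw [e2, Subgroup.coe_mul, ← mul_assoc, (hsZ _ (q⁻¹).2).eq, mul_assoc]
    rw [e1, map_mul, Module.End.mul_apply]
    refine congrArg φ (Subtype.ext ?_)
    have hc := hec (ρ s) fun w' hw' => (((hsW w' hw').map ρ)).symm
    show e _ = e (ρ s _)
    rw [← Module.End.mul_apply e (ρ s), ← hc.eq, Module.End.mul_apply, hs _ (he _)]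
  -- the untwisted summand
  have hmain : ∑ q, g (u : V) q = φ u := by
    rw [Finset.sum_eq_single ((1 : Z) : Z ⧸ St) (fun q _ hq => ?_) (fun h => absurd (Finset.mem_univ _) h), hg]
    · refine congrArg φ (Subtype.ext ?_)
      show e (ρ (((1 : Z)⁻¹ : Z) : G) u) = u
      simp [he1 _ u.2]
    · obtain ⟨q, rfl⟩ := QuotientGroup.mk_surjective q
      rw [hg, show e' (ρ ((q⁻¹ : Z) : G) u) = 0 from Subtype.ext ?_, map_zero]
      refine he0 _ (fun h1 => hq ?_) _ (map_mem_weight_act (ι q⁻¹) u.2)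
      exact ((QuotientGroup.eq_one_iff q).mpr (inv_mem_iff.mp ((hSt q⁻¹).mpr h1))).trans (QuotientGroup.mk_one St).symm
  rw [← hmain]
  have hsum : ∑ i ∈ Finset.range r, ρ (y⁻¹ * (a ^ i) y) ((T ^ i) (u : V)) = 0 := by
    have h1 : ∀ i, ρ (y⁻¹ * (a ^ i) y) ((T ^ i) (u : V)) = ρ y⁻¹ ((T ^ i) (ρ y (u : V))) := fun i => by
      rw [map_mul, Module.End.mul_apply, ← Module.End.mul_apply (T ^ i) (ρ y), M.rep.pow_compat i y,
        Module.End.mul_apply]
    rw [Finset.sum_congr rfl fun i _ => h1 i, ← map_sum, ← LinearMap.sum_apply, M.rep.sum,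
      LinearMap.zero_apply, map_zero]
  have hadd : ∀ (t : Finset ℕ) (F : ℕ → V), ∑ q, g (∑ i ∈ t, F i) q = ∑ i ∈ t, ∑ q, g (F i) q := by
    intro t F
    rw [Finset.sum_comm]
    exact Finset.sum_congr rfl fun q _ => by simp [g]
  have h3 := hadd (Finset.range r) fun i => ρ (y⁻¹ * (a ^ i) y) ((T ^ i) (u : V))
  rw [hsum, Finset.sum_eq_single 0 (fun i hi hi0 => hvan i hi0 (Finset.mem_range.mp hi) _ (hTmem i _ u.2))
    (fun h => absurd (Finset.mem_range.mpr M.coprimely.prime.pos) h)] at h3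
  simpa [g] using h3.symm

end Cfg

end Cfsg.Agent.H24.Flav
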