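import Cfsg.Agent.H24.Flav.CoreBase
import Cfsg.Agent.H24.Flav.CoreShift
import Cfsg.Agent.H24.Flav.WeightCommutant

/-!
`U` moves the centre of the `p`-part of a bad subgroup.
-/

set_option autoImplicit false
set_option linter.unusedSectionVars false

namespace Cfsg.Agent.H24.Flav

open Subgroup
open Cfsg.Agent.H8.Shult hiding Min
open scoped commutatorElement

universe u v w

variable {G : Type u} [Group G] [Finite G] {p r : ℕ} [hp : Fact p.Prime] {a : MulAut G}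
variable {k : Type w} [Field k] [CharP k p] {V : Type v} [AddCommGroup V] [Module k V]
variable [IsAlgClosed k] [FiniteDimensional k V]
variable {ρ : G →* Module.End k V} {T : Module.End k V}
variable {D : UData a}

theorem Coprimely.of_pow {a : MulAut G} {r : ℕ} (ha : Coprimely a r) (i : ℕ) : Coprimely (a ^ i) r :=
  ⟨ha.prime, by rw [← pow_mul, mul_comm, pow_mul, ha.pow, one_pow], ha.ndvd⟩

namespace Cfg

variable (M : Cfg p r a ρ T)
include M

/-- A fixed element of `H` centralising `S` normalises `U` once `U` centralises `Z(S)`. -/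
theorem conj_mem_U_of_centralizes {H S Q : Subgroup G} (B : Bad p D H S Q)
    (hcen : S ⊓ centralizer (S : Set G) ≤ centralizer (D.U : Set G)) {z : G} (hzH : z ∈ H)
    (hzS : z ∈ centralizer (S : Set G)) {u : G} (hu : u ∈ D.U) : z * u * z⁻¹ ∈ D.U := by
  have hUN : D.U ≤ normalizer (S : Set G) := B.U_le.trans B.part.normal
  set c := z * u * z⁻¹ * u⁻¹ with hc
  have hUdisp : D.U ≤ disp a H := (M.disp_eq_sup B.inv B.U_le B.part).symm ▸ le_sup_right
  have hcd : c ∈ disp a H :=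
    mul_mem ((mem_normalizer_iff.mp (le_normalizer_disp hzH) u).mp (hUdisp hu)) (inv_mem (hUdisp hu))
  rw [M.disp_eq_sup B.inv B.U_le B.part, sup_comm, ← SetLike.mem_coe,
    Subgroup.coe_mul_of_left_le_normalizer_right _ _ hUN] at hcd
  obtain ⟨v, hv, s, hs, hvs⟩ := hcd
  simp only at hvs
  have hzs : ∀ x ∈ S, z * x * z⁻¹ = x := fun x hx => by
    rw [← mem_centralizer_iff.mp hzS x hx, mul_inv_cancel_right]
  have hcS : ∀ x ∈ S, c * x * c⁻¹ = x := fun x hx => by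
    have h1 : u⁻¹ * x * u ∈ S := by
      simpa using (mem_normalizer_iff.mp (inv_mem (hUN hu)) x).mp hx
    have h2 : z⁻¹ * (u⁻¹ * x * u) * z = u⁻¹ * x * u := by
      conv_lhs => rw [← hzs _ h1]
      group
    calc c * x * c⁻¹ = z * u * (z⁻¹ * (u⁻¹ * x * u) * z) * u⁻¹ * z⁻¹ := by rw [hc]; group
      _ = z * x * z⁻¹ := by rw [h2]; group
      _ = x := hzs x hx
  have hsv : ∀ x ∈ S, s * x * s⁻¹ = v⁻¹ * x * v := fun x hx => by
    have h := hcS x hx
    rw [← hvs] at h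
    conv_rhs => rw [← h]
    group
  have hvi : ∀ (i : ℕ) (x : G), x ∈ S → s ^ i * x * (s ^ i)⁻¹ = (v ^ i)⁻¹ * x * v ^ i := by
    intro i
    induction i with
    | zero => intro x _; simp
    | succ i ih =>
      intro x hx
      have h1 : v⁻¹ * x * v ∈ S := by simpa using (mem_normalizer_iff.mp (inv_mem (hUN hv)) x).mp hx
      calc s ^ (i + 1) * x * (s ^ (i + 1))⁻¹ = s ^ i * (s * x * s⁻¹) * (s ^ i)⁻¹ := by rw [pow_succ]; group
        _ = _ := by rw [hsv x hx, ih _ h1, pow_succ']; group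
  obtain ⟨n, hn⟩ := B.part.isPGroup ⟨s, hs⟩
  have hn' : s ^ p ^ n = 1 := congrArg Subtype.val hn
  obtain ⟨j, hj⟩ := D.isPGroup_U ⟨v, hv⟩
  have hj' : v ^ 2 ^ j = 1 := congrArg Subtype.val hj
  have hvp : v ^ p ^ n ∈ centralizer (S : Set G) := mem_centralizer_iff.mpr fun x hx => by
    have h := hvi (p ^ n) x hx
    rw [hn'] at h
    calc x * v ^ p ^ n = (v ^ p ^ n) * ((v ^ p ^ n)⁻¹ * x * v ^ p ^ n) := by group
      _ = v ^ p ^ n * x := by rw [← h]; simp
  have hvS : v ∈ centralizer (S : Set G) := by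
    obtain ⟨l, hl⟩ := exists_pow_eq_self_of_coprime (x := v) (n := p ^ n)
      ((((Nat.coprime_primes hp.out Nat.prime_two).mpr M.odd).pow n j).coprime_dvd_right
        (orderOf_dvd_of_pow_eq_one hj'))
    exact hl ▸ pow_mem hvp l
  have hsS : s ∈ centralizer (S : Set G) := mem_centralizer_iff.mpr fun x hx => by
    have h := hsv x hx
    rw [show v⁻¹ * x * v = x by rw [mul_assoc, mem_centralizer_iff.mp hvS x hx, inv_mul_cancel_left]] at h
    calc x * s = (s * x * s⁻¹) * s := by rw [h]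
      _ = s * x := by group
  have hsU := mem_centralizer_iff.mp (hcen ⟨hs, hsS⟩)
  have hvu : v * u ∈ D.U := mul_mem hv hu
  have hcomm : Commute (v * u) s := hsU _ hvu
  have heq : z * u * z⁻¹ = v * u * s := by
    rw [show z * u * z⁻¹ = c * u by rw [hc]; group, ← hvs, mul_assoc, ← hsU u hu, ← mul_assoc]
  obtain ⟨i, hi⟩ := D.isPGroup_U ⟨u, hu⟩
  obtain ⟨i', hi'⟩ := D.isPGroup_U ⟨v * u, hvu⟩
  have hi1 : u ^ 2 ^ i = 1 := congrArg Subtype.val hi
  have hi2 : (v * u) ^ 2 ^ i' = 1 := congrArg Subtype.val hi'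
  have h1 : (z * u * z⁻¹) ^ 2 ^ (i + i') = 1 := by
    rw [conj_pow, pow_add, pow_mul, hi1, one_pow, mul_one, mul_inv_cancel]
  rw [heq, hcomm.mul_pow, show (v * u) ^ 2 ^ (i + i') = 1 by rw [add_comm, pow_add, pow_mul, hi2, one_pow],
    one_mul] at h1
  have hs1 : s = 1 := Subgroup.mem_bot.mp (mem_of_two_pow_mem M.odd (P := ⊥) (Subgroup.mem_bot.mpr h1) hn')
  rw [heq, hs1, mul_one]
  exact hvu

/-- `U` does not centralise the centre of the `p`-part. -/
theorem bad_not_central {H S Q : Subgroup G} (B : Bad p D H S Q)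
    (hcen : S ⊓ centralizer (S : Set G) ≤ centralizer (D.U : Set G)) : False := by
  classical
  obtain ⟨m, hSh⟩ := M.exists_shape (D := D)
  obtain ⟨R, hR, hRa, hQR, hRQ⟩ := M.bad_exists_over B
  have hQR' : Q ≤ R := hQR.le
  have hQp := B.maxP.2.1
  -- subgroups normalised by `R` are not normalised by `U`
  have hkey : ∀ X : Subgroup G, Inv a X → X ≤ Q → X ≤ centralizer (D.U : Set G) →
      X ≤ centralizer (Q : Set G) → X ≠ ⊥ → R ⊓ normalizer (X : Set G) = Q := by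
    intro X hXa hXQ hXU hXc hX
    refine M.bad_key B hR hQR' hX (hQp.to_le hXQ) hXa (fun q hq => mem_normalizer_iff.mpr fun x => ?_)
      (fun u hu => mem_normalizer_iff.mpr fun x => ?_)
    all_goals constructor
    · intro hx; rwa [mem_centralizer_iff.mp (hXc hx) q hq, mul_inv_cancel_right]
    · intro hx
      have h := mem_centralizer_iff.mp (hXc hx) q hq
      rw [show q * x * q⁻¹ * q = q * x by group] at h
      rwa [mul_left_cancel h] at hx
    · intro hx; rwa [mem_centralizer_iff.mp (hXU hx) u hu, mul_inv_cancel_right]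
    · intro hx
      have h := mem_centralizer_iff.mp (hXU hx) u hu
      rw [show u * x * u⁻¹ * u = u * x by group] at h
      rwa [mul_left_cancel h] at hx
  have hcenQ : centralizer (Q : Set G) ≤ centralizer (S : Set G) := centralizer_le B.S_le
  obtain ⟨hdQS, hdQ⟩ := M.bad_disp_Q B
  have hZU : ∀ x, x ∈ S → x ∈ centralizer (Q : Set G) → x ∈ centralizer (D.U : Set G) := fun x h1 h2 =>
    hcen ⟨h1, hcenQ h2⟩
  have hQn : R ≤ normalizer (centralizer (Q : Set G) : Set G) := by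
    refine le_normalizer_iff.mpr fun g hg x hx => mem_centralizer_iff.mpr fun q hq => ?_
    have h1 : g⁻¹ * q * g ∈ Q := by simpa using (mem_normalizer_iff.mp (inv_mem (hRQ hg)) q).mp hq
    calc q * (g * x * g⁻¹) = g * ((g⁻¹ * q * g) * x) * g⁻¹ := by group
      _ = g * (x * (g⁻¹ * q * g)) * g⁻¹ := by rw [mem_centralizer_iff.mp hx _ h1]
      _ = g * x * g⁻¹ * q := by group
  -- fixed elements of `R` lie in `Q`
  set X := disp a Q ⊓ centralizer (Q : Set G)
  have hX : X ≠ ⊥ := inf_centralizer_ne_bot hQp (disp_le B.inv_Q) le_normalizer_disp hdQ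
  have hXU : X ≤ centralizer (D.U : Set G) := fun x hx => hZU x (hdQS hx.1) hx.2
  have hXQ : X ≤ Q := inf_le_left.trans (disp_le B.inv_Q)
  have hRfix : ∀ x ∈ R, x ∈ fixedBy a → x ∈ Q := by
    intro x hx hfx
    have hxn : x ∈ normalizer (X : Set G) := by
      have hn : ∀ y ∈ R, y ∈ fixedBy a → ∀ d ∈ X, y * d * y⁻¹ ∈ X := fun y hy hfy d hd =>
        ⟨fixedBy_le_normalizer_disp hfy (fun q hq => (mem_normalizer_iff.mp (hRQ hy) q).mp hq) hd.1,
          (mem_normalizer_iff.mp (hQn hy) d).mp hd.2⟩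
      refine mem_normalizer_iff.mpr fun d => ⟨hn x hx hfx d, fun h => ?_⟩
      simpa [mul_assoc] using hn x⁻¹ (inv_mem hx) (inv_mem hfx) _ h
    exact (hkey X ((inv_disp B.inv_Q).inf B.inv_Q.centralizer) hXQ hXU inf_le_right hX).le ⟨hx, hxn⟩
  -- the elements of order `p` in the centre of `Q`
  let A : Subgroup G :=
    { carrier := {x | x ∈ Q ∧ x ∈ centralizer (Q : Set G) ∧ x ^ p = 1}
      one_mem' := ⟨one_mem _, one_mem _, one_pow _⟩
      mul_mem' := fun {x y} hx hy => ⟨mul_mem hx.1 hy.1, mul_mem hx.2.1 hy.2.1, by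
        rw [(show Commute x y from mem_centralizer_iff.mp hy.2.1 x hx.1).mul_pow, hx.2.2, hy.2.2, one_mul]⟩
      inv_mem' := fun {x} hx => ⟨inv_mem hx.1, inv_mem hx.2.1, by rw [inv_pow, hx.2.2, inv_one]⟩ }
  have hA : ∀ x, x ∈ A ↔ x ∈ Q ∧ x ∈ centralizer (Q : Set G) ∧ x ^ p = 1 := fun _ => Iff.rfl
  have hAc : ∀ x ∈ A, ∀ y ∈ A, x * y = y * x := fun x hx y hy => mem_centralizer_iff.mp hy.2.1 x hx.1
  have hAa : Inv a A := fun x hx =>
    ⟨B.inv_Q x hx.1, B.inv_Q.centralizer x hx.2.1, by rw [← map_pow, hx.2.2, map_one]⟩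
  have hRA : R ≤ normalizer (A : Set G) := le_normalizer_iff.mpr fun g hg x hx =>
    ⟨(mem_normalizer_iff.mp (hRQ hg) x).mp hx.1, (mem_normalizer_iff.mp (hQn hg) x).mp hx.2.1, by
      rw [conj_pow, hx.2.2, mul_one, mul_inv_cancel]⟩
  have hAQ : A ≤ Q := fun x hx => hx.1
  set Z1 := A ⊓ centralizer (R : Set G)
  have hRle : ∀ X : Subgroup G, X ≤ centralizer (R : Set G) → R ≤ normalizer (X : Set G) := fun X hX =>
    le_normalizer_iff.mpr fun g hg x hx => by
      rw [mem_centralizer_iff.mp (hX hx) g hg, mul_inv_cancel_right]; exact hx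
  have hnot : ∀ X : Subgroup G, Inv a X → X ≤ Z1 → X ≤ centralizer (D.U : Set G) → X = ⊥ := fun X hXa hXZ hXU => by
    by_contra hne
    refine hQR.ne ?_
    rw [← hkey X hXa (hXZ.trans (inf_le_left.trans hAQ)) hXU (fun x hx => (hXZ hx).1.2.1) hne,
      inf_eq_left.mpr (hRle X (hXZ.trans inf_le_right))]
  have hZ1a : Inv a Z1 := hAa.inf hRa.centralizer
  have hdA : disp a A ≤ centralizer (D.U : Set G) := fun x hx =>
    hZU x (hdQS (disp_mono hAQ hx)) (disp_le hAa hx).2.1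
  have hZfix : Z1 ≤ fixedBy a := disp_eq_bot_iff.mp
    (hnot _ (inv_disp hZ1a) (disp_le hZ1a) ((disp_mono inf_le_left).trans hdA))
  have hZGam : Z1 ≤ D.Gam := fun z hz => by
    have hzS := hcenQ hz.1.2.1
    have hzH := B.maxP.1 hz.1.1
    refine ⟨mem_normalizer_iff.mpr fun x => ⟨fun hx => M.conj_mem_U_of_centralizes B hcen hzH hzS hx, fun hx => ?_⟩,
      hZfix hz⟩
    simpa [mul_assoc] using M.conj_mem_U_of_centralizes B hcen (inv_mem hzH) (inv_mem hzS) hx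
  -- the second layer
  have hAZ : ¬ A ≤ Z1 := fun h => by
    obtain ⟨⟨x, hx⟩, hx1⟩ := Subgroup.ne_bot_iff_exists_ne_one.1 hX
    obtain ⟨y, hy, hyo⟩ := PGroups.exists_orderOf_eq (hG := hQp) (H := X.subgroupOf Q)
      (fun e => hx1 (Subtype.ext (by
        have : (⟨x, hXQ hx⟩ : Q) ∈ X.subgroupOf Q := hx
        rw [e, Subgroup.mem_bot] at this
        show x = 1
        exact congrArg Subtype.val this)))
    have hyA : (y : G) ∈ A := ⟨y.2, (mem_subgroupOf.mp hy).2, by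
      rw [← SubmonoidClass.coe_pow, ← hyo, pow_orderOf_eq_one]; rfl⟩
    have hb := hnot (Z1 ⊓ centralizer (D.U : Set G)) (hZ1a.inf D.inv_U.centralizer) inf_le_left inf_le_right
    have hy1 : (y : G) = 1 := Subgroup.mem_bot.mp (hb ▸ ⟨h hyA, hXU (mem_subgroupOf.mp hy)⟩)
    rw [show y = 1 from Subtype.ext hy1, orderOf_one] at hyo
    exact hp.out.ne_one hyo.symm
  obtain ⟨b, hbA, hbZ, hb⟩ := exists_layer hR (hAQ.trans hQR') hRA (hRle Z1 inf_le_right) hAZ
  have hmulr : ∀ b x y : G, x ∈ R → ⁅b, y⁆ ∈ Z1 → ⁅b, x * y⁆ = ⁅b, x⁆ * ⁅b, y⁆ := by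
    intro b x y hx h
    calc ⁅b, x * y⁆ = ⁅b, x⁆ * (x * ⁅b, y⁆ * x⁻¹) := by simp [commutatorElement_def, mul_assoc]
      _ = _ := by rw [mem_centralizer_iff.mp h.2 x hx, mul_inv_cancel_right]
  let L2 : Subgroup G :=
    { carrier := {b | b ∈ A ∧ ∀ x ∈ R, ⁅b, x⁆ ∈ Z1}
      one_mem' := ⟨one_mem _, fun x _ => by rw [commutatorElement_one_left]; exact one_mem _⟩
      mul_mem' := fun {c d} hc hd => ⟨mul_mem hc.1 hd.1, fun x hx => by
        have e : ⁅c * d, x⁆ = c * ⁅d, x⁆ * c⁻¹ * ⁅c, x⁆ := by simp [commutatorElement_def, mul_assoc]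
        rw [e, hAc c hc.1 _ (hd.2 x hx).1, mul_inv_cancel_right]
        exact mul_mem (hd.2 x hx) (hc.2 x hx)⟩
      inv_mem' := fun {c} hc => ⟨inv_mem hc.1, fun x hx => by
        have e : ⁅c⁻¹, x⁆ = c⁻¹ * ⁅c, x⁆⁻¹ * c := by simp [commutatorElement_def, mul_assoc]
        rw [e, hAc _ (inv_mem hc.1) _ (inv_mem (hc.2 x hx).1), inv_mul_cancel_right]
        exact inv_mem (hc.2 x hx)⟩ }
  have hL2 : ∀ b, b ∈ L2 ↔ b ∈ A ∧ ∀ x ∈ R, ⁅b, x⁆ ∈ Z1 := fun _ => Iff.rfl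
  have hL2a : Inv a L2 := fun c hc => ⟨hAa c hc.1, fun x hx => by
    obtain ⟨x, rfl⟩ := a.surjective x
    rw [← map_commutatorElement]
    exact hZ1a _ (hc.2 x (hRa.mem_iff.mp hx))⟩
  have hL2fix : ∀ c ∈ L2, c ∈ fixedBy a → c ∈ Z1 := by
    intro c hc hcf
    refine ⟨hc.1, mem_centralizer_iff.mpr fun x hx => ?_⟩
    obtain ⟨d, hd, e, he, rfl⟩ := M.coprimely.exists_disp_mul hRa hx
    have he1 : ⁅c, e⁆ = 1 := commutatorElement_eq_one_iff_mul_comm.mpr
      (mem_centralizer_iff.mp hc.1.2.1 e (hRfix e he.1 he.2)).symm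
    have hd1 : d ∈ R ∧ ⁅c, d⁆ = 1 := by
      clear hx
      induction hd using Subgroup.closure_induction with
      | mem y hy =>
        obtain ⟨w, hw, rfl⟩ := hy
        refine ⟨mul_mem (inv_mem hw) (hRa w hw), ?_⟩
        have h1 : ⁅c, a w⁆ = ⁅c, w⁆ := by
          conv_lhs => rw [← mem_fixedBy.mp hcf, ← map_commutatorElement]
          exact mem_fixedBy.mp (hZfix (hc.2 w hw))
        have h2 : ⁅c, w⁻¹⁆ * ⁅c, w⁆ = 1 := by
          rw [← hmulr c _ _ (inv_mem hw) (hc.2 w hw), inv_mul_cancel, commutatorElement_one_right]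
        rw [hmulr c _ _ (inv_mem hw) (hc.2 _ (hRa w hw)), h1, h2]
      | one => exact ⟨one_mem _, commutatorElement_one_right _⟩
      | mul y z _ _ ihy ihz =>
        refine ⟨mul_mem ihy.1 ihz.1, ?_⟩
        rw [hmulr c y z ihy.1 (hc.2 z ihz.1), ihy.2, ihz.2, one_mul]
      | inv y _ ihy =>
        refine ⟨inv_mem ihy.1, ?_⟩
        have h := hmulr c y⁻¹ y (inv_mem ihy.1) (hc.2 y ihy.1)
        rwa [inv_mul_cancel, commutatorElement_one_right, ihy.2, mul_one, eq_comm] at h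
    have h := hmulr c e d he.1 (hc.2 d hd1.1)
    rw [he1, hd1.2, one_mul] at h
    exact (commutatorElement_eq_one_iff_mul_comm.mp h).symm
  have hdL : disp a L2 ≠ ⊥ := fun h => hbZ (hL2fix b ⟨hbA, hb⟩ (disp_eq_bot_iff.mp h ⟨hbA, hb⟩))
  have hL2A : L2 ≤ A := fun c hc => hc.1
  have hdLfix : disp a L2 ⊓ fixedBy a = ⊥ :=
    M.coprimely.disp_inf_fixed_of_comm hL2a fun x hx y hy => hAc x hx.1 y hy.1
  obtain ⟨s₀, hs₀, x₀, hx₀, hne⟩ : ∃ s ∈ disp a L2, ∃ x ∈ R, ⁅s, x⁆ ≠ 1 := by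
    by_contra hno
    push Not at hno
    refine hdL ((Subgroup.eq_bot_iff_forall _).mpr fun s hs => ?_)
    have hsZ : s ∈ Z1 := ⟨(disp_le hL2a hs).1, mem_centralizer_iff.mpr fun x hx =>
      (commutatorElement_eq_one_iff_mul_comm.mp (hno s hs x hx)).symm⟩
    exact Subgroup.mem_bot.mp (hdLfix ▸ ⟨hs, hZfix hsZ⟩)
  have hz₀ : ⁅s₀, x₀⁆ ∈ Z1 := (disp_le hL2a hs₀).2 x₀ hx₀
  have hz₀U : ⁅s₀, x₀⁆ ∉ centralizer (D.U : Set G) := fun h => hne (Subgroup.mem_bot.mp
    (hnot (Z1 ⊓ centralizer (D.U : Set G)) (hZ1a.inf D.inv_U.centralizer) inf_le_left inf_le_right ▸ ⟨hz₀, h⟩))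
  obtain ⟨χ, hχ, hχne⟩ : ∃ χ, Occ ρ D χ ∧ D.act ⟨_, hZGam hz₀⟩ χ ≠ χ := by
    by_contra hno
    push Not at hno
    exact hz₀U (M.centralizes_of_act hSh ⟨_, hZGam hz₀⟩ hno)
  -- the elements all whose twists fix `χ`
  let St : Subgroup G :=
    { carrier := {z | ∃ hz : z ∈ D.Gam, D.act ⟨z, hz⟩ χ = χ}
      one_mem' := ⟨one_mem _, D.act_one χ⟩
      mul_mem' := fun {x y} hx hy => by
        obtain ⟨hxG, hx⟩ := hx
        obtain ⟨hyG, hy⟩ := hy
        refine ⟨mul_mem hxG hyG, ?_⟩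
        show D.act (⟨x, hxG⟩ * ⟨y, hyG⟩) χ = χ
        rw [← UData.act_act, hy, hx]
      inv_mem' := fun {x} hx => by
        obtain ⟨hxG, hx⟩ := hx
        refine ⟨inv_mem hxG, ?_⟩
        show D.act (⟨x, hxG⟩)⁻¹ χ = χ
        conv_lhs => rw [← hx, UData.act_act, inv_mul_cancel, UData.act_one] }
  let K : Subgroup G :=
    { carrier := {x | x ∈ R ∧ ∀ s ∈ disp a L2, ⁅s, x⁆ ∈ St}
      one_mem' := ⟨one_mem _, fun s _ => by rw [commutatorElement_one_right]; exact one_mem _⟩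
      mul_mem' := fun {x y} hx hy => ⟨mul_mem hx.1 hy.1, fun s hs => by
        rw [hmulr s x y hx.1 ((disp_le hL2a hs).2 y hy.1)]
        exact mul_mem (hx.2 s hs) (hy.2 s hs)⟩
      inv_mem' := fun {x} hx => ⟨inv_mem hx.1, fun s hs => by
        have h := hmulr s x x⁻¹ hx.1 ((disp_le hL2a hs).2 _ (inv_mem hx.1))
        rw [mul_inv_cancel, commutatorElement_one_right] at h
        exact (eq_inv_of_mul_eq_one_right h.symm) ▸ inv_mem (hx.2 s hs)⟩ }
  have hKa : Inv a K := fun x hx => ⟨hRa x hx.1, fun s hs => by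
    obtain ⟨s, rfl⟩ := a.surjective s
    have hs' := (inv_disp hL2a).mem_iff.mp hs
    rw [← map_commutatorElement, mem_fixedBy.mp (hZfix ((disp_le hL2a hs').2 x hx.1))]
    exact hx.2 s hs'⟩
  have hx₀K : x₀ ∉ K := fun h => hχne (h.2 s₀ hs₀).choose_spec
  refine M.false_of_shift hZGam (fun x hx y hy => hAc x hx.1 y hy.1) (fun x hx => hx.1.2.2) hχ.2 x₀
    fun i hi hir => ?_
  have hxi : x₀⁻¹ * (a ^ i) x₀ ∈ R := mul_mem (inv_mem hx₀) (hRa.apply_pow i hx₀)
  have hxiK : x₀⁻¹ * (a ^ i) x₀ ∉ K := fun h => by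
    obtain ⟨c, hc, hcK⟩ := (Coprimely.of_pow M.coprimely i).exists_fixed_coset (N := K)
      (fun x hx => hKa.apply_pow i hx) (g := x₀) h
    have hcR : c ∈ R := by simpa using mul_mem hx₀ hcK.1
    have hcQ := hRfix c hcR (M.coprimely.mem_fixedBy_of_pow hi hir (mem_fixedBy.mp hc))
    have hcK' : c ∈ K := ⟨hcR, fun s hs => by
      rw [commutatorElement_eq_one_iff_mul_comm.mpr
        (mem_centralizer_iff.mp (disp_le hL2a hs).1.2.1 c hcQ).symm]
      exact one_mem _⟩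
    exact hx₀K (by simpa using mul_mem hcK' (inv_mem hcK))
  obtain ⟨s, hs, hsK⟩ : ∃ s ∈ disp a L2, ⁅s, x₀⁻¹ * (a ^ i) x₀⁆ ∉ St := by
    by_contra hno
    push Not at hno
    exact hxiK ⟨hxi, hno⟩
  have hsA := (disp_le hL2a hs).1
  have hsU : s ∈ centralizer (D.U : Set G) := hdA (disp_mono hL2A hs)
  refine ⟨s⁻¹, ⁅s, x₀⁻¹ * (a ^ i) x₀⁆, (disp_le hL2a hs).2 _ hxi, fun h => hsK ⟨_, h⟩,
    fun q hq => hAc q hq.1 _ (inv_mem hsA), fun x hx => mem_centralizer_iff.mp (inv_mem hsU) x hx.1, ?_, ?_⟩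
  · refine M.map_disp_of_centralizes hSh hχ (X := disp a L2)
      ((disp_mono hL2A).trans hdA) ?_
    rw [M.coprimely.disp_disp hL2a]
    exact inv_mem hs
  · rw [commutatorElement_def]; group

end Cfg

end Cfsg.Agent.H24.Flav
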