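import Cfsg.Agent.H24.Flav.CoreMoved
import Cfsg.Agent.H24.Flav.CoreCentral
import Cfsg.Agent.H24.Flav.CommonRad

/-!
Proper invariant subgroups over `U` have no displacements outside `U`.
-/

set_option autoImplicit false
set_option linter.unusedSectionVars false

namespace Cfsg.Agent.H24.Flav

open Subgroup
open Cfsg.Agent.H8.Shult hiding Min
open scoped commutatorElement

universe u v w

variable {G : Type u} [Group G] [Finite G] {p r : ℕ} [hp : Fact p.Prime] {a : MulAut G}
variable {k : Type w} [Field k] [CharP k p] {V : Type v} [AddCommGroup V] [Module k V]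
variable [IsAlgClosed k] [FiniteDimensional k V]
variable {ρ : G →* Module.End k V} {T : Module.End k V}

namespace Cfg

variable (M : Cfg p r a ρ T)
include M

/-- Every proper invariant subgroup over `U` displaces only into `U`. -/
theorem disp_eq_U (D : UData a) {H : Subgroup G} (hHa : Inv a H) (hne : H ≠ ⊤) (hU : D.U ≤ H) :
    disp a H = D.U := by
  by_contra h
  obtain ⟨H', S, Q, B⟩ := M.exists_bad hHa hne hU h
  by_cases hcen : S ⊓ centralizer (S : Set G) ≤ centralizer (D.U : Set G)
  · exact M.bad_not_central B hcen
  · exact M.bad_not_moved (fun _ hS _ _ hχ hψ hne hrad L hLU hLT hLc hmap hmap' =>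
      M.eq_zero_of_common_rad hS hχ hψ hne hrad L hLU hLT hLc hmap hmap') B hcen

end Cfg

end Cfsg.Agent.H24.Flav
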