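import Cfsg.Agent.Cores.PCore
import Cfsg.Agent.H8.Shult.Normal
import Cfsg.Agent.H24.Flav.Forms3

/-!
Invariant normal subgroups of a minimal configuration are central.

In the general configuration.
-/

set_option autoImplicit false
set_option linter.unusedSectionVars false

namespace Cfsg.Agent.H24.Flav

open Subgroup
open Cfsg.Agent.H8.Shult hiding Min
open scoped commutatorElement

universe u v w

variable {G : Type u} [Group G] [Finite G] {p r : ℕ} [hp : Fact p.Prime] {a : MulAut G}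
variable {k : Type w} [Field k] [CharP k p] {V : Type v} [AddCommGroup V] [Module k V]
variable [IsAlgClosed k] [FiniteDimensional k V]
variable {ρ : G →* Module.End k V} {T : Module.End k V}

namespace Cfg

variable (M : Cfg p r a ρ T)
include M

/-- The displacements of a proper normal invariant subgroup form a `2`-group. -/
theorem disp_two_of_normal {K : Subgroup G} (hn : K.Normal) (hKa : Inv a K) (hne : K ≠ ⊤) :
    IsPGroup 2 (disp a K) := by
  obtain ⟨P, hPK, hP, hPa, hKP, htwo⟩ := M.proper K hKa hne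
  have : (P.subgroupOf K).Normal := (normal_subgroupOf_iff_le_normalizer hPK).mpr hKP
  set O := (pCore p K).map K.subtype with hO
  have hPO : P ≤ O := fun x hx =>
    ⟨⟨x, hPK hx⟩, Cores.le_pCore (N := P.subgroupOf K) hP.comap_subtype (show (⟨x, hPK hx⟩ : K) ∈ _ from hx), rfl⟩
  have hOn : O.Normal := ConjAct.normal_of_characteristic_of_normal
  have hOa : Inv a O := by
    rintro _ ⟨y, hy, rfl⟩
    exact ⟨subAut K hKa y, (Subgroup.characteristic_iff_map_eq.mp
      (inferInstance : (pCore p K).Characteristic) (subAut K hKa)).le ⟨y, hy, rfl⟩, rfl⟩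
  have hb := M.eq_bot_of_normal_pGroup hOn (Cores.pCore_isPGroup.map _) hOa
  intro x
  obtain ⟨j, hj⟩ := htwo x x.2
  exact ⟨j, Subtype.ext (Subgroup.mem_bot.mp (hb ▸ hPO hj))⟩

/-- An invariant Sylow `p`-subgroup is moved. -/
theorem disp_sylow_ne_bot {P : Sylow p G} (hP : Inv a (P : Subgroup G)) :
    disp a (P : Subgroup G) ≠ ⊥ := by
  intro hb
  obtain ⟨D⟩ := M.coprimely.exists_uData
  have h2F : Fact (Nat.Prime 2) := ⟨Nat.prime_two⟩
  have h := M.coprimely.disp_top_le (H := (D.S : Subgroup G)) D.inv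
    fun l hl S hSH hSl hSa hmax Q hSQ hQa => by
      have : Fact l.Prime := ⟨hl⟩
      by_cases hl2 : l = 2
      · subst hl2
        have hS : S = (D.S : Subgroup G) := Subgroup.eq_of_le_of_card_ge hSH (hmax _ le_rfl D.S.2)
        have hQS : (Q : Subgroup G) = (D.S : Subgroup G) := by
          refine (Subgroup.eq_of_le_of_card_ge (hS ▸ hSQ) ?_).symm
          rw [Q.card_eq_multiplicity, D.S.card_eq_multiplicity]
        exact (disp_le hQa).trans hQS.le
      by_cases hlp : l = p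
      · subst hlp
        obtain ⟨g, hg⟩ := MulAction.exists_smul_eq G P Q
        obtain ⟨c, hc, he⟩ := M.coprimely.exists_fixed_conj hP hQa (g := g) (congrArg Sylow.toSubgroup hg)
        rw [← he, disp_map_conj hc, hb, Subgroup.map_bot]
        exact bot_le
      · rw [disp_eq_bot_iff.mpr (M.odd_le_fixed hl hl2 hlp Q.2 hQa)]
        exact bot_le
  exact M.notTwo (D.S.2.to_le h)

/-- The `p`-part of the displacements: displaced `p`-subgroups lie in it. -/
theorem disp_le_witness {H P S : Subgroup G} (hS : IsPGroup p S) (hSa : Inv a S) (hSH : S ≤ H)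
    (htwo : ∀ x ∈ disp a H, ∃ j : ℕ, x ^ 2 ^ j ∈ P) : disp a S ≤ P := fun x hx => by
  obtain ⟨n, hn⟩ := hS ⟨x, disp_le hSa hx⟩
  obtain ⟨j, hj⟩ := htwo x (disp_mono hSH hx)
  exact mem_of_two_pow_mem M.odd hj (n := n) (congrArg Subtype.val hn)

/-- No normal `2`-subgroup has a complement of order a power of `p` acting minimally. -/
theorem false_of_two_normal {T₀ P : Subgroup G} (hTn : T₀.Normal) (hTa : Inv a T₀) (hT : IsPGroup 2 T₀)
    (hP : IsPGroup p P) (hPa : Inv a P) (hsup : T₀ ⊔ P = ⊤)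
    (hmin : ∀ A ≤ P, Inv a A → A ≠ P → A = ⊥)
    (hPfix : P ⊓ fixedBy a = ⊥)
    (hcen : ∀ K ≤ T₀, K ≠ T₀ → K.Normal → Inv a K → K ≤ center G) : False := by
  classical
  have h2F : Fact (Nat.Prime 2) := ⟨Nat.prime_two⟩
  obtain ⟨D⟩ := M.coprimely.exists_uData
  have hcop : (Nat.card T₀).Coprime (Nat.card P) := by
    obtain ⟨i, hi⟩ := IsPGroup.iff_card.mp hT
    obtain ⟨j, hj⟩ := IsPGroup.iff_card.mp hP
    rw [hi, hj]; exact ((Nat.coprime_primes Nat.prime_two hp.out).mpr (Ne.symm M.odd)).pow i j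
  have hP0 : P ≠ ⊥ := by
    rintro rfl
    rw [sup_bot_eq] at hsup
    exact M.notTwo (hT.to_le (le_top.trans hsup.ge))
  have hcardK : ∀ K ≤ T₀, K.Normal → ∀ A ≤ P, Nat.card ↥(K ⊔ A) = Nat.card K * Nat.card A := by
    intro K hK hKn A hA
    have h0 : K ⊓ A = ⊥ := Subgroup.eq_bot_of_card_eq _ (Nat.eq_one_of_dvd_coprimes hcop
      (card_dvd_of_le (inf_le_left.trans hK)) (card_dvd_of_le (inf_le_right.trans hA)))
    have h1 : K.subgroupOf (K ⊔ A) ⊓ A.subgroupOf (K ⊔ A) = ⊥ := by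
      rw [subgroupOf, subgroupOf, ← comap_inf, h0]
      exact bot_subgroupOf _
    have h2 : IsComplement' (K.subgroupOf (K ⊔ A)) (A.subgroupOf (K ⊔ A)) := by
      refine isComplement'_of_disjoint_and_mul_eq_univ (disjoint_iff.mpr h1) ?_
      rw [← Subgroup.normal_mul, ← subgroupOf_sup le_sup_left le_sup_right, subgroupOf_self]
      rfl
    rw [← h2.card_mul_card, Nat.card_congr (subgroupOfEquivOfLe le_sup_left).toEquiv,
      Nat.card_congr (subgroupOfEquivOfLe le_sup_right).toEquiv]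
  have hcard : ∀ A ≤ P, Nat.card ↥(T₀ ⊔ A) = Nat.card T₀ * Nat.card A := hcardK T₀ le_rfl hTn
  have hG : Nat.card G = Nat.card T₀ * Nat.card P := by
    rw [← hcard P le_rfl, hsup, Subgroup.card_top]
  have hidx : ∃ j, T₀.index = p ^ j := by
    obtain ⟨j, hj⟩ := IsPGroup.iff_card.mp hP
    refine ⟨j, Nat.eq_of_mul_eq_mul_left (Nat.card_pos (α := T₀)) ?_⟩
    rw [Subgroup.card_mul_index, hG, hj]
  have hUT : D.U ≤ T₀ := card_pow_dvd_of_index_dvd Nat.prime_two (Ne.symm M.odd) hp.out hidx D.isPGroup_U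
  have hPab : ∀ x ∈ P, ∀ y ∈ P, x * y = y * x := by
    have hPn : Nontrivial P := P.nontrivial_iff_ne_bot.mpr hP0
    by_contra hne
    push Not at hne
    obtain ⟨x, hx, y, hy, hxy⟩ := hne
    have hc : (commutator P).map P.subtype = P := by
      by_contra hcP
      refine hxy ?_
      have h := hmin _ (map_subtype_le _) ?_ hcP
      swap
      · rintro _ ⟨z, hz, rfl⟩
        refine ⟨subAut P hPa z, ?_, rfl⟩
        have : (commutator P).map (subAut P hPa).toMonoidHom = commutator P := by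
          rw [_root_.commutator_def, Subgroup.map_commutator, Subgroup.map_top_of_surjective (subAut P hPa).toMonoidHom (subAut P hPa).surjective]
        exact this ▸ ⟨z, hz, rfl⟩
      · have h1 : ⁅(⟨x, hx⟩ : P), ⟨y, hy⟩⁆ ∈ commutator P :=
          _root_.commutator_def P ▸ commutator_mem_commutator (mem_top _) (mem_top _)
        rw [(Subgroup.map_eq_bot_iff_of_injective _ P.subtype_injective).mp h, Subgroup.mem_bot,
          commutatorElement_eq_one_iff_mul_comm] at h1
        exact congrArg Subtype.val h1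
    have hlt : commutator P < ⊤ := by
      have := hP.isNilpotent
      exact Group.IsSolvable.commutator_lt_top_of_nontrivial _
    refine hlt.ne (map_injective P.subtype_injective ?_)
    rw [hc, ← MonoidHom.range_eq_map, P.range_subtype]
  set K := (frattini T₀).map T₀.subtype with hKdef
  have hT0 : T₀ ≠ ⊥ := fun h => M.U_ne_bot D (eq_bot_iff.mpr (h ▸ hUT))
  have hfra : frattini T₀ ≠ ⊤ := fun h => by
    have := T₀.nontrivial_iff_ne_bot.mpr hT0
    exact bot_ne_top (frattini_nongenerating (K := (⊥ : Subgroup T₀)) (by rw [bot_sup_eq, h]))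
  have hKne : K ≠ T₀ := fun h => hfra (map_injective T₀.subtype_injective (by
    rw [← MonoidHom.range_eq_map, T₀.range_subtype]; exact h))
  have hKn : K.Normal := ConjAct.normal_of_characteristic_of_normal
  have hKc : K ≤ center G := hcen K (map_subtype_le _) hKne hKn fun x hx => by
    obtain ⟨y, hy, rfl⟩ := hx
    refine ⟨subAut T₀ hTa y, ?_, rfl⟩
    exact (Subgroup.characteristic_iff_map_eq.mp (inferInstance : (frattini T₀).Characteristic)
      (subAut T₀ hTa)).le ⟨y, hy, rfl⟩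
  have hKsq : ∀ x ∈ T₀, x * x ∈ center G := fun x hx => hKc ⟨⟨x, hx⟩ ^ 2,
    PGroups.pow_mem_frattini hT ⟨x, hx⟩, by simp [pow_two]⟩
  have hKcomm : ∀ x ∈ T₀, ∀ y ∈ T₀, ⁅x, y⁆ ∈ center G := fun x hx y hy =>
    hKc ⟨⁅(⟨x, hx⟩ : T₀), ⟨y, hy⟩⁆, PGroups.commutator_le_frattini hT
      (_root_.commutator_def T₀ ▸ commutator_mem_commutator (mem_top _) (mem_top _)), rfl⟩
  have hsp := M.special2_U D
  have hWc : D.W ≤ center G := fun x hx =>
    (commutator_le.mpr fun u hu v hv => hKcomm u (hUT hu) v (hUT hv)) (hsp.fix_le hx)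
  have hW0 := M.W_ne_bot D
  -- `W` has order two
  have hW2 : Nat.card D.W = 2 := by
    obtain ⟨z, hz, hz1⟩ := D.W.bot_or_exists_ne_one.resolve_left hW0
    have huniq : ∀ x ∈ D.W, x ≠ 1 → x = z := fun x hx hx1 => M.inj (by
      rw [(M.center_sq (hWc hx) (hsp.fix_sq x hx)).resolve_left hx1,
        (M.center_sq (hWc hz) (hsp.fix_sq z hz)).resolve_left hz1])
    refine Nat.card_eq_two_iff.mpr ⟨1, ⟨z, hz⟩, fun h => hz1 (congrArg Subtype.val h).symm, ?_⟩
    refine Set.eq_univ_iff_forall.mpr fun x => ?_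
    by_cases hx : x = 1
    · exact Or.inl hx
    · exact Or.inr (Subtype.ext (huniq x x.2 fun h => hx (Subtype.ext h)))
  obtain ⟨m, hm, hrm, hUcard⟩ :
      ∃ m, 0 < m ∧ r = 2 ^ m + 1 ∧ Nat.card D.U = 2 ^ (2 * m) * Nat.card D.W := by
    have : Fact r.Prime := ⟨M.coprimely.prime⟩
    have := M.nontrivial
    let ρU := ρ.comp D.U.subtype
    have hmov : Coprime.EndBound.moved (subAut D.U D.inv_U) = ⊤ := by
      rw [eq_top_iff]
      intro x _
      have hx : (x : G) ∈ disp a D.U := (D.disp_U M.coprimely).symm ▸ x.2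
      have key : ∀ g, g ∈ disp a D.U → ∃ h : g ∈ D.U,
          (⟨g, h⟩ : D.U) ∈ Coprime.EndBound.moved (subAut D.U D.inv_U) := by
        intro g hg
        induction hg using Subgroup.closure_induction with
        | mem y hy =>
          obtain ⟨z, hz, rfl⟩ := hy
          exact ⟨mul_mem (inv_mem hz) (D.inv_U z hz),
            Coprime.EndBound.mem_moved (subAut D.U D.inv_U) ⟨z, hz⟩⟩
        | one => exact ⟨one_mem _, one_mem _⟩
        | mul y z _ _ ihy ihz =>
          obtain ⟨hy, hy'⟩ := ihy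
          obtain ⟨hz, hz'⟩ := ihz
          exact ⟨mul_mem hy hz, mul_mem hy' hz'⟩
        | inv y _ ihy =>
          obtain ⟨hy, hy'⟩ := ihy
          exact ⟨inv_mem hy, inv_mem hy'⟩
      obtain ⟨_, hx'⟩ := key _ hx
      exact hx'
    have h2p : r ≠ 2 := fun h => M.coprimely.ndvd (h ▸ (dvd_trans (by
      rw [← hW2]) (card_subgroup_dvd_card D.W) : 2 ∣ Nat.card G))
    rcases Coprime.EndBound.moved_le_cen_or_fermat (ρ := ρU) (p := r) D.isPGroup_U h2p
        (by exact_mod_cast M.two_ne_zero) M.r_ne_zero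
        (fun x y => M.center_scalar (hKcomm x (hUT x.2) y (hUT y.2))) (subAut D.U D.inv_U) T
        M.rep.pow_eq_one M.rep.sum (fun x => M.rep.compat x) with h | ⟨-, m, hm, hrm, hidx⟩
    · refine absurd (eq_bot_iff.mpr fun x hx => ?_) hW0
      have hab : ⁅D.U, D.U⁆ ≤ ⊥ := commutator_le.mpr fun u hu v hv => by
        rw [Subgroup.mem_bot, commutatorElement_eq_one_iff_mul_comm]
        have h1 := (h (hmov ▸ mem_top (⟨u, hu⟩ : D.U))) ⟨v, hv⟩
        refine M.inj ?_
        rw [map_mul, map_mul]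
        exact h1.eq
      exact hab (hsp.fix_le hx)
    · refine ⟨m, hm, hrm, ?_⟩
      have hc : Coprime.EndBound.cen ρU = D.W.subgroupOf D.U := by
        ext x
        rw [Coprime.EndBound.mem_cen, mem_subgroupOf]
        refine ⟨fun h => ⟨x.2, hsp.center_le x x.2 fun y hy => M.inj ?_⟩, fun h y => ?_⟩
        · rw [map_mul, map_mul]; exact (h ⟨y, hy⟩).eq
        · show ρ x * ρ y = ρ y * ρ x
          rw [← map_mul, ← map_mul, mem_center_iff.mp (hWc h) y]
      have hidx' : (D.W.subgroupOf D.U).index = 2 ^ (2 * m) := by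
        change (Coprime.EndBound.cen ρU).relIndex (Coprime.EndBound.moved (subAut D.U D.inv_U)) = _ at hidx
        rwa [hmov, relIndex_top_right, hc] at hidx
      rw [← hidx', mul_comm, ← Nat.card_congr (subgroupOfEquivOfLe D.W_le_U).toEquiv, card_mul_index]
  obtain ⟨u0, hu0, hu0W⟩ : ∃ u0 ∈ D.U, u0 ∉ D.W := by
    by_contra hne
    push Not at hne
    have h1 := Nat.le_of_dvd Nat.card_pos (card_dvd_of_le (hne : D.U ≤ D.W))
    rw [hUcard, hW2] at h1
    have : 2 ^ 1 ≤ 2 ^ (2 * m) := Nat.pow_le_pow_right (by norm_num) (by omega)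
    omega
  set Z1 := T₀ ⊓ center G with hZ1
  have hZn : (Z1.subgroupOf T₀).Normal := ⟨fun x hx g => by
    rw [mem_subgroupOf] at hx ⊢
    refine ⟨T₀.mul_mem (T₀.mul_mem g.2 hx.1) (T₀.inv_mem g.2), ?_⟩
    show (g : G) * x * (g : G)⁻¹ ∈ center G
    rw [mem_center_iff.mp hx.2, mul_inv_cancel_right]
    exact hx.2⟩
  let M0 := T₀ ⧸ Z1.subgroupOf T₀
  let _ : CommGroup M0 :=
    { (inferInstance : Group M0) with
      mul_comm := fun x y => by
        obtain ⟨x, rfl⟩ := QuotientGroup.mk_surjective x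
        obtain ⟨y, rfl⟩ := QuotientGroup.mk_surjective y
        rw [← QuotientGroup.mk_mul, ← QuotientGroup.mk_mul, QuotientGroup.eq, mem_subgroupOf]
        have e : (((x * y)⁻¹ * (y * x) : T₀) : G) = ⁅(y : G)⁻¹, (x : G)⁻¹⁆ := by
          simp [commutatorElement_def, mul_assoc]
        exact ⟨((x * y)⁻¹ * (y * x)).2, e ▸ hKcomm _ (inv_mem y.2) _ (inv_mem x.2)⟩ }
  let _ : CommGroup P :=
    { (inferInstance : Group P) with mul_comm := fun x y => Subtype.ext (hPab x x.2 y y.2) }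
  have hPT : P ≤ normalizer (T₀ : Set G) := le_top.trans (normalizer_eq_top_iff.mpr hTn).ge
  let ψ : P →* MulAut T₀ := (Subgroup.normalizerMonoidHom T₀).comp (Subgroup.inclusion hPT)
  have hψ : ∀ s : P, (Z1.subgroupOf T₀).map (ψ s).toMonoidHom = Z1.subgroupOf T₀ := by
    intro s
    refine Subgroup.eq_of_le_of_card_ge ?_ (Subgroup.card_map_of_injective (ψ s).injective).ge
    rintro _ ⟨x, hx, rfl⟩
    simp only [SetLike.mem_coe, mem_subgroupOf] at hx ⊢
    show (s : G) * x * (s : G)⁻¹ ∈ Z1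
    rw [mem_center_iff.mp hx.2, mul_inv_cancel_right]
    exact hx
  let φ : P →* MulAut M0 :=
    { toFun := fun s => QuotientGroup.congr _ _ (ψ s) (hψ s)
      map_one' := MulEquiv.ext fun x => by
        obtain ⟨x, rfl⟩ := QuotientGroup.mk_surjective x
        show ((ψ 1 x : T₀) : M0) = _
        rw [map_one]
        rfl
      map_mul' := fun s t => MulEquiv.ext fun x => by
        obtain ⟨x, rfl⟩ := QuotientGroup.mk_surjective x
        show ((ψ (s * t) x : T₀) : M0) = ((ψ s (ψ t x) : T₀) : M0)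
        rw [map_mul]
        rfl }
  let aT := subAut T₀ hTa
  have haZ : (Z1.subgroupOf T₀).map aT.toMonoidHom = Z1.subgroupOf T₀ := by
    refine Subgroup.eq_of_le_of_card_ge ?_ (Subgroup.card_map_of_injective aT.injective).ge
    rintro _ ⟨x, hx, rfl⟩
    simp only [SetLike.mem_coe, mem_subgroupOf] at hx ⊢
    show a (x : G) ∈ Z1
    rw [mem_fixedBy.mp (M.center_le_fixed hx.2)]
    exact hx
  let α : MulAut M0 := QuotientGroup.congr _ _ aT haZ
  have hαpow : ∀ (i : ℕ) (x : T₀), (α ^ i) (x : M0) = (((aT ^ i) x : T₀) : M0) := by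
    intro i x
    induction i with
    | zero => rfl
    | succ i ih => rw [pow_succ', MulAut.mul_apply, ih, pow_succ', MulAut.mul_apply]; rfl
  have hαr : α ^ r = 1 := MulEquiv.ext fun x => by
    obtain ⟨x, rfl⟩ := QuotientGroup.mk_surjective x
    rw [hαpow, (M.coprimely.sub T₀ hTa).pow]
    rfl
  have hcompat : ∀ s x, α (φ s x) = φ (subAut P hPa s) (α x) := fun s x => by
    obtain ⟨x, rfl⟩ := QuotientGroup.mk_surjective x
    refine congrArg QuotientGroup.mk (Subtype.ext ?_)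
    show a ((s : G) * x * (s : G)⁻¹) = a s * a x * (a s)⁻¹
    rw [map_mul, map_mul, map_inv]
  have hPfix : fixedBy (subAut P hPa) = ⊥ := by
    rw [eq_bot_iff]
    intro s hs
    have : (s : G) ∈ P ⊓ fixedBy a := ⟨s.2, congrArg Subtype.val hs⟩
    rw [hPfix, Subgroup.mem_bot] at this
    exact Subgroup.mem_bot.mpr (Subtype.ext this)
  have hPodd : Odd (Nat.card P) := by
    obtain ⟨j, hj⟩ := IsPGroup.iff_card.mp hP
    exact hj ▸ (hp.out.odd_of_ne_two M.odd).pow
  have hdispT : disp a T₀ ≤ D.U := by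
    obtain ⟨Q, hTQ, hQa⟩ := M.coprimely.exists_inv_sylow_ge 2 hT hTa
    exact (disp_mono hTQ).trans (D.disp_sylow_eq M.coprimely Q hQa (hUT.trans hTQ)).le
  have hgen : ∀ B : Subgroup M0, ((⟨u0, hUT hu0⟩ : T₀) : M0) ∈ B → (∀ f, α f = f → f ∈ B) →
      (∀ x ∈ B, α x ∈ B) → B = ⊤ := by
    intro B hu hfix hinv
    set B' := (B.comap (QuotientGroup.mk' (Z1.subgroupOf T₀))).map T₀.subtype with hB'
    have hcenB : ∀ x ∈ Z1, x ∈ B' := fun x hx => ⟨⟨x, hx.1⟩, by
      show ((⟨x, hx.1⟩ : T₀) : M0) ∈ B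
      rw [(QuotientGroup.eq_one_iff _).mpr (mem_subgroupOf.mpr hx)]
      exact one_mem _, rfl⟩
    have hfixB : ∀ x ∈ T₀, x ∈ fixedBy a → x ∈ B' := fun x hx hxa => ⟨⟨x, hx⟩, hfix _ (by
      show (((aT ⟨x, hx⟩ : T₀)) : M0) = _
      exact congrArg QuotientGroup.mk (Subtype.ext (mem_fixedBy.mp hxa))), rfl⟩
    have hB'a : Inv a B' := by
      rintro _ ⟨x, hx, rfl⟩
      exact ⟨aT x, hinv _ hx, rfl⟩
    have hBU : D.U ≤ B' := by
      have hI : Inv a (B' ⊓ D.U) := hB'a.inf D.inv_U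
      obtain ⟨j, hj⟩ := M.coprimely.exists_index_eq hm hrm hI (D.isPGroup_U.to_le inf_le_right)
      have hfe : B' ⊓ D.U ⊓ fixedBy a = D.W := le_antisymm (fun x hx => ⟨hx.1.2, hx.2⟩)
        fun x hx => ⟨⟨hcenB x ⟨hUT hx.1, hWc hx⟩, hx.1⟩, hx.2⟩
      rw [hfe] at hj
      rcases Nat.eq_zero_or_pos j with rfl | hj0
      · have h1 : D.W ≤ B' ⊓ D.U := fun x hx => ⟨hcenB x ⟨hUT hx.1, hWc hx⟩, hx.1⟩
        have h2 := Subgroup.eq_of_le_of_card_ge h1 (by rw [hj]; simp)
        exact absurd (h2.symm ▸ (⟨⟨⟨u0, hUT hu0⟩, hu, rfl⟩, hu0⟩ : u0 ∈ B' ⊓ D.U) : u0 ∈ D.W) hu0W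
      · refine le_trans (le_of_eq (Subgroup.eq_of_le_of_card_ge inf_le_right ?_).symm) inf_le_left
        rw [hj, hUcard]
        exact Nat.mul_le_mul_right _ (Nat.pow_le_pow_right (by norm_num) (Nat.le_mul_of_pos_right _ hj0))
    rw [eq_top_iff]
    intro x _
    obtain ⟨x, rfl⟩ := QuotientGroup.mk_surjective x
    obtain ⟨d, hd, c, hc, he⟩ := M.coprimely.exists_disp_mul hTa x.2
    have hx : (x : G) ∈ B' := he ▸ mul_mem (hfixB c hc.1 hc.2) (hBU (hdispT hd))
    obtain ⟨y, hy, hyx⟩ := hx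
    have : y = x := Subtype.ext hyx
    exact this ▸ hy
  have hdvd : r ∣ 2 ^ (2 * m) - 1 := ⟨2 ^ m - 1, by
    obtain ⟨c, hc⟩ : ∃ c, 2 ^ m = c + 1 := ⟨2 ^ m - 1, (Nat.succ_pred_eq_of_pos (by positivity)).symm⟩
    rw [hrm, two_mul, pow_add, hc, Nat.add_sub_cancel]
    ring_nf; omega⟩
  have hC : ∀ x : M0, (∀ s, φ s x = x) → x = 1 := by
    intro x hx
    -- the preimage of the points fixed by `P` is normal and invariant
    let B : Subgroup M0 :=
      { carrier := {x | ∀ s, φ s x = x}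
        one_mem' := fun s => map_one _
        mul_mem' := fun {x y} hx hy s => by rw [map_mul, hx s, hy s]
        inv_mem' := fun {x} hx s => by rw [map_inv, hx s] }
    set B' := (B.comap (QuotientGroup.mk' (Z1.subgroupOf T₀))).map T₀.subtype with hB'
    by_contra hx1
    have hB'a : Inv a B' := by
      rintro _ ⟨y, hy, rfl⟩
      refine ⟨aT y, fun s => ?_, rfl⟩
      obtain ⟨t, rfl⟩ := (subAut P hPa).surjective s
      show φ (subAut P hPa t) (α (y : M0)) = α (y : M0)
      rw [← hcompat]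
      exact congrArg α (hy t)
    have hB'n : B'.Normal := by
      refine normalizer_eq_top_iff.mp (top_le_iff.mp ?_)
      rw [← hsup]
      refine sup_le (le_normalizer_iff.mpr fun g hg y hy => ?_) (le_normalizer_iff.mpr fun g hg y hy => ?_)
      · obtain ⟨y, hy, rfl⟩ := hy
        refine ⟨⟨g, hg⟩ * y * ⟨g, hg⟩⁻¹, ?_, rfl⟩
        show ((⟨g, hg⟩ * y * ⟨g, hg⟩⁻¹ : T₀) : M0) ∈ B
        rw [QuotientGroup.mk_mul, QuotientGroup.mk_mul, QuotientGroup.mk_inv, mul_comm, inv_mul_cancel_left]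
        exact hy
      · obtain ⟨y, hy, rfl⟩ := hy
        refine ⟨ψ ⟨g, hg⟩ y, fun s => ?_, rfl⟩
        show φ s (φ ⟨g, hg⟩ (y : M0)) = φ ⟨g, hg⟩ (y : M0)
        rw [← MulAut.mul_apply, ← map_mul, mul_comm, map_mul, MulAut.mul_apply]
        exact congrArg (φ ⟨g, hg⟩) (hy s)
    by_cases hBT : B' = T₀
    · -- `P` centralises `T₀`
      have hc : P ≤ centralizer (T₀ : Set G) := by
        refine Coprime.le_centralizer_of_commutator_le hPT hcop.symm (N := Z1) ?_ fun s hs =>
          mem_centralizer_iff.mpr fun y hy => (mem_center_iff.mp hy.2 s).symm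
        refine commutator_le.mpr fun t ht s hs => ?_
        obtain ⟨y, hy, hyt⟩ : t ∈ B' := hBT.symm ▸ ht
        obtain rfl : (y : G) = t := hyt
        have h1 : ((ψ ⟨s, hs⟩ y : T₀) : M0) = (y : M0) := hy ⟨s, hs⟩
        have h2 : (s * y * s⁻¹ : G)⁻¹ * y ∈ Z1 := mem_subgroupOf.mp (QuotientGroup.eq.mp h1)
        have e : ⁅(y : G), s⁆ = y * ((s * y * s⁻¹ : G)⁻¹ * y) * (y : G)⁻¹ := by
          simp [commutatorElement_def, mul_assoc]
        rw [e, mem_center_iff.mp h2.2, mul_inv_cancel_right]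
        exact h2
      have hPn : P.Normal := by
        refine normalizer_eq_top_iff.mp (top_le_iff.mp ?_)
        rw [← hsup]
        refine sup_le (le_normalizer_iff.mpr fun g hg y hy => ?_) le_normalizer
        rwa [mem_centralizer_iff.mp (hc hy) g hg, mul_inv_cancel_right]
      exact hP0 (M.eq_bot_of_normal_pGroup hPn hP hPa)
    · obtain ⟨y, rfl⟩ := QuotientGroup.mk_surjective x
      refine hx1 ((QuotientGroup.eq_one_iff y).mpr (mem_subgroupOf.mpr ⟨y.2, ?_⟩))
      exact hcen B' (map_subtype_le _) hBT hB'n hB'a ⟨y, hx, rfl⟩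
  have hsq : ∀ x : M0, x * x = 1 := fun x => by
    obtain ⟨x, rfl⟩ := QuotientGroup.mk_surjective x
    rw [← QuotientGroup.mk_mul, QuotientGroup.eq_one_iff, mem_subgroupOf]
    exact ⟨(x * x).2, hKsq x x.2⟩
  -- fixed classes lift to central elements
  have hlift : ∀ f : M0, α f = f → ∃ c : T₀, (c : G) ∈ fixedBy a ∧ (c : M0) = f := by
    intro f hf
    obtain ⟨x, rfl⟩ := QuotientGroup.mk_surjective f
    have h1 : (x : G)⁻¹ * a x ∈ Z1 := mem_subgroupOf.mp
      (QuotientGroup.eq.mp (hf.symm : (x : M0) = ((aT x : T₀) : M0)))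
    obtain ⟨c, hc, hcx⟩ := M.coprimely.exists_fixed_coset (hTa.inf fun y hy => by
      rw [mem_fixedBy.mp (M.center_le_fixed hy)]; exact hy) h1
    have hcT : c ∈ T₀ := by simpa using mul_mem x.2 hcx.1
    refine ⟨⟨c, hcT⟩, hc, QuotientGroup.eq.mpr (mem_subgroupOf.mpr ?_)⟩
    show c⁻¹ * (x : G) ∈ Z1
    have h2 := inv_mem hcx
    rwa [mul_inv_rev, inv_inv] at h2
  have hcU : ∀ c ∈ T₀, c ∈ fixedBy a → ∀ u ∈ D.U, c * u = u * c := by
    intro c hc hca u hu
    rw [← commutatorElement_eq_one_iff_mul_comm]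
    refine eq_one_of_equivariant D.inv_U (D.disp_U M.coprimely) (fun u => ⁅c, u⁆) (fun x hx y hy => ?_)
      (fun x hx => ?_) hu
    · have hz := mem_center_iff.mp (hKcomm c hc y (hUT hy)) x
      show ⁅c, x * y⁆ = ⁅c, x⁆ * ⁅c, y⁆
      calc ⁅c, x * y⁆ = ⁅c, x⁆ * (x * ⁅c, y⁆ * x⁻¹) := by simp [commutatorElement_def, mul_assoc]
        _ = _ := by rw [hz, mul_inv_cancel_right]
    · show ⁅c, a x⁆ = ⁅c, x⁆
      conv_lhs => rw [← mem_fixedBy.mp hca, ← map_commutatorElement]
      exact mem_fixedBy.mp (M.center_le_fixed (hKcomm c hc x (hUT hx)))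
  have hfixM : ∀ f : M0, α f = f → f = 1 := by
    intro f hf
    obtain ⟨c, hc, rfl⟩ := hlift f hf
    by_contra hc1
    have hcc : ∀ y ∈ T₀, y ∈ fixedBy a → (c : G) * y = y * c := by
      intro y hy hya
      by_cases hy1 : ((⟨y, hy⟩ : T₀) : M0) = 1
      · exact mem_center_iff.mp ((QuotientGroup.eq_one_iff (⟨y, hy⟩ : T₀)).mp hy1).2 c
      have h := fixed_card_le_two hm.ne' hdvd φ (M.coprimely.sub P hPa) hαr hcompat hPfix hsq hPodd hC
        _ hgen hf (congrArg QuotientGroup.mk (Subtype.ext (mem_fixedBy.mp hya) : aT ⟨y, hy⟩ = ⟨y, hy⟩))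
        hc1 hy1
      have h2 : (c : G)⁻¹ * y ∈ Z1 := mem_subgroupOf.mp (QuotientGroup.eq.mp h)
      have h3 := mem_center_iff.mp h2.2 c
      calc (c : G) * y = c * (c * ((c : G)⁻¹ * y)) := by group
        _ = c * (((c : G)⁻¹ * y) * c) := by rw [h3]
        _ = y * c := by group
    have hcent : ∀ y ∈ T₀, (c : G) * y = y * c := by
      intro y hy
      obtain ⟨d, hd, e, he, rfl⟩ := M.coprimely.exists_disp_mul hTa hy
      rw [← mul_assoc, hcc e he.1 he.2, mul_assoc, hcU c c.2 hc d (hdispT hd), ← mul_assoc]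
    set ZT := T₀ ⊓ centralizer (T₀ : Set G) with hZT
    have hZTne : ZT ≠ T₀ := fun h => hW0 (eq_bot_iff.mpr fun x hx => by
      refine (commutator_le.mpr fun u hu v hv => ?_) (hsp.fix_le hx)
      rw [Subgroup.mem_bot, commutatorElement_eq_one_iff_mul_comm]
      exact (mem_centralizer_iff.mp (h.symm ▸ hUT hu : u ∈ ZT).2 v (hUT hv)).symm)
    have hmem : (c : G) ∈ ZT := ⟨c.2, mem_centralizer_iff.mpr fun y hy => (hcent y hy).symm⟩
    have hZn' : ZT.Normal := Subgroup.normal_inf_normal _ _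
    exact hc1 ((QuotientGroup.eq_one_iff c).mpr (mem_subgroupOf.mpr
      ⟨c.2, hcen ZT inf_le_left hZTne hZn' (hTa.inf hTa.centralizer) hmem⟩))
  -- so `P` acts trivially
  obtain ⟨f, hf⟩ : ∃ f : M0, f ≠ 1 := ⟨((⟨u0, hUT hu0⟩ : T₀) : M0), fun h => hu0W
    ⟨hu0, M.center_le_fixed (mem_subgroupOf.mp ((QuotientGroup.eq_one_iff _).mp h)).2⟩⟩
  refine hf (hC f fun s => act_trivial_of_fpf φ (M.coprimely.sub P hPa) hαr hcompat hPfix hfixM ?_ s f)
  obtain ⟨i, hi⟩ := IsPGroup.iff_card.mp (hT.to_quotient (Z1.subgroupOf T₀))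
  obtain ⟨j, hj⟩ := IsPGroup.iff_card.mp hP
  rw [hi, hj]
  exact ((Nat.coprime_primes Nat.prime_two hp.out).mpr (Ne.symm M.odd)).pow _ _

/-- A normal invariant `2`-subgroup is central. -/
theorem two_normal_le_center {K : Subgroup G} (hn : K.Normal) (hKa : Inv a K) (hK : IsPGroup 2 K) :
    K ≤ center G := by
  classical
  by_contra hnc
  let 𝔎 : Set (Subgroup G) := {K | K.Normal ∧ Inv a K ∧ IsPGroup 2 K ∧ ¬ K ≤ center G}
  obtain ⟨K, ⟨hn, hKa, hK, hnc⟩, hKmin⟩ := (Set.toFinite 𝔎).exists_minimal ⟨K, hn, hKa, hK, hnc⟩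
  have hcen : ∀ L ≤ K, L ≠ K → L.Normal → Inv a L → L ≤ center G := fun L hL hne hLn hLa => by
    by_contra hLc
    exact hne (le_antisymm hL (hKmin ⟨hLn, hLa, hK.to_le hL, hLc⟩ hL))
  have hKtop : K ≠ ⊤ := fun h => M.notTwo (hK.to_le (le_top.trans h.ge))
  obtain ⟨P, hPa⟩ := M.coprimely.exists_inv_sylow p
  set S₀ := disp a (P : Subgroup G) with hS₀
  have hS0p : IsPGroup p S₀ := P.2.to_le (disp_le hPa)
  have hS0a : Inv a S₀ := inv_disp hPa
  have hS00 : S₀ ≠ ⊥ := M.disp_sylow_ne_bot hPa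
  have hdS0 : disp a S₀ = S₀ := M.coprimely.disp_disp hPa
  -- moved invariant parts of `S₀` generate `G` with `K`
  have hgen : ∀ S ≤ S₀, Inv a S → disp a S ≠ ⊥ → K ⊔ S = ⊤ := by
    intro S hS hSa hS1
    by_contra hne
    obtain ⟨P', hP'H, hP', -, hn', htwo⟩ := M.proper _ (hKa.sup hSa) hne
    have hdP : disp a S ≤ P' := M.disp_le_witness (hS0p.to_le hS) hSa le_sup_right htwo
    have hbot : K ⊓ P' = ⊥ := by
      rw [inf_comm]
      exact two_pgroup_inf_eq_bot M.odd hP' hK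
    have hcent : disp a S ≤ centralizer (K : Set G) := fun s hs => mem_centralizer_iff.mpr fun x hx => by
      rw [← commutatorElement_eq_one_iff_mul_comm, ← Subgroup.mem_bot, ← hbot]
      refine ⟨?_, ?_⟩
      · rw [commutatorElement_def, mul_assoc, mul_assoc]
        refine K.mul_mem hx ?_
        rw [← mul_assoc]
        exact hn.conj_mem _ (K.inv_mem hx) s
      · rw [commutatorElement_def]
        exact P'.mul_mem ((mem_normalizer_iff.mp (hn' (mem_sup_left hx)) s).mp (hdP hs)) (P'.inv_mem (hdP hs))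
    by_cases htop : centralizer (K : Set G) = ⊤
    · exact hnc fun x hx => mem_center_iff.mpr fun g =>
        (mem_centralizer_iff.mp (htop ▸ mem_top g : g ∈ centralizer (K : Set G)) x hx).symm
    · have : (centralizer (K : Set G)).Normal := inferInstance
      refine hS1 (le_bot_iff.mp ?_)
      rw [← two_pgroup_inf_eq_bot M.odd ((hS0p.to_le hS).to_le (disp_le hSa))
        (M.disp_two_of_normal this hKa.centralizer htop)]
      exact le_inf le_rfl ((M.coprimely.disp_disp hSa).ge.trans (disp_mono hcent))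
  have htop : K ⊔ S₀ = ⊤ := hgen S₀ le_rfl hS0a (hdS0.symm ▸ hS00)
  have hcop : (Nat.card K).Coprime (Nat.card S₀) := by
    have : Fact (Nat.Prime 2) := ⟨Nat.prime_two⟩
    obtain ⟨i, hi⟩ := IsPGroup.iff_card.mp hK
    obtain ⟨j, hj⟩ := IsPGroup.iff_card.mp hS0p
    rw [hi, hj]; exact ((Nat.coprime_primes Nat.prime_two hp.out).mpr (Ne.symm M.odd)).pow i j
  have hfix : ∀ A ≤ S₀, Inv a A → A ≠ S₀ → A ≤ fixedBy a := by
    intro A hA hAa hne
    by_contra hnf
    refine hne (le_antisymm hA fun s hs => ?_)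
    have h : s ∈ ((K ⊔ A : Subgroup G) : Set G) := by
      rw [hgen A hA hAa fun h => hnf (disp_eq_bot_iff.mp h)]
      exact mem_top s
    rw [Subgroup.normal_mul] at h
    obtain ⟨x, hx, y, hy, rfl⟩ := h
    have hxS : x ∈ S₀ := by simpa using mul_mem hs (inv_mem (hA hy))
    have : x ∈ K ⊓ S₀ := ⟨hx, hxS⟩
    rw [Subgroup.eq_bot_of_card_eq (K ⊓ S₀) (Nat.eq_one_of_dvd_coprimes hcop (card_dvd_of_le inf_le_left)
      (card_dvd_of_le inf_le_right)), Subgroup.mem_bot] at this
    subst this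
    simpa using hy
  set C₀ := S₀ ⊓ fixedBy a with hC₀
  have hC0a : Inv a C₀ := hS0a.inf inv_fixedBy
  have hC0S : S₀ ≤ normalizer (C₀ : Set G) := by
    by_contra hne
    have hA : S₀ ⊓ normalizer (C₀ : Set G) ≤ fixedBy a :=
      hfix _ inf_le_left (hS0a.inf hC0a.normalizer) fun h => hne (inf_eq_left.mp h)
    have hlt : C₀.subgroupOf S₀ < ⊤ := lt_top_iff_ne_top.mpr fun h => hne fun s hs =>
      le_normalizer (show s ∈ C₀ from subgroupOf_eq_top.mp h hs)
    have : Group.IsNilpotent S₀ := hS0p.isNilpotent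
    obtain ⟨x, hx, hxC⟩ := SetLike.exists_of_lt (Group.normalizerCondition_of_isNilpotent _ hlt)
    refine hxC ⟨x.2, hA ⟨x.2, mem_normalizer_iff.mpr fun y => ⟨fun hy => ?_, fun hy => ?_⟩⟩⟩
    · exact (mem_normalizer_iff.mp hx ⟨y, hy.1⟩).mp hy
    · have hy' : y ∈ S₀ := by
        have := mul_mem (mul_mem (inv_mem x.2) (show (x : G) * y * (x : G)⁻¹ ∈ S₀ from hy.1)) x.2
        simpa [mul_assoc] using this
      exact (mem_normalizer_iff.mp hx ⟨y, hy'⟩).mpr hy
  -- `C₀` centralises `K`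
  obtain ⟨D⟩ := M.coprimely.exists_uData
  have h2F : Fact (Nat.Prime 2) := ⟨Nat.prime_two⟩
  have hUK : D.U ≤ K := by
    have hidx : ∃ j, K.index = p ^ j := by
      obtain ⟨j, hj⟩ := IsPGroup.iff_card.mp hS0p
      have h1 : K.index ∣ Nat.card S₀ := by
        rw [← relIndex_top_right, ← htop, sup_comm, relIndex_sup_right]
        exact (K.subgroupOf S₀).index_dvd_card
      obtain ⟨i, -, hi⟩ := (Nat.dvd_prime_pow hp.out).mp (hj ▸ h1)
      exact ⟨i, hi⟩
    exact card_pow_dvd_of_index_dvd Nat.prime_two (Ne.symm M.odd) hp.out hidx D.isPGroup_U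
  have hdK : disp a K = D.U := by
    obtain ⟨Q, hKQ, hQa⟩ := M.coprimely.exists_inv_sylow_ge 2 hK hKa
    exact le_antisymm ((disp_mono hKQ).trans (D.disp_sylow_eq M.coprimely Q hQa (hUK.trans hKQ)).le)
      ((D.disp_U M.coprimely).ge.trans (disp_mono hUK))
  have hsp := M.special2_U D
  set Φ := (frattini K).map K.subtype with hΦ
  have hKc : Φ ≤ center G := by
    refine hcen Φ (map_subtype_le _) ?_ ConjAct.normal_of_characteristic_of_normal ?_
    · intro h
      have hfra : frattini K = ⊤ := map_injective K.subtype_injective (by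
        rw [← MonoidHom.range_eq_map, K.range_subtype]; exact h)
      exact hnc (by
        have hK1 : (⊥ : Subgroup K) = ⊤ := frattini_nongenerating (K := ⊥) (by rw [bot_sup_eq, hfra])
        intro x hx
        have : (⟨x, hx⟩ : K) ∈ (⊥ : Subgroup K) := hK1 ▸ mem_top _
        rw [show x = 1 from congrArg Subtype.val (Subgroup.mem_bot.mp this)]
        exact one_mem _)
    · rintro _ ⟨y, hy, rfl⟩
      exact ⟨subAut K hKa y, (Subgroup.characteristic_iff_map_eq.mp
        (inferInstance : (frattini K).Characteristic) (subAut K hKa)).le ⟨y, hy, rfl⟩, rfl⟩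
  have hKcomm : ∀ x ∈ K, ∀ y ∈ K, ⁅x, y⁆ ∈ center G := fun x hx y hy =>
    hKc ⟨⁅(⟨x, hx⟩ : K), ⟨y, hy⟩⁆, PGroups.commutator_le_frattini hK
      (_root_.commutator_def K ▸ commutator_mem_commutator (mem_top _) (mem_top _)), rfl⟩
  have hWc : D.W ≤ center G := fun x hx =>
    (commutator_le.mpr fun u hu v hv => hKcomm u (hUK hu) v (hUK hv)) (hsp.fix_le hx)
  obtain ⟨m, hS⟩ := M.exists_shape (D := D)
  set B := K ⊓ centralizer (C₀ : Set G) with hB
  have hUB : D.U ≤ B := fun u hu => ⟨hUK hu, mem_centralizer_iff.mpr fun c hc => by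
    have hcN : c ∈ D.N := by
      have hcK : K.map (MulAut.conj c).toMonoidHom = K := by
        refine Subgroup.eq_of_le_of_card_ge ?_ (Coprime.card_map_conj c _).ge
        rintro _ ⟨y, hy, rfl⟩
        exact hn.conj_mem y hy c
      have hUeq : D.U.map (MulAut.conj c).toMonoidHom = D.U := by
        rw [← hdK, ← disp_map_conj hc.2, hcK]
      refine mem_normalizer_iff.mpr fun y => ⟨fun hy => hUeq.le ⟨y, hy, rfl⟩, fun hy => ?_⟩
      obtain ⟨y', hy', he⟩ := hUeq.ge hy
      have : y' = y := mul_left_cancel (mul_right_cancel (he : c * y' * c⁻¹ = c * y * c⁻¹))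
      exact this ▸ hy'
    have hc' := M.centralizes_of_act hS ⟨c, hcN, hc.2⟩ fun χ _ => MonoidHom.ext fun x => ?_
    · exact (mem_centralizer_iff.mp hc' u hu).symm
    rw [UData.act_apply]
    refine congrArg χ (Subtype.ext ?_)
    rw [UData.conjW_apply, mem_center_iff.mp (hWc x.2), mul_inv_cancel_right]⟩
  have hBn : B.Normal := by
    refine normalizer_eq_top_iff.mp (top_le_iff.mp ?_)
    rw [← htop]
    refine sup_le (le_normalizer_iff.mpr fun g hg y hy => ⟨hn.conj_mem y hy.1 g, ?_⟩)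
      (le_normalizer_iff.mpr fun g hg y hy => ⟨hn.conj_mem y hy.1 g, ?_⟩)
    · refine mem_centralizer_iff.mpr fun c hc => ?_
      rw [show g * y * g⁻¹ = ⁅g, y⁆ * y by rw [commutatorElement_def]; group, ← mul_assoc,
        mem_center_iff.mp (hKcomm g hg y hy.1) c, mul_assoc, mem_centralizer_iff.mp hy.2 c hc, mul_assoc]
    · refine mem_centralizer_iff.mpr fun c hc => ?_
      have hc' : g⁻¹ * c * g ∈ C₀ := by simpa using (mem_normalizer_iff.mp (inv_mem (hC0S hg)) c).mp hc
      calc c * (g * y * g⁻¹) = g * ((g⁻¹ * c * g) * y) * g⁻¹ := by group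
        _ = g * (y * (g⁻¹ * c * g)) * g⁻¹ := by rw [mem_centralizer_iff.mp hy.2 _ hc']
        _ = _ := by group
  have hBK : B = K := by
    by_contra hne
    have hBc := hcen B inf_le_left hne hBn (hKa.inf hC0a.centralizer)
    refine M.W_ne_bot D (eq_bot_iff.mpr fun x hx => ?_)
    refine (commutator_le.mpr fun u hu v hv => ?_) (hsp.fix_le hx)
    rw [Subgroup.mem_bot, commutatorElement_eq_one_iff_mul_comm]
    exact (mem_center_iff.mp (hBc (hUB hu)) v).symm
  have hC0n : C₀.Normal := by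
    refine normalizer_eq_top_iff.mp (top_le_iff.mp ?_)
    rw [← htop]
    refine sup_le (le_normalizer_iff.mpr fun g hg y hy => ?_) hC0S
    rw [← mem_centralizer_iff.mp (hBK.ge hg).2 y hy, mul_inv_cancel_right]
    exact hy
  have hC0 : C₀ = ⊥ := M.eq_bot_of_normal_pGroup hC0n (hS0p.to_le inf_le_left) hC0a
  refine M.false_of_two_normal hn hKa hK hS0p hS0a htop (fun A hA hAa hne => ?_) hC0 hcen
  rw [eq_bot_iff, ← hC0]
  exact le_inf hA (hfix A hA hAa hne)

/-- A proper invariant normal subgroup is central. -/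
theorem normal_le_center {K : Subgroup G} (hn : K.Normal) (hKa : Inv a K) (hne : K ≠ ⊤) : K ≤ center G := by
  have : ((disp a K).subgroupOf K).Normal :=
    (normal_subgroupOf_iff_le_normalizer (disp_le hKa)).mpr le_normalizer_disp
  set L := (pCore 2 K).map K.subtype with hL
  have hdL : disp a K ≤ L := fun x hx =>
    ⟨⟨x, disp_le hKa hx⟩, Cores.le_pCore (N := (disp a K).subgroupOf K)
      (M.disp_two_of_normal hn hKa hne).comap_subtype (show (⟨x, disp_le hKa hx⟩ : K) ∈ _ from hx), rfl⟩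
  have hLn : L.Normal := ConjAct.normal_of_characteristic_of_normal
  have hLa : Inv a L := by
    rintro _ ⟨y, hy, rfl⟩
    exact ⟨subAut K hKa y, (Subgroup.characteristic_iff_map_eq.mp
      (inferInstance : (pCore 2 K).Characteristic) (subAut K hKa)).le ⟨y, hy, rfl⟩, rfl⟩
  have : Fact (Nat.Prime 2) := ⟨Nat.prime_two⟩
  have hfix := (hdL.trans (M.two_normal_le_center hLn hLa (Cores.pCore_isPGroup.map _))).trans M.center_le_fixed
  have hKfix : K ≤ fixedBy a := by
    rw [← disp_eq_bot_iff, ← M.coprimely.disp_disp hKa]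
    exact disp_eq_bot_iff.mpr hfix
  intro x hx
  refine mem_center_iff.mpr fun g => ?_
  exact commute_disp_of_le_fixed hKfix (normalizer_eq_top_iff.mpr hn).ge
    (M.disp_top.symm ▸ mem_top g) hx

end Cfg

end Cfsg.Agent.H24.Flav
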