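import Cfsg.Agent.H8.Shult.Setup2
import Cfsg.Agent.H24.Flav.Core
import Cfsg.Agent.H24.Flav.Normal

/-!
The normalizer of `U = [T,a]` in the general configuration.
-/

set_option autoImplicit false
set_option linter.unusedSectionVars false

namespace Cfsg.Agent.H24.Flav

open Subgroup
open Cfsg.Agent.H8.Shult hiding Min
open scoped commutatorElement

universe u v w

variable {G : Type u} [Group G] [Finite G] {p r : ℕ} [hp : Fact p.Prime] {a : MulAut G}
variable {k : Type w} [Field k] [CharP k p] {V : Type v} [AddCommGroup V] [Module k V]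
variable [IsAlgClosed k] [FiniteDimensional k V]
variable {ρ : G →* Module.End k V} {T : Module.End k V}

namespace Cfg

variable (M : Cfg p r a ρ T) (D : UData a)
include M

theorem N_ne_top : D.N ≠ ⊤ := by
  intro hN
  have hn : D.U.Normal := normalizer_eq_top_iff.mp hN
  have hne : D.U ≠ ⊤ := fun h => M.notTwo (D.isPGroup_U.to_le (le_top.trans h.ge))
  refine M.U_ne_bot D ?_
  rw [← D.disp_U M.coprimely, disp_eq_bot_iff]
  exact (M.normal_le_center hn D.inv_U hne).trans M.center_le_fixed

theorem disp_N : disp a D.N = D.U := M.disp_eq_U D D.inv_N (M.N_ne_top D) D.U_le_N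

/-- A proper invariant subgroup over `U` lies in `N`. -/
theorem le_N {H : Subgroup G} (hH : Inv a H) (hne : H ≠ ⊤) (hU : D.U ≤ H) : H ≤ D.N := by
  have := M.disp_eq_U D hH hne hU
  exact le_of_le_of_eq le_normalizer_disp (by rw [this]; rfl)

/-- `N = C_N(a) U`. -/
theorem exists_fixed_mul {g : G} (hg : g ∈ D.N) : ∃ c ∈ D.N ⊓ fixedBy a, ∃ u ∈ D.U, g = c * u := by
  obtain ⟨u, hu, c, hc, he⟩ := M.coprimely.exists_disp_mul D.inv_N hg
  exact ⟨c, hc, u, M.disp_N D ▸ hu, he⟩

theorem centralizer_U_le_N : centralizer (D.U : Set G) ≤ D.N := fun g hg => by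
  refine mem_normalizer_iff.mpr fun x => ⟨fun hx => ?_, fun hx => ?_⟩
  · rwa [← mem_centralizer_iff.mp hg x hx, mul_inv_cancel_right]
  · have h := mem_centralizer_iff.mp hg _ hx
    have h2 : g⁻¹ * ((g * x * g⁻¹) * g) = g⁻¹ * (g * (g * x * g⁻¹)) := by rw [h]
    have h3 : x = g * x * g⁻¹ := by
      rw [inv_mul_cancel_left, show g⁻¹ * ((g * x * g⁻¹) * g) = x by group] at h2
      exact h2
    rwa [h3]

theorem centralizer_U_le_fixed : centralizer (D.U : Set G) ≤ fixedBy a := by
  have hCa : Inv a (centralizer (D.U : Set G)) := D.inv_U.centralizer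
  rw [← disp_eq_bot_iff, ← M.coprimely.disp_disp hCa, disp_eq_bot_iff]
  intro x hx
  have hxU : x ∈ D.U := M.disp_N D ▸ disp_mono (M.centralizer_U_le_N D) hx
  exact (M.special2_U D).center_le x hxU fun y hy =>
    (mem_centralizer_iff.mp (disp_le hCa hx) y hy).symm |> fun h => h ▸ rfl

theorem disp_sylow_two (Q : Sylow 2 G) (hQ : Inv a (Q : Subgroup G)) :
    ∃ c ∈ fixedBy a, disp a (Q : Subgroup G) = D.U.map (MulAut.conj c).toMonoidHom := by
  have : Fact (Nat.Prime 2) := ⟨Nat.prime_two⟩
  obtain ⟨g, hg⟩ := MulAction.exists_smul_eq G D.S Q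
  obtain ⟨c, hc, he⟩ := M.coprimely.exists_fixed_conj D.inv hQ (g := g) (congrArg Sylow.toSubgroup hg)
  exact ⟨c, hc, by rw [← he, disp_map_conj hc]; rfl⟩

theorem commutator_eq_top : commutator G = ⊤ := by
  by_contra hne
  have hca : Inv a (commutator G) := fun x hx => by
    have h : (commutator G).map a.toMonoidHom = commutator G :=
      Subgroup.characteristic_iff_map_eq.mp inferInstance a
    exact h.le ⟨x, hx, rfl⟩
  have hc := M.normal_le_center inferInstance hca hne
  have hnil : Group.IsNilpotent G := by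
    have : Group.IsNilpotent (G ⧸ center G) := by
      have hcomm : ∀ x y : G ⧸ center G, x * y = y * x := by
        intro x y
        obtain ⟨x, rfl⟩ := QuotientGroup.mk_surjective x
        obtain ⟨y, rfl⟩ := QuotientGroup.mk_surjective y
        rw [← QuotientGroup.mk_mul, ← QuotientGroup.mk_mul, QuotientGroup.eq]
        have e : (x * y)⁻¹ * (y * x) = ⁅y⁻¹, x⁻¹⁆ := by simp [commutatorElement_def, mul_assoc]
        exact e ▸ hc (_root_.commutator_def G ▸ commutator_mem_commutator (mem_top _) (mem_top _))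
      let _ : CommGroup (G ⧸ center G) :=
        { (inferInstance : Group (G ⧸ center G)) with mul_comm := hcomm }
      infer_instance
    exact Group.of_quotient_center_nilpotent this
  obtain ⟨P, hP⟩ := M.coprimely.exists_inv_sylow p
  refine M.disp_sylow_ne_bot hP (le_bot_iff.mp ((disp_le hP).trans ?_))
  exact (M.eq_bot_of_normal_pGroup inferInstance P.2 hP).le

/-- `G` has no nontrivial homomorphism to a commutative group. -/
theorem hom_eq_one {A : Type*} [CommGroup A] (f : G →* A) (g : G) : f g = 1 := by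
  have hle : commutator G ≤ f.ker := by
    rw [_root_.commutator_def, commutator_le]
    intro x _ y _
    rw [MonoidHom.mem_ker, map_commutatorElement, commutatorElement_eq_one_iff_mul_comm, mul_comm]
  exact hle (M.commutator_eq_top ▸ mem_top g)

end Cfg

end Cfsg.Agent.H24.Flav
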