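import Cfsg.Agent.H8.Shult.Quot
import Cfsg.Agent.H24.Flav.Setup

/-!
A minimal configuration modulo its centre is a frame.

In the general configuration.
-/

set_option autoImplicit false
set_option linter.unusedSectionVars false

namespace Cfsg.Agent.H24.Flav

open Subgroup
open Cfsg.Agent.H8.Shult hiding Min
open scoped commutatorElement

universe u v w

variable {G : Type u} [Group G] [Finite G] {p r : ℕ} [hp : Fact p.Prime] {a : MulAut G}
variable {k : Type w} [Field k] [CharP k p] {V : Type v} [AddCommGroup V] [Module k V]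
variable [IsAlgClosed k] [FiniteDimensional k V]
variable {ρ : G →* Module.End k V} {T : Module.End k V}

namespace Cfg

variable (M : Cfg p r a ρ T) (D : UData a)
include M

theorem inv_center : Inv a (center G) := inv_of_le_fixedBy M.center_le_fixed

/-- An element central modulo the centre is central. -/
theorem mem_center_of_commutator {g : G} (h : ∀ x, ⁅g, x⁆ ∈ center G) : g ∈ center G := by
  let f : G →* center G :=
    { toFun := fun x => ⟨⁅g, x⁆, h x⟩
      map_one' := Subtype.ext (commutatorElement_one_right g)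
      map_mul' := fun x y => Subtype.ext (by
        show ⁅g, x * y⁆ = ⁅g, x⁆ * ⁅g, y⁆
        calc ⁅g, x * y⁆ = ⁅g, x⁆ * (x * ⁅g, y⁆ * x⁻¹) := by simp [commutatorElement_def, mul_assoc]
          _ = _ := by rw [mem_center_iff.mp (h y) x, mul_inv_cancel_right]) }
  have hker : commutator G ≤ f.ker := by
    rw [_root_.commutator_def, commutator_le]
    intro u _ v _
    rw [MonoidHom.mem_ker, map_commutatorElement, commutatorElement_eq_one_iff_mul_comm]
    exact Subtype.ext (mem_center_iff.mp (f v).2 (f u : G))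
  refine mem_center_iff.mpr fun x => ?_
  have h1 : f x = 1 := hker (M.commutator_eq_top ▸ mem_top x)
  exact (commutatorElement_eq_one_iff_mul_comm.mp (congrArg Subtype.val h1)).symm

theorem center_le_N : center G ≤ D.N :=
  le_trans (fun z hz => mem_centralizer_iff.mpr fun x _ => mem_center_iff.mp hz x) (M.centralizer_U_le_N D)

theorem centralizer_le_N {x : G} (hx : x ∈ D.W) (hxc : x ∉ center G) : centralizer ({x} : Set G) ≤ D.N := by
  refine M.le_N D (inv_centralizer_singleton hx.2) (fun h => hxc (mem_center_iff.mpr fun g => ?_)) ?_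
  · exact mem_centralizer_singleton_iff.mp (h ▸ mem_top g)
  · exact fun u hu => mem_centralizer_singleton_iff.mpr ((M.special2_U D).fix_central x hx u hu).symm

/-- Only `N` moves a noncentral element of `W` into `W Z`. -/
theorem mem_N_of_conj {x x' z g : G} (hx : x ∈ D.W) (hxc : x ∉ center G) (hx' : x' ∈ D.W) (hz : z ∈ center G)
    (h : g * x * g⁻¹ = x' * z) : g ∈ D.N := by
  have hfix : x' * z ∈ fixedBy a := mul_mem hx'.2 (M.center_le_fixed hz)
  obtain ⟨c, hc, hcx⟩ := M.coprimely.exists_fixed_conj_elem hx.2 hfix h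
  have hx'c : x' ∉ center G := fun h' => hxc (by
    have h1 : c * x * c⁻¹ ∈ center G := hcx ▸ mul_mem h' hz
    have h2 := (inferInstance : (center G).Normal).conj_mem _ h1 c⁻¹
    have e : c⁻¹ * (c * x * c⁻¹) * c⁻¹⁻¹ = x := by group
    rwa [e] at h2)
  have hUc : D.U.map (MulAut.conj c).toMonoidHom ≤ D.N := by
    rintro _ ⟨u, hu, rfl⟩
    refine M.centralizer_le_N D hx' hx'c (mem_centralizer_singleton_iff.mpr ?_)
    have hu' := (M.special2_U D).fix_central x hx u hu
    have h2 : c * u * c⁻¹ * (x' * z) = x' * z * (c * u * c⁻¹) := by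
      rw [← hcx]
      calc c * u * c⁻¹ * (c * x * c⁻¹) = c * (u * x) * c⁻¹ := by group
        _ = c * (x * u) * c⁻¹ := by rw [hu']
        _ = _ := by group
    show c * u * c⁻¹ * x' = x' * (c * u * c⁻¹)
    rw [← mul_assoc, mul_assoc x' z, ← mem_center_iff.mp hz (c * u * c⁻¹), ← mul_assoc] at h2
    exact mul_right_cancel h2
  have hUeq : D.U.map (MulAut.conj c).toMonoidHom = D.U := by
    refine Subgroup.eq_of_le_of_card_ge ?_ (Coprime.card_map_conj c _).ge
    calc D.U.map (MulAut.conj c).toMonoidHom = disp a (D.U.map (MulAut.conj c).toMonoidHom) := by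
          rw [disp_map_conj hc, D.disp_U M.coprimely]
      _ ≤ disp a D.N := disp_mono hUc
      _ = D.U := M.disp_N D
  have hcN : c ∈ D.N := by
    refine mem_normalizer_iff.mpr fun y => ⟨fun hy => hUeq.le ⟨y, hy, rfl⟩, fun hy => ?_⟩
    obtain ⟨y', hy', he⟩ := hUeq.ge hy
    have : y' = y := mul_left_cancel (mul_right_cancel (he : c * y' * c⁻¹ = c * y * c⁻¹))
    exact this ▸ hy'
  have hgc : c⁻¹ * g ∈ centralizer ({x} : Set G) := mem_centralizer_singleton_iff.mpr (by
    calc c⁻¹ * g * x = c⁻¹ * (g * x * g⁻¹) * g := by group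
      _ = c⁻¹ * (c * x * c⁻¹) * g := by rw [h, hcx]
      _ = x * (c⁻¹ * g) := by group)
  simpa using mul_mem hcN (M.centralizer_le_N D hx hxc hgc)

theorem exists_of_mem_Wb {y : G} (h : (y : G ⧸ center G) ∈ D.Wb) : ∃ x ∈ D.W, ∃ z ∈ center G, y = x * z := by
  obtain ⟨x, hx, he⟩ := h
  exact ⟨x, hx, x⁻¹ * y, QuotientGroup.eq.mp he, (mul_inv_cancel_left x y).symm⟩

theorem mem_Nb_iff {y : G} : (y : G ⧸ center G) ∈ D.Nb ↔ y ∈ D.N := by
  refine ⟨fun ⟨x, hx, he⟩ => ?_, fun h => ⟨y, h, rfl⟩⟩
  have := mul_mem hx (M.center_le_N D (QuotientGroup.eq.mp he : x⁻¹ * y ∈ center G))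
  simpa using this

/-- The configuration modulo the centre. -/
theorem frame : Frame p r (quotAut (center G) M.inv_center) D.Nb D.Wb where
  coprimely := M.coprimely.quot _ _
  odd := M.odd
  simple := fun K hK hKa => by
    set K' := K.comap (QuotientGroup.mk' (center G)) with hK'
    have hKi : Inv a K' := fun x hx => by
      show ((a x : G) : G ⧸ center G) ∈ K
      rw [← quotAut_mk (center G) M.inv_center]
      exact hKa _ hx
    by_cases htop : K' = ⊤
    · exact Or.inr (comap_injective (QuotientGroup.mk'_surjective _) (by rw [← hK', htop, comap_top]))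
    · refine Or.inl (eq_bot_iff.mpr fun x hx => ?_)
      obtain ⟨x, rfl⟩ := QuotientGroup.mk_surjective x
      exact Subgroup.mem_bot.mpr ((QuotientGroup.eq_one_iff x).mpr
        (M.normal_le_center (hK.comap _) hKi htop hx))
  nonsolvable := fun hs => by
    obtain ⟨P, hP⟩ := M.coprimely.exists_inv_sylow p
    have hne : Nontrivial (G ⧸ center G) := by
      by_contra hsub
      rw [not_nontrivial_iff_subsingleton] at hsub
      refine M.disp_sylow_ne_bot hP (le_bot_iff.mp ((disp_le hP).trans (M.eq_bot_of_normal_pGroup ?_ P.2 hP).le))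
      exact PGroups.normal_of_le_center fun x _ => (QuotientGroup.eq_one_iff x).mp (Subsingleton.elim _ _)
    refine (Group.IsSolvable.commutator_lt_top_of_nontrivial (G ⧸ center G)).ne ?_
    rw [_root_.commutator_def, ← Subgroup.map_top_of_surjective _ (QuotientGroup.mk'_surjective (center G)),
      ← Subgroup.map_commutator, ← _root_.commutator_def, M.commutator_eq_top]
  inv_N := fun y hy => by
    obtain ⟨x, hx, rfl⟩ := hy
    exact ⟨a x, D.inv_N x hx, (quotAut_mk (center G) M.inv_center x).symm⟩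
  N_ne_top := fun h => M.N_ne_top D (eq_top_iff.mpr fun y _ => (M.mem_Nb_iff D).mp (h ▸ mem_top _))
  W_le := map_mono D.W_le_N
  W_fixed := by
    rintro _ ⟨x, hx, rfl⟩
    rw [mem_fixedBy, QuotientGroup.mk'_apply, quotAut_mk, mem_fixedBy.mp hx.2]
  W_sq := by
    rintro _ ⟨x, hx, rfl⟩
    rw [← map_mul, (M.special2_U D).fix_sq x hx, map_one]
  N_le := by
    rw [le_normalizer_iff]
    rintro _ ⟨g, hg, rfl⟩ _ ⟨x, hx, rfl⟩
    refine ⟨g * x * g⁻¹, ?_, by simp⟩
    have hxU : g * x * g⁻¹ ∈ D.U := (mem_normalizer_iff.mp hg x).mp hx.1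
    refine ⟨hxU, (M.special2_U D).center_le _ hxU fun y hy => ?_⟩
    have hy' : g⁻¹ * y * g ∈ D.U := by
      have := (mem_normalizer_iff.mp (inv_mem hg) y).mp hy
      simpa using this
    have h := (M.special2_U D).fix_central x hx _ hy'
    calc g * x * g⁻¹ * y = g * (x * (g⁻¹ * y * g)) * g⁻¹ := by group
      _ = y * (g * x * g⁻¹) := by rw [h]; group
  cent := by
    rintro _ ⟨x, hx, rfl⟩ hx1 y hy
    obtain ⟨y, rfl⟩ := QuotientGroup.mk_surjective y
    rw [mem_centralizer_singleton_iff] at hy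
    refine (M.mem_Nb_iff D).mpr (M.mem_N_of_conj D hx (fun h => hx1 ((QuotientGroup.eq_one_iff x).mpr h)) hx
      (z := x⁻¹ * (y * x * y⁻¹)) ?_ (mul_inv_cancel_left _ _).symm)
    rw [← QuotientGroup.eq]
    have h1 : ((y * x * y⁻¹ : G) : G ⧸ center G) = x := by
      rw [QuotientGroup.mk_mul, QuotientGroup.mk_mul, QuotientGroup.mk_inv]
      rw [show (y : G ⧸ center G) * x = x * y from hy, mul_inv_cancel_right]
    exact h1.symm
  ti := by
    rintro _ ⟨x, hx, rfl⟩ hx1 g hg
    obtain ⟨g, rfl⟩ := QuotientGroup.mk_surjective g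
    have hg' : ((g * x * g⁻¹ : G) : G ⧸ center G) ∈ D.Wb := by simpa using hg
    obtain ⟨x', hx', z, hz, he⟩ := M.exists_of_mem_Wb D hg'
    exact (M.mem_Nb_iff D).mpr (M.mem_N_of_conj D hx (fun h => hx1 ((QuotientGroup.eq_one_iff x).mpr h)) hx' hz he)

end Cfg

end Cfsg.Agent.H24.Flav
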