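import Cfsg.Agent.H8.Shult.Local
import Cfsg.Agent.H24.Flav.Forms3
import Cfsg.Agent.H24.Flav.Quot

/-!
Small local tools: displacements inside `N`, central characters, `2`-elements on irreducible sections.

In the general configuration.
-/

set_option autoImplicit false
set_option linter.unusedSectionVars false

namespace Cfsg.Agent.H24.Flav

open Subgroup
open Cfsg.Agent.H8.Shult hiding Min
open scoped commutatorElement

universe u v w

variable {G : Type u} [Group G] [Finite G] {p r : ℕ} [hp : Fact p.Prime] {a : MulAut G}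
variable {k : Type w} [Field k] [CharP k p] {V : Type v} [AddCommGroup V] [Module k V]
variable [IsAlgClosed k] [FiniteDimensional k V]
variable {ρ : G →* Module.End k V} {T : Module.End k V}
variable {D : UData a}

namespace Cfg

variable (M : Cfg p r a ρ T)
include M

/-- Invariant abelian subgroups of `N` consist of fixed points. -/
theorem disp_eq_bot_of_comm {B : Subgroup G} (hB : Inv a B) (hBN : B ≤ D.N)
    (hcomm : ∀ x ∈ B, ∀ y ∈ B, x * y = y * x) : B ≤ fixedBy a := by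
  rw [← disp_eq_bot_iff, Subgroup.eq_bot_iff_forall]
  intro x hx
  refine M.inj ((M.rep.eq_one_of_comm M.coprimely (inv_disp hB)
    (fun y hy z hz => hcomm y (disp_le hB hy) z (disp_le hB hz))
    (M.natCard_two_ne_zero (D.isPGroup_U.to_le ((disp_mono hBN).trans (M.disp_N D).le))) ?_).trans (map_one ρ).symm)
  rwa [M.coprimely.disp_disp hB]

/-- An invariant subgroup of `N` inside `N` has displacements in `U`. -/
theorem disp_le_U {B : Subgroup G} (hBN : B ≤ D.N) : disp a B ≤ D.U :=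
  (disp_mono hBN).trans (M.disp_N D).le

/-- A fixed element moving `U` into `N` lies in `N`. -/
theorem mem_N_of_map_le {c : G} (hc : c ∈ fixedBy a) (h : D.U.map (MulAut.conj c).toMonoidHom ≤ D.N) :
    c ∈ D.N := by
  have hle : D.U.map (MulAut.conj c).toMonoidHom ≤ D.U := by
    refine le_trans (le_of_eq ?_) (M.disp_le_U (D := D) h)
    rw [disp_map_conj hc, D.disp_U M.coprimely]
  have hUeq : D.U.map (MulAut.conj c).toMonoidHom = D.U :=
    Subgroup.eq_of_le_of_card_ge hle (Coprime.card_map_conj c _).ge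
  refine mem_normalizer_iff.mpr fun y => ⟨fun hy => hUeq.le ⟨y, hy, rfl⟩, fun hy => ?_⟩
  obtain ⟨y', hy', he⟩ := hUeq.ge hy
  have : y' = y := mul_left_cancel (mul_right_cancel (he : c * y' * c⁻¹ = c * y * c⁻¹))
  exact this ▸ hy'

/-- A character occurring takes the value `-1` on a central involution of `W`. -/
theorem occ_center {χ : D.W →* ℤˣ} (hχ : Occ ρ D χ) {z : D.W} (hz : (z : G) ∈ center G) (hz1 : z ≠ 1) :
    χ z = -1 := by
  have h := (M.center_sq hz ((M.special2_U D).fix_sq z z.2)).resolve_left fun h => hz1 (Subtype.ext h)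
  refine (Int.units_eq_one_or _).resolve_left fun h1 => hχ.2 ((Submodule.eq_bot_iff _).mpr fun v hv => ?_)
  have h2 := mem_weight.mp hv z
  rw [h, h1, sgn_one, one_smul, LinearMap.neg_apply, Module.End.one_apply, neg_eq_iff_add_eq_zero,
    ← two_smul k] at h2
  exact (smul_eq_zero.mp h2).resolve_left M.two_ne_zero

/-- Two occurring characters agree on central elements. -/
theorem occ_center_eq {χ μ : D.W →* ℤˣ} (hχ : Occ ρ D χ) (hμ : Occ ρ D μ) {z : D.W}
    (hz : (z : G) ∈ center G) : χ z = μ z := by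
  by_cases h : z = 1
  · rw [h, map_one, map_one]
  · rw [M.occ_center hχ hz h, M.occ_center hμ hz h]

/-- Invariant subgroups of index `2 ^ (2 * m)` leave nothing between. -/
theorem eq_or_eq_of_card {m : ℕ} (hm : 0 < m) (hr : r = 2 ^ m + 1) {R B X : Subgroup G} (hRa : Inv a R)
    (hWR : D.W ≤ R) (hBU : B ≤ D.U) (hcard : Nat.card B = 2 ^ (2 * m) * Nat.card R) (hX : Inv a X)
    (hRX : R ≤ X) (hXB : X ≤ B) : X = R ∨ X = B := by
  obtain ⟨i, hi⟩ := M.exists_card hm hr hRa hWR ((hRX.trans hXB).trans hBU)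
  obtain ⟨j, hj⟩ := M.exists_card hm hr hX (hWR.trans hRX) (hXB.trans hBU)
  rcases Nat.lt_or_ge i j with h | h
  · refine Or.inr (Subgroup.eq_of_le_of_card_ge hXB ?_)
    rw [hcard, hi, hj, ← mul_assoc, ← pow_add]
    refine Nat.mul_le_mul_right _ (Nat.pow_le_pow_right two_pos ?_)
    calc 2 * m + 2 * m * i = 2 * m * (i + 1) := by ring
      _ ≤ _ := Nat.mul_le_mul_left _ h
  · refine Or.inl (Subgroup.eq_of_le_of_card_ge hRX ?_).symm
    rw [hi, hj]
    exact Nat.mul_le_mul_right _ (Nat.pow_le_pow_right two_pos (Nat.mul_le_mul_left _ h))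

/-- A `2`-element commuting with `a` is trivial on a section without invariant subgroups. -/
theorem commutator_mem_of_two {R B : Subgroup G} (hBa : Inv a B) (hRa : Inv a R) (hWR : D.W ≤ R) (hRB : R ≤ B)
    (hBU : B ≤ D.U) (hirr : ∀ X : Subgroup G, Inv a X → R ≤ X → X ≤ B → X = R ∨ X = B) (j : ℕ) :
    ∀ g : G, g ∈ fixedBy a → g ^ 2 ^ j = 1 → (∀ x ∈ B, g * x * g⁻¹ ∈ B) → (∀ x ∈ R, g * x * g⁻¹ ∈ R) →
      ∀ x ∈ B, ⁅g, x⁆ ∈ R := by
  induction j with
  | zero =>
    intro g _ hg _ _ x _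
    rw [pow_zero, pow_one] at hg
    rw [hg, commutatorElement_one_left]
    exact one_mem _
  | succ j ih =>
    intro g hga hg hgB hgR x hx
    have hgg : ∀ S : Subgroup G, (∀ y ∈ S, g * y * g⁻¹ ∈ S) → ∀ y ∈ S, g ^ 2 * y * (g ^ 2)⁻¹ ∈ S := by
      intro S h y hy
      have := h _ (h y hy)
      rwa [pow_two, mul_inv_rev, ← mul_assoc, mul_assoc g g y, show g * (g * y) * g⁻¹ * g⁻¹ = g * (g * y * g⁻¹) * g⁻¹ by group]
    have h2 := ih (g ^ 2) (pow_mem hga 2) (by rw [← pow_mul, ← pow_succ']; exact hg) (hgg B hgB) (hgg R hgR)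
    have hc : ∀ y ∈ B, ∀ z ∈ R, y * z * y⁻¹ ∈ R := fun y hy z hz =>
      (mem_normalizer_iff.mp (le_normalizer_of_W_le (M.special2_U D) hWR (hRB.trans hBU) (hBU hy)) z).mp hz
    let X : Subgroup G :=
      { carrier := {y | y ∈ B ∧ ⁅g, y⁆ ∈ R}
        one_mem' := ⟨one_mem _, by rw [commutatorElement_one_right]; exact one_mem _⟩
        mul_mem' := fun {y z} hy hz => ⟨mul_mem hy.1 hz.1, by
          rw [show ⁅g, y * z⁆ = ⁅g, y⁆ * (y * ⁅g, z⁆ * y⁻¹) by simp [commutatorElement_def, mul_assoc]]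
          exact mul_mem hy.2 (hc y hy.1 _ hz.2)⟩
        inv_mem' := fun {y} hy => ⟨inv_mem hy.1, by
          have e : ⁅g, y⁻¹⁆ = y⁻¹ * ⁅g, y⁆⁻¹ * y⁻¹⁻¹ := by simp [commutatorElement_def, mul_assoc]
          rw [e]
          exact hc _ (inv_mem hy.1) _ (inv_mem hy.2)⟩ }
    have hXa : Inv a X := fun y hy => ⟨hBa y hy.1, by
      rw [← mem_fixedBy.mp hga, ← map_commutatorElement]; exact hRa _ hy.2⟩
    have hRX : R ≤ X := fun y hy => ⟨hRB hy, by
      rw [commutatorElement_def]; exact mul_mem (hgR y hy) (inv_mem hy)⟩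
    rcases hirr X hXa hRX (fun y hy => hy.1) with hX | hX
    · have hcB : ⁅g, x⁆ ∈ B := by
        rw [commutatorElement_def]; exact mul_mem (hgB x hx) (inv_mem hx)
      have e : ⁅g, ⁅g, x⁆⁆ = ⁅g ^ 2, x⁆ * ((x * (g * x⁻¹ * g⁻¹)) * (x * (g * x⁻¹ * g⁻¹))) := by
        rw [pow_two, commutatorElement_def, commutatorElement_def, commutatorElement_def]; group
      have hmem : x * (g * x⁻¹ * g⁻¹) ∈ B := mul_mem hx (hgB _ (inv_mem hx))
      have : ⁅g, x⁆ ∈ X := ⟨hcB, e ▸ mul_mem (h2 x hx) (hWR ((M.special2_U D).sq_mem _ (hBU hmem)))⟩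
      exact hX ▸ this
    · exact (hX.symm ▸ hx : x ∈ X).2

end Cfg

end Cfsg.Agent.H24.Flav
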