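import Cfsg.Agent.H8.Shult.StepA
import Cfsg.Agent.H24.Flav.Local

/-!
A fixed element moving a noncentral element of `W` into `N` lies in `N`.

In the general configuration.
-/

set_option autoImplicit false
set_option linter.unusedSectionVars false

namespace Cfsg.Agent.H24.Flav

open Subgroup
open Cfsg.Agent.H8.Shult hiding Min
open scoped commutatorElement

universe u v w

variable {G : Type u} [Group G] [Finite G] {p r : ℕ} [hp : Fact p.Prime] {a : MulAut G}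
variable {k : Type w} [Field k] [CharP k p] {V : Type v} [AddCommGroup V] [Module k V]
variable [IsAlgClosed k] [FiniteDimensional k V]
variable {ρ : G →* Module.End k V} {T : Module.End k V}
variable {D : UData a}

namespace Cfg

variable (M : Cfg p r a ρ T) {m : ℕ}
include M

theorem exists_axis (hS : Shape ρ D r m) {c w : G} (hc : c ∈ fixedBy a) (hw : w ∈ D.W) (hwc : w ∉ center G)
    (hx : c * w * c⁻¹ ∈ D.N) (hcN : c ∉ D.N) :
    ∃ B, Axis D m (c * w * c⁻¹) B ∧ (disp a B).map (MulAut.conj c⁻¹).toMonoidHom ≤ D.U := by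
  set x := c * w * c⁻¹ with hxdef
  have hsp := hS.sp
  have hxa : x ∈ fixedBy a := (fixedBy a).mul_mem ((fixedBy a).mul_mem hc hw.2) ((fixedBy a).inv_mem hc)
  have hxx : x * x = 1 := by rw [hxdef]; simp [mul_assoc, ← mul_assoc w w, hsp.fix_sq w hw]
  have hxinv : x⁻¹ = x := inv_eq_of_mul_eq_one_left hxx
  have hxW : ∀ y ∈ D.W, x * y * x⁻¹ ∈ D.W := fun y hy => D.conj_mem_W (g := x) ⟨hx, hxa⟩ hy
  let B : Subgroup G :=
    { carrier := {u | u ∈ D.U ∧ ⁅u, x⁆ ∈ D.W}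
      one_mem' := ⟨one_mem _, by rw [commutatorElement_one_left]; exact one_mem _⟩
      mul_mem' := fun {y z} hy hz => ⟨mul_mem hy.1 hz.1, by
        rw [show ⁅y * z, x⁆ = y * ⁅z, x⁆ * y⁻¹ * ⁅y, x⁆ by simp [commutatorElement_def, mul_assoc],
          ← hsp.fix_central _ hz.2 y hy.1, mul_inv_cancel_right]
        exact mul_mem hz.2 hy.2⟩
      inv_mem' := fun {y} hy => ⟨inv_mem hy.1, by
        rw [show ⁅y⁻¹, x⁆ = y⁻¹ * ⁅y, x⁆⁻¹ * y by simp [commutatorElement_def, mul_assoc],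
          ← hsp.fix_central _ (inv_mem hy.2) _ (inv_mem hy.1), inv_mul_cancel_right]
        exact inv_mem hy.2⟩ }
  have hBa : Inv a B := fun y hy => ⟨D.inv_U y hy.1, by
    rw [← mem_fixedBy.mp hxa, ← map_commutatorElement, mem_fixedBy.mp (hy.2 : ⁅y, x⁆ ∈ D.W).2]
    exact hy.2⟩
  have hWB : D.W ≤ B := fun y hy => ⟨hy.1, by
    rw [commutatorElement_def, mul_assoc y, mul_assoc y]
    exact mul_mem hy (hxW _ (inv_mem hy))⟩
  have hBU : B ≤ D.U := fun y hy => hy.1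
  have hcomm : ∀ e ∈ disp a B, e * x = x * e := fun e he => by
    refine commutatorElement_eq_one_iff_mul_comm.mp (eq_one_on_disp hBa (fun y => ⁅y, x⁆)
      (fun y hy z hz => ?_) (fun y hy => ?_) (commutatorElement_one_left x) he)
    · calc ⁅y * z, x⁆ = y * ⁅z, x⁆ * y⁻¹ * ⁅y, x⁆ := by simp [commutatorElement_def, mul_assoc]
        _ = ⁅z, x⁆ * ⁅y, x⁆ := by rw [← hsp.fix_central _ hz.2 y hy.1, mul_inv_cancel_right]
        _ = _ := hsp.fix_central _ hz.2 _ (hy.2 : ⁅y, x⁆ ∈ D.W).1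
    · conv_lhs => rw [← mem_fixedBy.mp hxa, ← map_commutatorElement]
      exact mem_fixedBy.mp (hy.2 : ⁅y, x⁆ ∈ D.W).2
  have hE : (disp a B).map (MulAut.conj c⁻¹).toMonoidHom ≤ D.U := by
    have hle : (disp a B).map (MulAut.conj c⁻¹).toMonoidHom ≤ D.N := by
      rintro _ ⟨e, he, rfl⟩
      refine M.centralizer_le_N D hw hwc (mem_centralizer_singleton_iff.mpr ?_)
      show c⁻¹ * e * c⁻¹⁻¹ * w = w * (c⁻¹ * e * c⁻¹⁻¹)
      calc c⁻¹ * e * c⁻¹⁻¹ * w = c⁻¹ * (e * x) * c := by rw [hxdef]; group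
        _ = c⁻¹ * (x * e) * c := by rw [hcomm e he]
        _ = _ := by rw [hxdef]; group
    refine le_trans (le_of_eq ?_) (M.disp_le_U (D := D) hle)
    rw [disp_map_conj (inv_mem hc), M.coprimely.disp_disp hBa]
  have hconst : ∀ b ∈ B, ∀ b' ∈ B, ⁅b, b'⁆ ∈ center G := by
    have hpre : ∀ y ∈ B, ∀ e' ∈ disp a B, ∃ e ∈ disp a B, ⁅y, e'⁆ = ⁅e, e'⁆ := fun y hy e' he' => by
      obtain ⟨d, hd, w', hw', rfl⟩ := M.coprimely.exists_disp_mul hBa hy
      rw [M.inf_fixed_eq_W hWB hBU] at hw'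
      refine ⟨d, hd, ?_⟩
      have hz := hsp.fix_central w' hw'
      have h1 := hsp.comm_mem d (hBU (disp_le hBa hd)) e' (hBU (disp_le hBa he'))
      calc ⁅w' * d, e'⁆ = w' * ⁅d, e'⁆ * w'⁻¹ * ⁅w', e'⁆ := by simp [commutatorElement_def, mul_assoc]
        _ = _ := by
          rw [commutatorElement_eq_one_iff_mul_comm.mpr (hz e' (hBU (disp_le hBa he'))), mul_one,
            hz _ h1.1, mul_inv_cancel_right]
    by_contra hne
    push Not at hne
    obtain ⟨b, hb, b', hb', hne⟩ := hne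
    have hex : ∃ e ∈ disp a B, ∃ e' ∈ disp a B, ⁅e, e'⁆ ∉ center G := by
      obtain ⟨d, hd, w', hw', rfl⟩ := M.coprimely.exists_disp_mul hBa hb'
      rw [M.inf_fixed_eq_W hWB hBU] at hw'
      obtain ⟨e, he, hee⟩ := hpre b hb d hd
      refine ⟨e, he, d, hd, fun h => hne ?_⟩
      rw [← hee] at h
      have hbw : ⁅b, w'⁆ = 1 := commutatorElement_eq_one_iff_mul_comm.mpr (hsp.fix_central w' hw' b (hBU hb)).symm
      rw [show ⁅b, w' * d⁆ = ⁅b, w'⁆ * (w' * ⁅b, d⁆ * w'⁻¹) by simp [commutatorElement_def, mul_assoc],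
        hbw, one_mul, mem_center_iff.mp h w', mul_inv_cancel_right]
      exact h
    obtain ⟨e, he, e', he', hee⟩ := hex
    refine hcN ?_
    have heU : c⁻¹ * e * c ∈ D.U := by simpa using hE ⟨e, he, rfl⟩
    have heU' : c⁻¹ * e' * c ∈ D.U := by simpa using hE ⟨e', he', rfl⟩
    have h1 := hsp.comm_mem e (hBU (disp_le hBa he)) e' (hBU (disp_le hBa he'))
    have h2 := hsp.comm_mem _ heU _ heU'
    refine M.mem_N_of_conj D h2 (fun h => hee ?_) h1 (one_mem (center G)) ?_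
    · have h3 := (inferInstance : (center G).Normal).conj_mem _ h c
      rwa [show c * ⁅c⁻¹ * e * c, c⁻¹ * e' * c⁆ * c⁻¹ = ⁅e, e'⁆ by
        simp [commutatorElement_def, mul_assoc]] at h3
    · rw [mul_one]; simp [commutatorElement_def, mul_assoc]
  have hR : ∀ χ, Occ ρ D χ → B ⊓ rad hsp χ ≤ D.W := by
    intro χ hχ
    have hf := M.disp_eq_bot_of_comm (D := D) (hBa.inf (inv_rad hsp χ))
      (inf_le_left.trans (hBU.trans D.U_le_N)) fun y hy z hz => by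
      refine commutatorElement_eq_one_iff_mul_comm.mp ?_
      by_contra h1
      obtain ⟨μ, hμ, hμx⟩ := M.exists_occ (x := commW hsp ⟨y, hBU hy.1⟩ ⟨z, hBU hz.1⟩)
        fun h => h1 (congrArg Subtype.val h)
      obtain ⟨_, h2⟩ := mem_rad.mp hy.2
      rw [M.occ_center_eq hμ hχ (hconst y hy.1 z hz.1), h2 ⟨z, hBU hz.1⟩] at hμx
      exact absurd hμx (by decide)
    exact fun y hy => ⟨hBU hy.1, hf hy⟩
  have hxB : ∀ u ∈ D.U, ⁅u, x⁆ ∈ B := fun u hu => by
    have hcU : ⁅u, x⁆ ∈ D.U := by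
      rw [commutatorElement_def, mul_assoc u, mul_assoc u]
      exact mul_mem hu (D.conj_mem_U hx (inv_mem hu))
    refine ⟨hcU, ?_⟩
    have e : ⁅⁅u, x⁆, x⁆ = ⁅u, x⁆ * ⁅u, x⁆ := by
      simp [commutatorElement_def, mul_assoc, hxinv, mul_inv_rev]
      simp [← mul_assoc x x, hxx]
    rw [e]
    exact hsp.sq_mem _ hcU
  obtain ⟨j, hj⟩ := M.exists_card hS.pos hS.eq hBa hWB hBU
  obtain ⟨i, hi⟩ := M.exists_card hS.pos hS.eq D.inv_U D.W_le_U le_rfl
  obtain ⟨w₀, hw₀, hw₀1⟩ := D.W.bot_or_exists_ne_one.resolve_left (M.W_ne_bot D)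
  obtain ⟨χ, hχ, -⟩ := M.exists_occ (x := ⟨w₀, hw₀⟩) fun e => hw₀1 (congrArg Subtype.val e)
  have hjpos : B ≠ D.W := by
    intro hBW
    refine M.U_ne_bot D ?_
    rw [← D.disp_U M.coprimely, disp_eq_bot_iff]
    intro u hu
    have h1 : ⁅u, x⁆ ∈ D.W := hBW ▸ hxB u hu
    exact (hBW ▸ (⟨hu, h1⟩ : u ∈ B) : u ∈ D.W).2
  have hj1 : Nat.card B ≤ 2 ^ (2 * m) * Nat.card D.W := by
    have h2 := relIndex_mul_card_eq (inf_le_left : B ⊓ rad hsp χ ≤ B)
    rw [inf_relIndex_left, le_antisymm (hR χ hχ) (le_inf hWB (W_le_rad hsp χ))] at h2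
    rw [← h2]
    refine Nat.mul_le_mul_right _ ((relIndex_le_of_le_right hBU
      ((rad hsp χ).subgroupOf D.U).index_ne_zero_of_finite).trans (le_of_eq ?_))
    exact Nat.eq_of_mul_eq_mul_right Nat.card_pos ((relIndex_mul_card_eq (rad_le hsp χ)).trans (hS.idx χ hχ))
  have hm := hS.pos
  have hj0 : j = 1 := by
    rcases Nat.eq_zero_or_pos j with rfl | h0
    · exact absurd (Subgroup.eq_of_le_of_card_ge hWB (by rw [hj]; simp)).symm hjpos
    · rw [hj] at hj1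
      have h := (Nat.pow_le_pow_iff_right one_lt_two).mp (Nat.le_of_mul_le_mul_right hj1 Nat.card_pos)
      have : 2 * m * j ≤ 2 * m * 1 := h.trans (le_of_eq (mul_one _).symm)
      have := Nat.le_of_mul_le_mul_left this (by omega)
      omega
  subst hj0
  rw [mul_one] at hj
  have hidx : B.relIndex D.U ≤ D.W.relIndex B := by
    rw [relIndex, relIndex, index, index]
    refine Nat.card_le_card_of_injective (Quotient.lift (fun u : D.U =>
      (((⟨⁅(u : G), x⁆, hxB u u.2⟩ : B) : B ⧸ D.W.subgroupOf B))) ?_) ?_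
    · intro u v huv
      have hb : (u : G)⁻¹ * v ∈ B := mem_subgroupOf.mp (QuotientGroup.leftRel_apply.mp huv)
      rw [QuotientGroup.eq, mem_subgroupOf]
      show ⁅(u : G), x⁆⁻¹ * ⁅(v : G), x⁆ ∈ D.W
      have e : ⁅(v : G), x⁆ = (u : G) * ⁅(u : G)⁻¹ * v, x⁆ * (u : G)⁻¹ * ⁅(u : G), x⁆ := by
        simp [commutatorElement_def, mul_assoc]
      rw [e, ← hsp.fix_central _ hb.2 u u.2, mul_inv_cancel_right, hsp.fix_central _ hb.2 _ (hxB u u.2).1,
        inv_mul_cancel_left]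
      exact hb.2
    · intro q q'
      induction q using Quotient.inductionOn with
      | _ u =>
        induction q' using Quotient.inductionOn with
        | _ v =>
          intro h
          change ((⟨⁅(u : G), x⁆, hxB u u.2⟩ : B) : B ⧸ D.W.subgroupOf B) = (⟨⁅(v : G), x⁆, hxB v v.2⟩ : B) at h
          rw [QuotientGroup.eq, mem_subgroupOf] at h
          refine Quotient.sound (QuotientGroup.leftRel_apply.mpr (mem_subgroupOf.mpr
            ⟨mul_mem (inv_mem u.2) v.2, ?_⟩))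
          have h' : ⁅(u : G), x⁆⁻¹ * ⁅(v : G), x⁆ ∈ D.W := h
          have e : ⁅(u : G)⁻¹ * v, x⁆ = (u : G)⁻¹ * (⁅(v : G), x⁆ * ⁅(u : G), x⁆⁻¹) * (u : G) := by
            simp [commutatorElement_def, mul_assoc]
          have h'' : ⁅(v : G), x⁆ * ⁅(u : G), x⁆⁻¹ ∈ D.W := by
            have h3 := hsp.fix_central _ h' _ (hxB u u.2).1
            rw [show ⁅(v : G), x⁆ * ⁅(u : G), x⁆⁻¹ = ⁅(u : G), x⁆ * (⁅(u : G), x⁆⁻¹ * ⁅(v : G), x⁆) * ⁅(u : G), x⁆⁻¹ by
              group, ← h3, mul_inv_cancel_right]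
            exact h'
          show ⁅(u : G)⁻¹ * v, x⁆ ∈ D.W
          rw [e, ← hsp.fix_central _ h'' _ (inv_mem u.2), inv_mul_cancel_right]
          exact h''
  have hiu : Nat.card D.U ≤ 2 ^ (2 * m) * Nat.card B := by
    rw [← relIndex_mul_card_eq hBU]
    refine Nat.mul_le_mul_right _ (hidx.trans (le_of_eq ?_))
    exact Nat.eq_of_mul_eq_mul_right Nat.card_pos ((relIndex_mul_card_eq hWB).trans hj)
  have hBne : B ≠ D.U := by
    intro hBeq
    refine hwc ?_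
    have hle : ⁅D.U, D.U⁆ ≤ center G := by
      rw [commutator_le]
      intro u hu v hv
      exact hconst u (hBeq ▸ hu) v (hBeq ▸ hv)
    exact hle (hsp.fix_le hw)
  have hcU : Nat.card D.U = 2 ^ (2 * m) * Nat.card B := by
    rw [hi, hj, ← mul_assoc, ← pow_add] at hiu ⊢
    have h := (Nat.pow_le_pow_iff_right one_lt_two).mp (Nat.le_of_mul_le_mul_right hiu Nat.card_pos)
    have h2 : ¬ i ≤ 1 := fun hle => hBne (Subgroup.eq_of_le_of_card_ge hBU (by
      rw [hi, hj]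
      exact Nat.mul_le_mul_right _ (Nat.pow_le_pow_right two_pos
        ((Nat.mul_le_mul_left _ hle).trans (le_of_eq (mul_one _))))))
    have h3 : 2 * m * i ≤ 2 * m * 2 := h.trans (le_of_eq (by ring))
    have h4 := Nat.le_of_mul_le_mul_left h3 (by omega)
    obtain rfl : i = 2 := by omega
    rw [show 2 * m + 2 * m = 2 * m * 2 by ring]
  refine ⟨B, ⟨hBa, hWB, hBU, fun u hu => ⟨fun h => h.2, fun h => ⟨hu, h⟩⟩, hj, hcU, hcomm, hxB, hconst, ?_⟩, hE⟩
  by_contra hne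
  push Not at hne
  have hall : ∀ b ∈ B, ∀ u ∈ D.U, ⁅b, u⁆ ∈ center G := fun b hb u hu => by
    obtain ⟨d, hd, w', hw', rfl⟩ := M.coprimely.exists_disp_mul hBa hb
    rw [M.inf_fixed_eq_W hWB hBU] at hw'
    rw [show ⁅w' * d, u⁆ = w' * ⁅d, u⁆ * w'⁻¹ * ⁅w', u⁆ by simp [commutatorElement_def, mul_assoc],
      commutatorElement_eq_one_iff_mul_comm.mpr (hsp.fix_central w' hw' u hu), mul_one,
      mem_center_iff.mp (hne d hd u hu) w', mul_inv_cancel_right]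
    exact hne d hd u hu
  have heq : ∀ μ, Occ ρ D μ → rad hsp χ ≤ rad hsp μ := by
    intro μ hμ y hy
    have hyU := rad_le hsp χ hy
    have hsup : rad hsp μ ⊔ B = D.U := by
      refine (M.eq_or_eq hS.pos hS.eq hsp (hS.idx μ hμ) ((inv_rad hsp μ).sup hBa) le_sup_left
        (sup_le (rad_le hsp μ) hBU)).resolve_left fun h => hjpos ?_
      exact le_antisymm (fun z hz => hR μ hμ ⟨hz, sup_eq_left.mp h hz⟩) hWB
    have hn : B ≤ normalizer (rad hsp μ : Set G) :=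
      hBU.trans (le_normalizer_of_W_le hsp (W_le_rad hsp μ) (rad_le hsp μ))
    have hy' : y ∈ rad hsp μ ⊔ B := hsup.symm ▸ hyU
    rw [← SetLike.mem_coe, Subgroup.coe_mul_of_right_le_normalizer_left _ _ hn] at hy'
    obtain ⟨s, hs, b, hb, rfl⟩ := hy'
    refine mul_mem hs (W_le_rad hsp μ (hR μ hμ ⟨hb, mem_rad.mpr ⟨hBU hb, fun z => ?_⟩⟩))
    have hz : (z : G) ∈ rad hsp μ ⊔ B := hsup.symm ▸ z.2
    rw [← SetLike.mem_coe, Subgroup.coe_mul_of_right_le_normalizer_left _ _ hn] at hz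
    obtain ⟨t, ht, b', hb', he⟩ := hz
    obtain ⟨htU, ht'⟩ := mem_rad.mp ht
    rw [show z = ⟨t, htU⟩ * ⟨b', hBU hb'⟩ from Subtype.ext he.symm, commW_mul_right, map_mul, ← commW_symm,
      ht' ⟨b, hBU hb⟩, one_mul]
    obtain ⟨hsU, hs'⟩ := mem_rad.mp hs
    obtain ⟨_, hy2⟩ := mem_rad.mp hy
    have h1 : μ (commW hsp ⟨s * b, hyU⟩ ⟨b', hBU hb'⟩) = μ (commW hsp ⟨b, hBU hb⟩ ⟨b', hBU hb'⟩) := by
      rw [show (⟨s * b, hyU⟩ : D.U) = ⟨s, hsU⟩ * ⟨b, hBU hb⟩ from rfl, commW_mul_left, map_mul, hs', one_mul]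
    rw [← h1, ← M.occ_center_eq hχ hμ ?_]
    · exact hy2 _
    · show ⁅s * b, b'⁆ ∈ center G
      rw [← commutatorElement_inv]
      exact inv_mem (hall b' hb' _ hyU)
  have hle : rad hsp χ ≤ D.W := by
    by_contra h
    obtain ⟨μ, hμ, h1⟩ := M.exists_occ_not_le (D := D) (rad_le hsp χ) h
    exact h1 (heq μ hμ)
  have h5 := hS.idx χ hχ
  rw [le_antisymm hle (W_le_rad hsp χ), hcU, hj] at h5
  exact absurd (Nat.eq_of_mul_eq_mul_left (Nat.two_pow_pos _) h5) (Nat.ne_of_gt (lt_mul_of_one_lt_left Nat.card_pos (Nat.one_lt_two_pow (by omega))))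

end Cfg

namespace Cfg

variable (M : Cfg p r a ρ T) {m : ℕ}
include M

/-- The involution centralises the pairing of its axis with `U` modulo the centre. -/
theorem axis_conj_pairing (hS : Shape ρ D r m) {x : G} {B : Subgroup G} (hA : Axis D m x B) (hx : x ∈ D.N)
    {e u : G} (he : e ∈ disp a B) (hu : u ∈ D.U) : ⁅x, ⁅e, u⁆⁆ ∈ center G := by
  have heB := disp_le hA.inv he
  have hxe : x * e * x⁻¹ = e := by rw [← hA.comm e he, mul_inv_cancel_right]
  have hb : ⁅x, u⁆ ∈ B := by rw [← commutatorElement_inv]; exact inv_mem (hA.image u hu)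
  have h1 := hS.sp.comm_mem e (hA.le_U heB) u hu
  have e1 : x * ⁅e, u⁆ * x⁻¹ = ⁅e, ⁅x, u⁆⁆ * ⁅e, u⁆ := by
    have e0 : x * ⁅e, u⁆ * x⁻¹ = ⁅x * e * x⁻¹, ⁅x, u⁆ * u⁆ := by simp [commutatorElement_def, mul_assoc]
    rw [e0, hxe, show ⁅e, ⁅x, u⁆ * u⁆ = ⁅e, ⁅x, u⁆⁆ * (⁅x, u⁆ * ⁅e, u⁆ * ⁅x, u⁆⁻¹) by
      simp [commutatorElement_def, mul_assoc], ← hS.sp.fix_central _ h1 _ (hA.le_U hb), mul_inv_cancel_right]
  rw [show ⁅x, ⁅e, u⁆⁆ = x * ⁅e, u⁆ * x⁻¹ * ⁅e, u⁆⁻¹ from commutatorElement_def _ _, e1, mul_inv_cancel_right]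
  exact hA.constant e heB _ hb

/-- Fixed elements of the pairing lie in the stabiliser of the moved point. -/
theorem axis_pairing_le (hS : Shape ρ D r m) {c w : G} (hw : w ∈ D.W) (hwc : w ∉ center G)
    {B : Subgroup G} (hA : Axis D m (c * w * c⁻¹) B) (hx : c * w * c⁻¹ ∈ D.N) {z : G}
    (hz : z ∈ ⁅disp a B, D.U⁆) : c⁻¹ * z * c ∈ D.N := by
  rw [Subgroup.commutator_def] at hz
  induction hz using Subgroup.closure_induction with
  | mem y hy =>
    obtain ⟨e, he, u, hu, rfl⟩ := hy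
    have h := M.axis_conj_pairing hS hA hx he hu
    set s := ⁅e, u⁆
    set z := ⁅c * w * c⁻¹, s⁆ with hz'
    refine M.mem_N_of_conj D hw hwc hw (z := z⁻¹) (inv_mem h) ?_
    have e2 : c⁻¹ * s * c * w * (c⁻¹ * s * c)⁻¹ = c⁻¹ * (z⁻¹ * (c * w * c⁻¹)) * c := by
      rw [hz', commutatorElement_def]; group
    rw [e2, ← mem_center_iff.mp (inv_mem h) (c * w * c⁻¹)]
    have hc0 := mem_center_iff.mp (inv_mem h) c
    calc c⁻¹ * (c * w * c⁻¹ * z⁻¹) * c = w * c⁻¹ * (z⁻¹ * c) := by group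
      _ = w * c⁻¹ * (c * z⁻¹) := by rw [hc0]
      _ = w * z⁻¹ := by group
  | one => simpa using one_mem D.N
  | mul y z _ _ hy hz => simpa [mul_assoc] using mul_mem hy hz
  | inv y _ hy => simpa [mul_assoc] using inv_mem hy

theorem commutator_disp_le_W (hS : Shape ρ D r m) {B : Subgroup G} (hB : Inv a B) (hBU : B ≤ D.U) :
    ⁅disp a B, D.U⁆ ≤ D.W :=
  (commutator_mono ((disp_le hB).trans hBU) le_rfl).trans (commutator_le.mpr fun u hu v hv => hS.sp.comm_mem u hu v hv)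

/-- Involutions with different axes are impossible. -/
theorem axis_unique (hS : Shape ρ D r m) {x x' : G} {B B' : Subgroup G} (hA : Axis D m x B)
    (hA' : Axis D m x' B') (hx : x ∈ D.Gam) (hx' : x' ∈ D.Gam) (hx2 : x * x = 1) (hx'2 : x' * x' = 1) :
    B = B' := by
  classical
  have hsp := hS.sp
  by_contra hne
  have hnotle : ¬ B' ≤ B := fun h => hne (Subgroup.eq_of_le_of_card_ge h (by rw [hA.card, hA'.card])).symm
  have hn : B' ≤ normalizer (B : Set G) :=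
    hA'.le_U.trans (le_normalizer_of_W_le hsp hA.W_le hA.le_U)
  have hsup : B ⊔ B' = D.U := (M.eq_or_eq_of_card hS.pos hS.eq hA.inv hA.W_le le_rfl hA.card_U
    (hA.inv.sup hA'.inv) le_sup_left (sup_le hA.le_U hA'.le_U)).resolve_left fun h => hnotle (sup_eq_left.mp h)
  let P : Subgroup G :=
    { carrier := {s | s ∈ D.W ∧ ⁅x, s⁆ ∈ center G ∧ ⁅x', s⁆ ∈ center G}
      one_mem' := ⟨one_mem _, by simp, by simp⟩
      mul_mem' := fun {y z} hy hz => ⟨mul_mem hy.1 hz.1, by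
        rw [show ⁅x, y * z⁆ = ⁅x, y⁆ * (y * ⁅x, z⁆ * y⁻¹) by simp [commutatorElement_def, mul_assoc],
          mem_center_iff.mp hz.2.1 y, mul_inv_cancel_right]
        exact mul_mem hy.2.1 hz.2.1, by
        rw [show ⁅x', y * z⁆ = ⁅x', y⁆ * (y * ⁅x', z⁆ * y⁻¹) by simp [commutatorElement_def, mul_assoc],
          mem_center_iff.mp hz.2.2 y, mul_inv_cancel_right]
        exact mul_mem hy.2.2 hz.2.2⟩
      inv_mem' := fun {y} hy => by
        rw [inv_eq_of_mul_eq_one_left (hsp.fix_sq y hy.1)]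
        exact hy }
  have hcen : ∀ z ∈ D.W, z ∈ center G → z ∈ P := fun z hz hzc => ⟨hz, by
    rw [commutatorElement_eq_one_iff_mul_comm.mpr (mem_center_iff.mp hzc x)]; exact one_mem _, by
    rw [commutatorElement_eq_one_iff_mul_comm.mpr (mem_center_iff.mp hzc x')]; exact one_mem _⟩
  have hcross : ∀ b ∈ B, ∀ b' ∈ B', ⁅b, b'⁆ ∈ P := by
    intro b hb b' hb'
    obtain ⟨d, hd, w₁, hw₁, rfl⟩ := M.coprimely.exists_disp_mul hA.inv hb
    obtain ⟨d', hd', w₂, hw₂, rfl⟩ := M.coprimely.exists_disp_mul hA'.inv hb'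
    rw [M.inf_fixed_eq_W hA.W_le hA.le_U] at hw₁
    rw [M.inf_fixed_eq_W hA'.W_le hA'.le_U] at hw₂
    have hdU := hA.le_U (disp_le hA.inv hd)
    have hd'U := hA'.le_U (disp_le hA'.inv hd')
    have e : commW hsp (⟨w₁, hw₁.1⟩ * ⟨d, hdU⟩) (⟨w₂, hw₂.1⟩ * ⟨d', hd'U⟩) = commW hsp ⟨d, hdU⟩ ⟨d', hd'U⟩ := by
      have z1 : ∀ y, commW hsp ⟨w₁, hw₁.1⟩ y = 1 := fun y => Subtype.ext
        (commutatorElement_eq_one_iff_mul_comm.mpr (hsp.fix_central w₁ hw₁ y y.2))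
      have z2 : ∀ y, commW hsp y ⟨w₂, hw₂.1⟩ = 1 := fun y => Subtype.ext
        (commutatorElement_eq_one_iff_mul_comm.mpr (hsp.fix_central w₂ hw₂ y y.2).symm)
      rw [commW_mul_left, z1, one_mul, commW_mul_right, z2, one_mul]
    rw [show ⁅w₁ * d, w₂ * d'⁆ = ⁅d, d'⁆ from congrArg Subtype.val e]
    refine ⟨hsp.comm_mem d hdU d' hd'U, M.axis_conj_pairing hS hA hx.1 hd hd'U, ?_⟩
    have e' : ⁅d, d'⁆ = ⁅d', d⁆ := congrArg Subtype.val (commW_symm hsp ⟨d', hd'U⟩ ⟨d, hdU⟩)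
    rw [e']
    exact M.axis_conj_pairing hS hA' hx'.1 hd' hdU
  have hgen : ⁅D.U, D.U⁆ ≤ P := commutator_le.mpr fun u hu v hv => by
    have hu' : u ∈ (↑(B ⊔ B') : Set G) := hsup.symm ▸ hu
    have hv' : v ∈ (↑(B ⊔ B') : Set G) := hsup.symm ▸ hv
    rw [Subgroup.coe_mul_of_right_le_normalizer_left _ _ hn] at hu' hv'
    obtain ⟨b, hb, b', hb', rfl⟩ := hu'
    obtain ⟨c, hc, c', hc', rfl⟩ := hv'
    have e := congrArg Subtype.val (show commW hsp (⟨b, hA.le_U hb⟩ * ⟨b', hA'.le_U hb'⟩)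
        (⟨c, hA.le_U hc⟩ * ⟨c', hA'.le_U hc'⟩) = commW hsp ⟨b, hA.le_U hb⟩ ⟨c, hA.le_U hc⟩ *
          commW hsp ⟨b, hA.le_U hb⟩ ⟨c', hA'.le_U hc'⟩ * (commW hsp ⟨b', hA'.le_U hb'⟩ ⟨c, hA.le_U hc⟩ *
          commW hsp ⟨b', hA'.le_U hb'⟩ ⟨c', hA'.le_U hc'⟩) by
      rw [commW_mul_left, commW_mul_right, commW_mul_right])
    have hmem := mul_mem (mul_mem (hcen _ (commW hsp ⟨b, hA.le_U hb⟩ ⟨c, hA.le_U hc⟩).2 (hA.constant b hb c hc))
      (hcross b hb c' hc')) (mul_mem (show ⁅b', c⁆ ∈ P from (show ⁅c, b'⁆ = ⁅b', c⁆ from congrArg Subtype.val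
        (commW_symm hsp ⟨b', hA'.le_U hb'⟩ ⟨c, hA.le_U hc⟩)) ▸ hcross c hc b' hb')
      (hcen _ (commW hsp ⟨b', hA'.le_U hb'⟩ ⟨c', hA'.le_U hc'⟩).2 (hA'.constant b' hb' c' hc')))
    show ⁅b * b', c * c'⁆ ∈ P
    rw [show ⁅b * b', c * c'⁆ = _ from e]
    exact hmem
  have hP : ∀ s ∈ D.W, ⁅x, s⁆ ∈ center G ∧ ⁅x', s⁆ ∈ center G := fun s hs => (hgen (hsp.fix_le hs)).2
  have hxi : x⁻¹ = x := inv_eq_of_mul_eq_one_left hx2
  have hx'i : x'⁻¹ = x' := inv_eq_of_mul_eq_one_left hx'2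
  set k : D.Gam := ⟨x, hx⟩ * ⟨x', hx'⟩ * ⟨x, hx⟩ * ⟨x', hx'⟩ with hk
  have hkW : ∀ s ∈ D.W, (k : G) * s * (k : G)⁻¹ = s := by
    intro s hs
    obtain ⟨h1, h2⟩ := hP s hs
    set z := ⁅x, s⁆ with hz
    set z' := ⁅x', s⁆ with hz'
    have a1 : x * s * x⁻¹ = z * s := by rw [hz, commutatorElement_def]; group
    have a2 : x' * s * x'⁻¹ = z' * s := by rw [hz', commutatorElement_def]; group
    have conjz : ∀ g y : G, y ∈ center G → g * y * g⁻¹ = y := fun g y hy => by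
      rw [mem_center_iff.mp hy g, mul_inv_cancel_right]
    have b1 : x * (z * s) * x⁻¹ = z * z * s := by
      calc x * (z * s) * x⁻¹ = (x * z * x⁻¹) * (x * s * x⁻¹) := by group
        _ = _ := by rw [conjz x z h1, a1, mul_assoc]
    have c1 : z * z = 1 := by
      have e : x * (x * s * x⁻¹) * x⁻¹ = s := by
        calc x * (x * s * x⁻¹) * x⁻¹ = (x * x) * s * (x * x)⁻¹ := by group
          _ = s := by rw [hx2]; group
      rw [a1, b1] at e
      exact mul_eq_right.mp e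
    have c2 : z' * z' = 1 := by
      have e : x' * (x' * s * x'⁻¹) * x'⁻¹ = s := by
        calc x' * (x' * s * x'⁻¹) * x'⁻¹ = (x' * x') * s * (x' * x')⁻¹ := by group
          _ = s := by rw [hx'2]; group
      rw [a2, show x' * (z' * s) * x'⁻¹ = (x' * z' * x'⁻¹) * (x' * s * x'⁻¹) by group, conjz x' z' h2, a2,
        ← mul_assoc] at e
      exact mul_eq_right.mp e
    have comm : z * z' = z' * z := (mem_center_iff.mp h2 z)
    show x * x' * x * x' * s * (x * x' * x * x')⁻¹ = s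
    calc x * x' * x * x' * s * (x * x' * x * x')⁻¹
        = x * (x' * (x * (x' * s * x'⁻¹) * x⁻¹) * x'⁻¹) * x⁻¹ := by group
      _ = x * (x' * (z' * (z * s)) * x'⁻¹) * x⁻¹ := by
        rw [a2, show x * (z' * s) * x⁻¹ = (x * z' * x⁻¹) * (x * s * x⁻¹) by group, conjz x z' h2, a1]
      _ = x * ((z' * z) * (z' * s)) * x⁻¹ := by
        rw [show x' * (z' * (z * s)) * x'⁻¹ = (x' * z' * x'⁻¹) * (x' * z * x'⁻¹) * (x' * s * x'⁻¹) by group,
          conjz x' z' h2, conjz x' z h1, a2]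
      _ = x * (z * s) * x⁻¹ := by
        congr 2
        rw [← comm, mul_assoc z, ← mul_assoc z' z', c2, one_mul]
      _ = s := by rw [b1, c1, one_mul]
  have hkC : (k : G) ∈ centralizer (D.U : Set G) := by
    refine M.centralizes_of_act hS k fun χ _ => MonoidHom.ext fun s => ?_
    rw [UData.act_apply]
    refine congrArg χ (Subtype.ext ?_)
    rw [UData.conjW_apply, Subgroup.coe_inv, inv_inv]
    calc (k : G)⁻¹ * s * k = (k : G)⁻¹ * ((k : G) * s * (k : G)⁻¹) * k := by rw [hkW s s.2]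
      _ = s := by group
  -- the second involution normalises the first axis
  have hB' : ∀ b ∈ B, x' * b * x'⁻¹ ∈ B := by
    intro b hb
    have hbU := hA.le_U hb
    have huU : x' * b * x'⁻¹ ∈ D.U := D.conj_mem_U hx'.1 hbU
    refine (hA.mem_iff _ huU).mpr ?_
    have h1 : ⁅b, x⁆ ∈ D.W := (hA.mem_iff b hbU).mp hb
    have e0 : (x * x' * x * x') * b * (x * x' * x * x')⁻¹ = b := by
      have := mem_centralizer_iff.mp hkC b hbU
      rw [show (x * x' * x * x') * b = b * (x * x' * x * x') from this.symm, mul_inv_cancel_right]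
    have e2 : x * (x' * b * x'⁻¹) * x⁻¹ = x' * (x * b * x⁻¹) * x'⁻¹ := by
      calc x * (x' * b * x'⁻¹) * x⁻¹ = (x * x') * b * (x * x')⁻¹ := by group
        _ = ((x' * (x * x) * x') * (x * x')) * b * ((x' * (x * x) * x') * (x * x'))⁻¹ := by
          rw [hx2, mul_one, hx'2, one_mul]
        _ = (x' * x) * ((x * x' * x * x') * b * (x * x' * x * x')⁻¹) * (x' * x)⁻¹ := by group
        _ = _ := by rw [e0]; group
    have e3 : ⁅x' * b * x'⁻¹, x⁆ = x' * ⁅b, x⁆ * x'⁻¹ := by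
      calc ⁅x' * b * x'⁻¹, x⁆ = (x' * b * x'⁻¹) * (x * (x' * b * x'⁻¹) * x⁻¹)⁻¹ := by
            simp [commutatorElement_def, mul_assoc]
        _ = x' * ⁅b, x⁆ * x'⁻¹ := by rw [e2]; simp [commutatorElement_def, mul_assoc]
    rw [e3]
    exact D.conj_mem_W (g := x') hx' h1
  refine hne (Subgroup.eq_of_le_of_card_ge (fun b hb => (hA'.mem_iff b (hA.le_U hb)).mpr ?_)
    (by rw [hA.card, hA'.card]))
  rw [← commutatorElement_inv]
  refine inv_mem (M.commutator_mem_of_two hA.inv D.inv_W le_rfl hA.W_le hA.le_U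
    (fun X hX h1 h2 => M.eq_or_eq_of_card hS.pos hS.eq D.inv_W le_rfl hA.le_U hA.card hX h1 h2) 1 x'
    hx'.2 (by rw [pow_one, pow_two]; exact hx'2) hB' (fun y hy => D.conj_mem_W (g := x') hx' hy) b hb)

/-- A `2`-group of fixed elements of `N` over the pairing, normalising the axis, gives a `U`-normalised group. -/
theorem axis_normalizer (hS : Shape ρ D r m) {x : G} {B : Subgroup G} (hA : Axis D m x B) {Q : Subgroup G}
    (hQ : Q ≤ D.Gam) (hQ2 : IsPGroup 2 Q) (hQn : ∀ q ∈ Q, ∀ e ∈ disp a B, q * e * q⁻¹ ∈ disp a B)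
    (hW1 : ⁅disp a B, D.U⁆ ≤ Q) : D.U ≤ normalizer ((disp a B ⊔ Q : Subgroup G) : Set G) := by
  classical
  have hsp := hS.sp
  set E := disp a B with hEdef
  set R := E ⊔ ⁅E, D.U⁆ with hR
  have hEU : E ≤ D.U := (disp_le hA.inv).trans hA.le_U
  have hW1W : ⁅E, D.U⁆ ≤ D.W := M.commutator_disp_le_W hS hA.inv hA.le_U
  have hRB : R ≤ B := sup_le (disp_le hA.inv) (hW1W.trans hA.W_le)
  have hRQ : R ≤ E ⊔ Q := sup_le_sup_left hW1 _
  have hRn : ∀ u ∈ D.U, ∀ y ∈ R, u * y * u⁻¹ ∈ R := by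
    intro u hu y hy
    rw [hR, sup_eq_closure] at hy
    induction hy using Subgroup.closure_induction with
    | mem z hz =>
      rcases hz with hz | hz
      · rw [show u * z * u⁻¹ = ⁅z, u⁆⁻¹ * z by simp [commutatorElement_def, mul_assoc]]
        exact mul_mem (inv_mem (mem_sup_right (commutator_mem_commutator hz hu))) (mem_sup_left hz)
      · rw [← hsp.fix_central z (hW1W hz) u hu, mul_inv_cancel_right]
        exact mem_sup_right hz
    | one => simp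
    | mul y z _ _ hy hz => simpa [mul_assoc] using mul_mem hy hz
    | inv y _ hy => simpa [mul_assoc] using inv_mem hy
  have hnormR : (R.subgroupOf D.U).Normal := ⟨fun y hy u => hRn u u.2 _ hy⟩
  have hirr : ∀ X : Subgroup G, Inv a X → B ≤ X → X ≤ D.U → X = B ∨ X = D.U := fun X hX h1 h2 =>
    M.eq_or_eq_of_card hS.pos hS.eq hA.inv hA.W_le le_rfl hA.card_U hX h1 h2
  refine le_normalizer_iff.mpr fun u hu y hy => ?_
  rw [sup_eq_closure] at hy
  induction hy using Subgroup.closure_induction with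
  | one => simp
  | mul y z _ _ hy hz => simpa [mul_assoc] using mul_mem hy hz
  | inv y _ hy => simpa [mul_assoc] using inv_mem hy
  | mem z hz =>
    rcases hz with hz | hz
    · exact hRQ (hRn u hu z (mem_sup_left hz))
    · have hq := hQ hz
      obtain ⟨j, hj⟩ := hQ2 ⟨z, hz⟩
      have hBq : ∀ b ∈ B, z * b * z⁻¹ ∈ B := by
        intro b hb
        obtain ⟨d, hd, w', hw', rfl⟩ := M.coprimely.exists_disp_mul hA.inv hb
        rw [M.inf_fixed_eq_W hA.W_le hA.le_U] at hw'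
        rw [show z * (w' * d) * z⁻¹ = (z * w' * z⁻¹) * (z * d * z⁻¹) by group]
        exact mul_mem (hA.W_le (D.conj_mem_W hq hw')) (disp_le hA.inv (hQn z hz d hd))
      have hzB : ∀ v ∈ D.U, ⁅v, z⁆ ∈ B := fun v hv => by
        rw [← commutatorElement_inv]
        exact inv_mem (M.commutator_mem_of_two D.inv_U hA.inv hA.W_le hA.le_U le_rfl hirr j z hq.2
          (congrArg Subtype.val hj) (fun y hy => D.conj_mem_U hq.1 hy) hBq v hv)
      let f : G → D.U ⧸ R.subgroupOf D.U := fun v =>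
        if h : v ∈ D.U then ((⟨⁅v, z⁆, hA.le_U (hzB v h)⟩ : D.U) : D.U ⧸ R.subgroupOf D.U) else 1
      have hf : ∀ v (h : v ∈ D.U), f v = ((⟨⁅v, z⁆, hA.le_U (hzB v h)⟩ : D.U) : D.U ⧸ R.subgroupOf D.U) :=
        fun v h => dif_pos h
      have hdispR : ∀ b ∈ B, b⁻¹ * a b ∈ R := fun b hb => mem_sup_left (mem_disp hb)
      have h1 := eq_one_on_disp (A := D.U ⧸ R.subgroupOf D.U) D.inv_U f (fun v hv v' hv' => ?_) (fun v hv => ?_)
        (by rw [hf 1 (one_mem _), QuotientGroup.eq_one_iff, mem_subgroupOf]; simp)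
        (x := u) ((D.disp_U M.coprimely).symm ▸ hu)
      · rw [hf u hu, QuotientGroup.eq_one_iff, mem_subgroupOf] at h1
        have h2 : ⁅u, z⁆ ∈ R := h1
        rw [show u * z * u⁻¹ = ⁅u, z⁆ * z by rw [commutatorElement_def]; group]
        exact mul_mem (hRQ h2) (mem_sup_right hz)
      · rw [hf _ (mul_mem hv hv'), hf v hv, hf v' hv', ← QuotientGroup.mk_mul, QuotientGroup.eq, mem_subgroupOf]
        show ⁅v * v', z⁆⁻¹ * (⁅v, z⁆ * ⁅v', z⁆) ∈ R
        obtain ⟨d, hd, w', hw', he⟩ := M.coprimely.exists_disp_mul hA.inv (hzB v' hv')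
        rw [M.inf_fixed_eq_W hA.W_le hA.le_U] at hw'
        rw [show ⁅v * v', z⁆ = v * ⁅v', z⁆ * v⁻¹ * ⁅v, z⁆ by simp [commutatorElement_def, mul_assoc], he]
        have hcv : ⁅v, z⁆ ∈ D.U := hA.le_U (hzB v hv)
        have hmemd : d ∈ R := mem_sup_left hd
        have k1 : v * (w' * d) * v⁻¹ = w' * (v * d * v⁻¹) := by
          rw [← mul_assoc v, ← hsp.fix_central w' hw' v hv]; group
        have k2 : (v * (w' * d) * v⁻¹ * ⁅v, z⁆)⁻¹ * (⁅v, z⁆ * (w' * d))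
            = (⁅v, z⁆⁻¹ * (v * d * v⁻¹)⁻¹ * ⁅v, z⁆) * d := by
          have k3 := hsp.fix_central w' hw' ⁅v, z⁆ hcv
          rw [k1, mul_inv_rev, mul_inv_rev]
          calc ⁅v, z⁆⁻¹ * ((v * d * v⁻¹)⁻¹ * w'⁻¹) * (⁅v, z⁆ * (w' * d))
              = ⁅v, z⁆⁻¹ * (v * d * v⁻¹)⁻¹ * w'⁻¹ * (⁅v, z⁆ * w') * d := by group
            _ = _ := by rw [← k3]; group
        rw [k2]
        refine mul_mem ?_ hmemd
        simpa using hRn _ (inv_mem hcv) _ (inv_mem (hRn v hv d hmemd))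
      · rw [hf _ (D.inv_U v hv), hf v hv, QuotientGroup.eq, mem_subgroupOf]
        show ⁅a v, z⁆⁻¹ * ⁅v, z⁆ ∈ R
        rw [show ⁅a v, z⁆ = a ⁅v, z⁆ by rw [map_commutatorElement, mem_fixedBy.mp hq.2]]
        have := inv_mem (hdispR _ (hzB v hv))
        simpa using this

/-- A fixed element moving a noncentral element of `W` into `N` lies in `N`. -/
theorem stepA {c w : G} (hc : c ∈ fixedBy a) (hw : w ∈ D.W) (hwc : w ∉ center G)
    (hx : c * w * c⁻¹ ∈ D.N) : c ∈ D.N := by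
  classical
  obtain ⟨m, hS⟩ := M.exists_shape (D := D)
  by_contra hcN
  obtain ⟨B, hA, hE⟩ := M.exists_axis hS hc hw hwc hx hcN
  obtain ⟨e, he, u, hu, hw1c⟩ := hA.pairing
  set E := disp a B with hEdef
  set W1 := ⁅E, D.U⁆ with hW1def
  have hsp := hS.sp
  have hEU : E ≤ D.U := (disp_le hA.inv).trans hA.le_U
  have hW1W : W1 ≤ D.W := M.commutator_disp_le_W hS hA.inv hA.le_U
  have hW1N : ∀ z ∈ W1, c⁻¹ * z * c ∈ D.N := fun z hz => M.axis_pairing_le hS hw hwc hA hx hz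
  set w1 := ⁅e, u⁆
  have hw1 : w1 ∈ W1 := commutator_mem_commutator he hu
  have hx' : c⁻¹ * w1 * c⁻¹⁻¹ ∈ D.N := by rw [inv_inv]; exact hW1N w1 hw1
  have hc'N : c⁻¹ ∉ D.N := fun h => hcN (D.N.inv_mem_iff.mp h)
  obtain ⟨B', hA', -⟩ := M.exists_axis hS (inv_mem hc) (hW1W hw1) hw1c hx' hc'N
  have hxG : c * w * c⁻¹ ∈ D.Gam :=
    ⟨hx, (fixedBy a).mul_mem ((fixedBy a).mul_mem hc hw.2) ((fixedBy a).inv_mem hc)⟩
  have hx'G : c⁻¹ * w1 * c⁻¹⁻¹ ∈ D.Gam := ⟨hx', (fixedBy a).mul_mem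
    ((fixedBy a).mul_mem ((fixedBy a).inv_mem hc) (hW1W hw1).2) ((fixedBy a).inv_mem ((fixedBy a).inv_mem hc))⟩
  have hBB := M.axis_unique hS hA hA' hxG hx'G
    (by simp [mul_assoc, ← mul_assoc w w, hsp.fix_sq w hw])
    (by simp [mul_assoc, ← mul_assoc w1 w1, hsp.fix_sq w1 (hW1W hw1)])
  -- `c` normalises the axis
  have hEc : E.map (MulAut.conj c⁻¹).toMonoidHom = E := by
    have hle : E.map (MulAut.conj c⁻¹).toMonoidHom ≤ B := by
      rintro _ ⟨y, hy, rfl⟩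
      have hyU : c⁻¹ * y * c⁻¹⁻¹ ∈ D.U := hE ⟨y, hy, rfl⟩
      show c⁻¹ * y * c⁻¹⁻¹ ∈ B
      rw [hBB]
      refine (hA'.mem_iff _ hyU).mpr ?_
      rw [show ⁅c⁻¹ * y * c⁻¹⁻¹, c⁻¹ * w1 * c⁻¹⁻¹⁆ = c⁻¹ * ⁅y, w1⁆ * c⁻¹⁻¹ by
          simp [commutatorElement_def, mul_assoc],
        commutatorElement_eq_one_iff_mul_comm.mpr (hsp.fix_central w1 (hW1W hw1) y (hEU hy)).symm]
      simp
    have hinv : Inv a (E.map (MulAut.conj c⁻¹).toMonoidHom) := (inv_disp hA.inv).map_conj (inv_mem hc)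
    have hd : disp a (E.map (MulAut.conj c⁻¹).toMonoidHom) = E.map (MulAut.conj c⁻¹).toMonoidHom := by
      rw [disp_map_conj (inv_mem hc), M.coprimely.disp_disp hA.inv]
    refine Subgroup.eq_of_le_of_card_ge ?_ (Coprime.card_map_conj _ _).ge
    rw [← hd]
    exact disp_mono hle
  have hcE : ∀ y ∈ E, c⁻¹ * y * c ∈ E := fun y hy => by
    have := hEc.le ⟨y, hy, rfl⟩
    simpa using this
  have hcE' : ∀ y ∈ E, c * y * c⁻¹ ∈ E := fun y hy => by
    obtain ⟨y', hy', he'⟩ := hEc.ge hy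
    rw [show c * y * c⁻¹ = y' by rw [← he']; simp [mul_assoc]]
    exact hy'
  have hW1N' : ∀ z ∈ W1, c * z * c⁻¹ ∈ D.N := fun z hz => by
    have := M.axis_pairing_le hS (hW1W hw1) hw1c hA' hx' (z := z) (by rw [← hBB]; exact hz)
    simpa using this
  have hWE : ∀ y ∈ D.W, ∀ e' ∈ E, y * e' * y⁻¹ ∈ E := fun y hy e' he' => by
    rw [hsp.fix_central y hy e' (hEU he'), mul_inv_cancel_right]; exact he'
  have hEW1 : ∀ g ∈ D.Gam, (∀ e' ∈ E, g * e' * g⁻¹ ∈ E) → ∀ z ∈ W1, g * z * g⁻¹ ∈ W1 := by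
    intro g hg hgE z hz
    rw [hW1def, Subgroup.commutator_def] at hz
    induction hz using Subgroup.closure_induction with
    | mem y hy =>
      obtain ⟨e', he', u', hu', rfl⟩ := hy
      rw [conjugate_commutatorElement]
      exact commutator_mem_commutator (hgE e' he') (D.conj_mem_U hg.1 hu')
    | one => simp
    | mul y z _ _ hy hz => simpa [mul_assoc] using mul_mem hy hz
    | inv y _ hy => simpa [mul_assoc] using inv_mem hy
  set W1c := W1.map (MulAut.conj c).toMonoidHom with hW1c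
  have hmemc : ∀ z, z ∈ W1c ↔ c⁻¹ * z * c ∈ W1 := fun z => by
    constructor
    · rintro ⟨y, hy, rfl⟩; simpa [mul_assoc] using hy
    · exact fun h => ⟨_, h, by simp [mul_assoc]⟩
  have hfix : ∀ z ∈ W1, c * z * c⁻¹ ∈ fixedBy a := fun z hz =>
    (fixedBy a).mul_mem ((fixedBy a).mul_mem hc (hW1W hz).2) ((fixedBy a).inv_mem hc)
  have hW1cG : W1c ≤ D.Gam := by
    rintro _ ⟨z, hz, rfl⟩
    exact ⟨hW1N' z hz, hfix z hz⟩
  have hW1G : ∀ z ∈ W1, c⁻¹ * z * c ∈ D.Gam := fun z hz => ⟨hW1N z hz,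
    (fixedBy a).mul_mem ((fixedBy a).mul_mem ((fixedBy a).inv_mem hc) (hW1W hz).2) hc⟩
  set Q := W1 ⊔ W1c with hQdef
  have hQG : Q ≤ D.Gam := sup_le (hW1W.trans D.W_le_Gam) hW1cG
  have hW12 : IsPGroup 2 W1 := D.isPGroup_U.to_le (hW1W.trans D.W_le_U)
  have hnorm : W1 ≤ normalizer (W1c : Set G) := le_normalizer_iff.mpr fun g hg z hz => by
    rw [hmemc] at hz ⊢
    have hg' := hW1G g hg
    have hgE : ∀ e' ∈ E, c⁻¹ * g * c * e' * (c⁻¹ * g * c)⁻¹ ∈ E := fun e' he' => by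
      have := hcE _ (hWE g (hW1W hg) _ (hcE' e' he'))
      simpa [mul_assoc] using this
    have := hEW1 _ hg' hgE _ hz
    simpa [mul_assoc] using this
  have hQ2 : IsPGroup 2 Q := hW12.to_sup_of_normal_right' (hW12.map _) hnorm
  have hQn : ∀ q ∈ Q, ∀ e' ∈ E, q * e' * q⁻¹ ∈ E := by
    intro q hq
    rw [hQdef, sup_eq_closure] at hq
    induction hq using Subgroup.closure_induction'' with
    | mem z hz =>
      intro e' he'
      rcases hz with hz | hz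
      · exact hWE z (hW1W hz) e' he'
      · have := hcE' _ (hWE _ (hW1W ((hmemc z).mp hz)) _ (hcE e' he'))
        simpa [mul_assoc] using this
    | inv_mem z hz =>
      intro e' he'
      rcases hz with hz | hz
      · exact hWE _ (inv_mem (hW1W hz)) e' he'
      · have := hcE' _ (hWE _ (inv_mem (hW1W ((hmemc z).mp hz))) _ (hcE e' he'))
        simpa [mul_assoc] using this
    | one => simp
    | mul y z _ _ hy hz =>
      intro e' he'
      have := hy _ (hz e' he')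
      simpa [mul_assoc] using this
  have h1 := M.axis_normalizer hS hA hQG hQ2 hQn le_sup_left
  set Q' := Q.map (MulAut.conj c⁻¹).toMonoidHom with hQ'def
  have hQ'G : Q' ≤ D.Gam := by
    rw [hQ'def, hQdef, Subgroup.map_sup]
    refine sup_le ?_ ?_
    · rintro _ ⟨z, hz, rfl⟩; simpa using hW1G z hz
    · rintro _ ⟨_, ⟨z, hz, rfl⟩, rfl⟩; simpa [mul_assoc] using D.W_le_Gam (hW1W hz)
  have hQ'n : ∀ q ∈ Q', ∀ e' ∈ E, q * e' * q⁻¹ ∈ E := by
    rintro _ ⟨q, hq, rfl⟩ e' he'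
    have := hcE _ (hQn q hq _ (hcE' e' he'))
    simpa [mul_assoc] using this
  have h2 := M.axis_normalizer hS hA hQ'G (hQ2.map _) hQ'n (fun z hz =>
    ⟨c * z * c⁻¹, mem_sup_right ⟨z, hz, rfl⟩, by simp [mul_assoc]⟩)
  have hUc : D.U.map (MulAut.conj c).toMonoidHom ≤ normalizer ((E ⊔ Q : Subgroup G) : Set G) := by
    have e' : (E ⊔ Q') = (E ⊔ Q).map (MulAut.conj c⁻¹).toMonoidHom := by rw [Subgroup.map_sup, hEc]
    rintro _ ⟨v, hv, rfl⟩
    have h3 := h2 hv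
    rw [e', mem_normalizer_iff] at h3
    refine mem_normalizer_iff.mpr fun y => ?_
    have h4 := h3 (c⁻¹ * y * c⁻¹⁻¹)
    have hm : ∀ y, c⁻¹ * y * c⁻¹⁻¹ ∈ (E ⊔ Q).map (MulAut.conj c⁻¹).toMonoidHom ↔ y ∈ E ⊔ Q := fun y =>
      ⟨fun ⟨y', hy', he'⟩ => (mul_left_cancel (mul_right_cancel
        (he' : c⁻¹ * y' * c⁻¹⁻¹ = c⁻¹ * y * c⁻¹⁻¹)) : y' = y) ▸ hy', fun h => ⟨y, h, rfl⟩⟩
    have e2 : v * (c⁻¹ * y * c⁻¹⁻¹) * v⁻¹ = c⁻¹ * ((c * v * c⁻¹) * y * (c * v * c⁻¹)⁻¹) * c⁻¹⁻¹ := by group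
    rw [e2, hm, hm] at h4
    exact h4
  have hinv : Inv a (E ⊔ Q) := (inv_disp hA.inv).sup (inv_of_le_fixedBy (hQG.trans D.Gam_le_fixed))
  have hle : E ⊔ Q ≤ D.N := sup_le (hEU.trans D.U_le_N) (hQG.trans D.Gam_le_N)
  have htop : normalizer ((E ⊔ Q : Subgroup G) : Set G) ≠ ⊤ := fun h => by
    have hz := M.normal_le_center (normalizer_eq_top_iff.mp h) hinv
      (fun h' => M.N_ne_top D (top_le_iff.mp (h' ▸ hle)))
    refine hw1c (hz (mem_sup_right (mem_sup_left hw1)))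
  exact hcN (M.mem_N_of_map_le hc (hUc.trans (M.le_N D hinv.normalizer htop h1)))

end Cfg

end Cfsg.Agent.H24.Flav
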