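import Cfsg.Agent.H8.Shult.Pure
import Cfsg.Agent.H24.Flav.StepA

/-!
Pure elements: if every conjugate of an element of `W` lying in `N` centralises `U` modulo `W` and there are
no translations, all noncentral elements of `W` fix only one point.

In the general configuration.
-/

set_option autoImplicit false
set_option linter.unusedSectionVars false

namespace Cfsg.Agent.H24.Flav

open Subgroup
open Cfsg.Agent.H8.Shult hiding Min
open scoped commutatorElement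

universe u v w

variable {G : Type u} [Group G] [Finite G] {p r : ℕ} [hp : Fact p.Prime] {a : MulAut G}
variable {k : Type w} [Field k] [CharP k p] {V : Type v} [AddCommGroup V] [Module k V]
variable [IsAlgClosed k] [FiniteDimensional k V]
variable {ρ : G →* Module.End k V} {T : Module.End k V}
variable {D : UData a}

namespace Cfg

variable (M : Cfg p r a ρ T) {m : ℕ}
include M

/-- A conjugate of a noncentral element of `W` fixed by `a` inside `N` comes from `N`. -/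
theorem mem_N_of_conj_mem_Gam {g w : G} (hw : w ∈ D.W) (hwc : w ∉ center G) (h : g * w * g⁻¹ ∈ D.Gam) :
    g ∈ D.N := by
  obtain ⟨c, hc, hcx⟩ := M.coprimely.exists_fixed_conj_elem hw.2 h.2 rfl
  have hcN := M.stepA hc hw hwc (hcx ▸ h.1)
  have hgc : c⁻¹ * g ∈ centralizer ({w} : Set G) := mem_centralizer_singleton_iff.mpr (by
    calc c⁻¹ * g * w = c⁻¹ * (g * w * g⁻¹) * g := by group
      _ = c⁻¹ * (c * w * c⁻¹) * g := by rw [hcx]
      _ = w * (c⁻¹ * g) := by group)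
  simpa using mul_mem hcN (M.centralizer_le_N D hw hwc hgc)

/-- A conjugate of a noncentral element of `W` that is free on `U ⧸ W` comes from `N`. -/
theorem mem_N_of_free {g w γ u x : G} (hw : w ∈ D.W) (hwc : w ∉ center G) (hγ : γ ∈ D.Gam) (hu : u ∈ D.U)
    (he : g * w * g⁻¹ = γ * u) (hx : x ∈ D.U) (hfree : u⁻¹ * ⁅γ, x⁆ ∈ D.W) : g ∈ D.N := by
  have hsp := M.special2_U D
  suffices x * g ∈ D.N by simpa using mul_mem (D.N.inv_mem (D.U_le_N hx)) this
  refine M.mem_N_of_conj_mem_Gam hw hwc ?_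
  have e : x * g * w * (x * g)⁻¹ = γ * ((γ⁻¹ * x * γ) * u * x⁻¹) := by
    calc x * g * w * (x * g)⁻¹ = x * (g * w * g⁻¹) * x⁻¹ := by group
      _ = x * (γ * u) * x⁻¹ := by rw [he]
      _ = _ := by group
  rw [e]
  refine mul_mem hγ (D.W_le_Gam ?_)
  have hy : γ⁻¹ * x * γ ∈ D.U := by simpa using D.conj_mem_U (inv_mem hγ.1) hx
  have hcU : ⁅γ, x⁆ ∈ D.U := by rw [commutatorElement_def]; exact mul_mem (D.conj_mem_U hγ.1 hx) (inv_mem hx)
  set s := u⁻¹ * ⁅γ, x⁆ with hs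
  have hu' : u = ⁅γ, x⁆ * s⁻¹ := by rw [hs]; group
  have hγγ : γ * γ ∈ D.W := by
    have hvv : γ * u * (γ * u) = 1 := by
      rw [← he, show g * w * g⁻¹ * (g * w * g⁻¹) = g * (w * w) * g⁻¹ by group, hsp.fix_sq w hw]; group
    have e : γ * γ = (γ⁻¹ * u * γ * u)⁻¹ := by
      refine eq_inv_of_mul_eq_one_left ?_
      calc γ * γ * (γ⁻¹ * u * γ * u) = γ * u * (γ * u) := by group
        _ = 1 := hvv
    refine ⟨?_, (fixedBy a).mul_mem hγ.2 hγ.2⟩
    show γ * γ ∈ D.U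
    rw [e]
    exact inv_mem (mul_mem (by simpa using D.conj_mem_U (inv_mem hγ.1) hu) hu)
  have h2 : γ⁻¹ * x * γ * ⁅γ, x⁆ * x⁻¹ ∈ D.W := by
    have e1 : γ⁻¹ * x * γ * ⁅γ, x⁆ * x⁻¹ = γ⁻¹ * (x * x) * γ * (x * x)⁻¹ := by
      calc γ⁻¹ * x * γ * ⁅γ, x⁆ * x⁻¹ = γ⁻¹ * x * ((γ * γ) * x) * γ⁻¹ * x⁻¹ * x⁻¹ := by
            rw [commutatorElement_def]; group
        _ = γ⁻¹ * x * (x * (γ * γ)) * γ⁻¹ * x⁻¹ * x⁻¹ := by rw [hsp.fix_central _ hγγ x hx]
        _ = _ := by group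
    rw [e1]
    exact mul_mem (by simpa using D.conj_mem_W (g := γ⁻¹) (inv_mem hγ) (hsp.sq_mem x hx))
      (inv_mem (hsp.sq_mem x hx))
  rw [hu', ← mul_assoc (γ⁻¹ * x * γ), mul_assoc _ s⁻¹ x⁻¹,
    (M.special2_U D).fix_central _ (inv_mem hfree) _ (inv_mem hx), ← mul_assoc]
  exact mul_mem h2 (inv_mem hfree)

/-- A subgroup with central squares over half of `U` occurs only with two constituents and `-1 ∈ W`. -/
theorem eq_of_singular (hS : Shape ρ D r m) {L : Subgroup G} (hLU : L ≤ D.U) (hWL : D.W ≤ L)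
    (hsing : ∀ y ∈ L, y * y ∈ center G) (hbig : Nat.card D.U * Nat.card D.W ≤ Nat.card L * Nat.card L)
    {w₀ : G} (hw₀ : w₀ ∈ D.W) (hw₀c : w₀ ∉ center G) :
    Nat.card D.U = 2 ^ (2 * (2 * m)) * Nat.card D.W ∧ Nat.card L = 2 ^ (2 * m) * Nat.card D.W := by
  have hsp := hS.sp
  have hm := hS.pos
  obtain ⟨i, hi⟩ := M.exists_card hS.pos hS.eq D.inv_U D.W_le_U le_rfl
  have hi0 : 0 < i := by
    refine Nat.pos_of_ne_zero fun h => M.U_ne_bot D ?_
    rw [← D.disp_U M.coprimely, disp_eq_bot_iff]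
    have hUW : D.W = D.U := Subgroup.eq_of_le_of_card_ge D.W_le_U (by rw [hi, h]; simp)
    exact hUW ▸ D.W_le_fixed
  have hLW : Nat.card ↥(L ⊓ D.W) = Nat.card D.W := by rw [inf_eq_right.mpr hWL]
  have hbig' : ∀ e, Nat.card L ≤ 2 ^ e * Nat.card D.W → 2 * m * i ≤ 2 * e := by
    intro e he
    have h := hbig.trans (Nat.mul_le_mul he he)
    rw [hi, show 2 ^ e * Nat.card D.W * (2 ^ e * Nat.card D.W) = 2 ^ (2 * e) * Nat.card D.W * Nat.card D.W by
      rw [two_mul, pow_add]; ring] at h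
    exact (Nat.pow_le_pow_iff_right one_lt_two).mp
      (Nat.le_of_mul_le_mul_right (Nat.le_of_mul_le_mul_right h Nat.card_pos) Nat.card_pos)
  have strict : ∀ (B : Subgroup G) (j : ℕ), Inv a B → D.W ≤ B → B ≤ D.U →
      Nat.card B = 2 ^ (2 * m * j) * Nat.card D.W → (∀ y ∈ L, y ∈ B → y * y = 1) →
      Nat.card ↥(L ⊓ B) ≤ 2 ^ ((m - 1) * j) * Nat.card D.W := by
    intro B j hB hWB hBU hj h1
    have h := M.card_le_of_forms hS.pos hS.eq hsp (S := L ⊓ B) (b := m - 1) (fun χ => Occ ρ D χ)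
      (fun B' hB' hne => M.exists_occ_not_le (D := D) hB' hne) (fun χ hχ S' hS' hS'U => ?_) j hB hWB hBU hj
    · rw [inf_assoc, inf_idem, inf_assoc, inf_eq_right.mpr hWB, hLW] at h
      exact h
    · refine M.singular_bound hS.pos hS.eq hsp χ (hS.idx χ hχ) hS'U fun x hx => ?_
      rw [quad, show sqW hsp x = 1 from Subtype.ext (h1 x (hS' hx).1 (hS' hx).2), map_one]
  by_cases hone : ∀ y ∈ L, y * y = 1
  · have h := strict D.U i D.inv_U D.W_le_U le_rfl hi fun y hy _ => hone y hy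
    rw [inf_eq_left.mpr hLU] at h
    have h2 := hbig' _ h
    have : m * i ≤ (m - 1) * i := by
      have : 2 * (m * i) ≤ 2 * ((m - 1) * i) := by rw [← mul_assoc]; exact h2
      omega
    have := Nat.le_of_mul_le_mul_right this hi0
    omega
  push Not at hone
  obtain ⟨y₀, hy₀, hy₀1⟩ := hone
  set z : D.W := sqW hsp ⟨y₀, hLU hy₀⟩ with hz
  have hzc : (z : G) ∈ center G := hsing y₀ hy₀
  have hz1 : z ≠ 1 := fun h => hy₀1 (congrArg Subtype.val h)
  have hqval : ∀ χ, Occ ρ D χ → ∀ μ, Occ ρ D μ → ∀ x : D.U, (x : G) ∈ L → quad hsp (χ * μ) x = 1 := by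
    intro χ hχ μ hμ x hx
    rw [quad, MonoidHom.mul_apply, M.occ_center_eq hχ hμ (z := sqW hsp x) (hsing x hx)]
    exact Int.units_mul_self _
  obtain ⟨χ, hχ, hχw⟩ := M.exists_occ (x := ⟨w₀, hw₀⟩) fun h => hw₀c (by
    rw [show w₀ = 1 from congrArg Subtype.val h]; exact one_mem _)
  by_cases hall : ∀ μ, Occ ρ D μ → rad hsp χ ≤ rad hsp μ
  · exfalso
    have hle : rad hsp χ ≤ D.W := by
      by_contra h
      obtain ⟨μ, hμ, h1⟩ := M.exists_occ_not_le (D := D) (rad_le hsp χ) h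
      exact h1 (hall μ hμ)
    have hU1 : Nat.card D.U = 2 ^ (2 * m) * Nat.card D.W := by
      rw [hS.idx χ hχ, le_antisymm hle (W_le_rad hsp χ)]
    obtain ⟨μ, hμ, hμw⟩ := M.exists_occ (x := ⟨w₀, hw₀⟩ * z) fun h => hw₀c (by
      rw [show w₀ = ((z⁻¹ : D.W) : G) from congrArg Subtype.val (eq_inv_of_mul_eq_one_left h)]
      exact inv_mem hzc)
    rw [map_mul, M.occ_center hμ hzc hz1] at hμw
    have hμw' : μ ⟨w₀, hw₀⟩ = 1 := by simpa using hμw
    have hε : χ * μ ≠ 1 := fun h => by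
      have := congrArg (fun f : D.W →* ℤˣ => f ⟨w₀, hw₀⟩) h
      simp [hχw, hμw'] at this
    have hrad := M.rad_eq_W hS hU1 hε
    have h := M.singular_bound hS.pos hS.eq hsp (χ * μ) (by rw [hrad]; exact hU1) hLU (hqval χ hχ μ hμ)
    rw [hrad, hLW] at h
    have h2 := hbig' _ h
    have h3 : 2 * m * 1 ≤ 2 * m * i := Nat.mul_le_mul_left _ hi0
    omega
  push Not at hall
  obtain ⟨μ, hμ, hne⟩ := hall
  obtain ⟨hIeq, hIcard⟩ := M.rad_mul_eq hS.pos hS.eq hsp (hS.idx χ hχ) (hS.idx μ hμ)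
    fun h => hne h.le
  set I := rad hsp (χ * μ) with hI
  obtain ⟨j, hj⟩ := M.exists_card hS.pos hS.eq (inv_rad hsp (χ * μ)) (W_le_rad hsp _) (rad_le hsp _)
  have hiso := M.isotropic_bound hsp (χ * μ) hIcard hLU fun x y hx hy => by
    have h := (quad_isQuad hsp (χ * μ)).mul x y
    rw [hqval χ hχ μ hμ x hx, hqval χ hχ μ hμ y hy, hqval χ hχ μ hμ (x * y) (mul_mem hx hy), one_mul, one_mul] at h
    exact h.symm
  have hI2 := strict I j (inv_rad hsp _) (W_le_rad hsp _) (rad_le hsp _) hj fun y hy hyI => by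
    have hyA : y ∈ rad hsp χ := ((le_of_eq hIeq) hyI).1
    have h1 := M.quad_rad hsp χ (x := ⟨y, hLU hy⟩) hyA
    by_contra hne1
    rw [quad, M.occ_center hχ (hsing y hy) fun h => hne1 (congrArg Subtype.val h)] at h1
    exact absurd h1 (by decide)
  have hL : Nat.card L ≤ 2 ^ (2 * m + (m - 1) * j) * Nat.card D.W :=
    hiso.trans ((Nat.mul_le_mul_left _ hI2).trans (le_of_eq (by rw [pow_add, mul_assoc])))
  have hij : i = j + 2 := by
    have h := hIcard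
    rw [hi, hj, ← mul_assoc, ← pow_add] at h
    have h2 := Nat.pow_right_injective le_rfl (Nat.eq_of_mul_eq_mul_right Nat.card_pos h)
    have h3 : 2 * m * i = 2 * m * (j + 2) := h2.trans (by ring)
    exact Nat.eq_of_mul_eq_mul_left (by omega) h3
  have h2 := hbig' _ hL
  have hj0 : j = 0 := by
    subst hij
    by_contra h0
    have hjp : 0 < j := Nat.pos_of_ne_zero h0
    have : m * j ≤ (m - 1) * j := by nlinarith [h2]
    have := Nat.le_of_mul_le_mul_right this hjp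
    omega
  subst hj0 hij
  have hU2 : Nat.card D.U = 2 ^ (2 * (2 * m)) * Nat.card D.W := by
    rw [hi, zero_add, show 2 * m * 2 = 2 * (2 * m) by ring]
  refine ⟨hU2, le_antisymm (by simpa using hL) ?_⟩
  refine Nat.mul_self_le_mul_self_iff.mp (le_trans (le_of_eq ?_) hbig)
  rw [hU2, two_mul (2 * m), pow_add]
  ring

/-- A pure element is a product of an element centralising `U` and an element of `U`. -/
theorem exists_of_pure (hS : Shape ρ D r m) {v : G} (hv : D.Pure v) :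
    ∃ γ ∈ D.Gam, γ ∈ centralizer (D.U : Set G) ∧ ∃ u ∈ D.U, v = γ * u := by
  obtain ⟨γ, hγ, u, hu, rfl⟩ := M.exists_fixed_mul D hv.1
  refine ⟨γ, hγ, M.centralizes_of_trivial hS ⟨γ, hγ⟩ fun x hx => ?_, u, hu, rfl⟩
  have h1 := hv.2 x hx
  have h2 := D.conj_mem_W (g := γ) hγ (hS.sp.comm_mem u hu x hx)
  have e : ⁅γ, x⁆ = (γ * ⁅u, x⁆ * γ⁻¹)⁻¹ * ⁅γ * u, x⁆ := by simp [commutatorElement_def, mul_assoc]
  exact e ▸ mul_mem (inv_mem h2) h1

/-- Pure elements centralise `W`. -/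
theorem pure_commute (hS : Shape ρ D r m) {v : G} (hv : D.Pure v) {w : G} (hw : w ∈ D.W) :
    v * w = w * v := by
  obtain ⟨γ, -, hγC, u, hu, rfl⟩ := M.exists_of_pure hS hv
  rw [mul_assoc, ← hS.sp.fix_central w hw u hu, ← mul_assoc, ← mem_centralizer_iff.mp hγC w hw.1, mul_assoc]

/-- `N` normalises `W`. -/
theorem conj_mem_W_of_mem_N {y w : G} (hy : y ∈ D.N) (hw : w ∈ D.W) : y * w * y⁻¹ ∈ D.W := by
  obtain ⟨γ, hγ, u, hu, rfl⟩ := M.exists_fixed_mul D hy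
  rw [mul_inv_rev, show γ * u * w * (u⁻¹ * γ⁻¹) = γ * (u * w * u⁻¹) * γ⁻¹ by group,
    ← (M.special2_U D).fix_central w hw u hu, mul_inv_cancel_right]
  exact D.conj_mem_W hγ hw

/-- Elements of `W` are pure. -/
theorem pure_of_mem_W {w : G} (hw : w ∈ D.W) : D.Pure w :=
  ⟨D.W_le_N hw, fun x hx => (M.special2_U D).comm_mem w hw.1 x hx⟩

/-- If one element of the conjugate of `W` is pure, `W` fixes that point. -/
theorem w_mem_conj_N (hS : Shape ρ D r m) {g w w' : G} (hw : w ∈ D.W) (hwc : w ∉ center G)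
    (hv : D.Pure (g * w * g⁻¹)) (hw' : w' ∈ D.W) : g⁻¹ * w' * g ∈ D.N := by
  refine M.mem_N_of_conj D hw hwc hw (one_mem (center G)) ?_
  have h := M.pure_commute hS hv hw'
  rw [mul_one]
  calc g⁻¹ * w' * g * w * (g⁻¹ * w' * g)⁻¹ = g⁻¹ * (w' * (g * w * g⁻¹)) * w'⁻¹ * g := by group
    _ = g⁻¹ * ((g * w * g⁻¹) * w') * w'⁻¹ * g := by rw [h]
    _ = w := by group

theorem pure_conj (hS : Shape ρ D r m) (hp : D.AllPure) {g w : G} (hg : g ∉ D.N) (hw : w ∈ D.W)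
    (hwc : w ∉ center G) (hN : g * w * g⁻¹ ∈ D.N) {w' : G} (hw' : w' ∈ D.W) : D.Pure (g * w' * g⁻¹) := by
  by_cases hc : w' ∈ center G
  · rw [mem_center_iff.mp hc g, mul_inv_cancel_right]
    exact M.pure_of_mem_W hw'
  refine hp g w' hg hw' hc ?_
  have h1 := M.w_mem_conj_N hS hw hwc (hp g w hg hw hwc hN) hw
  have hg' : g⁻¹ ∉ D.N := fun h => hg (D.N.inv_mem_iff.mp h)
  have h1' : g⁻¹ * w * g⁻¹⁻¹ ∈ D.N := by rw [inv_inv]; exact h1
  have h2 := M.w_mem_conj_N hS hw hwc (hp g⁻¹ w hg' hw hwc h1') hw'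
  rwa [inv_inv] at h2

/-- Without translations a moved element of `W` makes `|W̄| = 2 ^ (2 * m)` and conjugation by `U` shears. -/
theorem pure_data (hS : Shape ρ D r m) (hnt : D.NoTrans) {g w : G} (hg : g ∉ D.N)
    (hP : ∀ w' ∈ D.W, D.Pure (g * w' * g⁻¹)) (hw : w ∈ D.W) (hwc : w ∉ center G) :
    Nat.card D.Wb = 2 ^ (2 * m) ∧
      ∀ w₁ ∈ D.W, ∃ x : G, ∃ z ∈ center G, x * (g * w * g⁻¹) * x⁻¹ = g * w * g⁻¹ * w₁ * z := by
  classical
  have hsp := hS.sp
  set v := g * w * g⁻¹ with hvdef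
  have hvv : v * v = 1 := by
    rw [hvdef, show g * w * g⁻¹ * (g * w * g⁻¹) = g * (w * w) * g⁻¹ by group, hsp.fix_sq w hw]; group
  have hvW : ∀ y ∈ D.U, ⁅v, y⁆ ∈ D.W := (hP w hw).2
  let L : Subgroup G :=
    { carrier := {y | y ∈ D.U ∧ ⁅v, y⁆ ∈ center G}
      one_mem' := ⟨one_mem _, by rw [commutatorElement_one_right]; exact one_mem _⟩
      mul_mem' := fun {y y'} hy hy' => ⟨mul_mem hy.1 hy'.1, by
        rw [comm_mul_right hsp hy.1 (hvW y' hy'.1)]; exact mul_mem hy.2 hy'.2⟩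
      inv_mem' := fun {y} hy => ⟨inv_mem hy.1, by
        have h := comm_mul_right hsp (inv_mem hy.1) (hvW y hy.1)
        rw [inv_mul_cancel, commutatorElement_one_right] at h
        rw [eq_inv_of_mul_eq_one_left h.symm]
        exact inv_mem hy.2⟩ }
  have hconj : ∀ y ∈ L, g⁻¹ * y * g ∈ D.N := by
    intro y hy
    refine M.mem_N_of_conj D hw hwc hw (z := ⁅v, y⁆⁻¹) (inv_mem hy.2) ?_
    have hzc := mem_center_iff.mp (inv_mem hy.2)
    calc g⁻¹ * y * g * w * (g⁻¹ * y * g)⁻¹ = g⁻¹ * (⁅v, y⁆⁻¹ * v) * g := by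
          rw [hvdef, commutatorElement_def]; group
      _ = g⁻¹ * (v * ⁅v, y⁆⁻¹) * g := by rw [hzc v]
      _ = w * (g⁻¹ * ⁅v, y⁆⁻¹) * g := by rw [hvdef]; group
      _ = w * (⁅v, y⁆⁻¹ * g⁻¹) * g := by rw [hzc g⁻¹]
      _ = _ := by group
  have hall : ∀ y ∈ L, ∀ w' ∈ D.W, ⁅g * w' * g⁻¹, y⁆ ∈ center G := by
    intro y hy w' hw'
    have hyN := hconj y hy
    set y' := g⁻¹ * y * g with hy'
    have hs : ⁅w', y'⁆ ∈ D.W := by
      rw [commutatorElement_def, mul_assoc w', mul_assoc w']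
      exact mul_mem hw' (M.conj_mem_W_of_mem_N hyN (inv_mem hw'))
    have he : g * ⁅w', y'⁆ * g⁻¹ = ⁅g * w' * g⁻¹, y⁆ := by
      rw [hy']; simp [commutatorElement_def, mul_assoc]
    by_contra hne
    refine hg (M.mem_N_of_conj D hs (fun h => hne ?_) (x' := ⁅g * w' * g⁻¹, y⁆)
      ((hP w' hw').2 y hy.1) (one_mem (center G)) (by rw [he, mul_one]))
    rw [← he]
    exact (inferInstance : (center G).Normal).conj_mem _ h g
  have hsq : ∀ y ∈ L, y * y ∈ center G := by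
    intro y hy
    obtain ⟨γ, hγ, u, hu, he⟩ := M.exists_fixed_mul D (hconj y hy)
    have hγC : γ ∈ centralizer (D.U : Set G) := by
      refine hnt γ hγ fun w' hw' => ?_
      have h1 : ⁅g⁻¹ * y * g, w'⁆ ∈ center G := by
        have h2 := (inferInstance : (center G).Normal).conj_mem _ (inv_mem (hall y hy w' hw')) g⁻¹
        rwa [show g⁻¹ * ⁅g * w' * g⁻¹, y⁆⁻¹ * g⁻¹⁻¹ = ⁅g⁻¹ * y * g, w'⁆ by
          simp [commutatorElement_def, mul_assoc]] at h2
      rw [he] at h1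
      rwa [show ⁅γ * u, w'⁆ = γ * ⁅u, w'⁆ * γ⁻¹ * ⁅γ, w'⁆ by simp [commutatorElement_def, mul_assoc],
        commutatorElement_eq_one_iff_mul_comm.mpr (hsp.fix_central w' hw' u hu).symm, mul_one, mul_inv_cancel,
        one_mul] at h1
    by_contra hne
    refine hg (D.N.inv_mem_iff.mp (M.mem_N_of_conj_mem_Gam (g := g⁻¹) (hsp.sq_mem y hy.1) hne ?_))
    have e : g⁻¹ * (y * y) * g⁻¹⁻¹ = γ * γ * (u * u) := by
      calc g⁻¹ * (y * y) * g⁻¹⁻¹ = (g⁻¹ * y * g) * (g⁻¹ * y * g) := by group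
        _ = γ * (u * γ) * u := by rw [he]; group
        _ = _ := by rw [mem_centralizer_iff.mp hγC u hu]; group
    rw [e]
    exact mul_mem (mul_mem hγ hγ) (D.W_le_Gam (hsp.sq_mem u hu))
  have hWL : D.W ≤ L := fun y hy => ⟨hy.1, by
    rw [commutatorElement_eq_one_iff_mul_comm.mpr (M.pure_commute hS (hP w hw) hy)]; exact one_mem _⟩
  -- the map to `Wb`
  let φ : D.U →* G ⧸ center G :=
    { toFun := fun y => ((⁅v, (y : G)⁆ : G) : G ⧸ center G)
      map_one' := by simp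
      map_mul' := fun y y' => by
        rw [Subgroup.coe_mul, comm_mul_right hsp y.2 (hvW y' y'.2), QuotientGroup.mk_mul] }
  have hrange : φ.range ≤ D.Wb := by
    rintro _ ⟨y, rfl⟩
    exact ⟨_, hvW y y.2, rfl⟩
  have hker : φ.ker = L.subgroupOf D.U := by
    ext y
    rw [MonoidHom.mem_ker, mem_subgroupOf]
    exact ⟨fun h => ⟨y.2, (QuotientGroup.eq_one_iff _).mp h⟩, fun h => (QuotientGroup.eq_one_iff _).mpr h.2⟩
  have hU : Nat.card D.U = Nat.card φ.range * Nat.card L := by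
    have h := φ.ker.card_mul_index
    rw [Subgroup.index_ker, hker, Nat.card_congr (subgroupOfEquivOfLe (fun y hy => hy.1 : L ≤ D.U)).toEquiv] at h
    rw [← h, mul_comm]
  -- the map from `W` into `L / W`
  have hdec : ∀ w' : D.W, ∃ u : D.U, ∃ γ, γ ∈ D.Gam ∧ γ ∈ centralizer (D.U : Set G) ∧
      g * w' * g⁻¹ = γ * u := fun w' => by
    obtain ⟨γ, hγ, hγC, u, hu, he⟩ := M.exists_of_pure hS (hP w' w'.2)
    exact ⟨⟨u, hu⟩, γ, hγ, hγC, he⟩
  choose f δ hδ hδC hf using hdec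
  have hWn : (D.W.subgroupOf D.U).Normal := ⟨fun y hy u => by
    show (u : G) * y * (u : G)⁻¹ ∈ D.W
    rw [← hsp.fix_central y (mem_subgroupOf.mp hy) u u.2, mul_inv_cancel_right]
    exact mem_subgroupOf.mp hy⟩
  have huniq : ∀ (γ γ' : G) (u u' : D.U), γ ∈ centralizer (D.U : Set G) → γ' ∈ centralizer (D.U : Set G) →
      γ * u = γ' * u' → (u : D.U ⧸ D.W.subgroupOf D.U) = u' := by
    intro γ γ' u u' hγ hγ' he
    rw [QuotientGroup.eq, mem_subgroupOf]
    have h1 : ((u⁻¹ * u' : D.U) : G) ∈ centralizer (D.U : Set G) := by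
      have e : ((u⁻¹ * u' : D.U) : G) = (u : G)⁻¹ * (γ'⁻¹ * γ) * u := by
        show (u : G)⁻¹ * u' = _
        rw [mul_assoc, mul_assoc γ'⁻¹, he]
        group
      rw [e, show (u : G)⁻¹ * (γ'⁻¹ * γ) * u = γ'⁻¹ * γ by
        rw [mem_centralizer_iff.mp (mul_mem (inv_mem hγ') hγ) _ (inv_mem u.2), mul_assoc, inv_mul_cancel, mul_one]]
      exact mul_mem (inv_mem hγ') hγ
    exact ⟨(u⁻¹ * u').2, M.centralizer_U_le_fixed D h1⟩
  let ψ : D.W →* D.U ⧸ D.W.subgroupOf D.U :=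
    MonoidHom.mk' (fun w' => (f w' : D.U ⧸ D.W.subgroupOf D.U)) fun x y => by
      rw [← QuotientGroup.mk_mul]
      refine huniq (δ (x * y)) (δ x * δ y) _ _ (hδC _) (mul_mem (hδC x) (hδC y)) ?_
      rw [← hf]
      calc g * ((x * y : D.W) : G) * g⁻¹ = (g * x * g⁻¹) * (g * y * g⁻¹) := by
            rw [Subgroup.coe_mul]; group
        _ = δ x * ((f x : G) * δ y) * (f y) := by rw [hf x, hf y]; group
        _ = _ := by rw [mem_centralizer_iff.mp (hδC y) _ (f x).2, Subgroup.coe_mul]; group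
  have hψL : ∀ w' : D.W, (f w' : G) ∈ L := by
    intro w'
    refine ⟨(f w').2, ?_⟩
    by_cases hc : (w' : G) ∈ center G
    · have h1 : (f w' : G) ∈ D.W := by
        have e : (f w' : G) = (δ w')⁻¹ * (w' : G) := by
          have := hf w'
          rw [mem_center_iff.mp hc g, mul_inv_cancel_right] at this
          rw [this]; group
        exact ⟨(f w').2, e ▸ (fixedBy a).mul_mem ((fixedBy a).inv_mem (hδ w').2) w'.2.2⟩
      exact (hWL h1).2
    · by_contra hne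
      -- purity of the other conjugate puts it in the centre
      have h2 : (f w' : G) ∈ D.U ∧ ⁅g * (w' : G) * g⁻¹, (f w' : G)⁆ ∈ center G := by
        refine ⟨(f w').2, ?_⟩
        rw [hf w', commutatorElement_eq_one_iff_mul_comm.mpr]
        · exact one_mem _
        · rw [mul_assoc, ← mul_assoc (f w' : G) (δ w'), mem_centralizer_iff.mp (hδC w') _ (f w').2, mul_assoc]
      refine hne ?_
      have hy' : g⁻¹ * (f w' : G) * g ∈ D.N := by
        refine M.mem_N_of_conj D w'.2 hc w'.2 (z := ⁅g * (w' : G) * g⁻¹, (f w' : G)⁆⁻¹) (inv_mem h2.2) ?_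
        have hzc := mem_center_iff.mp (inv_mem h2.2)
        set t := ⁅g * (w' : G) * g⁻¹, (f w' : G)⁆ with ht
        calc g⁻¹ * (f w' : G) * g * w' * (g⁻¹ * (f w' : G) * g)⁻¹ = g⁻¹ * (t⁻¹ * (g * w' * g⁻¹)) * g := by
              rw [ht, commutatorElement_def]; group
          _ = g⁻¹ * ((g * w' * g⁻¹) * t⁻¹) * g := by rw [hzc (g * w' * g⁻¹)]
          _ = w' * (g⁻¹ * t⁻¹) * g := by group
          _ = w' * (t⁻¹ * g⁻¹) * g := by rw [hzc g⁻¹]
          _ = _ := by group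
      set y' := g⁻¹ * (f w' : G) * g with hy'def
      have hs : ⁅w, y'⁆ ∈ D.W := by
        rw [commutatorElement_def, mul_assoc w, mul_assoc w]
        exact mul_mem hw (M.conj_mem_W_of_mem_N hy' (inv_mem hw))
      have he : g * ⁅w, y'⁆ * g⁻¹ = ⁅v, (f w' : G)⁆ := by
        rw [hy'def, hvdef]; simp [commutatorElement_def, mul_assoc]
      by_contra hne2
      refine hg (M.mem_N_of_conj D hs (fun h => hne2 ?_) (x' := ⁅v, (f w' : G)⁆)
        (hvW _ (f w').2) (one_mem (center G)) (by rw [he, mul_one]))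
      rw [← he]
      exact (inferInstance : (center G).Normal).conj_mem _ h g
  have hψker : ∀ w' : D.W, ψ w' = 1 → (w' : G) ∈ center G := by
    intro w' h
    by_contra hc
    have h1 : (f w' : G) ∈ D.W := mem_subgroupOf.mp ((QuotientGroup.eq_one_iff _).mp h)
    exact hg (M.mem_N_of_conj_mem_Gam w'.2 hc (hf w' ▸ mul_mem (hδ w') (D.W_le_Gam h1)))
  have hWbcard : Nat.card D.W = Nat.card ((center G).subgroupOf D.W) * Nat.card D.Wb := by
    have h := ((QuotientGroup.mk' (center G)).comp D.W.subtype).ker.card_mul_index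
    rw [Subgroup.index_ker, MonoidHom.range_comp, range_subtype] at h
    rw [← h]
    congr 1
    rw [← MonoidHom.comap_ker, QuotientGroup.ker_mk']
    rfl
  have hkerle : Nat.card ψ.ker ≤ Nat.card ((center G).subgroupOf D.W) :=
    Nat.le_of_dvd Nat.card_pos (card_dvd_of_le fun w' hw' => mem_subgroupOf.mpr (hψker w' hw'))
  have hq : Nat.card D.Wb ≤ Nat.card ψ.range := by
    have h := ψ.ker.card_mul_index
    rw [Subgroup.index_ker, hWbcard] at h
    refine Nat.le_of_mul_le_mul_left ?_ (Nat.card_pos (α := (center G).subgroupOf D.W))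
    rw [← h]
    exact Nat.mul_le_mul_right _ hkerle
  have hLU : L ≤ D.U := fun y hy => hy.1
  have hψrange : ψ.range ≤ (L.subgroupOf D.U).map (QuotientGroup.mk' (D.W.subgroupOf D.U)) := by
    rintro _ ⟨w', rfl⟩
    exact ⟨f w', mem_subgroupOf.mpr (hψL w'), rfl⟩
  have hLcard : Nat.card ψ.range * Nat.card D.W ≤ Nat.card L := by
    refine le_trans (Nat.mul_le_mul_right _ (Nat.le_of_dvd Nat.card_pos (card_dvd_of_le hψrange))) (le_of_eq ?_)
    rw [← relIndex_mul_card_eq hWL]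
    congr 1
    have h := ((QuotientGroup.mk' (D.W.subgroupOf D.U)).comp (L.subgroupOf D.U).subtype).ker.card_mul_index
    rw [Subgroup.index_ker, MonoidHom.range_comp, range_subtype, ← MonoidHom.comap_ker, QuotientGroup.ker_mk',
      ← Subgroup.subgroupOf, Nat.card_congr (subgroupOfEquivOfLe (H := D.W.subgroupOf D.U) (K := L.subgroupOf D.U) fun y hy =>
        hWL hy).toEquiv, Nat.card_congr (subgroupOfEquivOfLe D.W_le_U).toEquiv,
      Nat.card_congr (subgroupOfEquivOfLe hLU).toEquiv, ← relIndex_mul_card_eq hWL, mul_comm] at h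
    exact Nat.eq_of_mul_eq_mul_right Nat.card_pos h
  have hq2 : Nat.card D.Wb * Nat.card D.W ≤ Nat.card L := (Nat.mul_le_mul_right _ hq).trans hLcard
  have hrle : Nat.card φ.range ≤ Nat.card D.Wb := Nat.le_of_dvd Nat.card_pos (card_dvd_of_le hrange)
  have hbig : Nat.card D.U * Nat.card D.W ≤ Nat.card L * Nat.card L := by
    rw [hU, mul_right_comm]
    exact Nat.mul_le_mul_right _ ((Nat.mul_le_mul_right _ hrle).trans hq2)
  obtain ⟨hU2, hL2⟩ := M.eq_of_singular hS hLU hWL hsq hbig hw hwc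
  have hr2 : Nat.card φ.range = 2 ^ (2 * m) := by
    rw [hU2, hL2, two_mul (2 * m), pow_add, ← mul_assoc] at hU
    exact (Nat.eq_of_mul_eq_mul_right (Nat.two_pow_pos _)
      (Nat.eq_of_mul_eq_mul_right Nat.card_pos hU)).symm
  have hWb : Nat.card D.Wb = 2 ^ (2 * m) := le_antisymm
    (Nat.le_of_mul_le_mul_right (hq2.trans hL2.le) Nat.card_pos) (hr2 ▸ hrle)
  refine ⟨hWb, fun w₁ hw₁ => ?_⟩
  have htop : φ.range = D.Wb := Subgroup.eq_of_le_of_card_ge hrange (by rw [hr2, hWb])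
  have hmem : (w₁ : G ⧸ center G) ∈ φ.range := htop ▸ ⟨w₁, hw₁, rfl⟩
  obtain ⟨x, hx⟩ := hmem
  refine ⟨x, w₁⁻¹ * ⁅v, (x : G)⁆, QuotientGroup.eq.mp hx.symm, ?_⟩
  rw [mul_assoc v, mul_inv_cancel_left]
  calc (x : G) * v * (x : G)⁻¹ = (v * v)⁻¹ * ((x : G) * v * (x : G)⁻¹) := by rw [hvv]; group
    _ = v * ⁅v, (x : G)⁆ := by
      have hv' : v⁻¹ = v := inv_eq_of_mul_eq_one_left hvv
      rw [commutatorElement_def, hv']; rw [mul_inv_rev, hv']; group

/-- Without translations two points cannot be fixed by each other's `W` through pure elements. -/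
theorem false_of_mutual (hS : Shape ρ D r m) (hnt : D.NoTrans) {g w : G} (hg : g ∉ D.N)
    (hP : ∀ w' ∈ D.W, D.Pure (g * w' * g⁻¹)) (hP' : ∀ w' ∈ D.W, D.Pure (g⁻¹ * w' * g⁻¹⁻¹))
    (hw : w ∈ D.W) (hwc : w ∉ center G) : False := by
  classical
  obtain ⟨hcard, hsh⟩ := M.pure_data hS hnt hg hP hw hwc
  have hg' : g⁻¹ ∉ D.N := fun h => hg (D.N.inv_mem_iff.mp h)
  have horb : ∀ w₁ ∈ D.W, w₁ ∉ center G → ∃ n ∈ D.N, ∃ z ∈ center G, n * w₁ * n⁻¹ = w * z := by
    intro w₁ hw₁ hw₁c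
    obtain ⟨x, z, hz, hx⟩ := hsh w₁ hw₁
    obtain ⟨-, hsh'⟩ := M.pure_data hS hnt hg' hP' hw₁ hw₁c
    obtain ⟨x', z', hz', hx'⟩ := hsh' w hw
    set v := g * w * g⁻¹ with hv
    have hcomm : v * w₁ = w₁ * v := M.pure_commute hS (hP w hw) hw₁
    have cz : ∀ y : G, y * z = z * y := mem_center_iff.mp hz
    have cz' : ∀ y : G, y * z' = z' * y := mem_center_iff.mp hz'
    have h1 : g * x' * g⁻¹ * w₁ * (g * x' * g⁻¹)⁻¹ = w₁ * v * z' := by
      calc g * x' * g⁻¹ * w₁ * (g * x' * g⁻¹)⁻¹ = g * (x' * (g⁻¹ * w₁ * g⁻¹⁻¹) * x'⁻¹) * g⁻¹ := by group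
        _ = w₁ * (g * w * (z' * g⁻¹)) := by rw [hx']; group
        _ = w₁ * (g * w * (g⁻¹ * z')) := by rw [cz' g⁻¹]
        _ = _ := by rw [hv]; group
    obtain ⟨h, hh⟩ : ∃ h, h = g⁻¹ * x⁻¹ * (g * x' * g⁻¹) := ⟨_, rfl⟩
    have h2 : h * w₁ * h⁻¹ = w * (z⁻¹ * z') := by
      calc h * w₁ * h⁻¹ = g⁻¹ * (x⁻¹ * (g * x' * g⁻¹ * w₁ * (g * x' * g⁻¹)⁻¹) * x) * g := by
            rw [hh]; group
        _ = g⁻¹ * (x⁻¹ * (v * w₁ * z * (z⁻¹ * z')) * x) * g := by rw [h1, hcomm]; group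
        _ = g⁻¹ * (x⁻¹ * (x * v * x⁻¹ * (z⁻¹ * z')) * x) * g := by rw [hx]
        _ = g⁻¹ * (v * (x⁻¹ * ((z⁻¹ * z') * x))) * g := by group
        _ = g⁻¹ * (v * (x⁻¹ * (x * (z⁻¹ * z')))) * g := by
          rw [mem_center_iff.mp (mul_mem (inv_mem hz) hz') x]
        _ = w * (g⁻¹ * ((z⁻¹ * z') * g)) := by rw [hv]; group
        _ = w * (g⁻¹ * (g * (z⁻¹ * z'))) := by rw [mem_center_iff.mp (mul_mem (inv_mem hz) hz') g]
        _ = _ := by group
    exact ⟨h, M.mem_N_of_conj D hw₁ hw₁c hw (mul_mem (inv_mem hz) hz') h2, _, mul_mem (inv_mem hz) hz', h2⟩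
  have F := M.frame D
  have hw0 : (w : G ⧸ center G) ∈ D.Wb := ⟨w, hw, rfl⟩
  have hw1 : (w : G ⧸ center G) ≠ 1 := fun h => hwc ((QuotientGroup.eq_one_iff w).mp h)
  set K := D.Nb.map (ConjAct.toConjAct : (G ⧸ center G) ≃* ConjAct (G ⧸ center G)).toMonoidHom with hK
  have horbit : MulAction.orbit K (w : G ⧸ center G) = (D.Wb : Set (G ⧸ center G)) \ {1} := by
    ext x
    constructor
    · rintro ⟨⟨_, n, hn, rfl⟩, rfl⟩
      show n * (w : G ⧸ center G) * n⁻¹ ∈ D.Wb ∧ n * (w : G ⧸ center G) * n⁻¹ ∉ ({1} : Set (G ⧸ center G))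
      exact ⟨F.conj_mem_W hw0 hn, fun h0 => hw1 (conj_eq_one_iff.mp h0)⟩
    · rintro ⟨⟨x₁, hx₁, rfl⟩, hx1⟩
      have hx₁c : x₁ ∉ center G := fun h => hx1 ((QuotientGroup.eq_one_iff x₁).mpr h)
      obtain ⟨n, hn, z, hz, he⟩ := horb x₁ hx₁ hx₁c
      refine ⟨⟨_, ((n⁻¹ : G) : G ⧸ center G), ⟨_, inv_mem hn, rfl⟩, rfl⟩, ?_⟩
      show ((n⁻¹ : G) : G ⧸ center G) * (w : G ⧸ center G) * ((n⁻¹ : G) : G ⧸ center G)⁻¹ = (x₁ : G ⧸ center G)
      rw [← QuotientGroup.mk_inv, ← QuotientGroup.mk_mul, ← QuotientGroup.mk_mul, QuotientGroup.eq, inv_inv]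
      have hw' : w = n * x₁ * n⁻¹ * z⁻¹ := by rw [he]; group
      have e : (n⁻¹ * w * n)⁻¹ * x₁ = n⁻¹ * (z * n) * (x₁⁻¹ * x₁) := by
        rw [hw']
        calc (n⁻¹ * (n * x₁ * n⁻¹ * z⁻¹) * n)⁻¹ * x₁ = n⁻¹ * z * n * x₁⁻¹ * x₁ := by group
          _ = _ := by group
      rw [e, ← mem_center_iff.mp hz n, inv_mul_cancel_left, inv_mul_cancel, mul_one]
      exact hz
  have hc := MulAction.index_stabilizer K (w : G ⧸ center G)
  have h2 : ((D.Wb : Set (G ⧸ center G)) \ {1}).ncard = Nat.card D.Wb - 1 := by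
    rw [Set.ncard_sdiff_singleton_of_mem D.Wb.one_mem, ← Nat.card_coe_set_eq]
    rfl
  rw [horbit, h2, hcard] at hc
  have hdvd : 2 ^ (2 * m) - 1 ∣ Nat.card (G ⧸ center G) := by
    rw [← hc]
    refine (Subgroup.index_dvd_card _).trans ?_
    rw [← Nat.card_congr (D.Nb.equivMapOfInjective _ ConjAct.toConjAct.injective).toEquiv]
    exact Subgroup.card_subgroup_dvd_card _
  refine M.coprimely.ndvd (dvd_trans (dvd_trans ⟨2 ^ m - 1, ?_⟩ hdvd) (Subgroup.card_quotient_dvd_card _))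
  obtain ⟨c, hc'⟩ : ∃ c, 2 ^ m = c + 1 := ⟨2 ^ m - 1, (Nat.succ_pred_eq_of_pos (by positivity)).symm⟩
  rw [hS.eq, two_mul, pow_add, hc', Nat.add_sub_cancel]
  ring_nf
  omega

/-- If all moved conjugates are pure and there are no translations, nothing is moved. -/
theorem allIso_of_pure (hS : Shape ρ D r m) (hp : D.AllPure) (hnt : D.NoTrans) : D.AllIso := by
  intro w hw hwc g hN
  by_contra hg
  have hg' : g⁻¹ ∉ D.N := fun h => hg (D.N.inv_mem_iff.mp h)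
  have h1 : g⁻¹ * w * g⁻¹⁻¹ ∈ D.N := by
    rw [inv_inv]; exact M.w_mem_conj_N hS hw hwc (hp g w hg hw hwc hN) hw
  exact M.false_of_mutual hS hnt hg (fun w' hw' => M.pure_conj hS hp hg hw hwc hN hw')
    (fun w' hw' => M.pure_conj hS hp hg' hw hwc h1 hw') hw hwc

/-- With at least three constituents there are no translations. -/
theorem noTrans_of_big (hS : Shape ρ D r m) (hbig : 2 ^ (2 * (2 * m)) * Nat.card D.W < Nat.card D.U) :
    D.NoTrans := by
  intro γ hγ htr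
  obtain ⟨χ₀, hχ₀, -⟩ : ∃ χ, Occ ρ D χ ∧ True := by
    obtain ⟨x, hx, hx1⟩ := D.W.bot_or_exists_ne_one.resolve_left (M.W_ne_bot D)
    obtain ⟨χ, hχ, -⟩ := M.exists_occ (x := ⟨x, hx⟩) fun e => hx1 (congrArg Subtype.val e)
    exact ⟨χ, hχ, trivial⟩
  set g : D.Gam := ⟨γ, hγ⟩
  set ε := χ₀ * D.act g χ₀ with hε
  have key : ∀ χ, Occ ρ D χ → χ * D.act g χ = ε := fun χ hχ => MonoidHom.ext fun x => by
    have hc : ∀ x : D.W, ((D.conjW g⁻¹ x * x : D.W) : G) ∈ center G := fun x => by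
      have h1 : (D.conjW g⁻¹ x : G) = γ⁻¹ * x * γ := by rw [UData.conjW_apply, Subgroup.coe_inv, inv_inv]
      have h2 := htr (γ⁻¹ * x * γ) (by simpa using D.conj_mem_W (inv_mem hγ) x.2)
      have h3 := inv_mem h2
      rw [show (⁅γ, γ⁻¹ * (x : G) * γ⁆)⁻¹ = γ⁻¹ * x * γ * (x : G)⁻¹ by simp [commutatorElement_def, mul_assoc],
        inv_eq_of_mul_eq_one_left ((M.special2_U D).fix_sq x x.2)] at h3
      rw [Subgroup.coe_mul, h1]
      exact h3
    rw [MonoidHom.mul_apply, UData.act_apply, hε, MonoidHom.mul_apply, UData.act_apply, ← map_mul, ← map_mul,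
      mul_comm' x]
    exact M.occ_center_eq hχ hχ₀ (hc x)
  refine M.centralizes_of_act hS g fun χ hχ => ?_
  have hsq : χ * χ = 1 := MonoidHom.ext fun x => Int.units_mul_self _
  by_cases hε1 : ε = 1
  · rw [← one_mul (D.act g χ), ← hsq, mul_assoc, key χ hχ, hε1, mul_one]
  · refine absurd (M.card_le_of_translation hS hε1 fun μ hμ => ?_).1 (not_le.mpr hbig)
    rw [← key μ hμ, ← mul_assoc, show μ * μ = 1 from MonoidHom.ext fun x => Int.units_mul_self _, one_mul]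
    exact M.occ_act hμ g
where
  mul_comm' (x y : D.W) : x * y = y * x := Subtype.ext ((M.special2_U D).fix_central x x.2 y y.2.1)

/-- A `2`-element moving a character moves its radical. -/
theorem rad_act_ne (hS : Shape ρ D r m) {g : D.Gam} {j : ℕ} (hj : (g : G) ^ 2 ^ j = 1) {χ : D.W →* ℤˣ}
    (hχ : Occ ρ D χ) (hg : D.act g χ ≠ χ) : rad hS.sp (D.act g χ) ≠ rad hS.sp χ := by
  intro he
  have hsp := hS.sp
  have hgR : ∀ x ∈ rad hsp χ, (g : G) * x * (g : G)⁻¹ ∈ rad hsp χ := fun x hx =>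
    he ▸ (mem_rad_act hsp g χ).mpr hx
  have hgen : ∀ x ∈ D.U, ⁅(g : G), x⁆ ∈ rad hsp χ := M.commutator_mem_of_two D.inv_U (inv_rad hsp χ)
    (W_le_rad hsp χ) (rad_le hsp χ) le_rfl (fun X hX h1 h2 => M.eq_or_eq hS.pos hS.eq hsp (hS.idx χ hχ) hX h1 h2)
    j g g.2.2 hj (fun x hx => D.conj_mem_U g.2.1 hx) hgR
  have hcomm : ∀ u v : D.U, χ (D.conjW g (commW hsp u v)) = χ (commW hsp u v) := by
    intro u v
    obtain ⟨hu, hu'⟩ := mem_rad.mp (hgen u u.2)
    obtain ⟨hv, hv'⟩ := mem_rad.mp (hgen v v.2)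
    rw [← commW_conj,
      show (⟨(g : G) * u * (g : G)⁻¹, D.conj_mem_U g.2.1 u.2⟩ : D.U) = ⟨_, hu⟩ * u from
        Subtype.ext (by show _ = ⁅(g : G), (u : G)⁆ * u; rw [commutatorElement_def]; group),
      show (⟨(g : G) * v * (g : G)⁻¹, D.conj_mem_U g.2.1 v.2⟩ : D.U) = ⟨_, hv⟩ * v from
        Subtype.ext (by show _ = ⁅(g : G), (v : G)⁆ * v; rw [commutatorElement_def]; group),
      commW_mul_left, map_mul, hu', one_mul, commW_mul_right, map_mul, ← commW_symm hsp u ⟨_, hv⟩, hv', one_mul]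
  have hW : ∀ z ∈ ⁅D.U, D.U⁆, ∃ hz : z ∈ D.W, χ (D.conjW g ⟨z, hz⟩) = χ ⟨z, hz⟩ := by
    intro z hz
    rw [Subgroup.commutator_def] at hz
    induction hz using Subgroup.closure_induction with
    | mem z hz =>
      obtain ⟨u, hu, v, hv, rfl⟩ := hz
      exact ⟨hsp.comm_mem u hu v hv, hcomm ⟨u, hu⟩ ⟨v, hv⟩⟩
    | one => exact ⟨one_mem _, congrArg χ (map_one (D.conjW g))⟩
    | mul y z _ _ ihy ihz =>
      obtain ⟨hy, hy'⟩ := ihy
      obtain ⟨hz, hz'⟩ := ihz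
      refine ⟨mul_mem hy hz, ?_⟩
      rw [show (⟨y * z, mul_mem hy hz⟩ : D.W) = ⟨y, hy⟩ * ⟨z, hz⟩ from rfl, map_mul, map_mul, map_mul, hy', hz']
    | inv y _ ihy =>
      obtain ⟨hy, hy'⟩ := ihy
      refine ⟨inv_mem hy, ?_⟩
      rw [show (⟨y⁻¹, inv_mem hy⟩ : D.W) = ⟨y, hy⟩⁻¹ from rfl, map_inv, map_inv, map_inv, hy']
  refine hg (MonoidHom.ext fun x => ?_)
  have h := (hW (D.conjW g⁻¹ x) (hsp.fix_le (D.conjW g⁻¹ x).2)).choose_spec
  rw [UData.act_apply, ← show D.conjW g (D.conjW g⁻¹ x) = x by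
    rw [← MulAut.mul_apply, ← map_mul, mul_inv_cancel, map_one, MulAut.one_apply]]
  simpa using h.symm

/-- All noncentral elements isolated: the data of `IsoData` modulo the centre. -/
theorem isoData (h : D.AllIso) : IsoData D.Nb D.Wb where
  W_le := (M.frame D).W_le
  N_le := (M.frame D).N_le
  W_sq := (M.frame D).W_sq
  isolated := by
    rintro _ ⟨w, hw, rfl⟩ hw1 g hg
    obtain ⟨g, rfl⟩ := QuotientGroup.mk_surjective g
    refine (M.mem_Nb_iff D).mpr (h w hw (fun hc => hw1 ((QuotientGroup.eq_one_iff w).mpr hc)) g ?_)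
    exact (M.mem_Nb_iff D).mp (by simpa using hg)

end Cfg

end Cfsg.Agent.H24.Flav
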