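import Cfsg.Agent.H8.Shult.CleN12
import Cfsg.Agent.H24.Flav.Pure

/-!
Basic facts when all fixed points of the automorphism lie in `N`: the index is a prime power, invariant subgroups
normalised by a noncentral element of `W` lie in `N`, inverted odd elements fix one point, `N` has no odd abelian
image.

In the general configuration.
-/

set_option autoImplicit false
set_option linter.unusedSectionVars false

namespace Cfsg.Agent.H24.Flav

open Subgroup
open Cfsg.Agent.H8.Shult hiding Min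
open scoped commutatorElement

universe u v w u'

variable {G : Type u} [Group G] [Finite G] {p r : ℕ} [hp : Fact p.Prime] {a : MulAut G}
variable {k : Type w} [Field k] [CharP k p] {V : Type v} [AddCommGroup V] [Module k V]
variable [IsAlgClosed k] [FiniteDimensional k V]
variable {ρ : G →* Module.End k V} {T : Module.End k V}
variable {D : UData a}

namespace Cfg

variable (M : Cfg p r a ρ T)
include M

/-- Elements of odd order of `N` are conjugate under `U` to fixed elements. -/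
theorem exists_conj_fixed_of_odd {γ : G} (hγ : γ ∈ D.N) (ho : Odd (orderOf γ)) :
    ∃ n ∈ D.U, n * γ * n⁻¹ ∈ D.Gam := by
  obtain ⟨c, hc, u, hu, he⟩ := M.exists_fixed_mul D hγ
  set n := orderOf γ with hn
  have key : ∀ j : ℕ, (c ^ j)⁻¹ * γ ^ j ∈ D.U := by
    intro j
    induction j with
    | zero => simp
    | succ j ih =>
      have h1 : c⁻¹ * ((c ^ j)⁻¹ * γ ^ j) * c ∈ D.U := by
        simpa using D.conj_mem_U (D.N.inv_mem hc.1) ih
      have h2 := mul_mem h1 hu
      rw [pow_succ c, pow_succ γ, he]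
      convert h2 using 1
      rw [he]
      group
  have hU4 : ∀ x ∈ D.U, x ∈ fixedBy a → x * x = 1 := fun x hx hxf =>
    (M.special2_U D).fix_sq x ⟨hx, hxf⟩
  have hcn : c ^ n ∈ D.U := by
    have h := inv_mem (key n)
    rwa [hn, pow_orderOf_eq_one, mul_one, inv_inv] at h
  have hcn2 : c ^ n * c ^ n = 1 := hU4 _ hcn ((fixedBy a).pow_mem hc.2 n)
  set δ := c ^ (n + 1) with hδ
  have hδn : δ ^ n = 1 := by
    obtain ⟨t, ht⟩ := ho
    rw [hδ, ← pow_mul, mul_comm, pow_mul, show n + 1 = 2 * (t + 1) by omega, pow_mul, pow_two, hcn2, one_pow]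
  have hδγ : δ⁻¹ * γ ∈ D.U := by
    have h := key (n + 1)
    rwa [pow_succ γ, hn, pow_orderOf_eq_one, one_mul] at h
  have hδN : δ ∈ D.N := pow_mem hc.1 _
  obtain ⟨i, hi⟩ := IsPGroup.iff_card.mp D.isPGroup_U
  have hcop : n.Coprime (Nat.card D.U) := hi ▸ Nat.Coprime.pow_right _ ho.coprime_two_right
  have hord : orderOf δ = n := by
    refine Nat.dvd_antisymm (orderOf_dvd_of_pow_eq_one hδn) ?_
    have hj : γ ^ orderOf δ ∈ D.U := by
      have h := key ((n + 1) * orderOf δ)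
      rw [pow_mul, pow_mul, ← hδ, pow_orderOf_eq_one, inv_one, one_mul, pow_succ, hn, pow_orderOf_eq_one,
        one_mul] at h
      exact h
    refine orderOf_dvd_of_pow_eq_one (orderOf_eq_one_iff.mp ?_)
    exact Nat.eq_one_of_dvd_coprimes hcop (orderOf_pow_dvd _) (Subgroup.orderOf_dvd_natCard _ hj)
  have hsolv : Group.IsSolvable D.U := by
    have : Fact (Nat.Prime 2) := ⟨Nat.prime_two⟩
    have : Group.IsNilpotent D.U := D.isPGroup_U.isNilpotent
    infer_instance
  obtain ⟨v, hv, hve⟩ := Coprime.exists_conj_of_le_sup (N := D.U) (H₁ := zpowers δ) (H₂ := zpowers γ)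
    (zpowers_le.mpr hδN) (zpowers_le.mpr (by
      have h1 : γ = δ * (δ⁻¹ * γ) := (mul_inv_cancel_left _ _).symm
      rw [h1]
      exact mul_mem (mem_sup_right (mem_zpowers δ)) (mem_sup_left hδγ)))
    (by rw [Nat.card_zpowers, Nat.card_zpowers, hord])
    (by rw [Nat.card_zpowers, hord]; exact hcop) (Or.inr hsolv)
  obtain ⟨δ', hδ', he'⟩ : γ ∈ (zpowers δ).map (MulAut.conj v).toMonoidHom := hve ▸ mem_zpowers γ
  refine ⟨v⁻¹, inv_mem hv, ?_⟩
  rw [← he']
  have hG : zpowers δ ≤ D.Gam := zpowers_le.mpr ⟨hδN, (fixedBy a).pow_mem hc.2 _⟩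
  simpa [mul_assoc] using hG hδ'

theorem sylow_le_N : (D.S : Subgroup G) ≤ D.N := le_normalizer_disp

/-- With the fixed points in `N`, invariant `2`-subgroups lie in `N`. -/
theorem two_le_N (hC : fixedBy a ≤ D.N) {Q : Subgroup G} (hQ : IsPGroup 2 Q) (hQa : Inv a Q) : Q ≤ D.N := by
  have : Fact (Nat.Prime 2) := ⟨Nat.prime_two⟩
  obtain ⟨R, hQR, hRa⟩ := M.coprimely.exists_inv_sylow_ge 2 hQ hQa
  obtain ⟨g, hg⟩ := MulAction.exists_smul_eq G D.S R
  obtain ⟨c, hc, he⟩ := M.coprimely.exists_fixed_conj D.inv hRa (g := g) (congrArg Sylow.toSubgroup hg)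
  refine hQR.trans (he ▸ ?_)
  rintro _ ⟨x, hx, rfl⟩
  exact mul_mem (mul_mem (hC hc) (M.sylow_le_N hx)) (inv_mem (hC hc))

/-- With the fixed points in `N`, an invariant subgroup with displaced `p`-elements in `N` lies in `N`. -/
theorem le_N_of_disp (hC : fixedBy a ≤ D.N) {H : Subgroup G} (hH : Inv a H)
    (h : ∀ x ∈ disp a H, PElt p x → x ∈ D.N) : H ≤ D.N := by
  have hdH : disp a H ≤ D.N := by
    set K := disp a H with hK
    have hKa : Inv a K := inv_disp hH
    suffices h1 : (D.N.subgroupOf K).index = 1 by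
      exact subgroupOf_eq_top.mp (index_eq_one.mp h1)
    refine Nat.eq_one_iff_not_exists_prime_dvd.mpr fun q hq hdvd => ?_
    have : Fact q.Prime := ⟨hq⟩
    obtain ⟨P, hP⟩ := (M.coprimely.sub K hKa).exists_inv_sylow q
    have hP' : Inv a ((P : Subgroup K).map K.subtype) := by
      rintro _ ⟨x, hx, rfl⟩; exact ⟨_, hP x hx, rfl⟩
    have hle : (P : Subgroup K).map K.subtype ≤ D.N := by
      by_cases hq2 : q = 2
      · subst hq2
        exact M.two_le_N hC (P.2.map _) hP'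
      by_cases hqp : q = p
      · subst hqp
        rintro _ ⟨x, hx, rfl⟩
        obtain ⟨n, hn⟩ := P.2 ⟨x, hx⟩
        exact h _ x.2 ⟨n, congrArg (fun y : (P : Subgroup K) => ((y : K) : G)) hn⟩
      · exact (M.odd_le_fixed hq hq2 hqp (P.2.map _) hP').trans hC
    exact P.not_dvd_index (hdvd.trans (index_dvd_of_le fun x hx => hle ⟨x, hx, rfl⟩))
  intro g hg
  obtain ⟨d, hd, c, hc, rfl⟩ := M.coprimely.exists_disp_mul hH hg
  exact mul_mem (hC hc.2) (hdH hd)

/-- With the fixed points in `N`, the index of `N` is a power of `p`. -/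
theorem index_N (hC : fixedBy a ≤ D.N) : ∃ j, D.N.index = p ^ j := by
  refine ⟨_, Nat.eq_prime_pow_of_unique_prime_dvd D.N.index_ne_zero_of_finite fun {q} hq hdvd => ?_⟩
  by_contra hne
  have : Fact q.Prime := ⟨hq⟩
  by_cases hq2 : q = 2
  · subst hq2
    exact D.S.not_dvd_index (hdvd.trans (index_dvd_of_le M.sylow_le_N))
  · obtain ⟨P, hP⟩ := M.coprimely.exists_inv_sylow q
    exact P.not_dvd_index (hdvd.trans (index_dvd_of_le ((M.odd_le_fixed hq hq2 hne P.2 hP).trans hC)))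

/-- With the fixed points in `N`, an isolated noncentral element of `W` is impossible. -/
theorem false_of_iso (hC : fixedBy a ≤ D.N) {w : G} (hw : w ∈ D.W) (hwc : w ∉ center G) (hiso : D.Iso w) :
    False := by
  obtain ⟨j, hj⟩ := M.index_N hC
  have hC' : fixedBy (quotAut (center G) M.inv_center) ≤ D.Nb := by
    rw [M.coprimely.fixedBy_quot]
    exact map_mono hC
  have hidx : D.Nb.index = p ^ j := by
    rw [← hj]
    exact index_map_eq D.N (QuotientGroup.mk'_surjective _) (by rw [QuotientGroup.ker_mk']; exact M.center_le_N D)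
  refine (M.frame D).false_of_isolated hC' hidx ?_ (w := (w : G ⧸ center G)) ⟨w, hw, rfl⟩
    (fun h => hwc ((QuotientGroup.eq_one_iff w).mp h)) ?_
  · intro γ hγ ho
    obtain ⟨x, hx, rfl⟩ := hγ
    obtain ⟨i, hi, he⟩ := exists_odd_pow (QuotientGroup.mk' (center G)) x ho
    obtain ⟨n, hn, hfix⟩ := M.exists_conj_fixed_of_odd (pow_mem hx i) hi
    refine ⟨(n : G ⧸ center G), ⟨n, D.U_le_N hn, rfl⟩, ?_⟩
    rw [← he, M.coprimely.fixedBy_quot]
    exact ⟨n * x ^ i * n⁻¹, hfix.2, by simp⟩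
  · intro g hg
    obtain ⟨g, rfl⟩ := QuotientGroup.mk_surjective g
    exact (M.mem_Nb_iff D).mpr (hiso g ((M.mem_Nb_iff D).mp (by simpa using hg)))

theorem fixed_le_Nb (hC : fixedBy a ≤ D.N) : fixedBy (quotAut (center G) M.inv_center) ≤ D.Nb := by
  rw [M.coprimely.fixedBy_quot]
  exact map_mono hC

/-- If the index of `N` is a power of `p`, then `G = N P`. -/
theorem exists_mul_sylow {j : ℕ} (hj : D.N.index = p ^ j) (P : Sylow p G) (g : G) :
    ∃ n ∈ D.N, ∃ x ∈ (P : Subgroup G), g = n * x := by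
  classical
  set Q := D.N.subgroupOf (P : Subgroup G) with hQ
  let f : (P : Subgroup G) ⧸ Q → G ⧸ D.N := fun q => ((q.out : G) : G ⧸ D.N)
  have hf : Function.Injective f := fun x y h => by
    have h2 : (x.out)⁻¹ * y.out ∈ Q := mem_subgroupOf.mpr (QuotientGroup.eq.mp h : (x.out : G)⁻¹ * y.out ∈ D.N)
    exact x.out_eq'.symm.trans ((QuotientGroup.eq.mpr h2).trans y.out_eq')
  have hdvd : p ^ j ∣ Q.index := by
    have h1 : D.N.relIndex (P : Subgroup G) * (P : Subgroup G).index = (D.N ⊓ (P : Subgroup G)).index := by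
      rw [← relIndex_mul_index (inf_le_right : D.N ⊓ (P : Subgroup G) ≤ P), inf_relIndex_right]
    refine Nat.Coprime.dvd_of_dvd_mul_right (k := p ^ j) ?_
      (h1 ▸ hj ▸ index_dvd_of_le inf_le_left : p ^ j ∣ Q.index * (P : Subgroup G).index)
    exact (hp.out.coprime_iff_not_dvd.mpr P.not_dvd_index).pow_left j
  have hge : Nat.card (G ⧸ D.N) ≤ Nat.card ((P : Subgroup G) ⧸ Q) := by
    rw [← Subgroup.index_eq_card, ← Subgroup.index_eq_card, hj]
    exact Nat.le_of_dvd (Nat.pos_of_ne_zero Q.index_ne_zero_of_finite) hdvd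
  obtain ⟨q, hq⟩ := (hf.bijective_of_nat_card_le hge).2 ((g⁻¹ : G) : G ⧸ D.N)
  have h1 : (q.out : G)⁻¹ * g⁻¹ ∈ D.N := QuotientGroup.eq.mp hq
  exact ⟨((q.out : G)⁻¹ * g⁻¹)⁻¹, inv_mem h1, (q.out : G)⁻¹, inv_mem q.out.2, by group⟩

/-- An element normalising a subgroup from one side normalises it. -/
theorem mem_normalizer_of_conj {S : Subgroup G} {g : G} (h : ∀ x ∈ S, g * x * g⁻¹ ∈ S) :
    g ∈ normalizer (S : Set G) :=
  Coprime.mem_normalizer_of_map_conj (Subgroup.eq_of_le_of_card_ge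
    (by rintro _ ⟨x, hx, rfl⟩; exact h x hx) (Coprime.card_map_conj g S).ge)

/-- A noncentral element of `W` normalises only fixed invariant `p`-subgroups. -/
theorem le_fixed_of_normalizes (hC : fixedBy a ≤ D.N) {w : G} (hw : w ∈ D.W) (hwc : w ∉ center G)
    {Q : Subgroup G} (hQ : IsPGroup p Q) (hQa : Inv a Q) (hn : w ∈ normalizer (Q : Set G)) :
    Q ≤ fixedBy a := by
  classical
  by_contra hQ0
  let 𝔖 : Set (Subgroup G) := {Q | IsPGroup p Q ∧ Inv a Q ∧ w ∈ normalizer (Q : Set G) ∧ ¬ Q ≤ fixedBy a}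
  obtain ⟨S, hSmem, hSmax⟩ := (Set.toFinite 𝔖).exists_maximal ⟨Q, hQ, hQa, hn, hQ0⟩
  obtain ⟨hSp, hSa, hSw, hS0⟩ := hSmem
  have hmax : ∀ R : Subgroup G, IsPGroup p R → Inv a R → w ∈ normalizer (R : Set G) → S ≤ R → R ≤ S :=
    fun R h1 h2 h3 h4 => hSmax ⟨h1, h2, h3, fun h => hS0 (h4.trans h)⟩ h4
  set K := normalizer (S : Set G) with hK
  have hKne : K ≠ ⊤ := fun h =>
    hS0 ((M.eq_bot_of_normal_pGroup (normalizer_eq_top_iff.mp h) hSp hSa).le.trans bot_le)
  obtain ⟨P', hP'K, hP', hP'a, hKP', htwo⟩ := M.proper K hSa.normalizer hKne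
  have hP'S : P' ≤ S := by
    refine le_sup_right.trans (hmax (S ⊔ P') ?_ (hSa.sup hP'a) ?_ le_sup_left)
    · exact IsPGroup.to_sup_of_normal_right' hSp hP' (le_normalizer.trans hKP')
    · refine Coprime.mem_normalizer_of_map_conj ?_
      rw [Subgroup.map_sup, Coprime.map_conj_eq hSw, Coprime.map_conj_eq (hKP' hSw)]
  have hsp := M.special2_U D
  have hpair : ∀ x ∈ D.W, x ∈ K → x ∉ center G → w * x ∈ center G := by
    intro x hxW hxK hxc
    by_contra hwx
    have hww := hsp.fix_sq w hw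
    have hxx := hsp.fix_sq x hxW
    have hxw : x * w = w * x := (hsp.fix_central w hw x hxW.1).symm
    have h4 : ∀ y ∈ closure ({w, x} : Set G), y = 1 ∨ y = w ∨ y = x ∨ y = w * x := by
      intro y hy
      induction hy using Subgroup.closure_induction with
      | mem y hy => rcases hy with rfl | rfl <;> simp
      | one => simp
      | mul y z _ _ ihy ihz =>
        have e1 : ∀ t, w * (w * t) = t := fun t => by rw [← mul_assoc, hww, one_mul]
        have e2 : ∀ t, x * (x * t) = t := fun t => by rw [← mul_assoc, hxx, one_mul]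
        have e3 : ∀ t, x * (w * t) = w * (x * t) := fun t => by rw [← mul_assoc, hxw, mul_assoc]
        rcases ihy with rfl | rfl | rfl | rfl <;> rcases ihz with rfl | rfl | rfl | rfl <;>
          simp [mul_assoc, hww, hxx, hxw, e1, e3]
      | inv y _ ih =>
        have hi : (w * x)⁻¹ = w * x := inv_eq_of_mul_eq_one_right (by
          rw [mul_assoc, ← mul_assoc x, hxw, mul_assoc w, hxx, mul_one, hww])
        rcases ih with rfl | rfl | rfl | rfl
        · simp
        · simp [inv_eq_of_sq hww]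
        · simp [inv_eq_of_sq hxx]
        · simp [hi]
    set A := closure ({w, x} : Set G) with hA
    have hAW : A ≤ D.W := (closure_le _).mpr (Set.insert_subset hw (Set.singleton_subset_iff.mpr hxW))
    have hAc : IsMulCommutative A :=
      ⟨⟨fun s t => Subtype.ext (hsp.fix_central s (hAW s.2) t (hAW t.2).1)⟩⟩
    have hAnc : ¬ IsCyclic A := by
      intro hcyc
      obtain ⟨g, hg⟩ := IsCyclic.exists_generator (α := A)
      have h2 : ∀ y : A, y = 1 ∨ y = g := by
        intro y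
        obtain ⟨i, rfl⟩ := mem_zpowers_iff.mp (hg y)
        have hgg : g ^ (2 : ℤ) = 1 := by
          rw [zpow_two]; exact Subtype.ext (hsp.fix_sq g (hAW g.2))
        obtain ⟨t, rfl | rfl⟩ := Int.even_or_odd' i
        · exact Or.inl (by rw [zpow_mul, hgg, one_zpow])
        · exact Or.inr (by rw [zpow_add_one, zpow_mul, hgg, one_zpow, one_mul])
      have hw1 : w ≠ 1 := fun h => hwc (h ▸ one_mem _)
      have hx1 : x ≠ 1 := fun h => hxc (h ▸ one_mem _)
      have hwg := (h2 ⟨w, subset_closure (Set.mem_insert w _)⟩).resolve_left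
        fun h => hw1 (congrArg Subtype.val h)
      have hxg := (h2 ⟨x, subset_closure (Set.mem_insert_of_mem _ rfl)⟩).resolve_left
        fun h => hx1 (congrArg Subtype.val h)
      exact hwx (by rw [show w = x from congrArg Subtype.val (hwg.trans hxg.symm), hxx]; exact one_mem _)
    have hcop : (Nat.card A).Coprime (Nat.card S) := by
      have : Fact (Nat.Prime 2) := ⟨Nat.prime_two⟩
      obtain ⟨i, hi⟩ := IsPGroup.iff_card.mp (D.isPGroup_U.to_le (hAW.trans D.W_le_U))
      obtain ⟨j, hj⟩ := IsPGroup.iff_card.mp hSp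
      rw [hi, hj]; exact ((Nat.coprime_primes Nat.prime_two hp.out).mpr (Ne.symm M.odd)).pow i j
    have hSN : S ≤ D.N := Coprime.le_of_centralizer_noncyclic_le hAnc
      ((closure_le _).mpr (Set.insert_subset hSw (Set.singleton_subset_iff.mpr hxK))) hcop fun y hy hy1 => by
        rcases h4 y hy with rfl | rfl | rfl | rfl
        · exact absurd rfl hy1
        · exact inf_le_right.trans (M.centralizer_le_N D hw hwc)
        · exact inf_le_right.trans (M.centralizer_le_N D hxW hxc)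
        · exact inf_le_right.trans (M.centralizer_le_N D (mul_mem hw hxW) hwx)
    refine hS0 (disp_eq_bot_iff.mp (le_bot_iff.mp ?_))
    rw [← two_pgroup_inf_eq_bot M.odd hSp D.isPGroup_U]
    exact le_inf (disp_le hSa) ((disp_mono hSN).trans (M.disp_N D).le)
  have hcw : ∀ c ∈ K, c ∈ fixedBy a → PElt p c → c * w = w * c := by
    rintro c hcK hca ⟨n, hn⟩
    set x := c * w * c⁻¹ with hx
    have hxW : x ∈ D.W := D.conj_mem_W ⟨hC hca, hca⟩ hw
    have hxK : x ∈ K := mul_mem (mul_mem hcK hSw) (inv_mem hcK)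
    have hxc : x ∉ center G := fun h => hwc (by
      have := (inferInstance : (center G).Normal).conj_mem x h c⁻¹
      simpa [hx, mul_assoc] using this)
    have hzc := hpair x hxW hxK hxc
    set z := w * x with hz
    have hzx : x = w * z := by rw [hz, ← mul_assoc, hsp.fix_sq w hw, one_mul]
    have key : ∀ i : ℕ, c ^ i * w * (c ^ i)⁻¹ = w * z ^ i := by
      intro i
      induction i with
      | zero => simp
      | succ i ih =>
        have hcomm : z ^ i * c⁻¹ = c⁻¹ * z ^ i := ((mem_center_iff.mp (pow_mem hzc i)) c⁻¹).symm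
        calc c ^ (i + 1) * w * (c ^ (i + 1))⁻¹ = c * (c ^ i * w * (c ^ i)⁻¹) * c⁻¹ := by
              rw [pow_succ']; group
          _ = c * w * (z ^ i * c⁻¹) := by rw [ih]; group
          _ = c * w * c⁻¹ * z ^ i := by rw [hcomm]; group
          _ = w * z ^ (i + 1) := by rw [← hx, hzx, mul_assoc, ← pow_succ']
    have h1 := key (p ^ n)
    rw [hn, inv_one, one_mul, mul_one] at h1
    have h3 : z ^ p ^ n = 1 := mul_left_cancel (a := w) (by rw [← h1, mul_one])
    have h2 : z ^ 2 = 1 := by rw [pow_two]; exact hsp.fix_sq z (mul_mem hw hxW)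
    have hz1 : z = 1 := orderOf_eq_one_iff.mp (Nat.eq_one_of_dvd_coprimes
      (((Nat.coprime_primes hp.out Nat.prime_two).mpr M.odd).pow_left n)
      (orderOf_dvd_of_pow_eq_one h3) (orderOf_dvd_of_pow_eq_one h2))
    rw [hz1, mul_one] at hzx
    exact mul_inv_eq_iff_eq_mul.mp hzx
  have hpS : ∀ {R : Subgroup G}, IsPGroup p R → ∀ {c : G}, c ∈ R → PElt p c := fun {R} hR {c} hc => by
    obtain ⟨n, hn⟩ := hR ⟨c, hc⟩
    exact ⟨n, congrArg Subtype.val hn⟩
  obtain ⟨P, hSP, hPa⟩ := M.coprimely.exists_inv_sylow_ge p hSp hSa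
  set R := (P : Subgroup G) ⊓ K with hR
  have hRa : Inv a R := hPa.inf hSa.normalizer
  have hRp : IsPGroup p R := P.2.to_le inf_le_left
  have hdR : disp a R ≤ S := (M.disp_le_witness hRp hRa inf_le_right htwo).trans hP'S
  have hSR : S ≤ R := le_inf hSP le_normalizer
  have hRS : R ≤ S := by
    refine hmax R hRp hRa (M.mem_normalizer_of_conj fun r hr => ?_) hSR
    obtain ⟨d, hd, c, hc, rfl⟩ := M.coprimely.exists_disp_mul hRa hr
    rw [show w * (c * d) * w⁻¹ = (w * c) * d * w⁻¹ by group, ← hcw c hc.1.2 hc.2 (hpS hRp hc.1),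
      show c * w * d * w⁻¹ = c * (w * d * w⁻¹) by group]
    exact mul_mem hc.1 (hSR ((mem_normalizer_iff.mp hSw d).mp (hdR hd)))
  have hPS : (P : Subgroup G) = S := by
    by_contra hne'
    have hlt : S.subgroupOf (P : Subgroup G) < ⊤ :=
      lt_top_iff_ne_top.mpr fun h => hne' (le_antisymm (subgroupOf_eq_top.mp h) hSP)
    have : Group.IsNilpotent (P : Subgroup G) := P.2.isNilpotent
    obtain ⟨x, hx, hxS⟩ := SetLike.exists_of_lt (Group.normalizerCondition_of_isNilpotent _ hlt)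
    refine hxS (hRS ⟨x.2, mem_normalizer_iff.mpr fun y =>
      ⟨fun hy => (mem_normalizer_iff.mp hx ⟨y, hSP hy⟩).mp hy, fun hy => ?_⟩⟩)
    have hyP : y ∈ (P : Subgroup G) := by
      have := mul_mem (mul_mem (inv_mem x.2) (hSP hy)) x.2
      simpa [mul_assoc] using this
    exact (mem_normalizer_iff.mp hx ⟨y, hyP⟩).mpr hy
  obtain ⟨j, hj⟩ := M.index_N hC
  refine M.false_of_iso hC hw hwc fun g hg => ?_
  obtain ⟨n, hn', x, hx, rfl⟩ := M.exists_mul_sylow hj P g
  have hg' : x * w * x⁻¹ ∈ D.N := by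
    have := mul_mem (mul_mem (inv_mem hn') hg) hn'
    simpa [mul_assoc] using this
  set v := x * w * x⁻¹ with hv
  set y := v * w⁻¹ with hy
  have hyN : y ∈ D.N := mul_mem hg' (inv_mem (D.W_le_N hw))
  have hyS : y ∈ S := by
    rw [show y = x * (w * x⁻¹ * w⁻¹) by rw [hy, hv]; group]
    exact mul_mem (hPS.le hx) ((mem_normalizer_iff.mp hSw _).mp (inv_mem (hPS.le hx)))
  have hfix : S ⊓ D.N ≤ fixedBy a := by
    rw [← disp_eq_bot_iff, ← le_bot_iff, ← two_pgroup_inf_eq_bot M.odd hSp D.isPGroup_U]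
    exact le_inf ((disp_le (hSa.inf D.inv_N)).trans inf_le_left) ((disp_mono inf_le_right).trans (M.disp_N D).le)
  have hyw := hcw y (le_normalizer hyS) (hfix ⟨hyS, hyN⟩) (hpS hSp hyS)
  have hvv : v * v = 1 := by
    rw [hv, show x * w * x⁻¹ * (x * w * x⁻¹) = x * (w * w) * x⁻¹ by group, hsp.fix_sq w hw]; group
  have hyy : y ^ 2 = 1 := by
    have e : v = y * w := by rw [hy]; group
    rw [e] at hvv
    calc y ^ 2 = y * y * (w * w) := by rw [hsp.fix_sq w hw, mul_one, pow_two]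
      _ = y * (y * w) * w := by group
      _ = y * (w * y) * w := by rw [hyw]
      _ = y * w * (y * w) := by group
      _ = 1 := hvv
  obtain ⟨i, hi⟩ := hpS hSp hyS
  have hy1 : y = 1 := orderOf_eq_one_iff.mp (Nat.eq_one_of_dvd_coprimes
    (((Nat.coprime_primes hp.out Nat.prime_two).mpr M.odd).pow_left i)
    (orderOf_dvd_of_pow_eq_one hi) (orderOf_dvd_of_pow_eq_one hyy))
  have hxN : x ∈ D.N := M.centralizer_le_N D hw hwc (mem_centralizer_singleton_iff.mpr
    (mul_inv_eq_iff_eq_mul.mp (mul_inv_eq_one.mp (hy ▸ hy1))))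
  exact mul_mem hn' hxN

/-- A proper invariant subgroup normalised by a noncentral element of `W` lies in `N`. -/
theorem le_N_of_normalizes (hC : fixedBy a ≤ D.N) {w : G} (hw : w ∈ D.W) (hwc : w ∉ center G)
    {H : Subgroup G} (hH : Inv a H) (hne : H ≠ ⊤) (hn : w ∈ normalizer (H : Set G)) : H ≤ D.N := by
  obtain ⟨P, hPH, hP, hPa, hHP, htwo⟩ := M.proper H hH hne
  have hwP : w ∈ normalizer ((P ⊓ disp a H : Subgroup G) : Set G) := by
    refine M.mem_normalizer_of_conj fun x hx => ?_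
    have hd := fixedBy_le_normalizer_disp hw.2 (fun y hy => (mem_normalizer_iff.mp hn y).mp hy) hx.2
    obtain ⟨n, hn'⟩ := hP ⟨x, hx.1⟩
    obtain ⟨j, hj⟩ := htwo _ hd
    refine ⟨mem_of_two_pow_mem M.odd hj (n := n) ?_, hd⟩
    rw [conj_pow, show x ^ p ^ n = 1 from congrArg Subtype.val hn', mul_one, mul_inv_cancel]
  have hfix := M.le_fixed_of_normalizes hC hw hwc (hP.to_le inf_le_left) (hPa.inf (inv_disp hH)) hwP
  refine M.le_N_of_disp hC hH fun x hx hpx => hC (hfix ⟨?_, hx⟩)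
  obtain ⟨n, hn'⟩ := hpx
  obtain ⟨j, hj⟩ := htwo x hx
  exact mem_of_two_pow_mem M.odd hj hn'

/-- A `2`-group acting on a `p`-group centralises it if it centralises the fixed points and its own fixed
points are central. -/
theorem le_centralizer_of_fixed {E : Subgroup G} (hEa : Inv a E) (hE : IsPGroup 2 E)
    (hEc : ∀ e ∈ E, e ∈ fixedBy a → e ∈ center G) :
    ∀ (n : ℕ) (S : Subgroup G), Nat.card S ≤ n → IsPGroup p S → Inv a S → E ≤ normalizer (S : Set G) →
      (∀ c ∈ S, c ∈ fixedBy a → ∀ e ∈ E, c * e = e * c) → E ≤ centralizer (S : Set G) := by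
  classical
  intro n
  induction n with
  | zero => intro S hS; exact absurd hS (not_le.mpr Nat.card_pos)
  | succ n ih =>
    intro S hSn hS hSa hES hcent
    by_cases hSfix : S ≤ fixedBy a
    · exact fun e he => mem_centralizer_iff.mpr fun c hc => hcent c hc (hSfix hc) e he
    set F := (frattini S).map S.subtype with hF
    set N₀ := F ⊔ (S ⊓ fixedBy a) with hN₀
    have hN₀S : N₀ ≤ S := sup_le (map_subtype_le _) inf_le_left
    have hFa : Inv a F := by
      rintro _ ⟨y, hy, rfl⟩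
      exact ⟨subAut S hSa y, (Subgroup.characteristic_iff_map_eq.mp
        (inferInstance : (frattini S).Characteristic) (subAut S hSa)).le ⟨y, hy, rfl⟩, rfl⟩
    have hN₀a : Inv a N₀ := hFa.sup (hSa.inf inv_fixedBy)
    have hEN : ∀ e ∈ E, ∀ x ∈ N₀, e * x * e⁻¹ ∈ N₀ := by
      intro e he x hx
      have hle : N₀.map (MulAut.conj e).toMonoidHom ≤ N₀ := by
        rw [hN₀, Subgroup.map_sup]
        refine sup_le_sup ?_ ?_
        · rintro _ ⟨_, ⟨y, hy, rfl⟩, rfl⟩
          exact ⟨S.normalizerMonoidHom ⟨e, hES he⟩ y, (Subgroup.characteristic_iff_map_eq.mp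
            (inferInstance : (frattini S).Characteristic) (S.normalizerMonoidHom ⟨e, hES he⟩)).le
              ⟨y, hy, rfl⟩, rfl⟩
        · rintro _ ⟨y, hy, rfl⟩
          show e * y * e⁻¹ ∈ S ⊓ fixedBy a
          rw [← hcent y hy.1 hy.2 e he, mul_inv_cancel_right]
          exact hy
      exact hle ⟨x, hx, rfl⟩
    have hlt : Nat.card N₀ ≤ n := by
      refine Nat.lt_succ_iff.mp (lt_of_lt_of_le (lt_of_le_of_ne (Nat.le_of_dvd Nat.card_pos
        (card_dvd_of_le hN₀S)) fun h => ?_) hSn)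
      have e := Subgroup.eq_of_le_of_card_ge hN₀S h.ge
      have h2 : (S ⊓ fixedBy a).subgroupOf S ⊔ frattini S = ⊤ := by
        refine map_injective S.subtype_injective ?_
        rw [Subgroup.map_sup, subgroupOf_map_subtype, inf_right_comm, inf_idem, ← MonoidHom.range_eq_map,
          S.range_subtype, sup_comm]
        exact e
      exact hSfix ((subgroupOf_eq_top.mp (frattini_nongenerating h2)).trans inf_le_right)
    have ih' := ih N₀ hlt (hS.to_le hN₀S) hN₀a
      (fun e he => M.mem_normalizer_of_conj (hEN e he)) fun c hc hcf => hcent c (hN₀S hc) hcf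
    set R' := N₀.subgroupOf S with hR'
    have hFR : frattini S ≤ R' := fun y hy => mem_subgroupOf.mpr (mem_sup_left ⟨y, hy, rfl⟩)
    have hRn : R'.Normal := ⟨fun y hy g => by
      rw [show g * y * g⁻¹ = ⁅g, y⁆ * y by rw [commutatorElement_def]; group]
      exact R'.mul_mem (hFR (PGroups.commutator_le_frattini hS
        (_root_.commutator_def S ▸ commutator_mem_commutator (mem_top _) (mem_top _)))) hy⟩
    let _ : CommGroup (S ⧸ R') :=
      { (inferInstance : Group (S ⧸ R')) with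
        mul_comm := fun s t => by
          induction s using QuotientGroup.induction_on with
          | _ s =>
            induction t using QuotientGroup.induction_on with
            | _ t =>
              rw [← QuotientGroup.mk_mul, ← QuotientGroup.mk_mul, QuotientGroup.eq]
              refine hFR ?_
              rw [show (s * t)⁻¹ * (t * s) = ⁅t⁻¹, s⁻¹⁆ by simp [commutatorElement_def, mul_assoc]]
              exact PGroups.commutator_le_frattini hS
                (_root_.commutator_def S ▸ commutator_mem_commutator (mem_top _) (mem_top _)) }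
    have hσR : Inv (subAut S hSa) R' := fun y hy => hN₀a _ (mem_subgroupOf.mp hy)
    let φ₀ : E →* MulAut (S ⧸ R') := sectionAut (H := E)
      (fun e he x hx => (mem_normalizer_iff.mp (hES he) x).mp hx) hEN
    set L : Subgroup E := (center G).subgroupOf E with hL
    have hLker : L ≤ φ₀.ker := fun e he => MonoidHom.mem_ker.mpr (MulEquiv.ext fun z => by
      induction z using QuotientGroup.induction_on with
      | _ z =>
        refine congrArg QuotientGroup.mk (Subtype.ext ?_)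
        show (e : G) * z * (e : G)⁻¹ = z
        rw [← mem_center_iff.mp (show (e : G) ∈ center G from he) z, mul_inv_cancel_right])
    have hLa : Inv (subAut E hEa) L := fun e he => by
      show (subAut E hEa e : G) ∈ center G
      have h' : (e : G) ∈ center G := he
      rw [subAut_coe, mem_fixedBy.mp (M.center_le_fixed h')]
      exact h'
    have hsubc : Coprimely (subAut E hEa) r := M.coprimely.sub E hEa
    have hK : fixedBy (quotAut L hLa) = ⊥ := by
      rw [hsubc.fixedBy_quot, Subgroup.map_eq_bot_iff, QuotientGroup.ker_mk']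
      intro e he
      exact hEc e e.2 (congrArg Subtype.val he)
    have hM0 : ∀ x, quotAut R' hσR x = x → x = 1 := fun x hx => by
      have hx' : x ∈ fixedBy (quotAut R' hσR) := hx
      rw [(M.coprimely.sub S hSa).fixedBy_quot] at hx'
      obtain ⟨s, hs, rfl⟩ := hx'
      exact (QuotientGroup.eq_one_iff s).mpr (mem_subgroupOf.mpr
        (mem_sup_right ⟨s.2, (congrArg Subtype.val hs : a (s : G) = s)⟩))
    have hcop : (Nat.card (S ⧸ R')).Coprime (Nat.card (E ⧸ L)) := by
      have : Fact (Nat.Prime 2) := ⟨Nat.prime_two⟩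
      obtain ⟨i, hi⟩ := IsPGroup.iff_card.mp (hS.to_quotient R')
      obtain ⟨j, hj⟩ := IsPGroup.iff_card.mp (hE.to_quotient L)
      rw [hi, hj]
      exact ((Nat.coprime_primes hp.out Nat.prime_two).mpr M.odd).pow i j
    have hact : ∀ e : E, ∀ z : S ⧸ R', φ₀ e z = z := fun e z =>
      act_trivial_of_fpf (α := quotAut R' hσR) (QuotientGroup.lift L φ₀ hLker) (hsubc.quot L hLa)
        ((M.coprimely.sub S hSa).quot R' hσR).pow
        (fun s x => by
          obtain ⟨s, rfl⟩ := QuotientGroup.mk_surjective s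
          obtain ⟨x, rfl⟩ := QuotientGroup.mk_surjective x
          refine congrArg QuotientGroup.mk (Subtype.ext ?_)
          show a ((s : G) * x * (s : G)⁻¹) = a (s : G) * a (x : G) * (a (s : G))⁻¹
          rw [map_mul, map_mul, map_inv])
        hK hM0 hcop (e : E ⧸ L) z
    refine Coprime.le_centralizer_of_commutator_le (N := N₀) hES ?_
      (commutator_le.mpr fun s hs e he => ?_) ih'
    · have : Fact (Nat.Prime 2) := ⟨Nat.prime_two⟩
      obtain ⟨i, hi⟩ := IsPGroup.iff_card.mp hE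
      obtain ⟨j, hj⟩ := IsPGroup.iff_card.mp hS
      rw [hi, hj]
      exact ((Nat.coprime_primes Nat.prime_two hp.out).mpr (Ne.symm M.odd)).pow i j
    · have h1 : (e * s⁻¹ * e⁻¹ : G)⁻¹ * s⁻¹ ∈ N₀ := mem_subgroupOf.mp
        (QuotientGroup.eq.mp (hact ⟨e, he⟩ ((⟨s⁻¹, inv_mem hs⟩ : S) : S ⧸ R')))
      have hs1 := inv_mem h1
      rw [commutatorElement_def]
      simpa [mul_assoc] using hs1

/-- The centraliser of a fixed element with moved centralised part of `U` lies in `N`. -/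
theorem centralizer_le_N_of_moved (hC : fixedBy a ≤ D.N) {w : G} (hw : w ∈ D.W) (hwc : w ∉ center G)
    {δ : G} (hδ : δ ∈ D.Gam) (hδc : δ ∉ center G)
    (hE0 : disp a (centralizer ({δ} : Set G) ⊓ D.U) ≠ ⊥) : centralizer ({δ} : Set G) ≤ D.N := by
  classical
  set X := centralizer ({δ} : Set G) with hX
  have hXa : Inv a X := inv_centralizer_singleton hδ.2
  have hXne : X ≠ ⊤ := fun h => hδc (mem_center_iff.mpr fun y =>
    mem_centralizer_singleton_iff.mp (show y ∈ X from h ▸ mem_top y))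
  by_cases hWX : ∃ x ∈ D.W, x ∈ X ∧ x ∉ center G
  · obtain ⟨x, hx, hxX, hxc⟩ := hWX
    exact M.le_N_of_normalizes hC hx hxc hXa hXne (le_normalizer hxX)
  push Not at hWX
  set E := disp a (X ⊓ D.U) with hE
  have hEle : E ≤ X ⊓ D.U := disp_le (hXa.inf D.inv_U)
  have hEa : Inv a E := inv_disp (hXa.inf D.inv_U)
  have hne : centralizer (E : Set G) ≠ ⊤ := fun h => hE0 (by
    have h2 : E ≤ fixedBy a := fun e he => M.center_le_fixed (mem_center_iff.mpr fun y =>
      (mem_centralizer_iff.mp (h ▸ mem_top y) e he).symm)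
    rw [hE, ← M.coprimely.disp_disp (hXa.inf D.inv_U)]
    exact disp_eq_bot_iff.mpr h2)
  have hwE : w ∈ centralizer (E : Set G) := mem_centralizer_iff.mpr fun e he =>
    ((M.special2_U D).fix_central w hw e (hEle he).2).symm
  have hCN := M.le_N_of_normalizes hC hw hwc hEa.centralizer hne (le_normalizer hwE)
  obtain ⟨P, hPX, hP, hPa, hXP, htwo⟩ := M.proper X hXa hXne
  set S := P ⊓ disp a X with hS
  have hSp : IsPGroup p S := hP.to_le inf_le_left
  have hXS : X ≤ normalizer (S : Set G) := fun x hx => M.mem_normalizer_of_conj fun y hy =>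
    ⟨(mem_normalizer_iff.mp (hXP hx) y).mp hy.1, (mem_normalizer_iff.mp (le_normalizer_disp hx) y).mp hy.2⟩
  have hES : E ≤ normalizer (S : Set G) := hEle.trans (inf_le_left.trans hXS)
  have hcent : ∀ c ∈ S, c ∈ fixedBy a → ∀ e ∈ E, c * e = e * c := by
    intro c hc hcf e he
    rw [← commutatorElement_eq_one_iff_mul_comm, ← Subgroup.mem_bot, ← two_pgroup_inf_eq_bot M.odd hSp D.isPGroup_U]
    refine ⟨?_, ?_⟩
    · rw [commutatorElement_def, mul_assoc, mul_assoc]
      refine S.mul_mem hc ?_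
      rw [← mul_assoc]
      exact (mem_normalizer_iff.mp (hES he) _).mp (inv_mem hc)
    · rw [commutatorElement_def]
      exact D.U.mul_mem (D.conj_mem_U (hC hcf) (hEle he).2) (inv_mem (hEle he).2)
  have hEc : ∀ e ∈ E, e ∈ fixedBy a → e ∈ center G := fun e he hef =>
    hWX e ⟨(hEle he).2, hef⟩ (hEle he).1
  have hES' := M.le_centralizer_of_fixed hEa (D.isPGroup_U.to_le (hEle.trans inf_le_right)) hEc
    (Nat.card S) S le_rfl hSp (hPa.inf (inv_disp hXa)) hES hcent
  refine M.le_N_of_disp hC hXa fun x hx hpx => hCN ?_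
  obtain ⟨n, hn⟩ := hpx
  obtain ⟨j, hj⟩ := htwo x hx
  exact Subgroup.le_centralizer_iff.mp hES' ⟨mem_of_two_pow_mem M.odd hj hn, hx⟩

/-- Involutions of an invariant subgroup are conjugate in it into `N`. -/
theorem exists_conj_mem_two (hC : fixedBy a ≤ D.N) {X : Subgroup G} (hX : Inv a X) {v : G} (hv : v ∈ X)
    (hv2 : v * v = 1) : ∃ x ∈ X, x⁻¹ * v * x ∈ D.N := by
  have : Fact (Nat.Prime 2) := ⟨Nat.prime_two⟩
  obtain ⟨S, hS⟩ := (M.coprimely.sub X hX).exists_inv_sylow 2
  have hSa : Inv a ((S : Subgroup X).map X.subtype) := by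
    rintro _ ⟨x, hx, rfl⟩; exact ⟨_, hS x hx, rfl⟩
  have hSN := M.two_le_N hC (S.2.map X.subtype) hSa
  obtain ⟨S', hS'⟩ := IsPGroup.exists_le_sylow (G := X) (p := 2) (P := zpowers ⟨v, hv⟩) (by
    intro z
    obtain ⟨i, hi⟩ := mem_zpowers_iff.mp z.2
    refine ⟨1, Subtype.ext ?_⟩
    show (z : X) ^ (2 ^ 1) = 1
    rw [← hi, pow_one, ← zpow_natCast, zpow_comm, zpow_natCast,
      show (⟨v, hv⟩ : X) ^ 2 = 1 from Subtype.ext (by rw [pow_two]; exact hv2), one_zpow])
  obtain ⟨x, hx⟩ := MulAction.exists_smul_eq X S' S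
  refine ⟨(x : G)⁻¹, inv_mem x.2, ?_⟩
  rw [inv_inv]
  refine hSN ⟨x * ⟨v, hv⟩ * x⁻¹, ?_, rfl⟩
  rw [← hx]
  exact ⟨⟨v, hv⟩, hS' (mem_zpowers _), rfl⟩

/-- The centraliser of a fixed element of odd order inverted by a conjugate of an element of `W` lies in `N`. -/
theorem centralizer_le_N_of_inverted (hC : fixedBy a ≤ D.N) {w g δ : G} (hw : w ∈ D.W) (hwc : w ∉ center G)
    (hδ : δ ∈ D.Gam) (ho : Odd (orderOf δ))
    (hinv : g * w * g⁻¹ * δ * (g * w * g⁻¹)⁻¹ = δ⁻¹) (hδ1 : δ ≠ 1) :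
    centralizer ({δ} : Set G) ≤ D.N := by
  classical
  have hsp := M.special2_U D
  set v := g * w * g⁻¹ with hvdef
  have hvv : v * v = 1 := by
    rw [hvdef, show g * w * g⁻¹ * (g * w * g⁻¹) = g * (w * w) * g⁻¹ by group, hsp.fix_sq w hw]; group
  have hδc : δ ∉ center G := fun h => hδ1 (by
    rw [mem_center_iff.mp h v, mul_inv_cancel_right] at hinv
    have h2 : orderOf δ ∣ 2 := orderOf_dvd_of_pow_eq_one (by
      rw [pow_two]; nth_rewrite 2 [hinv]; exact mul_inv_cancel δ)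
    exact orderOf_eq_one_iff.mp (Nat.eq_one_of_dvd_coprimes ho.coprime_two_right dvd_rfl h2))
  set X := centralizer ({δ} : Set G) with hX
  have hXa : Inv a X := inv_centralizer_singleton hδ.2
  set E := disp a (X ⊓ D.U) with hE
  by_cases hE0 : E = ⊥
  · -- the element acts without fixed points on `U ⧸ W`
    exfalso
    have hzinv : Inv a (zpowers δ) := inv_of_le_fixedBy (zpowers_le.mpr hδ.2)
    have hvn : v ∈ normalizer (zpowers δ : Set G) := by
      have hfw : ∀ x ∈ zpowers δ, v * x * v⁻¹ ∈ zpowers δ := by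
        intro x hx
        obtain ⟨i, rfl⟩ := mem_zpowers_iff.mp hx
        rw [← conj_zpow, hinv]
        exact zpow_mem (inv_mem (mem_zpowers δ)) i
      refine mem_normalizer_iff.mpr fun x => ⟨hfw x, fun hx => ?_⟩
      have := hfw _ hx
      rw [inv_eq_of_sq hvv] at this
      rwa [show v * (v * x * v) * v = x by
        calc v * (v * x * v) * v = v * v * x * (v * v) := by group
          _ = x := by rw [hvv, one_mul, mul_one]] at this
    obtain ⟨x, hx, hxN⟩ := M.exists_conj_mem_two hC hzinv.normalizer hvn hvv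
    -- the conjugate again inverts `δ`
    have hxδ : x * δ * x⁻¹ ∈ zpowers δ := (mem_normalizer_iff.mp hx δ).mp (mem_zpowers δ)
    have hinv' : x⁻¹ * v * x * δ * (x⁻¹ * v * x)⁻¹ = δ⁻¹ := by
      obtain ⟨i, hi⟩ := mem_zpowers_iff.mp hxδ
      calc x⁻¹ * v * x * δ * (x⁻¹ * v * x)⁻¹ = x⁻¹ * (v * (x * δ * x⁻¹) * v⁻¹) * x := by group
        _ = x⁻¹ * δ⁻¹ ^ i * x := by rw [← hi, ← conj_zpow, hinv]
        _ = x⁻¹ * (x * δ * x⁻¹)⁻¹ * x := by rw [← hi, inv_zpow]
        _ = δ⁻¹ := by group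
    set v' := x⁻¹ * v * x with hv'
    obtain ⟨c, hc, u, hu, he⟩ := M.exists_fixed_mul D hxN
    have hcom : ⁅u, δ⁆ ∈ D.W := by
      refine ⟨?_, ?_⟩
      · rw [commutatorElement_def, mul_assoc, mul_assoc]
        refine mul_mem hu ?_
        rw [← mul_assoc]
        exact D.conj_mem_U hδ.1 (inv_mem hu)
      · have e : c⁻¹ * δ⁻¹ * c = u * δ * u⁻¹ := by
          rw [← hinv', he]; group
        rw [commutatorElement_def, ← e]
        have hf : c ∈ fixedBy a := hc.2
        have hδf : δ ∈ fixedBy a := hδ.2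
        have hd : δ⁻¹ ∈ fixedBy a := (fixedBy a).inv_mem hδf
        exact (fixedBy a).mul_mem ((fixedBy a).mul_mem ((fixedBy a).mul_mem ((fixedBy a).inv_mem hf) hd) hf) hd
    -- the elements of `U` with this property are fixed
    have hmul : ∀ x' ∈ D.U, ∀ y, ⁅y, δ⁆ ∈ D.W → ⁅x' * y, δ⁆ = ⁅x', δ⁆ * ⁅y, δ⁆ := fun x' hx' y hy => by
      rw [show ⁅x' * y, δ⁆ = x' * ⁅y, δ⁆ * x'⁻¹ * ⁅x', δ⁆ by simp [commutatorElement_def, mul_assoc],
        ← hsp.fix_central _ hy x' hx', mul_inv_cancel_right]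
      refine hsp.fix_central _ hy _ ?_
      rw [commutatorElement_def, mul_assoc, mul_assoc]
      refine mul_mem hx' ?_
      rw [← mul_assoc]
      exact D.conj_mem_U hδ.1 (inv_mem hx')
    let B : Subgroup G :=
      { carrier := {y | y ∈ D.U ∧ ⁅y, δ⁆ ∈ D.W}
        one_mem' := ⟨one_mem _, by rw [commutatorElement_one_left]; exact one_mem _⟩
        mul_mem' := fun {x y} hx hy => ⟨mul_mem hx.1 hy.1, by
          rw [hmul x hx.1 y hy.2]; exact mul_mem hx.2 hy.2⟩
        inv_mem' := fun {y} hy => ⟨inv_mem hy.1, by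
          have h := hmul _ (inv_mem hy.1) y hy.2
          rw [inv_mul_cancel, commutatorElement_one_left] at h
          rw [eq_inv_of_mul_eq_one_left h.symm]
          exact inv_mem hy.2⟩ }
    have hB : ∀ y, y ∈ B ↔ y ∈ D.U ∧ ⁅y, δ⁆ ∈ D.W := fun y => Iff.rfl
    have hBa : Inv a B := fun y hy => by
      obtain ⟨h1, h2⟩ := (hB y).mp hy
      refine (hB _).mpr ⟨D.inv_U y h1, ?_⟩
      rw [show ⁅a y, δ⁆ = a ⁅y, δ⁆ by rw [map_commutatorElement, mem_fixedBy.mp hδ.2], mem_fixedBy.mp h2.2]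
      exact h2
    have hBX : disp a B ≤ X ⊓ D.U := by
      refine le_inf (fun d hd => mem_centralizer_singleton_iff.mpr ?_) fun d hd => ((hB d).mp (disp_le hBa hd)).1
      refine commutatorElement_eq_one_iff_mul_comm.mp (eq_one_on_disp hBa (fun y => ⁅y, δ⁆)
        (fun y hy z hz => hmul y ((hB y).mp hy).1 z ((hB z).mp hz).2)
        (fun y hy => ?_) (commutatorElement_one_left δ) hd)
      conv_rhs => rw [← mem_fixedBy.mp ((hB y).mp hy).2.2]
      rw [map_commutatorElement, mem_fixedBy.mp hδ.2]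
    have hBfix : B ≤ fixedBy a := disp_eq_bot_iff.mp (le_bot_iff.mp (by
      rw [← M.coprimely.disp_disp hBa, ← hE0]
      exact disp_mono hBX))
    have huW : u ∈ D.W := ⟨hu, hBfix ((hB u).mpr ⟨hu, hcom⟩)⟩
    have hv'G : v' ∈ D.Gam := he ▸ mul_mem hc (D.W_le_Gam huW)
    have e : v' = x⁻¹ * g * w * (x⁻¹ * g)⁻¹ := by rw [hv', hvdef]; group
    have hv'W : v' ∈ D.W := by
      rw [e] at hv'G ⊢
      exact M.conj_mem_W_of_mem_N (M.mem_N_of_conj_mem_Gam hw hwc hv'G) hw
    have hsqW : δ⁻¹ * δ⁻¹ ∈ D.W := by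
      have h := mul_mem hv'W (D.conj_mem_W hδ (inv_mem hv'W))
      rwa [show v' * (δ * v'⁻¹ * δ⁻¹) = v' * δ * v'⁻¹ * δ⁻¹ by group, hinv'] at h
    have h4 : δ ^ 4 = 1 := by
      have := hsp.fix_sq _ hsqW
      calc δ ^ 4 = (δ⁻¹ * δ⁻¹ * (δ⁻¹ * δ⁻¹))⁻¹ := by group
        _ = 1 := by rw [this, inv_one]
    exact hδ1 (orderOf_eq_one_iff.mp (Nat.eq_one_of_dvd_coprimes
      (Nat.Coprime.pow_right 2 ho.coprime_two_right) dvd_rfl (orderOf_dvd_of_pow_eq_one h4)))
  · exact M.centralizer_le_N_of_moved hC hw hwc hδ hδc hE0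

/-- An odd element of `N` inverted by a conjugate of an element of `W` fixes no second point. -/
theorem mem_N_of_inverted (hC : fixedBy a ≤ D.N) {w g δ h : G} (hw : w ∈ D.W) (hwc : w ∉ center G)
    (hδ : δ ∈ D.N) (ho : Odd (orderOf δ)) (hinv : g * w * g⁻¹ * δ * (g * w * g⁻¹)⁻¹ = δ⁻¹) (hδ1 : δ ≠ 1)
    (hh : h⁻¹ * δ * h ∈ D.N) : h ∈ D.N := by
  obtain ⟨n, hn, hfix⟩ := M.exists_conj_fixed_of_odd hδ ho
  have ho' : ∀ y : G, Odd (orderOf (y * δ * y⁻¹)) := fun y => by
    have e := orderOf_injective (MulAut.conj y).toMonoidHom (MulEquiv.injective _) δ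
    simp only [MulEquiv.coe_toMonoidHom, MulAut.conj_apply] at e
    rwa [e]
  have hX := M.centralizer_le_N_of_inverted hC (g := n * g) hw hwc hfix (ho' n) (by
    calc n * g * w * (n * g)⁻¹ * (n * δ * n⁻¹) * (n * g * w * (n * g)⁻¹)⁻¹
        = n * (g * w * g⁻¹ * δ * (g * w * g⁻¹)⁻¹) * n⁻¹ := by group
      _ = (n * δ * n⁻¹)⁻¹ := by rw [hinv]; group)
    (fun e => hδ1 (conj_eq_one_iff.mp e))
  obtain ⟨n₂, hn₂, hfix₂⟩ := M.exists_conj_fixed_of_odd hh (by simpa using ho' h⁻¹)
  obtain ⟨c, hc, hce⟩ := M.coprimely.exists_fixed_conj_elem hfix.2 hfix₂.2 (g := n₂ * h⁻¹ * n⁻¹) (by group)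
  have h1 : c⁻¹ * (n₂ * h⁻¹ * n⁻¹) ∈ centralizer ({n * δ * n⁻¹} : Set G) := mem_centralizer_singleton_iff.mpr (by
    calc c⁻¹ * (n₂ * h⁻¹ * n⁻¹) * (n * δ * n⁻¹) = c⁻¹ * (n₂ * (h⁻¹ * δ * h) * n₂⁻¹) * (n₂ * h⁻¹ * n⁻¹) := by
          group
      _ = c⁻¹ * (c * (n * δ * n⁻¹) * c⁻¹) * (n₂ * h⁻¹ * n⁻¹) := by rw [hce]
      _ = _ := by group)
  have h2 := mul_mem (mul_mem (inv_mem (D.U_le_N hn₂)) (mul_mem (hC hc) (hX h1))) (D.U_le_N hn)
  exact D.N.inv_mem_iff.mp (by simpa [mul_assoc] using h2)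

/-- Modulo the centre, an odd element inverted by a conjugate of an element of `W` fixes no second point. -/
theorem mem_Nb_of_inverted (hC : fixedBy a ≤ D.N) {w g δ h : G ⧸ center G} (hw : w ∈ D.Wb) (hw1 : w ≠ 1)
    (hδ : δ ∈ D.Nb) (ho : Odd (orderOf δ)) (hinv : g * w * g⁻¹ * δ * (g * w * g⁻¹)⁻¹ = δ⁻¹) (hδ1 : δ ≠ 1)
    (hh : h⁻¹ * δ * h ∈ D.Nb) : h ∈ D.Nb := by
  obtain ⟨w, hw, rfl⟩ := hw
  obtain ⟨g, rfl⟩ := QuotientGroup.mk_surjective g
  obtain ⟨δ, rfl⟩ := QuotientGroup.mk_surjective δ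
  obtain ⟨h, rfl⟩ := QuotientGroup.mk_surjective h
  set v := g * w * g⁻¹ with hvdef
  have hvv : v * v = 1 := by
    rw [hvdef, show g * w * g⁻¹ * (g * w * g⁻¹) = g * (w * w) * g⁻¹ by group, (M.special2_U D).fix_sq w hw]
    group
  have hv' : v⁻¹ = v := inv_eq_of_sq hvv
  let π := QuotientGroup.mk' (center G)
  have hinv' : π v * π δ * (π v)⁻¹ = (π δ)⁻¹ := by
    simpa [π, hvdef] using hinv
  set e := ⁅v, δ⁆ with he
  have hemk : π e = (π δ)⁻¹ ^ 2 := by
    rw [he, map_commutatorElement, commutatorElement_def, hinv', pow_two]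
  have hec : v * e * v⁻¹ = e⁻¹ := by
    rw [he, commutatorElement_def, hv']
    calc v * (v * δ * v * δ⁻¹) * v = v * v * δ * v * δ⁻¹ * v := by group
      _ = δ * v⁻¹ * δ⁻¹ * v⁻¹ := by rw [hvv, one_mul, hv']
      _ = (v * δ * v * δ⁻¹)⁻¹ := by group
  obtain ⟨i, hi, hie⟩ := exists_odd_pow π e (by
    rw [hemk]
    exact ho.of_dvd_nat ((orderOf_pow_dvd 2).trans (orderOf_inv (π δ)).dvd))
  have hh' : h⁻¹ * e ^ i * h ∈ D.N := (M.mem_Nb_iff D).mp (by
    rw [QuotientGroup.mk_mul, QuotientGroup.mk_mul, QuotientGroup.mk_inv,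
      show ((e ^ i : G) : G ⧸ center G) = π e from hie, hemk]
    have := pow_mem (inv_mem hh) 2
    simpa [pow_two, mul_assoc, π] using this)
  have heN : e ^ i ∈ D.N := (M.mem_Nb_iff D).mp (by
    rw [show ((e ^ i : G) : G ⧸ center G) = π e from hie, hemk]
    exact pow_mem (inv_mem hδ) 2)
  refine (M.mem_Nb_iff D).mpr (M.mem_N_of_inverted hC hw (fun hc => hw1 ((QuotientGroup.eq_one_iff w).mpr hc))
    heN hi (g := g) (by rw [← conj_pow, hec, inv_pow]) (fun h1 => hδ1 ?_) hh')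
  have h2 : π δ ^ 2 = 1 := by
    rw [← inv_eq_one, ← inv_pow, ← hemk, ← hie, h1, map_one]
  exact orderOf_eq_one_iff.mp (Nat.eq_one_of_dvd_coprimes ho.coprime_two_right dvd_rfl
    (orderOf_dvd_of_pow_eq_one h2))

/-- With the fixed points in `N`, every homomorphism of `N` to an abelian group of odd order is trivial. -/
theorem hom_N_eq_one (hC : fixedBy a ≤ D.N) (hpN : ¬ p ∣ Nat.card D.N) {A : Type u'} [CommGroup A] [Finite A] (hA : Odd (Nat.card A))
    (ψ₀ : D.N →* A) (x : D.N) : ψ₀ x = 1 := by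
  classical
  let ψ : D.N →* ψ₀.range := ψ₀.rangeRestrict
  suffices h : ψ x = 1 from congrArg Subtype.val h
  have hcN : Nat.card ψ₀.range ∣ Nat.card D.N := Subgroup.card_range_dvd ψ₀
  have hA' : ¬ p ∣ Nat.card ψ₀.range := fun h => hpN (h.trans hcN)
  have hfus : ∀ x y : D.N, Odd (orderOf x) → ∀ g : G, g⁻¹ * x * g = y → ψ y = ψ x := by
    intro x y hx g hg
    have ho : Odd (orderOf (x : G)) := (Subgroup.orderOf_coe x).symm ▸ hx
    have ho' : Odd (orderOf (y : G)) := by
      have e := orderOf_injective (MulAut.conj g⁻¹).toMonoidHom (MulEquiv.injective _) (x : G)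
      simp only [MulEquiv.coe_toMonoidHom, MulAut.conj_apply, inv_inv] at e
      rwa [← hg, e]
    obtain ⟨n, hn, hfix⟩ := M.exists_conj_fixed_of_odd x.2 ho
    obtain ⟨n', hn', hfix'⟩ := M.exists_conj_fixed_of_odd y.2 ho'
    obtain ⟨c, hc, hce⟩ := M.coprimely.exists_fixed_conj_elem hfix.2 hfix'.2 (g := n' * g⁻¹ * n⁻¹) (by
      rw [← hg]; group)
    have hconj : ∀ (m : D.N) (z : D.N), ψ (m * z * m⁻¹) = ψ z := fun m z => by
      rw [map_mul, map_mul, map_inv, mul_comm (ψ m), mul_inv_cancel_right]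
    have e : (⟨n', D.U_le_N hn'⟩ : D.N) * y * (⟨n', D.U_le_N hn'⟩ : D.N)⁻¹ =
        ⟨c, hC hc⟩ * ((⟨n, D.U_le_N hn⟩ : D.N) * x * (⟨n, D.U_le_N hn⟩ : D.N)⁻¹) * (⟨c, hC hc⟩ : D.N)⁻¹ :=
      Subtype.ext hce.symm
    have h := congrArg ψ e
    rwa [hconj, hconj, hconj] at h
  have hkey : ∀ γ : D.N, Odd (orderOf γ) → ψ γ = 1 := by
    intro γ hγ
    let _ := Fintype.ofFinite (Quotient (MulAction.orbitRel (zpowers (γ : G)) (G ⧸ D.N)))
    have h := MonoidHom.transfer_eq_prod_quotient_orbitRel_zpowers_quot ψ (γ : G)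
    rw [Finset.prod_congr rfl fun q _ => hfus (γ ^ Function.minimalPeriod ((γ : G) • ·) q.out)
      ⟨_, QuotientGroup.out_conj_pow_minimalPeriod_mem D.N (γ : G) q.out⟩
      (hγ.of_dvd_nat (orderOf_pow_dvd _)) q.out.out (by rw [SubmonoidClass.coe_pow])] at h
    simp only [map_pow] at h
    let _ := D.N.fintypeQuotientOfFiniteIndex
    rw [Finset.prod_pow_eq_pow_sum, ← index_eq_sum_minimalPeriod D.N (γ : G), M.hom_eq_one] at h
    obtain ⟨j, hj⟩ := M.index_N hC
    rw [hj] at h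
    exact orderOf_eq_one_iff.mp (Nat.eq_one_of_dvd_coprimes
      ((hp.out.coprime_iff_not_dvd.mpr hA').symm.pow_right j) (orderOf_dvd_natCard _)
      (orderOf_dvd_of_pow_eq_one h.symm))
  obtain ⟨i, hi, he⟩ := exists_odd_pow ψ x
    ((hA.of_dvd_nat (Subgroup.card_subgroup_dvd_card _)).of_dvd_nat (orderOf_dvd_natCard _))
  rw [← he]
  exact hkey _ hi

end Cfg

end Cfsg.Agent.H24.Flav
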