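import Cfsg.Agent.H8.Shult.CnotLeN1
import Cfsg.Agent.H24.Flav.Local

/-!
One constituent: every noncentral element of `W` is isolated, and the fixed points cannot leave `N`.

In the general configuration.
-/

set_option autoImplicit false
set_option linter.unusedSectionVars false

namespace Cfsg.Agent.H24.Flav

open Subgroup
open Cfsg.Agent.H8.Shult hiding Min
open scoped commutatorElement

universe u v w

variable {G : Type u} [Group G] [Finite G] {p r : ℕ} [hp : Fact p.Prime] {a : MulAut G}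
variable {k : Type w} [Field k] [CharP k p] {V : Type v} [AddCommGroup V] [Module k V]
variable [IsAlgClosed k] [FiniteDimensional k V]
variable {ρ : G →* Module.End k V} {T : Module.End k V}
variable {D : UData a}

namespace Cfg

variable (M : Cfg p r a ρ T) {m : ℕ}
include M

theorem center_le_centralizer_U : center G ≤ centralizer (D.U : Set G) := center_le_centralizer _

theorem W_le_centralizer_U : D.W ≤ centralizer (D.U : Set G) := fun x hx =>
  mem_centralizer_iff.mpr fun u hu => ((M.special2_U D).fix_central x hx u hu).symm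

theorem conj_centralizer_U {g x : G} (hg : g ∈ D.N) (hx : x ∈ centralizer (D.U : Set G)) :
    g * x * g⁻¹ ∈ centralizer (D.U : Set G) := mem_centralizer_iff.mpr fun u hu => by
  have hu' : g⁻¹ * u * g ∈ D.U := by simpa using (mem_normalizer_iff.mp (inv_mem hg) u).mp hu
  have h := mem_centralizer_iff.mp hx _ hu'
  calc u * (g * x * g⁻¹) = g * ((g⁻¹ * u * g) * x) * g⁻¹ := by group
    _ = g * (x * (g⁻¹ * u * g)) * g⁻¹ := by rw [h]
    _ = g * x * g⁻¹ * u := by group

theorem Zw_sq (x : D.W ⧸ D.Zw) : x * x = 1 := by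
  obtain ⟨y, rfl⟩ := QuotientGroup.mk_surjective x
  rw [← QuotientGroup.mk_mul, show y * y = 1 from Subtype.ext ((M.special2_U D).fix_sq y y.2)]
  rfl

/-- With one constituent a square in the fixed part of `N` centralising `U` forces centralising. -/
theorem centralizes_of_sq (hS : Shape ρ D r m) (hU : Nat.card D.U = 2 ^ (2 * m) * Nat.card D.W)
    {g : D.Gam} (h : (g : G) * g ∈ centralizer (D.U : Set G)) :
    (g : G) ∈ centralizer (D.U : Set G) := by
  classical
  have hinv : Function.Involutive (D.act g) := fun χ => by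
    rw [UData.act_act, M.act_eq_of_centralizes (g := g * g) h]
  set σ : Equiv.Perm (D.W →* ℤˣ) := Function.Involutive.toPerm _ hinv with hσ
  have : Fintype (D.W →* ℤˣ) := Fintype.ofFinite _
  have h2 : Even σ.support.card := by
    rw [even_iff_two_dvd, ← Equiv.Perm.sum_cycleType]
    refine Multiset.dvd_sum fun n hn => ?_
    have h3 : orderOf σ ∣ 2 := orderOf_dvd_of_pow_eq_one (by
      ext χ x
      rw [pow_two, Equiv.Perm.mul_apply]
      exact congrArg (fun f : D.W →* ℤˣ => ((f x : ℤˣ) : ℤ)) (hinv χ))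
    have h4 := (Equiv.Perm.dvd_of_mem_cycleType hn).trans h3
    have h5 := Equiv.Perm.two_le_of_mem_cycleType hn
    have h6 := Nat.le_of_dvd two_pos h4
    exact (show n = 2 by omega) ▸ dvd_rfl
  have hcard : Even (Fintype.card (D.W →* ℤˣ)) := by
    rw [even_iff_two_dvd, ← Nat.card_eq_fintype_card, card_sign_characters fun x => Subtype.ext
      ((M.special2_U D).fix_sq x x.2)]
    obtain ⟨w, hw, hw1⟩ := D.W.bot_or_exists_ne_one.resolve_left (M.W_ne_bot D)
    have h3 : orderOf (⟨w, hw⟩ : D.W) = 2 := orderOf_eq_prime (by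
      rw [pow_two]; exact Subtype.ext ((M.special2_U D).fix_sq w hw)) fun e => hw1 (congrArg Subtype.val e)
    exact h3 ▸ orderOf_dvd_natCard _
  by_contra hne
  have hall : ∀ ε : D.W →* ℤˣ, ε ≠ 1 → σ ε ≠ ε := fun ε hε he => hne (M.centralizes_of_one hS hU hε he)
  have hsupp : σ.support = Finset.univ.erase 1 := by
    ext ε
    simp only [Equiv.Perm.mem_support, Finset.mem_erase, Finset.mem_univ, and_true]
    refine ⟨fun h4 he => h4 ?_, hall ε⟩
    subst he
    exact MonoidHom.ext fun x => by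
      show (D.act g 1) x = 1
      rw [UData.act_apply, MonoidHom.one_apply]
  rw [hsupp, Finset.card_erase_of_mem (Finset.mem_univ _), Finset.card_univ] at h2
  have hpos : 0 < Fintype.card (D.W →* ℤˣ) := Fintype.card_pos
  rw [Nat.even_iff] at h2 hcard
  omega

theorem centralizes_of_pow (hS : Shape ρ D r m) (hU : Nat.card D.U = 2 ^ (2 * m) * Nat.card D.W) :
    ∀ (j : ℕ) {g : G}, g ∈ D.Gam → g ^ 2 ^ j ∈ centralizer (D.U : Set G) →
      g ∈ centralizer (D.U : Set G) := by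
  intro j
  induction j with
  | zero => intro g _ h; simpa using h
  | succ j ih =>
    intro g hg h
    refine M.centralizes_of_sq hS hU (g := ⟨g, hg⟩) (ih (mul_mem hg hg) ?_)
    rwa [← pow_two, ← pow_mul, ← pow_succ']

/-- A 2-element of `N` modulo `C(U)` is a product of an element of `C(U)` and one of `U`. -/
theorem exists_pure (hS : Shape ρ D r m) (hU : Nat.card D.U = 2 ^ (2 * m) * Nat.card D.W)
    {j : ℕ} {g : G} (hg : g ∈ D.N) (h : g ^ 2 ^ j ∈ centralizer (D.U : Set G)) :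
    ∃ c ∈ centralizer (D.U : Set G), c ∈ fixedBy a ∧ ∃ u ∈ D.U, g = c * u := by
  obtain ⟨c, hc, u, hu, rfl⟩ := M.exists_fixed_mul D hg
  refine ⟨c, M.centralizes_of_pow hS hU j (show c ∈ D.Gam from hc) ?_, hc.2, u, hu, rfl⟩
  have hcomp : ∀ n : ℕ, ∃ u' ∈ D.U, (c * u) ^ n = c ^ n * u' := by
    intro n
    induction n with
    | zero => exact ⟨1, one_mem _, by simp⟩
    | succ n ih =>
      obtain ⟨u', hu', he⟩ := ih
      refine ⟨c⁻¹ * u' * c * u, mul_mem (by simpa using D.conj_mem_U (inv_mem hc.1) hu') hu, ?_⟩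
      rw [pow_succ, he, pow_succ]
      group
  obtain ⟨u', hu', he⟩ := hcomp (2 ^ j)
  rw [he] at h
  have hfix := M.centralizer_U_le_fixed D h
  have hu'W : u' ∈ D.W := ⟨hu', by
    simpa using (fixedBy a).mul_mem ((fixedBy a).inv_mem ((fixedBy a).pow_mem hc.2 (2 ^ j))) hfix⟩
  simpa using mul_mem h (inv_mem (M.W_le_centralizer_U hu'W))

theorem commute_W_of_pure {c u y : G} (hc : c ∈ centralizer (D.U : Set G)) (hu : u ∈ D.U)
    (hy : y ∈ D.W) : Commute (c * u) y :=
  Commute.mul_left (mem_centralizer_iff.mp hc y hy.1).symm ((M.special2_U D).fix_central y hy u hu).symm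

theorem mul_self_of_pure {c u : G} (hc : c ∈ centralizer (D.U : Set G)) (hu : u ∈ D.U) :
    c * u * (c * u) = c * c * (u * u) := by
  have h : u * c = c * u := mem_centralizer_iff.mp hc u hu
  calc c * u * (c * u) = c * (u * c) * u := by group
    _ = _ := by rw [h]; group

/-- Moving an element of `W` into the fixed part of `N`. -/
theorem mem_N_of_fused
    (hA : ∀ c ∈ fixedBy a, ∀ w ∈ D.W, w ∉ center G → c * w * c⁻¹ ∈ D.N → c ∈ D.N)
    {w g : G} (hw : w ∈ D.W) (hwc : w ∉ center G) (hN : g * w * g⁻¹ ∈ D.N)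
    (hfix : g * w * g⁻¹ ∈ fixedBy a) : g ∈ D.N := by
  obtain ⟨c, hc, hcw⟩ := M.coprimely.exists_fixed_conj_elem hw.2 hfix rfl
  have hgc : c⁻¹ * g ∈ centralizer ({w} : Set G) := mem_centralizer_singleton_iff.mpr (by
    calc c⁻¹ * g * w = c⁻¹ * (g * w * g⁻¹) * g := by group
      _ = c⁻¹ * (c * w * c⁻¹) * g := by rw [hcw]
      _ = w * (c⁻¹ * g) := by group)
  simpa using mul_mem (hA c hc w hw hwc (hcw ▸ hN)) (M.centralizer_le_N D hw hwc hgc)

theorem sum_sign_nonneg {Q : Type u} [Group Q] [Finite Q] [Fintype (Q →* ℤˣ)] [DecidableEq Q]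
    (hsq : ∀ x : Q, x * x = 1) (t : Q) :
    ∑ χ : Q →* ℤˣ, (χ t : ℤ) = if t = 1 then (Nat.card Q : ℤ) else 0 := by
  split_ifs with ht
  · subst ht
    simp [← card_sign_characters hsq]
  · obtain ⟨φ, hφ⟩ := exists_sign_ne_one hsq ht
    exact sum_sign_eq_zero (MonoidHom.eval t) (x := φ) hφ

/-- The elements of `U` with central square, counted. -/
theorem zero_count (hS : Shape ρ D r m) (hU : Nat.card D.U = 2 ^ (2 * m) * Nat.card D.W) :
    (D.Zw.index : ℤ) * Nat.card {u : D.U // (u : G) * u ∈ center G} +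
        ((D.Zw.index : ℤ) - 1) * (2 ^ m * Nat.card D.W) =
      2 ^ (2 * m) * Nat.card D.W := by
  classical
  have : Fintype D.U := Fintype.ofFinite _
  have : Fintype ((D.W ⧸ D.Zw) →* ℤˣ) := Fintype.ofFinite _
  let e : ((D.W ⧸ D.Zw) →* ℤˣ) → (D.W →* ℤˣ) := fun χ => χ.comp (QuotientGroup.mk' D.Zw)
  have hsum : ∀ u : D.U, ∑ χ : (D.W ⧸ D.Zw) →* ℤˣ, (quad hS.sp (e χ) u : ℤ) =
      if (u : G) * u ∈ center G then (D.Zw.index : ℤ) else 0 := by
    intro u
    refine (M.sum_sign_nonneg M.Zw_sq (QuotientGroup.mk' D.Zw (sqW hS.sp u))).trans ?_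
    exact if_congr ((QuotientGroup.eq_one_iff (sqW hS.sp u)).trans Iff.rfl) rfl rfl
  have h1 : ∑ u : D.U, ∑ χ : (D.W ⧸ D.Zw) →* ℤˣ, (quad hS.sp (e χ) u : ℤ) =
      (D.Zw.index : ℤ) * Nat.card {u : D.U // (u : G) * u ∈ center G} := by
    rw [Finset.sum_congr rfl fun u _ => hsum u, Finset.sum_ite, Finset.sum_const_zero, add_zero,
      Finset.sum_const, nsmul_eq_mul, Nat.card_eq_fintype_card, Fintype.card_subtype]
    ring
  have hne : ∀ χ : (D.W ⧸ D.Zw) →* ℤˣ, χ ≠ 1 → e χ ≠ 1 := fun χ hχ he => hχ (MonoidHom.ext fun x => by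
    obtain ⟨y, rfl⟩ := QuotientGroup.mk_surjective x
    exact DFunLike.congr_fun he y)
  have h2 : ∀ χ : (D.W ⧸ D.Zw) →* ℤˣ, χ ∈ Finset.univ.erase 1 →
      ∑ u : D.U, (quad hS.sp (e χ) u : ℤ) = -(2 ^ m * Nat.card D.W) := by
    intro χ hχ
    have hrad := M.rad_eq_W hS hU (hne χ (Finset.ne_of_mem_erase hχ))
    rw [M.sum_quad_neg hS.pos hS.eq hS.sp (e χ) (by rw [hrad]; exact hU), hrad]
  have h3 : ∑ u : D.U, (quad hS.sp (e 1) u : ℤ) = 2 ^ (2 * m) * Nat.card D.W := by
    have : ∀ u : D.U, (quad hS.sp (e 1) u : ℤ) = 1 := fun u => rfl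
    rw [Finset.sum_congr rfl fun u _ => this u, Finset.sum_const, Finset.card_univ, ← Nat.card_eq_fintype_card,
      hU, nsmul_eq_mul, mul_one]
    push_cast
    rfl
  rw [Finset.sum_comm, ← Finset.add_sum_erase _ _ (Finset.mem_univ (1 : (D.W ⧸ D.Zw) →* ℤˣ)), h3,
    Finset.sum_congr rfl h2, Finset.sum_const, Finset.card_erase_of_mem (Finset.mem_univ _), Finset.card_univ,
    ← Nat.card_eq_fintype_card, card_sign_characters M.Zw_sq, nsmul_eq_mul,
    Nat.cast_sub (Nat.card_pos (α := D.W ⧸ D.Zw))] at h1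
  rw [← h1, Subgroup.index]
  push_cast
  ring

theorem W_square_central (x : D.W) : (x : G) * x ∈ center G := by
  rw [(M.special2_U D).fix_sq x x.2]; exact one_mem _

theorem card_W_le_zeros :
    Nat.card D.W ≤ Nat.card {u : D.U // (u : G) * u ∈ center G} :=
  Nat.card_le_card_of_injective (fun x => ⟨⟨x, x.2.1⟩, M.W_square_central x⟩)
    fun _ _ h => Subtype.ext (congrArg (fun z => ((z.1 : D.U) : G)) h)

/-- The quotient `Wb` is small. -/
theorem index_Zw_le (hS : Shape ρ D r m) (hU : Nat.card D.U = 2 ^ (2 * m) * Nat.card D.W) :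
    D.Zw.index ≤ 2 ^ m := by
  have h := M.zero_count hS hU
  have hle : (Nat.card D.W : ℤ) ≤ (Nat.card {u : D.U // (u : G) * u ∈ center G} : ℤ) :=
    Nat.cast_le.mpr M.card_W_le_zeros
  have hw : (0 : ℤ) < Nat.card D.W := Nat.cast_pos.mpr Nat.card_pos
  have hP : (0 : ℤ) < 2 ^ m := by positivity
  rw [two_mul, pow_add] at h
  have hq : (0 : ℤ) ≤ D.Zw.index := by positivity
  have hfin : (D.Zw.index : ℤ) ≤ 2 ^ m := by
    by_contra hlt
    push Not at hlt
    nlinarith [mul_le_mul_of_nonneg_left hle hq,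
      mul_pos (sub_pos.mpr hlt) (mul_pos (add_pos hP one_pos) hw)]
  exact_mod_cast hfin

/-- Unless `Wb` is as large as possible some element outside `W` has central square. -/
theorem exists_zero (hS : Shape ρ D r m) (hU : Nat.card D.U = 2 ^ (2 * m) * Nat.card D.W)
    (hlt : D.Zw.index < 2 ^ m) : ∃ u ∈ D.U, u ∉ D.W ∧ u * u ∈ center G := by
  by_contra hno
  push Not at hno
  have hle : Nat.card {u : D.U // (u : G) * u ∈ center G} ≤ Nat.card D.W :=
    Nat.card_le_card_of_injective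
      (fun u => ⟨u.1.1, by_contra fun h => hno _ u.1.2 h u.2⟩)
      fun x y h => Subtype.ext (Subtype.ext (congrArg (fun z : D.W => (z : G)) h))
  have heq : (Nat.card {u : D.U // (u : G) * u ∈ center G} : ℤ) = Nat.card D.W :=
    congrArg Nat.cast (le_antisymm hle M.card_W_le_zeros)
  have h := M.zero_count hS hU
  rw [heq, two_mul, pow_add] at h
  have hw : (0 : ℤ) < Nat.card D.W := Nat.cast_pos.mpr Nat.card_pos
  have hlt' : (D.Zw.index : ℤ) < 2 ^ m := by exact_mod_cast hlt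
  have hP : (0 : ℤ) < 2 ^ m := by positivity
  nlinarith [mul_pos (sub_pos.mpr hlt') (mul_pos (add_pos hP one_pos) hw)]

/-- With one constituent the noncentral elements of `W` are isolated. -/
theorem isolated_of_one (hS : Shape ρ D r m) (hU : Nat.card D.U = 2 ^ (2 * m) * Nat.card D.W)
    (hA : ∀ c ∈ fixedBy a, ∀ w ∈ D.W, w ∉ center G → c * w * c⁻¹ ∈ D.N → c ∈ D.N)
    {w g : G} (hw : w ∈ D.W) (hwc : w ∉ center G) (hN : g * w * g⁻¹ ∈ D.N) : g ∈ D.N := by
  classical
  have hsp := hS.sp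
  have hv2 : g * w * g⁻¹ * (g * w * g⁻¹) = 1 := conj_mul_self (hsp.fix_sq w hw)
  obtain ⟨c, hcC, hca, u, hu, hv⟩ := M.exists_pure hS hU (j := 1) hN (by
    rw [pow_one, pow_two, hv2]; exact one_mem _)
  by_cases huW : u ∈ D.W
  · exact M.mem_N_of_fused hA hw hwc hN (hv ▸ mul_mem hca huW.2)
  by_contra hg
  let ψ : D.U →* D.W ⧸ D.Zw :=
    { toFun := fun y => QuotientGroup.mk' D.Zw (commW hsp y ⟨u, hu⟩)
      map_one' := by
        rw [show commW hsp 1 ⟨u, hu⟩ = 1 from Subtype.ext (commutatorElement_one_left u), map_one]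
      map_mul' := fun y y' => by rw [commW_mul_left, map_mul] }
  set L : Subgroup G := ψ.ker.map D.U.subtype with hLdef
  have hLU : L ≤ D.U := map_subtype_le _
  have hsing : ∀ y ∈ L, y * y ∈ center G := by
    rintro _ ⟨y, hy, rfl⟩
    have hz : ⁅(y : G), u⁆ ∈ center G :=
      mem_subgroupOf.mp ((QuotientGroup.eq_one_iff _).mp (MonoidHom.mem_ker.mp hy))
    show (y : G) * y ∈ center G
    by_contra hyc
    have hy2 : (y : G) * y ∈ D.W := hsp.sq_mem y y.2
    have hn : g⁻¹ * y * g ∈ D.N := by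
      refine M.mem_N_of_conj D hw hwc hw (z := ⁅(y : G), u⁆) hz ?_
      have e : (y : G) * (g * w * g⁻¹) * (y : G)⁻¹ = ⁅(y : G), u⁆ * (g * w * g⁻¹) := by
        have hyc' : (y : G) * c = c * y := mem_centralizer_iff.mp hcC y y.2
        have hz' := mem_center_iff.mp hz c
        calc (y : G) * (g * w * g⁻¹) * (y : G)⁻¹ = (y * c) * u * (y : G)⁻¹ := by rw [hv]; group
          _ = c * ⁅(y : G), u⁆ * u := by rw [hyc', commutatorElement_def]; group
          _ = ⁅(y : G), u⁆ * (g * w * g⁻¹) := by rw [hv, hz', mul_assoc]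
      calc g⁻¹ * y * g * w * (g⁻¹ * y * g)⁻¹ = g⁻¹ * ((y : G) * (g * w * g⁻¹) * (y : G)⁻¹) * g := by group
        _ = g⁻¹ * ⁅(y : G), u⁆ * g * w := by rw [e]; group
        _ = w * ⁅(y : G), u⁆ := by
          rw [mem_center_iff.mp hz g⁻¹, mul_assoc _ g⁻¹ g, inv_mul_cancel, mul_one, ← mem_center_iff.mp hz w]
    have h4 : (g⁻¹ * y * g) ^ 2 ^ 2 = 1 := by
      have e : (g⁻¹ * (y : G) * g) ^ 2 ^ 2 = g⁻¹ * ((y : G) * y * ((y : G) * y)) * g := by
        rw [show (2 : ℕ) ^ 2 = 4 from rfl]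
        simp [pow_succ, mul_assoc]
      rw [e, hsp.fix_sq _ hy2, mul_one, inv_mul_cancel]
    obtain ⟨c', hc'C, hc'a, u', hu', hn'⟩ := M.exists_pure hS hU (j := 2) hn (by rw [h4]; exact one_mem _)
    refine hg (inv_mem_iff.mp (M.mem_N_of_fused hA (g := g⁻¹) hy2 hyc ?_ ?_))
    · rw [show g⁻¹ * ((y : G) * y) * g⁻¹⁻¹ = (g⁻¹ * y * g) * (g⁻¹ * y * g) by group]
      exact mul_mem hn hn
    · rw [show g⁻¹ * ((y : G) * y) * g⁻¹⁻¹ = (g⁻¹ * y * g) * (g⁻¹ * y * g) by group, hn',
        M.mul_self_of_pure hc'C hu']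
      exact mul_mem (mul_mem hc'a hc'a) (hsp.sq_mem u' hu').2
  have hne : QuotientGroup.mk' D.Zw ⟨w, hw⟩ ≠ 1 := fun h =>
    hwc (mem_subgroupOf.mp ((QuotientGroup.eq_one_iff _).mp h))
  obtain ⟨φ, hφ⟩ := exists_sign_ne_one M.Zw_sq hne
  set ε := φ.comp (QuotientGroup.mk' D.Zw) with hεdef
  have hε : ε ≠ 1 := fun h => hφ (DFunLike.congr_fun h ⟨w, hw⟩)
  have hrad := M.rad_eq_W hS hU hε
  have hb := M.singular_bound hS.pos hS.eq hsp ε (by rw [hrad]; exact hU) hLU fun x hx => by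
    show φ (QuotientGroup.mk' D.Zw (sqW hsp x)) = 1
    exact (congrArg φ ((QuotientGroup.eq_one_iff (sqW hsp x)).mpr (hsing x hx))).trans (map_one φ)
  rw [hrad] at hb
  have hLW : Nat.card ↥(L ⊓ D.W) ≤ Nat.card D.W := Nat.le_of_dvd Nat.card_pos (card_dvd_of_le inf_le_right)
  have hψ : Nat.card D.U ≤ D.Zw.index * Nat.card L := by
    have h1 := ψ.ker.card_mul_index
    rw [Subgroup.index_ker] at h1
    rw [← h1, mul_comm, hLdef, Subgroup.card_map_of_injective D.U.subtype_injective]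
    refine Nat.mul_le_mul_right _ ?_
    exact Nat.le_of_dvd Nat.card_pos (card_subgroup_dvd_card _)
  have hcalc : 2 ^ (2 * m) * Nat.card D.W ≤ 2 ^ m * (2 ^ (m - 1) * Nat.card D.W) :=
    calc 2 ^ (2 * m) * Nat.card D.W = Nat.card D.U := hU.symm
      _ ≤ D.Zw.index * Nat.card L := hψ
      _ ≤ _ := Nat.mul_le_mul (M.index_Zw_le hS hU) (hb.trans (Nat.mul_le_mul_left _ hLW))
  rw [← mul_assoc, ← pow_add] at hcalc
  have := (Nat.pow_le_pow_iff_right one_lt_two).mp (Nat.le_of_mul_le_mul_right hcalc Nat.card_pos)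
  have := hS.pos
  omega

/-- The quotient data with isolated `Wb`. -/
theorem isoData_of_one (hS : Shape ρ D r m) (hU : Nat.card D.U = 2 ^ (2 * m) * Nat.card D.W)
    (hA : ∀ c ∈ fixedBy a, ∀ w ∈ D.W, w ∉ center G → c * w * c⁻¹ ∈ D.N → c ∈ D.N) :
    IsoData D.Nb D.Wb where
  W_le := (M.frame D).W_le
  N_le := (M.frame D).N_le
  W_sq := (M.frame D).W_sq
  isolated := by
    rintro _ ⟨w, hw, rfl⟩ hw1 g hg
    obtain ⟨g, rfl⟩ := QuotientGroup.mk_surjective g
    refine (M.mem_Nb_iff D).mpr (M.isolated_of_one hS hU hA hw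
      (fun h => hw1 ((QuotientGroup.eq_one_iff w).mpr h)) ((M.mem_Nb_iff D).mp ?_))
    simpa using hg

theorem sq_mem_center {t : G} (h : (t : G ⧸ center G) * t = 1) : t * t ∈ center G := by
  rwa [← QuotientGroup.eq_one_iff, QuotientGroup.mk_mul]

/-- An involution of `Nb` centralises `Wb`. -/
theorem commute_Wb_of_invol (hS : Shape ρ D r m) (hU : Nat.card D.U = 2 ^ (2 * m) * Nat.card D.W)
    {t y : G ⧸ center G} (ht : t ∈ D.Nb) (ht2 : t * t = 1) (hy : y ∈ D.Wb) : Commute t y := by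
  obtain ⟨t, rfl⟩ := QuotientGroup.mk_surjective t
  obtain ⟨y, hy, rfl⟩ := hy
  obtain ⟨c, hc, -, u, hu, rfl⟩ := M.exists_pure hS hU (j := 1) ((M.mem_Nb_iff D).mp ht) (by
    rw [pow_one, pow_two]; exact M.center_le_centralizer_U (M.sq_mem_center ht2))
  exact (M.commute_W_of_pure hc hu hy).map (QuotientGroup.mk' (center G))

/-- An element of `N` fixing the class of a noncentral element of `U` centralises `W`. -/
theorem centralizes_of_fix_class (hS : Shape ρ D r m) (hU : Nat.card D.U = 2 ^ (2 * m) * Nat.card D.W)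
    {c u : G} (hc : c ∈ D.Gam) (hu : u ∈ D.U) (huW : u ∉ D.W) (h : ⁅c, u⁆ ∈ D.W) :
    c ∈ centralizer (D.U : Set G) := by
  have hsp := hS.sp
  let X : Subgroup G :=
    { carrier := {y | y ∈ D.U ∧ ⁅c, y⁆ ∈ D.W}
      one_mem' := ⟨one_mem _, by rw [commutatorElement_one_right]; exact one_mem _⟩
      mul_mem' := fun {y z} hy hz => ⟨mul_mem hy.1 hz.1, by
        rw [show ⁅c, y * z⁆ = ⁅c, y⁆ * (y * ⁅c, z⁆ * y⁻¹) by simp [commutatorElement_def, mul_assoc],
          ← hsp.fix_central _ hz.2 y hy.1, mul_inv_cancel_right]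
        exact mul_mem hy.2 hz.2⟩
      inv_mem' := fun {y} hy => ⟨inv_mem hy.1, by
        rw [show ⁅c, y⁻¹⁆ = y⁻¹ * ⁅c, y⁆⁻¹ * y by simp [commutatorElement_def, mul_assoc],
          ← hsp.fix_central _ (inv_mem hy.2) _ (inv_mem hy.1), inv_mul_cancel_right]
        exact inv_mem hy.2⟩ }
  have hXa : Inv a X := fun y hy => ⟨D.inv_U y hy.1, by
    rw [← mem_fixedBy.mp hc.2, ← map_commutatorElement, mem_fixedBy.mp (hy.2 : ⁅c, y⁆ ∈ D.W).2]
    exact hy.2⟩
  have hWX : D.W ≤ X := fun y hy => ⟨hy.1, by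
    rw [commutatorElement_def]
    exact mul_mem (D.conj_mem_W hc hy) (inv_mem hy)⟩
  have hall : ∀ y ∈ D.U, ⁅c, y⁆ ∈ D.W := by
    rcases M.eq_or_eq_of_card hS.pos hS.eq D.inv_W le_rfl le_rfl hU hXa hWX (fun y hy => hy.1) with h' | h'
    · exact absurd (h' ▸ (⟨hu, h⟩ : u ∈ X) : u ∈ D.W) huW
    · exact fun y hy => (h'.symm ▸ hy : y ∈ X).2
  have hWfix : ∀ y ∈ D.W, c * y * c⁻¹ = y := by
    intro y hy
    have hmem : y ∈ ⁅D.U, D.U⁆ := hsp.fix_le hy
    rw [Subgroup.commutator_def] at hmem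
    induction hmem using Subgroup.closure_induction with
    | mem z hz =>
      obtain ⟨s, hs, t, ht, rfl⟩ := hz
      have es : c * s * c⁻¹ = ⁅c, s⁆ * s := by rw [commutatorElement_def]; group
      have et : c * t * c⁻¹ = ⁅c, t⁆ * t := by rw [commutatorElement_def]; group
      have z1 : ∀ (w₁ : D.W) (y : D.U), commW hsp ⟨w₁, w₁.2.1⟩ y = 1 := fun w₁ y => Subtype.ext
        (commutatorElement_eq_one_iff_mul_comm.mpr (hsp.fix_central w₁ w₁.2 y y.2))
      have z2 : ∀ (w₂ : D.W) (y : D.U), commW hsp y ⟨w₂, w₂.2.1⟩ = 1 := fun w₂ y => Subtype.ext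
        (commutatorElement_eq_one_iff_mul_comm.mpr (hsp.fix_central w₂ w₂.2 y y.2).symm)
      have key : ∀ (w₁ w₂ : D.W) (x y : D.U),
          commW hsp (⟨w₁, w₁.2.1⟩ * x) (⟨w₂, w₂.2.1⟩ * y) = commW hsp x y := fun w₁ w₂ x y => by
        rw [commW_mul_left, z1, one_mul, commW_mul_right, z2, one_mul]
      have e := congrArg Subtype.val (key ⟨_, hall s hs⟩ ⟨_, hall t ht⟩ ⟨s, hs⟩ ⟨t, ht⟩)
      calc c * ⁅s, t⁆ * c⁻¹ = ⁅c * s * c⁻¹, c * t * c⁻¹⁆ := by simp [commutatorElement_def, mul_assoc]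
        _ = _ := by rw [es, et]; exact e
    | one => group
    | mul s t hs ht ihs iht =>
      rw [← Subgroup.commutator_def] at hs ht
      have hle : ⁅D.U, D.U⁆ ≤ D.W := commutator_le.mpr fun u hu v hv => hsp.comm_mem u hu v hv
      calc c * (s * t) * c⁻¹ = (c * s * c⁻¹) * (c * t * c⁻¹) := by group
        _ = _ := by rw [ihs (hle hs), iht (hle ht)]
    | inv s hs ihs =>
      rw [← Subgroup.commutator_def] at hs
      have hle : ⁅D.U, D.U⁆ ≤ D.W := commutator_le.mpr fun u hu v hv => hsp.comm_mem u hu v hv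
      calc c * s⁻¹ * c⁻¹ = (c * s * c⁻¹)⁻¹ := by group
        _ = _ := by rw [ihs (hle hs)]
  refine M.centralizes_of_act hS ⟨c, hc⟩ fun χ _ => MonoidHom.ext fun x => ?_
  rw [UData.act_apply]
  refine congrArg χ (Subtype.ext ?_)
  rw [UData.conjW_apply, Subgroup.coe_inv, inv_inv]
  have h' := hWfix x x.2
  calc c⁻¹ * (x : G) * c = c⁻¹ * (c * (x : G) * c⁻¹) * c := by rw [h']
    _ = x := by group

/-- With `Wb` not of order 2 every involution of `Nb` outside `Wb` is isolated. -/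
theorem isolated_invol (hS : Shape ρ D r m) (hU : Nat.card D.U = 2 ^ (2 * m) * Nat.card D.W)
    (I : IsoData D.Nb D.Wb) (hq : 2 < Nat.card D.Wb)
    {t : G ⧸ center G} (ht : t ∈ D.Nb) (ht2 : t * t = 1) (htW : t ∉ D.Wb) : Isolated D.Nb t := by
  classical
  intro g hg
  by_contra hgN
  have hWb : D.Wb ≠ ⊥ := fun h => by rw [h, Subgroup.card_bot] at hq; omega
  obtain ⟨w₁, hw₁, hw₁1⟩ := D.Wb.bot_or_exists_ne_one.resolve_left hWb
  obtain ⟨t₀, rfl⟩ := QuotientGroup.mk_surjective t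
  obtain ⟨c, hcC, hca, u, hu, rfl⟩ := M.exists_pure hS hU (j := 1) ((M.mem_Nb_iff D).mp ht) (by
    rw [pow_one, pow_two]; exact M.center_le_centralizer_U (M.sq_mem_center ht2))
  by_cases huW : u ∈ D.W
  · -- a fixed element centralising `U`
    have htC : c * u ∈ centralizer (D.U : Set G) := mul_mem hcC (M.W_le_centralizer_U huW)
    have htZ : c * u ∉ center G := fun h => htW (by
      rw [(QuotientGroup.eq_one_iff _).mpr h]; exact one_mem _)
    let H : Subgroup G := (centralizer {((c * u : G) : G ⧸ center G)}).comap (QuotientGroup.mk' (center G))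
    have hHa : Inv a H := fun y hy => by
      rw [mem_comap, mem_centralizer_singleton_iff] at hy ⊢
      have e := congrArg (quotAut (center G) M.inv_center) hy
      rw [map_mul, map_mul, QuotientGroup.mk'_apply, quotAut_mk, quotAut_mk,
        mem_fixedBy.mp (mul_mem hca huW.2)] at e
      exact e
    have hHne : H ≠ ⊤ := fun h => htZ (M.mem_center_of_commutator fun y => by
      have h1 := mem_centralizer_singleton_iff.mp (mem_comap.mp ((eq_top_iff.mp h) (mem_top y)))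
      rw [QuotientGroup.mk'_apply, ← QuotientGroup.mk_mul, ← QuotientGroup.mk_mul] at h1
      rw [← QuotientGroup.eq_one_iff, commutatorElement_def, QuotientGroup.mk_mul, QuotientGroup.mk_mul,
        QuotientGroup.mk_mul, ← QuotientGroup.mk_mul, ← h1]
      simp only [QuotientGroup.mk_mul, QuotientGroup.mk_inv]
      group)
    have hUH : D.U ≤ H := fun y hy => by
      rw [mem_comap, mem_centralizer_singleton_iff, QuotientGroup.mk'_apply, ← QuotientGroup.mk_mul,
        ← QuotientGroup.mk_mul, mem_centralizer_iff.mp htC y hy]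
    have hHN := M.le_N D hHa hHne hUH
    have h1 : Commute (g * ((c * u : G) : G ⧸ center G) * g⁻¹) w₁ :=
      M.commute_Wb_of_invol hS hU hg (conj_mul_self ht2) hw₁
    have h2 : Commute ((c * u : G) : G ⧸ center G) (g⁻¹ * w₁ * g) := by
      have h3 := h1.map (MulAut.conj g⁻¹).toMonoidHom
      simpa [mul_assoc] using h3
    obtain ⟨y, hy⟩ := QuotientGroup.mk_surjective (g⁻¹ * w₁ * g)
    have h3 : g⁻¹ * w₁ * g ∈ D.Nb := hy ▸ (M.mem_Nb_iff D).mpr (hHN (by
      rw [mem_comap, mem_centralizer_singleton_iff, QuotientGroup.mk'_apply, hy]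
      exact h2.symm.eq))
    exact hgN (inv_mem_iff.mp (I.isolated w₁ hw₁ hw₁1 g⁻¹ (by simpa using h3)))
  · -- the stabiliser of the class of `u` is trivial on `Wb`
    obtain ⟨w₂, hw₂, hw₂1, hw₂ne⟩ : ∃ w₂ ∈ D.Wb, w₂ ≠ 1 ∧ w₂ ≠ w₁ := by
      by_contra hno
      push Not at hno
      have : Nat.card D.Wb ≤ Nat.card ↥({1, w₁} : Set (G ⧸ center G)) :=
        Nat.card_le_card_of_injective (fun x => ⟨x, by
          by_cases h : (x : G ⧸ center G) = 1
          · exact Or.inl h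
          · exact Or.inr (hno x x.2 h)⟩) fun x y h => Subtype.ext (by simpa using congrArg Subtype.val h)
      rw [Nat.card_coe_set_eq, Set.ncard_pair hw₁1.symm] at this
      omega
    obtain ⟨n, hn, hnt, hnw⟩ := I.exists_conj_commute hWb ht ht2 (g := g⁻¹) (fun h => hgN (inv_mem_iff.mp h))
      (by simpa using hg) hw₁ hw₁1 (M.commute_Wb_of_invol hS hU ht ht2 hw₁).symm hw₂ hw₂1
      (M.commute_Wb_of_invol hS hU ht ht2 hw₂).symm
    obtain ⟨n, rfl⟩ := QuotientGroup.mk_surjective n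
    obtain ⟨e, he, u', hu', rfl⟩ := M.exists_fixed_mul D ((M.mem_Nb_iff D).mp hn)
    have heC : e ∈ centralizer (D.U : Set G) := by
      refine M.centralizes_of_fix_class hS hU (show e ∈ D.Gam from he) hu huW ?_
      have hz : (c * u)⁻¹ * ((e * u') * (c * u) * (e * u')⁻¹) ∈ center G := by
        rw [← QuotientGroup.eq_one_iff]
        have h1 : ((e * u' : G) : G ⧸ center G) * ((c * u : G) : G ⧸ center G) =
            ((c * u : G) : G ⧸ center G) * ((e * u' : G) : G ⧸ center G) := hnt.eq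
        simp only [QuotientGroup.mk_mul, QuotientGroup.mk_inv] at h1 ⊢
        rw [h1]
        group
      set z := (c * u)⁻¹ * ((e * u') * (c * u) * (e * u')⁻¹) with hzdef
      set w'' := ⁅u', u⁆ with hw''
      have hw''W : w'' ∈ D.W := hS.sp.comm_mem u' hu' u hu
      have hu'c : u' * c = c * u' := mem_centralizer_iff.mp hcC u' hu'
      have hk := M.conj_centralizer_U he.1 hcC
      have e1 : (e * u') * (c * u) * (e * u')⁻¹ = (e * c * e⁻¹) * (e * w'' * e⁻¹) * (e * u * e⁻¹) := by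
        calc (e * u') * (c * u) * (e * u')⁻¹ = e * (u' * c) * u * u'⁻¹ * e⁻¹ := by group
          _ = e * (c * u') * u * u'⁻¹ * e⁻¹ := by rw [hu'c]
          _ = _ := by rw [hw'', commutatorElement_def]; group
      have e2 : ⁅e, u⁆ = ((e * c * e⁻¹) * (e * w'' * e⁻¹))⁻¹ * (c * z) := by
        have hzu := mem_center_iff.mp (inv_mem hz) u
        have h5 : c * u * z = (e * u') * (c * u) * (e * u')⁻¹ := by rw [hzdef]; group
        rw [e1] at h5
        have h6 : e * u * e⁻¹ = ((e * c * e⁻¹) * (e * w'' * e⁻¹))⁻¹ * (c * (u * z)) := by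
          rw [← mul_assoc c, h5]; group
        rw [commutatorElement_def, h6, mem_center_iff.mp hz u]
        group
      refine ⟨?_, ?_⟩
      · rw [commutatorElement_def]; exact D.U.mul_mem (D.conj_mem_U he.1 hu) (D.U.inv_mem hu)
      · rw [e2]
        exact (fixedBy a).mul_mem ((fixedBy a).inv_mem
            ((fixedBy a).mul_mem (M.centralizer_U_le_fixed D hk) (D.conj_mem_W he hw''W).2))
          ((fixedBy a).mul_mem hca (M.center_le_fixed hz))
    obtain ⟨x, hx, rfl⟩ := hw₁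
    refine hw₂ne ?_
    rw [← hnw]
    exact mul_inv_eq_of_eq_mul ((M.commute_W_of_pure heC hu' hx).map (QuotientGroup.mk' (center G))).eq

theorem card_Wb : Nat.card D.Wb = D.Zw.index := by
  let f : D.W →* D.Wb := (QuotientGroup.mk' (center G)).subgroupMap D.W
  have hker : f.ker = D.Zw := by
    ext x
    rw [MonoidHom.mem_ker, UData.Zw, mem_subgroupOf, ← QuotientGroup.eq_one_iff (x : G)]
    exact ⟨fun h => congrArg Subtype.val h, fun h => Subtype.ext h⟩
  have hrange : f.range = ⊤ := MonoidHom.range_eq_top.mpr (MonoidHom.subgroupMap_surjective _ _)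
  rw [← hker, Subgroup.index_ker, hrange]
  exact Subgroup.card_top.symm

/-- One constituent and `Wb` of order 2: transfer. -/
theorem false_of_one_two (hS : Shape ρ D r m) (hU : Nat.card D.U = 2 ^ (2 * m) * Nat.card D.W)
    (I : IsoData D.Nb D.Wb) (hq : D.Zw.index = 2) : False := by
  classical
  have hGam : ∀ g : D.Gam, (g : G) ∈ centralizer (D.U : Set G) := by
    intro g
    obtain ⟨x₀, hx₀⟩ : ∃ x₀ : D.W, x₀ ∉ D.Zw := by
      by_contra h
      push Not at h
      have htop : D.Zw = ⊤ := eq_top_iff.mpr fun x _ => h x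
      rw [htop, Subgroup.index_top] at hq
      omega
    obtain ⟨φ, hφ⟩ := exists_sign_ne_one M.Zw_sq (x := QuotientGroup.mk' D.Zw x₀)
      fun h => hx₀ ((QuotientGroup.eq_one_iff _).mp h)
    set ε := φ.comp (QuotientGroup.mk' D.Zw) with hεdef
    have hε : ε ≠ 1 := fun h => hφ (DFunLike.congr_fun h x₀)
    have hker : ∀ x : D.W, ε x = 1 ↔ x ∈ D.Zw := by
      intro x
      refine ⟨fun h => by_contra fun hx => hφ ?_, fun h => by
        show φ (QuotientGroup.mk' D.Zw x) = 1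
        rw [QuotientGroup.mk'_apply, (QuotientGroup.eq_one_iff x).mpr h, map_one]⟩
      have hxx : x⁻¹ * x₀ ∈ D.Zw :=
        (Subgroup.mul_mem_iff_of_index_two hq).mpr (iff_of_false (fun h' => hx (inv_mem_iff.mp h')) hx₀)
      show φ (x₀ : D.W ⧸ D.Zw) = 1
      rw [← (QuotientGroup.eq.mpr hxx : (x : D.W ⧸ D.Zw) = x₀)]
      exact h
    refine M.centralizes_of_one hS hU hε (MonoidHom.ext fun x => ?_)
    rw [UData.act_apply]
    have hiff : D.conjW g⁻¹ x ∈ D.Zw ↔ x ∈ D.Zw := by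
      rw [UData.Zw, mem_subgroupOf, mem_subgroupOf, UData.conjW_apply, Subgroup.coe_inv, inv_inv]
      exact ⟨fun h => by
        have h2 := (inferInstance : (center G).Normal).conj_mem _ h g
        simpa [mul_assoc] using h2, fun h => by
        have h2 := (inferInstance : (center G).Normal).conj_mem _ h (g : G)⁻¹
        simpa [mul_assoc] using h2⟩
    rcases Int.units_eq_one_or (ε x) with h | h
    · rw [h]
      exact (hker _).mpr (hiff.mpr ((hker x).mp h))
    · rw [h]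
      refine (Int.units_eq_one_or _).resolve_left fun h' => ?_
      rw [(hker x).mpr (hiff.mp ((hker _).mp h'))] at h
      exact absurd h (by decide)
  obtain ⟨u, hu, hu2⟩ : ∃ u ∈ D.U, u * u ∉ center G := by
    by_contra hno
    push Not at hno
    have h := M.zero_count hS hU
    have hall : Nat.card {u : D.U // (u : G) * u ∈ center G} = Nat.card D.U :=
      Nat.card_congr (Equiv.subtypeUnivEquiv fun u : D.U => hno u u.2)
    rw [hall, hU, hq] at h
    push_cast at h
    have : (0 : ℤ) < Nat.card D.W := Nat.cast_pos.mpr Nat.card_pos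
    have : (0 : ℤ) < 2 ^ m * Nat.card D.W := by positivity
    have : (0 : ℤ) < 2 ^ (2 * m) * Nat.card D.W := by positivity
    linarith
  have huNb : QuotientGroup.mk' (center G) u ∈ D.Nb := mem_map_of_mem _ (D.U_le_N hu)
  have hsq : QuotientGroup.mk' (center G) u * QuotientGroup.mk' (center G) u ∈ D.Wb := by
    rw [← map_mul]; exact mem_map_of_mem _ (hS.sp.sq_mem u hu)
  refine (M.frame D).false_of_transfer (Abelianization.of (G := D.Nb)) huNb hsq ?_ ?_
  · refine I.isolated _ hsq fun h => hu2 ?_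
    rw [← map_mul, QuotientGroup.mk'_apply, QuotientGroup.eq_one_iff] at h
    exact h
  · intro h
    have hle : commutator D.Nb ≤
        ((centralizer (D.U : Set G)).map (QuotientGroup.mk' (center G))).subgroupOf D.Nb := by
      rw [_root_.commutator_def, commutator_le]
      rintro ⟨_, n₁, hn₁, rfl⟩ - ⟨_, n₂, hn₂, rfl⟩ -
      rw [mem_subgroupOf]
      refine ⟨⁅n₁, n₂⁆, ?_, map_commutatorElement _ _ _⟩
      obtain ⟨c₁, hc₁, u₁, hu₁, rfl⟩ := M.exists_fixed_mul D hn₁
      obtain ⟨c₂, hc₂, u₂, hu₂, rfl⟩ := M.exists_fixed_mul D hn₂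
      have hC₁ : c₁ ∈ centralizer (D.U : Set G) := hGam ⟨c₁, hc₁⟩
      have hC₂ : c₂ ∈ centralizer (D.U : Set G) := hGam ⟨c₂, hc₂⟩
      have h12 : u₁ * c₂ = c₂ * u₁ := mem_centralizer_iff.mp hC₂ u₁ hu₁
      have h21 : u₂ * c₁ = c₁ * u₂ := mem_centralizer_iff.mp hC₁ u₂ hu₂
      have e1 : c₁ * u₁ * (c₂ * u₂) = c₁ * c₂ * (u₁ * u₂) := by
        calc c₁ * u₁ * (c₂ * u₂) = c₁ * (u₁ * c₂) * u₂ := by group
          _ = _ := by rw [h12]; group
      have e2 : c₂ * u₂ * (c₁ * u₁) = c₂ * c₁ * (u₂ * u₁) := by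
        calc c₂ * u₂ * (c₁ * u₁) = c₂ * (u₂ * c₁) * u₁ := by group
          _ = _ := by rw [h21]; group
      have e : ⁅c₁ * u₁, c₂ * u₂⁆ = c₁ * c₂ * ⁅u₁, u₂⁆ * (c₂ * c₁)⁻¹ := by
        calc ⁅c₁ * u₁, c₂ * u₂⁆ = c₁ * u₁ * (c₂ * u₂) * (c₂ * u₂ * (c₁ * u₁))⁻¹ := by
              rw [commutatorElement_def]; group
          _ = _ := by rw [e1, e2, commutatorElement_def]; group
      rw [e]
      exact mul_mem (mul_mem (mul_mem hC₁ hC₂) (M.W_le_centralizer_U (hS.sp.comm_mem u₁ hu₁ u₂ hu₂)))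
        (inv_mem (mul_mem hC₂ hC₁))
    have h' : (⟨_, huNb⟩ : D.Nb) ∈ commutator D.Nb := (QuotientGroup.eq_one_iff _).mp h
    obtain ⟨x, hx, hxe⟩ := mem_subgroupOf.mp (hle h')
    have hzc : x⁻¹ * u ∈ center G := QuotientGroup.eq.mp hxe
    have huC : u ∈ centralizer (D.U : Set G) := by
      simpa using mul_mem hx (M.center_le_centralizer_U hzc)
    exact hu2 (by rw [hS.sp.fix_sq u ⟨hu, M.centralizer_U_le_fixed D huC⟩]; exact one_mem _)

/-- One constituent with a fixed element outside `N` is impossible. -/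
theorem false_notLe_one (hS : Shape ρ D r m) (hU : Nat.card D.U = 2 ^ (2 * m) * Nat.card D.W)
    (hA : ∀ c ∈ fixedBy a, ∀ w ∈ D.W, w ∉ center G → c * w * c⁻¹ ∈ D.N → c ∈ D.N)
    (hC : ¬ fixedBy a ≤ D.N) (hWb : D.Wb ≠ ⊥) : False := by
  classical
  have I := M.isoData_of_one hS hU hA
  have hF := M.frame D
  have hq1 : 1 < Nat.card D.Wb := (Subgroup.one_lt_card_iff_ne_bot _).mpr hWb
  obtain ⟨j, hj⟩ : ∃ j, Nat.card D.Wb = 2 ^ j :=
    IsPGroup.iff_card.mp fun y => ⟨1, by
      rw [pow_one, pow_two]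
      exact Subtype.ext (hF.W_sq y y.2)⟩
  by_cases hq2 : Nat.card D.Wb = 2
  · exact M.false_of_one_two hS hU I (M.card_Wb ▸ hq2)
  have hq : 4 ≤ Nat.card D.Wb := by
    rcases Nat.lt_or_ge j 2 with hj2 | hj2
    · interval_cases j <;> omega
    · rw [hj]; exact (show 4 = 2 ^ 2 by norm_num) ▸ Nat.pow_le_pow_right two_pos hj2
  obtain ⟨w, hw, hw1⟩ := D.Wb.bot_or_exists_ne_one.resolve_left hWb
  by_cases hP : ∃ t ∈ D.Nb, t * t = 1 ∧ t ∉ D.Wb
  · obtain ⟨δ, hδ, hδ2, hδW⟩ := hP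
    refine I.false_of_class hF.N_ne_top hw hw1 (fun t => t ∈ D.Nb ∧ t * t = 1 ∧ t ∉ D.Wb)
      (fun t ht => ht.2.1) (fun t ht n hn => ⟨mul_mem (mul_mem hn ht.1) (inv_mem hn), conj_mul_self ht.2.1,
        fun h => ht.2.2 (by simpa [mul_assoc] using I.conj_mem_W h (inv_mem hn))⟩)
      (fun t ht => ht.2.2) (fun t ht _ => M.isolated_invol hS hU I (by omega) ht.1 ht.2.1 ht.2.2)
      (fun w' hw' t ht hc => ⟨mul_mem (I.W_le hw') ht.1, by
        rw [hc.symm.mul_mul_mul_comm, I.W_sq w' hw', one_mul, ht.2.1],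
        fun h => ht.2.2 ((D.Wb.mul_mem_cancel_left hw').mp h)⟩) hδ ⟨hδ, hδ2, hδW⟩
  push Not at hP
  -- all involutions of `Nb` lie in `Wb`
  let π := QuotientGroup.mk' (center G)
  have hqm : Nat.card D.Wb = 2 ^ m := by
    refine le_antisymm (M.card_Wb ▸ M.index_Zw_le hS hU) (not_lt.mp fun hlt => ?_)
    obtain ⟨u, hu, huW, hu2⟩ := M.exists_zero hS hU (M.card_Wb ▸ hlt)
    obtain ⟨x, hx, hxe⟩ := hP (π u) (mem_map_of_mem π (D.U_le_N hu))
      (by rw [← map_mul]; exact (QuotientGroup.eq_one_iff _).mpr hu2)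
    have hz : x⁻¹ * u ∈ center G := QuotientGroup.eq.mp hxe
    exact huW ⟨hu, by simpa using mul_mem hx.2 (M.center_le_fixed hz)⟩
  have hfix : fixedBy (quotAut (center G) M.inv_center) = (fixedBy a).map π :=
    M.coprimely.fixedBy_quot _ _
  set Ub : Subgroup (G ⧸ center G) := D.U.map π with hUb
  have hWU : Ub ⊓ fixedBy (quotAut (center G) M.inv_center) = D.Wb := by
    rw [hfix]
    refine le_antisymm ?_ (le_inf (map_mono D.W_le_U) (map_mono D.W_le_fixed))
    rintro _ ⟨⟨u, hu, rfl⟩, c, hc, hce⟩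
    have hz : c⁻¹ * u ∈ center G := QuotientGroup.eq.mp hce
    exact ⟨u, ⟨hu, by simpa using mul_mem hc (M.center_le_fixed hz)⟩, rfl⟩
  have hNa : Inv (quotAut (center G) M.inv_center) D.Nb := hF.inv_N
  obtain ⟨f, hf1, hfq, hfU, hfY⟩ := I.exists_fixed_index hF.coprimely hNa
    (fun h => hC fun c hc => (M.mem_Nb_iff D).mp (h (hfix ▸ mem_map_of_mem π hc)))
    Ub (map_mono D.U_le_N) (D.isPGroup_U.map π)
    (fun y hy => by
      obtain ⟨x, hx, rfl⟩ := hy
      exact ⟨a x, D.inv_U x hx, (quotAut_mk (center G) M.inv_center x).symm⟩)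
    (le_normalizer_iff.mpr fun n hn y hy => by
      obtain ⟨n, hn, rfl⟩ := hn
      obtain ⟨x, hx, rfl⟩ := hy
      exact ⟨n * x * n⁻¹, D.conj_mem_U hn hx, by simp [π]⟩)
    hWU
    (fun n hn => by
      obtain ⟨n, hn, rfl⟩ := hn
      obtain ⟨c, hc, u, hu, rfl⟩ := M.exists_fixed_mul D hn
      exact ⟨π (c * u * c⁻¹), mem_map_of_mem π (D.conj_mem_U hc.1 hu), π c,
        ⟨mem_map_of_mem π hc.1, hfix ▸ mem_map_of_mem π hc.2⟩, by rw [← map_mul, inv_mul_cancel_right]⟩)
    (fun t ht ht2 => hP t ht ht2) hq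
  have hrel : D.Wb.relIndex Ub = 2 ^ (2 * m) := by
    have hker : π.ker ⊓ D.U ≤ D.W := fun x hx =>
      ⟨hx.2, M.center_le_fixed ((QuotientGroup.eq_one_iff x).mp hx.1)⟩
    have h1 : D.Wb.relIndex Ub = D.W.relIndex D.U := by
      rw [hUb, UData.Wb, Subgroup.relIndex, Subgroup.relIndex]
      have hs : Function.Surjective (π.subgroupMap D.U) := MonoidHom.subgroupMap_surjective _ _
      rw [← Subgroup.index_comap_of_surjective _ hs]
      congr 1
      ext ⟨x, hx⟩
      rw [mem_comap, mem_subgroupOf, mem_subgroupOf]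
      refine ⟨fun ⟨y, hy, hye⟩ => ?_, fun h => mem_map_of_mem π h⟩
      have hz : y⁻¹ * x ∈ center G := QuotientGroup.eq.mp hye
      exact ⟨hx, by simpa using mul_mem hy.2 (M.center_le_fixed hz)⟩
    rw [h1]
    exact Nat.eq_of_mul_eq_mul_right Nat.card_pos ((relIndex_mul_card_eq D.W_le_U).trans hU)
  rw [hrel] at hfU
  have hfr : Nat.Coprime f r := (M.coprimely.prime.coprime_iff_not_dvd.mpr fun h =>
    (hF.coprimely).ndvd (h.trans hfY)).symm
  have hfac : 2 ^ (2 * m) - 1 = (2 ^ m - 1) * r := by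
    rw [hS.eq, mul_comm (2 ^ m - 1), ← Nat.sq_sub_sq (2 ^ m) 1, one_pow, ← pow_mul, mul_comm m 2]
  rw [hfac] at hfU
  have hle := Nat.le_of_dvd (Nat.sub_pos_of_lt (Nat.one_lt_two_pow hS.pos.ne'))
    (hfr.dvd_of_dvd_mul_right hfU)
  rw [hqm] at hfq
  have hd := (Nat.modEq_iff_dvd' hf1.le).mp hfq.symm
  have := Nat.le_of_dvd (by omega) hd
  have := Nat.one_le_two_pow (n := m)
  omega

end Cfg

end Cfsg.Agent.H24.Flav
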