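import Cfsg.Agent.H8.Shult.CnotLeN3Perm
import Cfsg.Agent.H24.Flav.CnotLeN1

/-!
The permutations of the occurring characters induced by `N`, transitivity on `W` modulo the centre,
and the configuration inside the fixed points of the automorphism.

In the general configuration.
-/

set_option autoImplicit false
set_option linter.unusedSectionVars false

namespace Cfsg.Agent.H24.Flav

open Subgroup
open Cfsg.Agent.H8.Shult hiding Min
open scoped commutatorElement

universe u v w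

variable {G : Type u} [Group G] [Finite G] {p r : ℕ} [hp : Fact p.Prime] {a : MulAut G}
variable {k : Type w} [Field k] [CharP k p] {V : Type v} [AddCommGroup V] [Module k V]
variable [IsAlgClosed k] [FiniteDimensional k V]
variable {ρ : G →* Module.End k V} {T : Module.End k V}
variable {D : UData a}

namespace Cfg

variable (M : Cfg p r a ρ T) {m : ℕ}
include M

theorem conj_mem_W_of_N {n x : G} (hn : n ∈ D.N) (hx : x ∈ D.W) : n * x * n⁻¹ ∈ D.W := by
  obtain ⟨c, hc, u, hu, rfl⟩ := M.exists_fixed_mul D hn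
  have e : c * u * x * (c * u)⁻¹ = c * x * c⁻¹ := by
    calc c * u * x * (c * u)⁻¹ = c * (u * x) * u⁻¹ * c⁻¹ := by group
      _ = c * (x * u) * u⁻¹ * c⁻¹ := by rw [(M.special2_U D).fix_central x hx u hu]
      _ = _ := by group
  rw [e]
  exact D.conj_mem_W hc hx

/-- `N` acting on `W`. -/
def conjN : D.N →* MulAut D.W where
  toFun n :=
    { toFun := fun x => ⟨n * x * (n : G)⁻¹, M.conj_mem_W_of_N n.2 x.2⟩
      invFun := fun x => ⟨(n : G)⁻¹ * x * n, by
        simpa using M.conj_mem_W_of_N (D.N.inv_mem n.2) x.2⟩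
      left_inv := fun x => Subtype.ext (by simp [mul_assoc])
      right_inv := fun x => Subtype.ext (by simp [mul_assoc])
      map_mul' := fun x y => Subtype.ext (by simp [mul_assoc]) }
  map_one' := MulEquiv.ext fun x => Subtype.ext (by simp)
  map_mul' n n' := MulEquiv.ext fun x => Subtype.ext (by simp [mul_assoc])

theorem conjN_apply (n : D.N) (x : D.W) : ((M.conjN n x : D.W) : G) = n * x * (n : G)⁻¹ := rfl

/-- The action of `N` on characters of `W`. -/
def actN (n : D.N) (χ : D.W →* ℤˣ) : D.W →* ℤˣ := χ.comp (M.conjN n⁻¹).toMonoidHom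

theorem actN_apply (n : D.N) (χ : D.W →* ℤˣ) (x : D.W) : M.actN n χ x = χ (M.conjN n⁻¹ x) := rfl

theorem actN_one (χ : D.W →* ℤˣ) : M.actN 1 χ = χ := MonoidHom.ext fun x => by
  rw [M.actN_apply, inv_one, map_one]; rfl

theorem actN_mul (n n' : D.N) (χ : D.W →* ℤˣ) : M.actN (n * n') χ = M.actN n (M.actN n' χ) :=
  MonoidHom.ext fun x => by
    rw [M.actN_apply, M.actN_apply, M.actN_apply, mul_inv_rev, map_mul, MulAut.mul_apply]

theorem actN_of_eq (n : D.N) {c u : G} (hc : c ∈ D.Gam) (hu : u ∈ D.U) (he : (n : G) = c * u)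
    (χ : D.W →* ℤˣ) : M.actN n χ = D.act ⟨c, hc⟩ χ := MonoidHom.ext fun x => by
  rw [M.actN_apply, UData.act_apply]
  refine congrArg χ (Subtype.ext ?_)
  rw [M.conjN_apply, UData.conjW_apply, Subgroup.coe_inv, he]
  simp only [Subgroup.coe_inv, inv_inv]
  have h := (M.special2_U D).fix_central _ (D.conj_mem_W (g := c⁻¹) (D.Gam.inv_mem hc) x.2) _ hu
  rw [inv_inv] at h
  calc (c * u)⁻¹ * x * (c * u) = u⁻¹ * ((c⁻¹ * x * c) * u) := by group
    _ = u⁻¹ * (u * (c⁻¹ * x * c)) := by rw [h]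
    _ = _ := by group

theorem occ_actN (n : D.N) {χ : D.W →* ℤˣ} (hχ : Occ ρ D χ) : Occ ρ D (M.actN n χ) := by
  obtain ⟨c, hc, u, hu, he⟩ := M.exists_fixed_mul D n.2
  rw [M.actN_of_eq n (show c ∈ D.Gam from hc) hu he]
  exact M.occ_act hχ _

/-- The permutation of the occurring characters induced by an element of `N`. -/
def permN : D.N →* Equiv.Perm {χ : D.W →* ℤˣ // Occ ρ D χ} where
  toFun n :=
    { toFun := fun χ => ⟨M.actN n χ.1, M.occ_actN n χ.2⟩
      invFun := fun χ => ⟨M.actN n⁻¹ χ.1, M.occ_actN n⁻¹ χ.2⟩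
      left_inv := fun χ => Subtype.ext (by
        show M.actN n⁻¹ (M.actN n χ.1) = χ.1
        rw [← M.actN_mul, inv_mul_cancel, M.actN_one])
      right_inv := fun χ => Subtype.ext (by
        show M.actN n (M.actN n⁻¹ χ.1) = χ.1
        rw [← M.actN_mul, mul_inv_cancel, M.actN_one]) }
  map_one' := Equiv.ext fun χ => Subtype.ext (M.actN_one χ.1)
  map_mul' n n' := Equiv.ext fun χ => Subtype.ext (M.actN_mul n n' χ.1)

theorem permN_apply (n : D.N) (χ : {χ : D.W →* ℤˣ // Occ ρ D χ}) :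
    ((M.permN n χ : {χ : D.W →* ℤˣ // Occ ρ D χ}) : D.W →* ℤˣ) = M.actN n χ.1 := rfl

/-- The kernel of the permutation action fixes `W` pointwise. -/
theorem conjN_of_permN_eq_one {n : D.N} (h : M.permN n = 1) (x : D.W) :
    (n : G) * x * (n : G)⁻¹ = x := by
  have h' : M.conjN n x = x := by
    by_contra hne
    obtain ⟨χ, hχ, hne'⟩ := M.exists_occ (x := x * (M.conjN n x)⁻¹) fun e => hne (mul_inv_eq_one.mp e).symm
    have h1 : M.actN n χ = χ := by
      rw [← M.permN_apply n ⟨χ, hχ⟩, h]; rfl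
    have h2 := DFunLike.congr_fun h1 (M.conjN n x)
    rw [M.actN_apply, map_inv, MulAut.inv_apply_self] at h2
    rw [map_mul, map_inv χ (M.conjN n x), ← h2, mul_inv_cancel] at hne'
    exact absurd hne' (by decide)
  exact congrArg Subtype.val h'

theorem permN_eq_one_of_fixes {n : D.N} (h : ∀ x ∈ D.W, (n : G) * x * (n : G)⁻¹ = x) : M.permN n = 1 := by
  have h' : M.conjN n = 1 := MulEquiv.ext fun x => Subtype.ext (h x x.2)
  refine Equiv.ext fun χ => Subtype.ext (MonoidHom.ext fun x => ?_)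
  rw [M.permN_apply, M.actN_apply, map_inv, h', inv_one]
  rfl

theorem permN_of_mem_U {u : G} (hu : u ∈ D.U) : M.permN ⟨u, D.U_le_N hu⟩ = 1 :=
  M.permN_eq_one_of_fixes fun x hx => by
    show u * x * u⁻¹ = x
    rw [← (M.special2_U D).fix_central x hx u hu, mul_inv_cancel_right]

theorem permN_mul_mem_U {c u : G} (hc : c ∈ D.N) (hu : u ∈ D.U) :
    M.permN ⟨c * u, D.N.mul_mem hc (D.U_le_N hu)⟩ = M.permN ⟨c, hc⟩ := by
  rw [show (⟨c * u, D.N.mul_mem hc (D.U_le_N hu)⟩ : D.N) = ⟨c, hc⟩ * ⟨u, D.U_le_N hu⟩ from rfl, map_mul,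
    M.permN_of_mem_U hu, mul_one]

theorem permN_of_centralizes {c : G} (hc : c ∈ D.N) (h : c ∈ centralizer (D.U : Set G)) :
    M.permN ⟨c, hc⟩ = 1 :=
  M.permN_eq_one_of_fixes fun x hx => by
    show c * x * c⁻¹ = x
    rw [← mem_centralizer_iff.mp h x hx.1, mul_inv_cancel_right]

/-- An element of `Gam` permuting the occurring characters trivially centralises `U`. -/
theorem centralizes_of_permN (hS : Shape ρ D r m) {c : G} (hc : c ∈ D.Gam)
    (h : M.permN ⟨c, hc.1⟩ = 1) : c ∈ centralizer (D.U : Set G) := by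
  refine M.centralizes_of_act hS ⟨c, hc⟩ fun χ hχ => ?_
  rw [← M.actN_of_eq (⟨c, hc.1⟩ : D.N) hc (one_mem _) (mul_one c).symm, ← M.permN_apply _ ⟨χ, hχ⟩, h]
  rfl

/-- `N` moves `W` modulo the centre transitively through fixed elements. -/
theorem exists_conj_class (hA : ∀ c ∈ fixedBy a, ∀ w ∈ D.W, w ∉ center G → c * w * c⁻¹ ∈ D.N → c ∈ D.N)
    (hC : ¬ fixedBy a ≤ D.N) {x y : D.W} (hx : x ∉ D.Zw) (hy : y ∉ D.Zw) :
    ∃ c : D.Gam, (D.conjW c x)⁻¹ * y ∈ D.Zw := by
  have hfix : fixedBy (quotAut (center G) M.inv_center) = (fixedBy a).map (QuotientGroup.mk' (center G)) :=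
    M.coprimely.fixedBy_quot _ _
  have hne : ∀ z : D.W, z ∉ D.Zw → ((z : G) : G ⧸ center G) ≠ 1 := fun z hz h =>
    hz (mem_subgroupOf.mpr ((QuotientGroup.eq_one_iff _).mp h))
  obtain ⟨n, ⟨hnf, hnN⟩, hn⟩ := (M.frame D).transitive
    (fun h => hC fun c hc => (M.mem_Nb_iff D).mp (h (hfix ▸ mem_map_of_mem _ hc)))
    (fun c hc w hw hw1 hwN => by
      rw [hfix] at hc
      obtain ⟨c, hc, rfl⟩ := hc
      obtain ⟨w, hw, rfl⟩ := hw
      refine (M.mem_Nb_iff D).mpr (hA c hc w hw (fun h => hw1 ((QuotientGroup.eq_one_iff w).mpr h))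
        ((M.mem_Nb_iff D).mp ?_))
      simpa using hwN)
    (w₁ := ((x : G) : G ⧸ center G)) (w₂ := ((y : G) : G ⧸ center G))
    (mem_map_of_mem _ x.2) (hne x hx) (mem_map_of_mem _ y.2) (hne y hy)
  rw [hfix] at hnf
  obtain ⟨c, hc, rfl⟩ := hnf
  refine ⟨⟨c, (M.mem_Nb_iff D).mp hnN, hc⟩, ?_⟩
  rw [UData.Zw, mem_subgroupOf, Subgroup.coe_mul, Subgroup.coe_inv, UData.conjW_apply]
  exact QuotientGroup.eq.mp (by simpa using hn)

/-- An element of the centre in `W` is `1` or `-1`. -/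
theorem Zw_eq {z z' : D.W} (hz : z ∈ D.Zw) (hz1 : z ≠ 1) (hz' : z' ∈ D.Zw) (hz'1 : z' ≠ 1) : z = z' := by
  have h := fun (y : D.W) (hy : y ∈ D.Zw) (hy1 : y ≠ 1) =>
    (M.center_sq (mem_subgroupOf.mp hy) ((M.special2_U D).fix_sq y y.2)).resolve_left
      fun e => hy1 (Subtype.ext e)
  exact Subtype.ext (M.inj ((h z hz hz1).trans (h z' hz' hz'1).symm))

/-- Elements of `Gam` fix the central elements of `W`. -/
theorem conjW_of_mem_Zw (c : D.Gam) {z : D.W} (hz : z ∈ D.Zw) : D.conjW c z = z := Subtype.ext (by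
  rw [UData.conjW_apply, mem_center_iff.mp (mem_subgroupOf.mp hz) c, mul_inv_cancel_right])

/-- The configuration inside the fixed points. -/
theorem isoData_fixed (hA : ∀ c ∈ fixedBy a, ∀ w ∈ D.W, w ∉ center G → c * w * c⁻¹ ∈ D.N → c ∈ D.N) :
    IsoData (D.Nb.subgroupOf (fixedBy (quotAut (center G) M.inv_center)))
      (D.Wb.subgroupOf (fixedBy (quotAut (center G) M.inv_center))) where
  W_le := comap_mono (M.frame D).W_le
  N_le := le_normalizer_iff.mpr fun n hn x hx =>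
    (mem_normalizer_iff.mp ((M.frame D).N_le hn) x).mp hx
  W_sq := fun x hx => Subtype.ext ((M.frame D).W_sq x hx)
  isolated := by
    rintro ⟨w, hwf⟩ hw hw1 ⟨c, hcf⟩ hc
    rw [mem_subgroupOf] at hw hc ⊢
    rw [M.coprimely.fixedBy_quot] at hcf
    obtain ⟨c, hc', rfl⟩ := hcf
    obtain ⟨w, hw', rfl⟩ := hw
    refine (M.mem_Nb_iff D).mpr (hA c hc' w hw' (fun h => hw1 (Subtype.ext ((QuotientGroup.eq_one_iff w).mpr h)))
      ((M.mem_Nb_iff D).mp ?_))
    simpa using hc

/-- An element of `N` fixed modulo the centre comes from `Gam`. -/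
theorem exists_Gam {x : G ⧸ center G} (hN : x ∈ D.Nb)
    (hx : x ∈ fixedBy (quotAut (center G) M.inv_center)) : ∃ c ∈ D.Gam, (c : G ⧸ center G) = x := by
  rw [M.coprimely.fixedBy_quot] at hx
  obtain ⟨c, hc, rfl⟩ := hx
  exact ⟨c, ⟨(M.mem_Nb_iff D).mp hN, hc⟩, rfl⟩

/-- An involution normalising `Wb` commutes with a nontrivial element of it. -/
theorem exists_commute_Wb (hWb : D.Wb ≠ ⊥) {t : G ⧸ center G} (ht : t ∈ D.Nb) (ht2 : t * t = 1) :
    ∃ w ∈ D.Wb, w ≠ 1 ∧ Commute w t := by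
  obtain ⟨w, hw, hw1⟩ := D.Wb.bot_or_exists_ne_one.resolve_left hWb
  have ht' : t⁻¹ = t := inv_eq_of_mul_eq_one_left ht2
  have hcw : t * w * t ∈ D.Wb := by
    have := (mem_normalizer_iff.mp ((M.frame D).N_le ht) w).mp hw
    rwa [ht'] at this
  by_cases he : w * (t * w * t) = 1
  · refine ⟨w, hw, hw1, ?_⟩
    have h1 : t * w * t = w := by
      rw [← inv_eq_of_mul_eq_one_right he]
      exact inv_eq_of_mul_eq_one_left ((M.frame D).W_sq w hw)
    show w * t = t * w
    calc w * t = t * w * t * t := by rw [h1]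
      _ = t * w := by rw [mul_assoc _ t t, ht2, mul_one]
  · refine ⟨w * (t * w * t), mul_mem hw hcw, he, ?_⟩
    have hcomm : w * (t * w * t) = t * w * t * w := by
      have h := (M.frame D).W_sq _ (mul_mem hw hcw)
      have h' : (w * (t * w * t))⁻¹ = w * (t * w * t) := inv_eq_of_mul_eq_one_left h
      rw [← h', mul_inv_rev, inv_eq_of_mul_eq_one_left ((M.frame D).W_sq _ hcw),
        inv_eq_of_mul_eq_one_left ((M.frame D).W_sq _ hw)]
    show w * (t * w * t) * t = t * (w * (t * w * t))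
    calc w * (t * w * t) * t = w * (t * w) * (t * t) := by simp [mul_assoc]
      _ = t * t * (w * (t * w)) := by rw [ht2, mul_one, one_mul]
      _ = t * (t * w * t * w) := by simp [mul_assoc]
      _ = _ := by rw [← hcomm]

/-- Inside the fixed points an involution centralising `U` lies in `Wb`. -/
theorem invol_centralizer_mem_Wb
    (hA : ∀ c ∈ fixedBy a, ∀ w ∈ D.W, w ∉ center G → c * w * c⁻¹ ∈ D.N → c ∈ D.N)
    (hC : ¬ fixedBy a ≤ D.N) (hWb : D.Wb ≠ ⊥) {c : G} (hc : c ∈ centralizer (D.U : Set G))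
    (hc2 : c * c ∈ center G) : (c : G ⧸ center G) ∈ D.Wb := by
  classical
  by_contra hcW
  set b := quotAut (center G) M.inv_center with hb
  have hfix : fixedBy b = (fixedBy a).map (QuotientGroup.mk' (center G)) := M.coprimely.fixedBy_quot _ _
  set I := M.isoData_fixed (D := D) hA
  obtain ⟨w, hw, hw1⟩ := D.Wb.bot_or_exists_ne_one.resolve_left hWb
  have hwf : w ∈ fixedBy b := (M.frame D).W_fixed hw
  let P : fixedBy b → Prop := fun t => ∃ e ∈ centralizer (D.U : Set G),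
    (e : G ⧸ center G) = t ∧ t * t = 1 ∧ (t : G ⧸ center G) ∉ D.Wb
  have hmemN : ∀ t : fixedBy b, P t → (t : G ⧸ center G) ∈ D.Nb := by
    rintro t ⟨e, he, het, -, -⟩
    exact het ▸ (M.mem_Nb_iff D).mpr (M.centralizer_U_le_N D he)
  refine I.false_of_class ?_ (w := ⟨w, hwf⟩) (mem_subgroupOf.mpr hw) (fun h => hw1 (congrArg Subtype.val h))
    P (fun t ⟨_, _, _, h, _⟩ => h) ?_ (fun t ⟨_, _, _, _, h⟩ ht => h (mem_subgroupOf.mp ht)) ?_ ?_
    (δ := ⟨(c : G ⧸ center G), hfix ▸ mem_map_of_mem _ (M.centralizer_U_le_fixed D hc)⟩)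
    (mem_subgroupOf.mpr ((M.mem_Nb_iff D).mpr (M.centralizer_U_le_N D hc))) ⟨c, hc, rfl, Subtype.ext (by
      show ((c : G) : G ⧸ center G) * c = 1
      rw [← QuotientGroup.mk_mul]
      exact (QuotientGroup.eq_one_iff _).mpr hc2), hcW⟩
  · intro h
    refine hC fun x hx => (M.mem_Nb_iff D).mp ?_
    have hxb : ((x : G) : G ⧸ center G) ∈ fixedBy b := hfix ▸ mem_map_of_mem _ hx
    exact mem_subgroupOf.mp (h ▸ mem_top (⟨_, hxb⟩ : fixedBy b))
  · rintro t ⟨e, he, het, ht2, htW⟩ n hn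
    obtain ⟨d, hd, hdn⟩ := M.exists_Gam (mem_subgroupOf.mp hn) n.2
    refine ⟨d * e * d⁻¹, M.conj_centralizer_U hd.1 he, ?_, conj_mul_self ht2, fun h => htW ?_⟩
    · simp only [QuotientGroup.mk_mul, QuotientGroup.mk_inv, het, hdn, Subgroup.coe_mul, Subgroup.coe_inv]
    · have h' := (mem_normalizer_iff.mp ((M.frame D).N_le (D.Nb.inv_mem (mem_subgroupOf.mp hn))) _).mp h
      simpa [mul_assoc] using h'
  · -- isolation
    rintro t ⟨e, he, het, ht2, htW⟩ - g hg
    have heZ : e ∉ center G := fun h => htW (by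
      rw [← het, (QuotientGroup.eq_one_iff _).mpr h]; exact one_mem _)
    have ht2' : (t : G ⧸ center G) * t = 1 := congrArg Subtype.val ht2
    obtain ⟨w₁, hw₁, hw₁1, hw₁c⟩ := M.exists_commute_Wb (D := D) hWb (mem_subgroupOf.mp hg)
      (conj_mul_self (g := (g : G ⧸ center G)) ht2')
    let H : Subgroup G := (centralizer {(t : G ⧸ center G)}).comap (QuotientGroup.mk' (center G))
    have hHa : Inv a H := fun y hy => by
      rw [mem_comap, mem_centralizer_singleton_iff] at hy ⊢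
      have e1 := congrArg b hy
      rw [map_mul, map_mul, hb, QuotientGroup.mk'_apply, quotAut_mk, mem_fixedBy.mp t.2] at e1
      exact e1
    have hHne : H ≠ ⊤ := fun h => heZ (M.mem_center_of_commutator fun y => by
      have h1 := mem_centralizer_singleton_iff.mp (mem_comap.mp ((eq_top_iff.mp h) (mem_top y)))
      rw [QuotientGroup.mk'_apply, ← het] at h1
      rw [← QuotientGroup.eq_one_iff, commutatorElement_def, QuotientGroup.mk_mul, QuotientGroup.mk_mul,
        QuotientGroup.mk_mul, ← h1]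
      simp only [QuotientGroup.mk_inv]
      group)
    have hUH : D.U ≤ H := fun y hy => by
      rw [mem_comap, mem_centralizer_singleton_iff, QuotientGroup.mk'_apply, ← het, ← QuotientGroup.mk_mul,
        ← QuotientGroup.mk_mul, mem_centralizer_iff.mp he y hy]
    have hHN := M.le_N D hHa hHne hUH
    obtain ⟨y, hy⟩ := QuotientGroup.mk_surjective ((g : G ⧸ center G)⁻¹ * w₁ * (g : G ⧸ center G))
    have hy' : (g : G ⧸ center G)⁻¹ * w₁ * (g : G ⧸ center G) ∈ D.Nb := hy ▸ (M.mem_Nb_iff D).mpr (hHN (by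
      rw [mem_comap, mem_centralizer_singleton_iff, QuotientGroup.mk'_apply, hy]
      have h3 := (hw₁c.map (MulAut.conj (g : G ⧸ center G)⁻¹).toMonoidHom).eq
      simpa [mul_assoc] using h3))
    exact inv_mem_iff.mp (I.isolated ⟨w₁, (M.frame D).W_fixed hw₁⟩ (mem_subgroupOf.mpr hw₁)
      (fun h => hw₁1 (congrArg Subtype.val h)) g⁻¹ (mem_subgroupOf.mpr (by simpa using hy')))
  · rintro w' hw' t ⟨e, he, het, ht2, htW⟩ hc'
    obtain ⟨x, hx, hxw⟩ := mem_subgroupOf.mp hw'
    refine ⟨x * e, mul_mem (M.W_le_centralizer_U hx) he, ?_, ?_, fun h => htW ?_⟩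
    · rw [QuotientGroup.mk_mul, het, ← QuotientGroup.mk'_apply, hxw]; rfl
    · rw [hc'.symm.mul_mul_mul_comm, ht2, mul_one, I.W_sq w' hw']
    · exact (D.Wb.mul_mem_cancel_left (mem_subgroupOf.mp hw')).mp h

end Cfg

end Cfsg.Agent.H24.Flav
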