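import Cfsg.Agent.H8.Shult.CleN12
import Cfsg.Agent.H24.Flav.CleNBase
import Cfsg.Agent.H24.Flav.CnotLeN1
import Cfsg.Agent.H24.Flav.CnotLeN3Perm

/-!
One or two constituents with all fixed points in `N`.

In the general configuration.
-/

set_option autoImplicit false
set_option linter.unusedSectionVars false

namespace Cfsg.Agent.H24.Flav

open Subgroup
open Cfsg.Agent.H8.Shult hiding Min
open scoped commutatorElement

universe u v w

variable {G : Type u} [Group G] [Finite G] {p r : ℕ} [hp : Fact p.Prime] {a : MulAut G}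
variable {k : Type w} [Field k] [CharP k p] {V : Type v} [AddCommGroup V] [Module k V]
variable [IsAlgClosed k] [FiniteDimensional k V]
variable {ρ : G →* Module.End k V} {T : Module.End k V}
variable {D : UData a}

namespace Cfg

variable (M : Cfg p r a ρ T) {m : ℕ}
include M

theorem conj_mem_of_normal {R : Subgroup G} (hWR : D.W ≤ R) (hRU : R ≤ D.U) {x y : G} (hy : y ∈ D.U)
    (hx : x ∈ R) : y * x * y⁻¹ ∈ R :=
  (mem_normalizer_iff.mp (le_normalizer_of_W_le (M.special2_U D) hWR hRU hy) x).mp hx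

/-- With the fixed points in `N`, an invariant section without invariant subgroups is centralised. -/
theorem trivial_on_section (hC : fixedBy a ≤ D.N) (hpN : ¬ p ∣ Nat.card D.N) {B R : Subgroup G} (hBa : Inv a B) (hRa : Inv a R)
    (hWR : D.W ≤ R) (hRB : R ≤ B) (hBU : B ≤ D.U)
    (hirr : ∀ X : Subgroup G, Inv a X → R ≤ X → X ≤ B → X = R ∨ X = B)
    (hB : ∀ γ ∈ D.Gam, ∀ x ∈ B, γ * x * γ⁻¹ ∈ B) (hR : ∀ γ ∈ D.Gam, ∀ x ∈ R, γ * x * γ⁻¹ ∈ R)
    {γ x : G} (hγ : γ ∈ D.Gam) (hx : x ∈ B) : ⁅γ, x⁆ ∈ R := by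
  classical
  have hsp := M.special2_U D
  have hext : ∀ X : Subgroup G, D.W ≤ X → X ≤ D.U → (∀ γ ∈ D.Gam, ∀ x ∈ X, γ * x * γ⁻¹ ∈ X) →
      ∀ n ∈ D.N, ∀ x ∈ X, n * x * n⁻¹ ∈ X := by
    intro X hWX hXU hX n hn x hx
    obtain ⟨c, hc, u, hu, rfl⟩ := M.exists_fixed_mul D hn
    rw [show c * u * x * (c * u)⁻¹ = c * (u * x * u⁻¹) * c⁻¹ by group]
    exact hX c hc _ (M.conj_mem_of_normal hWX hXU hu hx)
  have hBN := hext B (hWR.trans hRB) hBU hB
  have hRN := hext R hWR (hRB.trans hBU) hR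
  set R' := R.subgroupOf B with hR'
  have hRn : R'.Normal := ⟨fun y hy u => M.conj_mem_of_normal hWR (hRB.trans hBU) (hBU u.2) hy⟩
  let _ : CommGroup (B ⧸ R') :=
    { (inferInstance : Group (B ⧸ R')) with
      mul_comm := fun s t => by
        induction s using QuotientGroup.induction_on with
        | _ s =>
          induction t using QuotientGroup.induction_on with
          | _ t =>
            rw [← QuotientGroup.mk_mul, ← QuotientGroup.mk_mul, QuotientGroup.eq, hR', mem_subgroupOf]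
            refine hWR ?_
            have h := hsp.comm_mem _ (inv_mem (hBU t.2)) _ (inv_mem (hBU s.2))
            have e : (((s * t)⁻¹ * (t * s) : B) : G) = ⁅(t : G)⁻¹, (s : G)⁻¹⁆ := by
              simp [commutatorElement_def, mul_assoc]
            rw [e]; exact h }
  have hσR : Inv (subAut B hBa) R' := fun y hy => hRa _ (mem_subgroupOf.mp hy)
  set σ := quotAut R' hσR with hσ
  let f : D.N →* MulAut (B ⧸ R') := sectionAut hBN hRN
  have hsq : ∀ z : B ⧸ R', z * z = 1 := fun z => by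
    induction z using QuotientGroup.induction_on with
    | _ z =>
      rw [← QuotientGroup.mk_mul, QuotientGroup.eq_one_iff, hR', mem_subgroupOf]
      exact hWR (hsp.sq_mem _ (hBU z.2))
  have hns : NoSubgroup σ := by
    intro X hX
    set X' := (X.comap (QuotientGroup.mk' R')).map B.subtype with hX'
    have hle : R ≤ X' := fun y hy => ⟨⟨y, hRB hy⟩, by
      rw [SetLike.mem_coe, mem_comap, QuotientGroup.mk'_apply,
        (QuotientGroup.eq_one_iff _).mpr (mem_subgroupOf.mpr hy)]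
      exact one_mem X, rfl⟩
    have hinv : Inv a X' := by
      rintro _ ⟨y, hy, rfl⟩
      exact ⟨subAut B hBa y, hX _ hy, rfl⟩
    rcases hirr X' hinv hle (map_subtype_le _) with h | h
    · refine Or.inl ((Subgroup.eq_bot_iff_forall _).mpr fun s hs => ?_)
      induction s using QuotientGroup.induction_on with
      | _ s =>
        refine (QuotientGroup.eq_one_iff _).mpr (mem_subgroupOf.mpr ?_)
        rw [← h]
        exact ⟨s, hs, rfl⟩
    · refine Or.inr (eq_top_iff.mpr fun s _ => ?_)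
      induction s using QuotientGroup.induction_on with
      | _ s =>
        obtain ⟨s', hs', he⟩ := (h.symm ▸ s.2 : (s : G) ∈ X')
        exact (Subtype.ext he : s' = s) ▸ hs'
  have hcomm : ∀ τ ∈ f.range, σ * τ = τ * σ := by
    rintro _ ⟨n, rfl⟩
    obtain ⟨c, hc, u, hu, he⟩ := M.exists_fixed_mul D n.2
    refine MulEquiv.ext fun z => ?_
    induction z using QuotientGroup.induction_on with
    | _ z =>
      refine QuotientGroup.eq.mpr (mem_subgroupOf.mpr ?_)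
      show (a ((n : G) * z * (n : G)⁻¹))⁻¹ * ((n : G) * a z * (n : G)⁻¹) ∈ R
      have hz : a (z : G) ∈ D.U := hBU (hBa _ z.2)
      rw [he, map_mul, map_mul, map_inv, map_mul, mem_fixedBy.mp hc.2]
      have e : (c * a u * a (z : G) * (c * a u)⁻¹)⁻¹ * (c * u * a (z : G) * (c * u)⁻¹) =
          c * (⁅a u, a (z : G)⁆ * a (z : G))⁻¹ * (⁅u, a (z : G)⁆ * a (z : G)) * c⁻¹ := by
        simp [commutatorElement_def, mul_assoc]
      rw [e, mul_assoc c]
      refine hR c hc _ (hWR ?_)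
      have h1 := hsp.comm_mem _ (D.inv_U u hu) _ hz
      have h2 := hsp.comm_mem u hu _ hz
      rw [mul_inv_rev, mul_assoc, ← mul_assoc (⁅a u, a (z : G)⁆)⁻¹,
        hsp.fix_central _ (mul_mem (inv_mem h1) h2) _ hz, inv_mul_cancel_left]
      exact mul_mem (inv_mem h1) h2
  let _ : CommGroup f.range :=
    { (inferInstance : Group f.range) with
      mul_comm := fun τ τ' => Subtype.ext (hns.comm hsq (hcomm τ τ.2) (hcomm τ' τ'.2)) }
  have hodd : Odd (Nat.card f.range) := by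
    rw [← Nat.not_even_iff_odd, even_iff_two_dvd]
    intro h2
    have : Fact (Nat.Prime 2) := ⟨Nat.prime_two⟩
    obtain ⟨τ, hτ⟩ := exists_prime_orderOf_dvd_card' 2 h2
    have h1 : (τ : MulAut (B ⧸ R')) = 1 := hns.eq_one_of_sq hsq (hcomm τ τ.2) (by
      rw [← Subgroup.coe_mul, ← pow_two, ← hτ, pow_orderOf_eq_one]; rfl)
    rw [show τ = 1 from Subtype.ext h1, orderOf_one] at hτ
    exact absurd hτ (by norm_num)
  have h := congrArg Subtype.val (M.hom_N_eq_one hC hpN hodd f.rangeRestrict ⟨γ, hγ.1⟩)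
  have h2 := congrArg (fun φ : MulAut (B ⧸ R') => φ ((⟨x, hx⟩ : B) : B ⧸ R')) h
  simp only [MonoidHom.coe_rangeRestrict, OneMemClass.coe_one, MulAut.one_apply] at h2
  rw [show f ⟨γ, hγ.1⟩ = sectionAut hBN hRN ⟨γ, hγ.1⟩ from rfl, sectionAut_mk, QuotientGroup.eq,
    mem_subgroupOf] at h2
  have h3 : (γ * x * γ⁻¹)⁻¹ * x ∈ R := h2
  have h4 := M.conj_mem_of_normal hWR (hRB.trans hBU) (hBU hx) (inv_mem h3)
  rw [commutatorElement_def]
  simpa [mul_assoc] using h4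

/-- If the elements of odd order fix `W`, a class of `W` is fixed by `N`. -/
theorem false_of_odd_trivial (hC : fixedBy a ≤ D.N) (hWb : D.Wb ≠ ⊥)
    (h : ∀ γ ∈ D.Gam, Odd (orderOf γ) → ∀ x ∈ D.W, γ * x * γ⁻¹ = x) : False := by
  classical
  have : Fact (Nat.Prime 2) := ⟨Nat.prime_two⟩
  have hsp := M.special2_U D
  have hzw : ∀ n : D.N, D.Zw.map (M.conjN n).toMonoidHom = D.Zw := fun n => by
    refine Subgroup.eq_of_le_of_card_ge ?_ (Subgroup.card_map_of_injective (M.conjN n).injective).ge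
    rintro _ ⟨x, hx, rfl⟩
    show (n : G) * x * (n : G)⁻¹ ∈ center G
    exact (inferInstance : (center G).Normal).conj_mem _ hx _
  have hQn : D.Zw.Normal := (inferInstance : ((center G).subgroupOf D.W).Normal)
  let f : D.N →* MulAut (D.W ⧸ D.Zw) :=
    { toFun := fun n => QuotientGroup.congr D.Zw D.Zw (M.conjN n) (hzw n)
      map_one' := MulEquiv.ext fun q => by
        induction q using QuotientGroup.induction_on with
        | _ x => exact congrArg QuotientGroup.mk (by rw [map_one]; rfl)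
      map_mul' := fun n n' => MulEquiv.ext fun q => by
        induction q using QuotientGroup.induction_on with
        | _ x => exact congrArg QuotientGroup.mk (by rw [map_mul]; rfl) }
  have hP : IsPGroup 2 f.range := by
    rintro ⟨_, n, rfl⟩
    obtain ⟨e, o, hoo, he⟩ := Nat.exists_eq_two_pow_mul_odd (orderOf_pos n).ne'
    refine ⟨e, Subtype.ext ?_⟩
    rw [SubmonoidClass.coe_pow, OneMemClass.coe_one, ← map_pow]
    set n' := n ^ 2 ^ e with hn'
    have ho : Odd (orderOf (n' : G)) := by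
      rw [Subgroup.orderOf_coe]
      refine hoo.of_dvd_nat (orderOf_dvd_of_pow_eq_one ?_)
      rw [hn', ← pow_mul, ← he, pow_orderOf_eq_one]
    obtain ⟨u, hu, hfix⟩ := M.exists_conj_fixed_of_odd n'.2 ho
    refine MulEquiv.ext fun q => ?_
    induction q using QuotientGroup.induction_on with
    | _ x =>
      refine congrArg QuotientGroup.mk (Subtype.ext ?_)
      show (n' : G) * x * (n' : G)⁻¹ = x
      have ho' : Odd (orderOf (u * (n' : G) * u⁻¹)) := by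
        have e1 := orderOf_injective (MulAut.conj u).toMonoidHom (MulEquiv.injective _) (n' : G)
        simp only [MulEquiv.coe_toMonoidHom, MulAut.conj_apply] at e1
        rwa [e1]
      have h1 := h _ hfix ho' x x.2
      have hux : ∀ y ∈ D.W, u * y * u⁻¹ = y := fun y hy => by
        rw [← hsp.fix_central y hy u hu, mul_inv_cancel_right]
      have hnx := M.conj_mem_W_of_N n'.2 x.2
      calc (n' : G) * x * (n' : G)⁻¹ = u * ((n' : G) * x * (n' : G)⁻¹) * u⁻¹ := (hux _ hnx).symm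
        _ = u * (n' : G) * u⁻¹ * (u * x * u⁻¹) * (u * (n' : G) * u⁻¹)⁻¹ := by group
        _ = x := by rw [hux x x.2, h1]
  have hdvd : 2 ∣ Nat.card (D.W ⧸ D.Zw) := by
    rw [← Subgroup.index_eq_card, ← M.card_Wb]
    obtain ⟨⟨y, hy⟩, hy1⟩ := D.Wb.ne_bot_iff_exists_ne_one.mp hWb
    have h2 : orderOf (⟨y, hy⟩ : D.Wb) = 2 := orderOf_eq_prime (by
      rw [pow_two]; exact Subtype.ext ((M.frame D).W_sq y hy)) hy1
    exact h2 ▸ orderOf_dvd_natCard _
  let _ : MulAction f.range (D.W ⧸ D.Zw) := MulAction.compHom _ f.range.subtype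
  obtain ⟨q, hq, hq1⟩ := hP.exists_fixed_point_of_prime_dvd_card_of_fixed_point (D.W ⧸ D.Zw) hdvd
    (a := (1 : D.W ⧸ D.Zw)) (fun g => map_one (g : MulAut (D.W ⧸ D.Zw)))
  obtain ⟨x, rfl⟩ := QuotientGroup.mk_surjective q
  obtain ⟨j, hj⟩ := M.index_N hC
  have hidx : D.Nb.index = p ^ j := by
    rw [← hj]
    exact index_map_eq D.N (QuotientGroup.mk'_surjective _) (by rw [QuotientGroup.ker_mk']; exact M.center_le_N D)
  have hx1 : ((x : G) : G ⧸ center G) ≠ 1 := fun e => hq1 ((QuotientGroup.eq_one_iff x).mpr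
    ((QuotientGroup.eq_one_iff (x : G)).mp e)).symm
  refine (M.frame D).false_of_centralized hidx ⟨x, x.2, rfl⟩ hx1 ?_
  rintro _ ⟨n, hn, rfl⟩
  have hfix := hq ⟨f ⟨n, hn⟩, ⟨n, hn⟩, rfl⟩
  have h1 : ((n * x * n⁻¹ : G) : G ⧸ center G) = ((x : G) : G ⧸ center G) := QuotientGroup.eq.mpr
    (mem_subgroupOf.mp (QuotientGroup.eq.mp hfix))
  rw [mem_centralizer_singleton_iff]
  rw [QuotientGroup.mk_mul, QuotientGroup.mk_mul, QuotientGroup.mk_inv] at h1
  exact mul_inv_eq_iff_eq_mul.mp h1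

/-- A translation squares into the centraliser of `U`. -/
theorem sq_centralizes_of_trans (hS : Shape ρ D r m) {γ : G} (hγG : γ ∈ D.Gam)
    (hγt : ∀ w ∈ D.W, ⁅γ, w⁆ ∈ center G) : γ * γ ∈ centralizer (D.U : Set G) := by
  refine M.centralizes_of_act hS ⟨γ * γ, mul_mem hγG hγG⟩ fun χ _ => MonoidHom.ext fun x => ?_
  rw [UData.act_apply]
  refine congrArg χ (Subtype.ext ?_)
  rw [UData.conjW_apply]
  show (γ * γ)⁻¹ * x * (γ * γ)⁻¹⁻¹ = x
  set c := ⁅γ, (x : G)⁆ with hc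
  have hcW : c ∈ D.W := mul_mem (D.conj_mem_W hγG x.2) (inv_mem x.2)
  have hcc : c ∈ center G := hγt x x.2
  have h1 : γ * γ * x * (γ * γ)⁻¹ = x := by
    calc γ * γ * x * (γ * γ)⁻¹ = γ * (c * x) * γ⁻¹ := by rw [hc, commutatorElement_def]; group
      _ = c * (γ * x * γ⁻¹) := by rw [← mul_assoc γ c, mem_center_iff.mp hcc γ]; group
      _ = c * c * x := by rw [hc, commutatorElement_def]; group
      _ = x := by rw [hS.sp.fix_sq c hcW, one_mul]
  conv_lhs => rw [← h1]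
  group

theorem exists_noncentral (hWb : D.Wb ≠ ⊥) : ∃ w ∈ D.W, w ∉ center G := by
  by_contra hall
  push Not at hall
  refine hWb ((Subgroup.eq_bot_iff_forall _).mpr ?_)
  rintro _ ⟨x, hx, rfl⟩
  exact (QuotientGroup.eq_one_iff x).mpr (hall x hx)

/-- One constituent with all fixed points in `N` is impossible. -/
theorem false_le_one (hS : Shape ρ D r m) (hC : fixedBy a ≤ D.N) (hWb : D.Wb ≠ ⊥)
    (hU : Nat.card D.U = 2 ^ (2 * m) * Nat.card D.W) : False := by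
  have hsp := hS.sp
  have hnt : D.NoTrans := fun γ hγ htr =>
    M.centralizes_of_sq hS hU (g := ⟨γ, hγ⟩) (M.sq_centralizes_of_trans hS hγ htr)
  have hpure : D.AllPure := by
    intro g w _ hw _ hN
    refine ⟨hN, fun y hy => ?_⟩
    obtain ⟨c, hc, -, u, hu, he⟩ := M.exists_pure hS hU (j := 1) hN (by
      rw [pow_one, pow_two, show g * w * g⁻¹ * (g * w * g⁻¹) = g * (w * w) * g⁻¹ by group,
        hsp.fix_sq w hw, mul_one, mul_inv_cancel]
      exact one_mem _)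
    have hcW : ∀ z ∈ D.U, c * z * c⁻¹ = z := fun z hz => by
      rw [← mem_centralizer_iff.mp hc z hz, mul_inv_cancel_right]
    rw [he, show ⁅c * u, y⁆ = c * ⁅u, y⁆ * c⁻¹ * ⁅c, y⁆ by simp [commutatorElement_def, mul_assoc],
      hcW _ (hsp.comm_mem u hu y hy).1, commutatorElement_def c y, hcW y hy, mul_inv_cancel, mul_one]
    exact hsp.comm_mem u hu y hy
  obtain ⟨w, hw, hwc⟩ := M.exists_noncentral hWb
  exact M.false_of_iso hC hw hwc (M.allIso_of_pure hS hpure hnt w hw hwc)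

/-- Two constituents with all fixed points in `N` are impossible. -/
theorem false_le_two (hS : Shape ρ D r m) (hC : fixedBy a ≤ D.N) (hWb : D.Wb ≠ ⊥)
    (hU : Nat.card D.U = 2 ^ (2 * (2 * m)) * Nat.card D.W) : False := by
  classical
  have : Fact (Nat.Prime 2) := ⟨Nat.prime_two⟩
  have hsp := hS.sp
  have hcard : ∀ X : Subgroup G, Inv a X → D.W ≤ X → X ≤ D.U → X ≠ D.W → X ≠ D.U →
      Nat.card X = 2 ^ (2 * m) * Nat.card D.W := by
    intro X hX hWX hXU h1 h2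
    obtain ⟨i, hi⟩ := M.exists_card hS.pos hS.eq hX hWX hXU
    have hi0 : i ≠ 0 := fun h => h1 (Subgroup.eq_of_le_of_card_ge hWX (by rw [hi, h]; simp)).symm
    have hi2 : i < 2 := by
      by_contra hh
      refine h2 (Subgroup.eq_of_le_of_card_ge hXU ?_)
      rw [hi, hU]
      exact Nat.mul_le_mul_right _ (Nat.pow_le_pow_right two_pos (by
        calc 2 * (2 * m) = 2 * m * 2 := by ring
          _ ≤ 2 * m * i := Nat.mul_le_mul_left _ (by omega)))
    rw [hi, show i = 1 by omega, mul_one]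
  have hpure : D.AllPure := by
    intro g w hg hw hwc hN
    refine ⟨hN, fun y hy => ?_⟩
    obtain ⟨γ, hγ, u, hu, he⟩ := M.exists_fixed_mul D hN
    have hγG : γ ∈ D.Gam := hγ
    suffices hγU : ∀ x ∈ D.U, ⁅γ, x⁆ ∈ D.W by
      rw [he, show ⁅γ * u, y⁆ = γ * ⁅u, y⁆ * γ⁻¹ * ⁅γ, y⁆ by simp [commutatorElement_def, mul_assoc]]
      exact mul_mem (D.conj_mem_W hγG (hsp.comm_mem u hu y hy)) (hγU y hy)
    by_contra hnp
    push Not at hnp
    -- `γ` is an involution on `U ⧸ W` and its fixed points are its commutators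
    have hvv : γ * u * (γ * u) = 1 := by
      rw [← he, show g * w * g⁻¹ * (g * w * g⁻¹) = g * (w * w) * g⁻¹ by group, hsp.fix_sq w hw]; group
    have hconjU : γ⁻¹ * u * γ ∈ D.U := by simpa using D.conj_mem_U (inv_mem hγ.1) hu
    have hγγ : γ * γ ∈ D.W := by
      have e : γ * γ = (γ⁻¹ * u * γ * u)⁻¹ := by
        refine eq_inv_of_mul_eq_one_left ?_
        calc γ * γ * (γ⁻¹ * u * γ * u) = γ * u * (γ * u) := by group
          _ = 1 := hvv
      refine ⟨?_, (fixedBy a).mul_mem hγ.2 hγ.2⟩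
      show γ * γ ∈ D.U
      rw [e]
      exact inv_mem (mul_mem hconjU hu)
    have hcU : ∀ x ∈ D.U, ⁅γ, x⁆ ∈ D.U := fun x hx => mul_mem (D.conj_mem_U hγ.1 hx) (inv_mem hx)
    let Z : Subgroup G :=
      { carrier := {x | x ∈ D.U ∧ ⁅γ, x⁆ ∈ D.W}
        one_mem' := ⟨one_mem _, by rw [commutatorElement_one_right]; exact one_mem _⟩
        mul_mem' := fun {x y} hx hy => ⟨mul_mem hx.1 hy.1, by
          rw [comm_mul_right hsp hx.1 hy.2]; exact mul_mem hx.2 hy.2⟩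
        inv_mem' := fun {x} hx => ⟨inv_mem hx.1, by
          rw [show ⁅γ, x⁻¹⁆ = x⁻¹ * ⁅γ, x⁆⁻¹ * x by simp [commutatorElement_def, mul_assoc],
            ← hsp.fix_central _ (inv_mem hx.2) _ (inv_mem hx.1), inv_mul_cancel_right]
          exact inv_mem hx.2⟩ }
    have hZ : ∀ x, x ∈ Z ↔ x ∈ D.U ∧ ⁅γ, x⁆ ∈ D.W := fun x => Iff.rfl
    let R' := D.W.subgroupOf D.U
    have hRn : R'.Normal := ⟨fun y hy u => M.conj_mem_of_normal le_rfl D.W_le_U u.2 hy⟩
    let φ : D.U →* D.U ⧸ R' := MonoidHom.mk' (fun x => ((⟨⁅γ, (x : G)⁆, hcU x x.2⟩ : D.U) : D.U ⧸ R'))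
      fun x y => by
        rw [← QuotientGroup.mk_mul, QuotientGroup.eq]
        show (⁅γ, (x : G) * y⁆)⁻¹ * (⁅γ, (x : G)⁆ * ⁅γ, (y : G)⁆) ∈ D.W
        rw [show ⁅γ, (x : G) * y⁆ = ⁅γ, (x : G)⁆ * ⁅(x : G), ⁅γ, (y : G)⁆⁆ * ⁅γ, (y : G)⁆ by
            simp [commutatorElement_def, mul_assoc],
          show (⁅γ, (x : G)⁆ * ⁅(x : G), ⁅γ, (y : G)⁆⁆ * ⁅γ, (y : G)⁆)⁻¹ * (⁅γ, (x : G)⁆ * ⁅γ, (y : G)⁆) =
            ⁅γ, (y : G)⁆⁻¹ * ⁅(x : G), ⁅γ, (y : G)⁆⁆⁻¹ * ⁅γ, (y : G)⁆ by group]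
        have h := inv_mem (hsp.comm_mem x x.2 _ (hcU y y.2))
        rwa [← hsp.fix_central _ h _ (inv_mem (hcU y y.2)), inv_mul_cancel_right]
    set X := (φ.range.comap (QuotientGroup.mk' R')).map D.U.subtype with hXdef
    have hXU : X ≤ D.U := map_subtype_le _
    have hXa : Inv a X := by
      rintro _ ⟨y, ⟨x, hx⟩, rfl⟩
      refine ⟨subAut D.U D.inv_U y, ⟨subAut D.U D.inv_U x, ?_⟩, rfl⟩
      have h1 := mem_subgroupOf.mp (QuotientGroup.eq.mp hx)
      refine QuotientGroup.eq.mpr (mem_subgroupOf.mpr ?_)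
      show (⁅γ, a (x : G)⁆)⁻¹ * a (y : G) ∈ D.W
      rw [show ⁅γ, a (x : G)⁆ = a ⁅γ, (x : G)⁆ by rw [map_commutatorElement, mem_fixedBy.mp hγ.2],
        ← map_inv, ← map_mul]
      exact D.inv_W _ h1
    have hWX : D.W ≤ X := fun x hx => ⟨⟨x, hx.1⟩, ⟨1, by
      rw [map_one]; exact ((QuotientGroup.eq_one_iff _).mpr (mem_subgroupOf.mpr hx)).symm⟩, rfl⟩
    have hmemX : ∀ {x : G} (hx : x ∈ D.U), ⁅γ, x⁆ ∈ X := fun {x} hx =>
      ⟨⟨_, hcU x hx⟩, ⟨⟨x, hx⟩, rfl⟩, rfl⟩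
    have hXle : X ≤ Z := by
      rintro _ ⟨y, ⟨x, hx⟩, rfl⟩
      refine (hZ _).mpr ⟨y.2, ?_⟩
      have h1 := mem_subgroupOf.mp (QuotientGroup.eq.mp hx)
      have h1' : ⁅γ, (x : G)⁆⁻¹ * (y : G) ∈ D.W := h1
      set c := ⁅γ, (x : G)⁆ with hc
      have h2 : ⁅γ, c⁆ ∈ D.W := by
        have e : ⁅γ, c⁆ * (c * c) = γ * γ * x * (γ * γ)⁻¹ * (x : G)⁻¹ := by
          rw [hc]; simp [commutatorElement_def, mul_assoc]
        have h3 : ⁅γ, c⁆ = γ * γ * x * (γ * γ)⁻¹ * (x : G)⁻¹ * (c * c)⁻¹ := eq_mul_inv_of_mul_eq e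
        rw [h3, hsp.fix_central _ hγγ x x.2, mul_inv_cancel_right, mul_inv_cancel]
        exact mul_mem (one_mem _) (inv_mem (hsp.sq_mem c (hcU x x.2)))
      show ⁅γ, (y : G)⁆ ∈ D.W
      rw [show (y : G) = c * (c⁻¹ * y) from (mul_inv_cancel_left _ _).symm]
      have h4 : ⁅γ, c⁻¹ * (y : G)⁆ ∈ D.W := by
        rw [commutatorElement_def]; exact mul_mem (D.conj_mem_W hγG h1') (inv_mem h1')
      rw [comm_mul_right hsp (hcU x x.2) h4]
      exact mul_mem h2 h4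
    have hXne : X ≠ D.U := fun e => by
      obtain ⟨x, hx, hxW⟩ := hnp
      exact hxW ((hZ x).mp (hXle (e.ge hx))).2
    have hXW : X ≠ D.W := fun e => by
      obtain ⟨x, hx, hxW⟩ := hnp
      exact hxW (e.le (hmemX hx))
    have hZa : Inv a Z := fun x hx => by
      obtain ⟨h1, h2⟩ := (hZ x).mp hx
      refine (hZ _).mpr ⟨D.inv_U x h1, ?_⟩
      rw [show ⁅γ, a x⁆ = a ⁅γ, x⁆ by rw [map_commutatorElement, mem_fixedBy.mp hγ.2]]
      exact D.inv_W _ h2
    have hZU : Z ≤ D.U := fun x hx => ((hZ x).mp hx).1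
    have hZne : Z ≠ D.U := fun e => by
      obtain ⟨x, hx, hxW⟩ := hnp
      exact hxW ((hZ x).mp (e.ge hx)).2
    have hZW : Z ≠ D.W := fun e => hXW (le_antisymm (hXle.trans e.le) hWX)
    have heq : X = Z := Subgroup.eq_of_le_of_card_ge hXle (by
      rw [hcard X hXa hWX hXU hXW hXne, hcard Z hZa (hWX.trans hXle) hZU hZW hZne])
    have huZ : u ∈ Z := by
      refine (hZ u).mpr ⟨hu, ?_⟩
      have h1 : γ⁻¹ * u * γ = (γ * γ)⁻¹ * u⁻¹ := by
        refine eq_mul_inv_of_mul_eq (eq_inv_of_mul_eq_one_right ?_)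
        calc γ * γ * (γ⁻¹ * u * γ * u) = γ * u * (γ * u) := by group
          _ = 1 := hvv
      have h2 : γ * u * γ⁻¹ = (γ * γ) * ((γ * γ)⁻¹ * u⁻¹) * (γ * γ)⁻¹ := by
        rw [← h1]; group
      rw [commutatorElement_def, h2, show γ * γ * ((γ * γ)⁻¹ * u⁻¹) * (γ * γ)⁻¹ * u⁻¹ = u⁻¹ * ((γ * γ)⁻¹ * u⁻¹) by group,
        hsp.fix_central _ (inv_mem hγγ) _ (inv_mem hu), ← mul_assoc]
      exact mul_mem (by rw [← mul_inv_rev]; exact inv_mem (hsp.sq_mem u hu)) (inv_mem hγγ)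
    obtain ⟨y', ⟨x, hx⟩, he'⟩ := heq.ge huZ
    refine hg (M.mem_N_of_free hw hwc hγG hu he x.2 ?_)
    have h1 : ⁅γ, (x : G)⁆⁻¹ * (y' : G) ∈ D.W := mem_subgroupOf.mp (QuotientGroup.eq.mp hx)
    have h2 := inv_mem h1
    rw [mul_inv_rev, inv_inv] at h2
    have he'' : (y' : G) = u := he'
    rwa [← he'']
  obtain ⟨w₀, hw₀, hw₀c⟩ := M.exists_noncentral hWb
  by_cases hnt : D.NoTrans
  · exact M.false_of_iso hC hw₀ hw₀c (M.allIso_of_pure hS hpure hnt w₀ hw₀ hw₀c)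
  obtain ⟨γ₀, hγ₀, htr₀, hne⟩ : ∃ γ ∈ D.Gam, (∀ w ∈ D.W, ⁅γ, w⁆ ∈ center G) ∧
      γ ∉ centralizer (D.U : Set G) := by
    simpa [UData.NoTrans] using hnt
  let Tr : Subgroup G :=
    { carrier := {γ | γ ∈ D.Gam ∧ ∀ w ∈ D.W, ⁅γ, w⁆ ∈ center G}
      one_mem' := ⟨one_mem _, fun w _ => by rw [commutatorElement_one_left]; exact one_mem _⟩
      mul_mem' := fun {x y} hx hy => ⟨mul_mem hx.1 hy.1, fun w hw => by
        rw [show ⁅x * y, w⁆ = x * ⁅y, w⁆ * x⁻¹ * ⁅x, w⁆ by simp [commutatorElement_def, mul_assoc]]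
        exact mul_mem ((inferInstance : (center G).Normal).conj_mem _ (hy.2 w hw) x) (hx.2 w hw)⟩
      inv_mem' := fun {x} hx => ⟨inv_mem hx.1, fun w hw => by
        rw [show ⁅x⁻¹, w⁆ = x⁻¹ * ⁅x, w⁆⁻¹ * x⁻¹⁻¹ by simp [commutatorElement_def, mul_assoc]]
        exact (inferInstance : (center G).Normal).conj_mem _ (inv_mem (hx.2 w hw)) _⟩ }
  have hTr : ∀ x, x ∈ Tr ↔ x ∈ D.Gam ∧ ∀ w ∈ D.W, ⁅x, w⁆ ∈ center G := fun x => Iff.rfl
  have hsqC : ∀ γ ∈ Tr, γ * γ ∈ centralizer (D.U : Set G) := fun γ hγ =>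
    M.sq_centralizes_of_trans hS ((hTr γ).mp hγ).1 ((hTr γ).mp hγ).2
  let X : Subgroup G :=
    { carrier := {x | x ∈ D.U ∧ ∀ γ ∈ Tr, ⁅γ, x⁆ ∈ D.W}
      one_mem' := ⟨one_mem _, fun γ _ => by rw [commutatorElement_one_right]; exact one_mem _⟩
      mul_mem' := fun {x y} hx hy => ⟨mul_mem hx.1 hy.1, fun γ hγ => by
        rw [comm_mul_right hsp hx.1 (hy.2 γ hγ)]
        exact mul_mem (hx.2 γ hγ) (hy.2 γ hγ)⟩
      inv_mem' := fun {x} hx => ⟨inv_mem hx.1, fun γ hγ => by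
        rw [show ⁅γ, x⁻¹⁆ = x⁻¹ * ⁅γ, x⁆⁻¹ * x by simp [commutatorElement_def, mul_assoc],
          ← hsp.fix_central _ (inv_mem (hx.2 γ hγ)) _ (inv_mem hx.1), inv_mul_cancel_right]
        exact inv_mem (hx.2 γ hγ)⟩ }
  have hX : ∀ x, x ∈ X ↔ x ∈ D.U ∧ ∀ γ ∈ Tr, ⁅γ, x⁆ ∈ D.W := fun x => Iff.rfl
  have hXa : Inv a X := fun x hx => by
    obtain ⟨h1, h2⟩ := (hX x).mp hx
    refine (hX _).mpr ⟨D.inv_U x h1, fun γ hγ => ?_⟩
    have hf : a γ = γ := mem_fixedBy.mp ((hTr γ).mp hγ).1.2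
    rw [show ⁅γ, a x⁆ = a ⁅γ, x⁆ by rw [map_commutatorElement, hf]]
    exact D.inv_W _ (h2 γ hγ)
  have hWX : D.W ≤ X := fun x hx => (hX x).mpr ⟨hx.1, fun γ hγ => by
    rw [commutatorElement_def]
    exact mul_mem (D.conj_mem_W ((hTr γ).mp hγ).1 hx) (inv_mem hx)⟩
  have hXne : X ≠ D.U := fun e => hne (M.centralizes_of_trivial hS ⟨γ₀, hγ₀⟩ fun y hy =>
    ((hX y).mp (e.ge hy)).2 γ₀ ((hTr γ₀).mpr ⟨hγ₀, htr₀⟩))
  have hXW : X ≠ D.W := by
    intro e
    let R' := D.W.subgroupOf D.U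
    have hRn : R'.Normal := ⟨fun y hy u => M.conj_mem_of_normal le_rfl D.W_le_U u.2 hy⟩
    let f : Tr →* MulAut (D.U ⧸ R') := sectionAut (H := Tr)
      (fun n hn x hx => D.conj_mem_U ((hTr n).mp hn).1.1 hx)
      (fun n hn x hx => D.conj_mem_W ((hTr n).mp hn).1 hx)
    have hP : IsPGroup 2 f.range := by
      rintro ⟨_, n, rfl⟩
      refine ⟨1, Subtype.ext ?_⟩
      rw [SubmonoidClass.coe_pow, OneMemClass.coe_one, pow_one, pow_two, ← map_mul]
      refine MulEquiv.ext fun q => ?_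
      induction q using QuotientGroup.induction_on with
      | _ x =>
        refine congrArg QuotientGroup.mk (Subtype.ext ?_)
        show (n : G) * n * x * ((n : G) * n)⁻¹ = x
        rw [← mem_centralizer_iff.mp (hsqC n n.2) x x.2, mul_inv_cancel_right]
    have hdvd : 2 ∣ Nat.card (D.U ⧸ R') := by
      have h1 := Subgroup.card_mul_index R'
      rw [Nat.card_congr (Subgroup.subgroupOfEquivOfLe D.W_le_U).toEquiv, hU,
        mul_comm (2 ^ _)] at h1
      rw [← Subgroup.index_eq_card, Nat.eq_of_mul_eq_mul_left Nat.card_pos h1]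
      exact dvd_pow_self 2 (by have := hS.pos; omega)
    let _ : MulAction f.range (D.U ⧸ R') := MulAction.compHom _ f.range.subtype
    obtain ⟨q, hq, hq1⟩ := hP.exists_fixed_point_of_prime_dvd_card_of_fixed_point (D.U ⧸ R') hdvd
      (a := (1 : D.U ⧸ R')) (fun g => map_one (g : MulAut (D.U ⧸ R')))
    obtain ⟨x, rfl⟩ := QuotientGroup.mk_surjective q
    refine hq1 ((QuotientGroup.eq_one_iff (N := R') x).mpr (mem_subgroupOf.mpr (e.le ?_))).symm
    refine (hX _).mpr ⟨x.2, fun γ hγ => ?_⟩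
    have h1 : ((γ * x * γ⁻¹)⁻¹ * x : G) ∈ D.W :=
      mem_subgroupOf.mp (QuotientGroup.eq.mp (hq ⟨f ⟨γ, hγ⟩, ⟨γ, hγ⟩, rfl⟩))
    have h2 := M.conj_mem_of_normal le_rfl D.W_le_U x.2 (inv_mem h1)
    rw [commutatorElement_def]
    simpa [mul_assoc] using h2
  have hXU : X ≤ D.U := fun x hx => ((hX x).mp hx).1
  have hXG : ∀ c ∈ D.Gam, ∀ x ∈ X, c * x * c⁻¹ ∈ X := by
    intro c hc x hx
    obtain ⟨h1, h2⟩ := (hX x).mp hx
    refine (hX _).mpr ⟨D.conj_mem_U hc.1 h1, fun γ hγ => ?_⟩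
    obtain ⟨hγG, hγt⟩ := (hTr γ).mp hγ
    have hγ' : c⁻¹ * γ * c ∈ Tr := (hTr _).mpr ⟨mul_mem (mul_mem (inv_mem hc) hγG) hc, fun w hw => by
      have hw' := hγt _ (D.conj_mem_W hc hw)
      rw [show ⁅c⁻¹ * γ * c, w⁆ = c⁻¹ * ⁅γ, c * w * c⁻¹⁆ * c⁻¹⁻¹ by simp [commutatorElement_def, mul_assoc]]
      exact (inferInstance : (center G).Normal).conj_mem _ hw' _⟩
    rw [show ⁅γ, c * x * c⁻¹⁆ = c * ⁅c⁻¹ * γ * c, x⁆ * c⁻¹ by simp [commutatorElement_def, mul_assoc]]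
    exact D.conj_mem_W hc (h2 _ hγ')
  have hXc := hcard X hXa hWX hXU hXW hXne
  have hUX : Nat.card D.U = 2 ^ (2 * m) * Nat.card X := by
    rw [hU, hXc, two_mul (2 * m), pow_add, mul_assoc]
  have hirr : ∀ Y : Subgroup G, Inv a Y → D.W ≤ Y → Y ≤ X → Y = D.W ∨ Y = X := fun Y hY h1 h2 =>
    M.eq_or_eq_of_card hS.pos hS.eq D.inv_W le_rfl hXU hXc hY h1 h2
  have hγU : ∀ y ∈ D.U, ⁅γ₀, y⁆ ∈ D.U := fun y hy => mul_mem (D.conj_mem_U hγ₀.1 hy) (inv_mem hy)
  -- the kernel of the translation on `U ⧸ W` is the line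
  have hker : ∀ y ∈ D.U, ⁅γ₀, y⁆ ∈ D.W → y ∈ X := by
    let Y : Subgroup G :=
      { carrier := {x | x ∈ D.U ∧ ⁅γ₀, x⁆ ∈ D.W}
        one_mem' := ⟨one_mem _, by rw [commutatorElement_one_right]; exact one_mem _⟩
        mul_mem' := fun {x y} hx hy => ⟨mul_mem hx.1 hy.1, by
          rw [comm_mul_right hsp hx.1 hy.2]; exact mul_mem hx.2 hy.2⟩
        inv_mem' := fun {x} hx => ⟨inv_mem hx.1, by
          rw [show ⁅γ₀, x⁻¹⁆ = x⁻¹ * ⁅γ₀, x⁆⁻¹ * x by simp [commutatorElement_def, mul_assoc],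
            ← hsp.fix_central _ (inv_mem hx.2) _ (inv_mem hx.1), inv_mul_cancel_right]
          exact inv_mem hx.2⟩ }
    have hY : ∀ x, x ∈ Y ↔ x ∈ D.U ∧ ⁅γ₀, x⁆ ∈ D.W := fun x => Iff.rfl
    have hXY : X ≤ Y := fun x hx => (hY x).mpr ⟨hXU hx, ((hX x).mp hx).2 γ₀ ((hTr γ₀).mpr ⟨hγ₀, htr₀⟩)⟩
    have hYa : Inv a Y := fun x hx => by
      obtain ⟨h1, h2⟩ := (hY x).mp hx
      refine (hY _).mpr ⟨D.inv_U x h1, ?_⟩
      rw [show ⁅γ₀, a x⁆ = a ⁅γ₀, x⁆ by rw [map_commutatorElement, mem_fixedBy.mp hγ₀.2]]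
      exact D.inv_W _ h2
    have hYU : Y ≤ D.U := fun x hx => ((hY x).mp hx).1
    have hYne : Y ≠ D.U := fun e => hne (M.centralizes_of_trivial hS ⟨γ₀, hγ₀⟩ fun y hy =>
      ((hY y).mp (e.ge hy)).2)
    have hYW : Y ≠ D.W := fun e => hXW (le_antisymm (hXY.trans e.le) hWX)
    have hXY' : X = Y := Subgroup.eq_of_le_of_card_ge hXY (by
      rw [hXc, hcard Y hYa (hWX.trans hXY) hYU hYW hYne])
    exact fun y hy h => hXY'.ge ((hY y).mpr ⟨hy, h⟩)
  have him : ∀ y ∈ D.U, ⁅γ₀, y⁆ ∈ X := by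
    intro y hy
    refine hker _ (hγU y hy) ?_
    set c := ⁅γ₀, y⁆ with hc
    have hsq := hsqC γ₀ ((hTr γ₀).mpr ⟨hγ₀, htr₀⟩)
    have e : ⁅γ₀, c⁆ * (c * c) = γ₀ * γ₀ * y * (γ₀ * γ₀)⁻¹ * y⁻¹ := by
      rw [hc]; simp [commutatorElement_def, mul_assoc]
    rw [← mem_centralizer_iff.mp hsq y hy, mul_inv_cancel_right, mul_inv_cancel] at e
    rw [eq_inv_of_mul_eq_one_left e]
    exact inv_mem (hsp.sq_mem c (hγU y hy))
  -- commutators inside the line are central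
  have hXX : ∀ x ∈ X, ∀ y ∈ X, ⁅x, y⁆ ∈ center G := by
    let C₂ : Subgroup G :=
      { carrier := {y | y ∈ X ∧ ∀ x ∈ X, ⁅x, y⁆ ∈ center G}
        one_mem' := ⟨one_mem _, fun x _ => by rw [commutatorElement_one_right]; exact one_mem _⟩
        mul_mem' := fun {y z} hy hz => ⟨mul_mem hy.1 hz.1, fun x hx => by
          rw [show ⁅x, y * z⁆ = ⁅x, y⁆ * (y * ⁅x, z⁆ * y⁻¹) by simp [commutatorElement_def, mul_assoc]]
          exact mul_mem (hy.2 x hx) ((inferInstance : (center G).Normal).conj_mem _ (hz.2 x hx) y)⟩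
        inv_mem' := fun {y} hy => ⟨inv_mem hy.1, fun x hx => by
          rw [show ⁅x, y⁻¹⁆ = y⁻¹ * ⁅x, y⁆⁻¹ * y⁻¹⁻¹ by simp [commutatorElement_def, mul_assoc]]
          exact (inferInstance : (center G).Normal).conj_mem _ (inv_mem (hy.2 x hx)) y⁻¹⟩ }
    have hC2 : ∀ y, y ∈ C₂ ↔ y ∈ X ∧ ∀ x ∈ X, ⁅x, y⁆ ∈ center G := fun y => Iff.rfl
    have hmem : ∀ y ∈ D.U, ⁅γ₀, y⁆ ∈ C₂ := by
      intro y hy
      refine (hC2 _).mpr ⟨him y hy, fun x hx => ?_⟩
      set d := ⁅γ₀, y⁆ with hd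
      obtain ⟨w', hw', hwx⟩ : ∃ w' ∈ D.W, γ₀ * x * γ₀⁻¹ = w' * x :=
        ⟨⁅γ₀, x⁆, ((hX x).mp hx).2 γ₀ ((hTr γ₀).mpr ⟨hγ₀, htr₀⟩), by rw [commutatorElement_def]; group⟩
      have hdy : γ₀ * y * γ₀⁻¹ = d * y := by rw [hd, commutatorElement_def]; group
      set c₁ := ⁅x, y⁆ with hc1
      have hc1W : c₁ ∈ D.W := hsp.comm_mem x (hXU hx) y hy
      have hz := htr₀ c₁ hc1W
      have hdU := hγU y hy
      have h1 : γ₀ * c₁ * γ₀⁻¹ = ⁅x, d⁆ * c₁ := by
        calc γ₀ * c₁ * γ₀⁻¹ = ⁅γ₀ * x * γ₀⁻¹, γ₀ * y * γ₀⁻¹⁆ := by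
              rw [hc1, commutatorElement_def, commutatorElement_def]; group
          _ = ⁅w' * x, d * y⁆ := by rw [hwx, hdy]
          _ = w' * ⁅x, d * y⁆ * w'⁻¹ * ⁅w', d * y⁆ := by simp [commutatorElement_def, mul_assoc]
          _ = ⁅x, d * y⁆ := by
              have hxd := hsp.comm_mem x (hXU hx) (d * y) (mul_mem hdU hy)
              rw [hsp.fix_central w' hw' _ hxd.1, mul_inv_cancel_right,
                commutatorElement_eq_one_iff_mul_comm.mpr (hsp.fix_central w' hw' _ (mul_mem hdU hy)), mul_one]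
          _ = ⁅x, d⁆ * (d * c₁ * d⁻¹) := by rw [hc1]; simp [commutatorElement_def, mul_assoc]
          _ = ⁅x, d⁆ * c₁ := by rw [← hsp.fix_central c₁ hc1W d hdU, mul_inv_cancel_right]
      rw [eq_mul_inv_of_mul_eq h1.symm]
      exact hz
    have hC2a : Inv a C₂ := fun y hy => by
      obtain ⟨h1, h2⟩ := (hC2 y).mp hy
      refine (hC2 _).mpr ⟨hXa y h1, fun x hx => ?_⟩
      obtain ⟨x, rfl⟩ := a.surjective x
      rw [← map_commutatorElement]
      have h3 := h2 x (hXa.mem_iff.mp hx)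
      rwa [mem_fixedBy.mp (M.center_le_fixed h3)]
    have hWC : D.W ≤ C₂ := fun x hx => (hC2 x).mpr ⟨hWX hx, fun y hy => by
      rw [commutatorElement_eq_one_iff_mul_comm.mpr (hsp.fix_central x hx y (hXU hy)).symm]
      exact one_mem _⟩
    rcases hirr C₂ hC2a hWC (fun y hy => ((hC2 y).mp hy).1) with h | h
    · exact absurd (M.centralizes_of_trivial hS ⟨γ₀, hγ₀⟩ fun y hy => h.le (hmem y hy)) hne
    · exact fun x hx y hy => ((hC2 y).mp (h.ge hy)).2 x hx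
  -- the fixed part acts trivially on the line modulo `W`
  have hlow0 : ∀ c ∈ D.Gam, ∀ x ∈ X, ⁅c, x⁆ ∈ D.W := by
    obtain ⟨χ, hχ, hXχ⟩ := M.exists_occ_not_le (D := D) hXU fun h => hXW (le_antisymm h hWX)
    set R := rad hS.sp χ with hR
    have hsup : X ⊔ R = D.U := by
      rcases M.eq_or_eq hS.pos hS.eq hS.sp (hS.idx χ hχ) (hXa.sup (inv_rad hS.sp χ)) le_sup_right
        (sup_le hXU (rad_le hS.sp χ)) with h | h
      · exact absurd (le_sup_left.trans h.le) hXχ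
      · exact h
    have hinf : X ⊓ R = D.W := by
      rcases hirr _ (hXa.inf (inv_rad hS.sp χ)) (le_inf hWX (W_le_rad hS.sp χ)) inf_le_left with h | h
      · exact h
      · exact absurd (inf_eq_left.mp h) hXχ
    intro c hc x hx
    refine M.commutator_mem_of_isometry hS.eq hS.sp χ hXa le_rfl hWX hXU (fun y hy => ⟨fun h => ?_, fun h z _ => ?_⟩)
      hirr ⟨c, hc⟩ (fun z hz => hXG c hc z hz) (fun y z hy hz => ?_) hx
    · refine hinf.le ⟨hy, mem_rad.mpr ⟨y.2, fun z => ?_⟩⟩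
      let K := (Cfsg.Agent.H8.Shult.beta hS.sp χ y).ker
      have hK : D.U ≤ K.map D.U.subtype := by
        refine hsup.ge.trans ?_
        refine sup_le (fun z hz => ⟨⟨z, hXU hz⟩, h ⟨z, hXU hz⟩ hz, rfl⟩) fun z hz => ?_
        obtain ⟨hzU, hz'⟩ := mem_rad.mp hz
        refine ⟨⟨z, hzU⟩, ?_, rfl⟩
        show Cfsg.Agent.H8.Shult.beta hS.sp χ y ⟨z, hzU⟩ = 1
        rw [← beta_symm]
        exact hz' y
      obtain ⟨z', hz', he⟩ := hK z.2
      exact (Subtype.ext he : z' = z) ▸ hz'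
    · exact (mem_rad.mp (W_le_rad hS.sp χ h)).choose_spec z
    · refine congrArg χ (Subtype.ext ?_)
      have hz := hXX y hy z hz
      show c * ⁅(y : G), (z : G)⁆ * c⁻¹ = ⁅(y : G), (z : G)⁆
      rw [mem_center_iff.mp hz c, mul_inv_cancel_right]
  -- so `p` does not divide the order of `N`
  have hmoved : ∀ c ∈ D.Gam, PElt p c → c ≠ 1 → centralizer ({c} : Set G) ≤ D.N := by
    rintro c hc ⟨n, hn⟩ hc1
    refine M.centralizer_le_N_of_moved hC hw₀ hw₀c hc (fun h => hc1 (M.center_pElt_eq_one h hn)) ?_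
    intro hbot
    obtain ⟨x, hx, hxW⟩ := SetLike.exists_of_lt (lt_of_le_of_ne hWX (Ne.symm hXW))
    have hP : IsPGroup p (zpowers c) := by
      obtain ⟨i, -, hi⟩ := (Nat.dvd_prime_pow hp.out).mp (orderOf_dvd_of_pow_eq_one hn)
      exact IsPGroup.of_card (n := i) (by rw [Nat.card_zpowers, hi])
    have hpW : ¬ p ∣ Nat.card D.W := fun h => by
      obtain ⟨i, hi⟩ := IsPGroup.iff_card.mp (D.isPGroup_U.to_le D.W_le_U)
      exact M.odd ((Nat.prime_dvd_prime_iff_eq hp.out Nat.prime_two).mp (hp.out.dvd_of_dvd_pow (hi ▸ h)))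
    have hcW : zpowers c ≤ normalizer (D.W : Set G) :=
      zpowers_le.mpr (M.mem_normalizer_of_conj fun y hy => D.conj_mem_W hc hy)
    obtain ⟨z, hz, hzc⟩ := Coprime.exists_commute_mem_coset hP hcW hpW (k := x) (fun a' ha' => by
      obtain ⟨i, rfl⟩ := mem_zpowers_iff.mp ha'
      have h1 := hlow0 _ (D.Gam.zpow_mem hc i) x hx
      have h2 := mem_normalizer_iff.mp (le_normalizer_of_W_le hS.sp le_rfl D.W_le_U (inv_mem (hXU hx))) _ |>.mp h1
      simpa [commutatorElement_def, mul_assoc] using h2)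
    have hxz : x * z ∈ centralizer ({c} : Set G) ⊓ D.U :=
      ⟨mem_centralizer_singleton_iff.mpr (mem_centralizer_iff.mp hzc c (mem_zpowers c)).symm,
        mul_mem (hXU hx) hz.1⟩
    refine hxW ⟨hXU hx, ?_⟩
    have h3 := mul_mem (disp_eq_bot_iff.mp hbot hxz) ((fixedBy a).inv_mem hz.2)
    simpa using h3
  have hpN : ¬ p ∣ Nat.card D.N := by
    intro hdvd
    obtain ⟨e, he⟩ := exists_prime_orderOf_dvd_card' p hdvd
    have heo : orderOf (e : G) = p := by rw [Subgroup.orderOf_coe]; exact he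
    obtain ⟨n, hn, hfix⟩ := M.exists_conj_fixed_of_odd e.2 (heo ▸ hp.out.odd_of_ne_two M.odd)
    set e' := n * (e : G) * n⁻¹ with he'
    have he'o : e' ^ p ^ 1 = 1 := by
      rw [pow_one, he', conj_pow, ← heo, pow_orderOf_eq_one, mul_one, mul_inv_cancel]
    have he'1 : e' ≠ 1 := fun h => hp.out.ne_one (by
      rw [← heo, conj_eq_one_iff.mp h, orderOf_one])
    have hCe := hmoved e' hfix ⟨1, he'o⟩ he'1
    have hzp : IsPGroup p (zpowers e') := by
      obtain ⟨i, -, hi⟩ := (Nat.dvd_prime_pow hp.out).mp (orderOf_dvd_of_pow_eq_one he'o)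
      exact IsPGroup.of_card (n := i) (by rw [Nat.card_zpowers, hi])
    obtain ⟨P, hP⟩ := hzp.exists_le_sylow
    have heP : e' ∈ (P : Subgroup G) := hP (mem_zpowers _)
    have : Nontrivial (P : Subgroup G) :=
      ⟨⟨⟨e', heP⟩, 1, fun h => he'1 (congrArg Subtype.val h)⟩⟩
    have := (P.2 : IsPGroup p (P : Subgroup G)).center_nontrivial
    obtain ⟨z, hz1⟩ := exists_ne (1 : center (P : Subgroup G))
    obtain ⟨i, hi⟩ := (P.2 : IsPGroup p (P : Subgroup G)) z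
    have hzP : ∀ y ∈ (P : Subgroup G), y * ((z : (P : Subgroup G)) : G) = ((z : (P : Subgroup G)) : G) * y :=
      fun y hy => congrArg Subtype.val (mem_center_iff.mp z.2 ⟨y, hy⟩)
    set z' : G := ((z : (P : Subgroup G)) : G) with hz'
    have hzN : z' ∈ D.N := hCe (mem_centralizer_singleton_iff.mpr (hzP e' heP).symm)
    have hzo : z' ^ p ^ i = 1 := congrArg Subtype.val hi
    obtain ⟨n', hn', hzfix⟩ := M.exists_conj_fixed_of_odd hzN
      ((hp.out.odd_of_ne_two M.odd).pow.of_dvd_nat (orderOf_dvd_of_pow_eq_one hzo))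
    have hCz := hmoved _ hzfix ⟨i, by rw [conj_pow, hzo, mul_one, mul_inv_cancel]⟩
      fun h => hz1 (Subtype.ext (Subtype.ext (conj_eq_one_iff.mp h)))
    have hPN : (P : Subgroup G) ≤ D.N := fun y hy => by
      have h1 : n' * y * n'⁻¹ ∈ D.N := hCz (mem_centralizer_singleton_iff.mpr (by
        calc n' * y * n'⁻¹ * (n' * z' * n'⁻¹) = n' * (y * z') * n'⁻¹ := by group
          _ = n' * (z' * y) * n'⁻¹ := by rw [hzP y hy]
          _ = _ := by group))
      simpa [mul_assoc] using mul_mem (mul_mem (inv_mem (D.U_le_N hn')) h1) (D.U_le_N hn')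
    obtain ⟨j, hj⟩ := M.index_N hC
    rcases Nat.eq_zero_or_pos j with rfl | hj0
    · exact M.N_ne_top D (index_eq_one.mp (by simpa using hj))
    · exact P.not_dvd_index ((dvd_pow_self p hj0.ne').trans (hj ▸ index_dvd_of_le hPN))
  refine M.false_of_odd_trivial hC hWb fun γ hγ ho x hx => ?_
  have hlow : ∀ c ∈ D.Gam, ∀ y ∈ X, ⁅c, y⁆ ∈ D.W := fun c hc y hy =>
    M.trivial_on_section hC hpN hXa D.inv_W le_rfl hWX hXU
      (fun Y hY h1 h2 => M.eq_or_eq_of_card hS.pos hS.eq D.inv_W le_rfl hXU hXc hY h1 h2)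
      hXG (fun c hc y hy => D.conj_mem_W hc hy) hc hy
  have hup : ∀ c ∈ D.Gam, ∀ y ∈ D.U, ⁅c, y⁆ ∈ X := fun c hc y hy =>
    M.trivial_on_section hC hpN D.inv_U hXa hWX hXU le_rfl
      (fun Y hY h1 h2 => M.eq_or_eq_of_card hS.pos hS.eq hXa hWX le_rfl hUX hY h1 h2)
      (fun c hc y hy => D.conj_mem_U hc.1 hy) hXG hc hy
  have hc := M.centralizes_of_trivial hS ⟨γ, hγ⟩ fun y hy => by
    show ⁅γ, y⁆ ∈ D.W
    -- `⁅γ ^ n, y⁆` is the `n`-th power of `⁅γ, y⁆` modulo `W`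
    set c := ⁅γ, y⁆ with hc
    have hcX : c ∈ X := hup γ hγ y hy
    have key : ∀ n : ℕ, ∃ z ∈ D.W, γ ^ n * y * (γ ^ n)⁻¹ = z * c ^ n * y := by
      intro n
      induction n with
      | zero => exact ⟨1, one_mem _, by simp⟩
      | succ n ih =>
        obtain ⟨z, hz, he⟩ := ih
        refine ⟨γ * z * γ⁻¹ * ⁅γ, c ^ n⁆, mul_mem (D.conj_mem_W hγ hz) (hlow γ hγ _ (pow_mem hcX n)), ?_⟩
        calc γ ^ (n + 1) * y * (γ ^ (n + 1))⁻¹ = γ * (γ ^ n * y * (γ ^ n)⁻¹) * γ⁻¹ := by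
              rw [pow_succ']; group
          _ = γ * z * γ⁻¹ * ⁅γ, c ^ n⁆ * (c ^ n * ⁅γ, y⁆) * y := by
              rw [he]; simp [commutatorElement_def, mul_assoc]
          _ = _ := by rw [← hc, ← pow_succ]
    obtain ⟨z, hz, he⟩ := key (orderOf γ)
    rw [pow_orderOf_eq_one, one_mul, inv_one, mul_one] at he
    obtain ⟨t, ht⟩ := ho
    have h1 : c ^ (2 * t + 1) ∈ D.W := by
      have h2 : z * c ^ orderOf γ = 1 := mul_eq_right.mp he.symm
      rw [ht] at h2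
      rw [eq_inv_of_mul_eq_one_right h2]
      exact inv_mem hz
    have h2 : c ^ (2 * t) ∈ D.W := by
      rw [pow_mul, pow_two]
      exact pow_mem (hsp.sq_mem c (hXU hcX)) t
    rw [pow_succ] at h1
    exact (D.W.mul_mem_cancel_left h2).mp h1
  rw [← mem_centralizer_iff.mp hc x hx.1, mul_inv_cancel_right]

end Cfg

end Cfsg.Agent.H24.Flav
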