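import Cfsg.Agent.H8.Shult.CnotLeN3Six
import Cfsg.Agent.H24.Flav.CnotLeN3Perm

/-!
Six occurring characters of `W`, sixteen classes modulo the centre: a double transposition of the characters
gives a class of involutions with a single fixed point inside the fixed points of the automorphism.

In the general configuration.
-/

set_option autoImplicit false
set_option linter.unusedSectionVars false

namespace Cfsg.Agent.H24.Flav

open Subgroup
open Cfsg.Agent.H8.Shult hiding Min
open scoped commutatorElement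

universe u v w

variable {G : Type u} [Group G] [Finite G] {p r : ℕ} [hp : Fact p.Prime] {a : MulAut G}
variable {k : Type w} [Field k] [CharP k p] {V : Type v} [AddCommGroup V] [Module k V]
variable [IsAlgClosed k] [FiniteDimensional k V]
variable {ρ : G →* Module.End k V} {T : Module.End k V}
variable {D : UData a}

namespace Cfg

variable (M : Cfg p r a ρ T) {m : ℕ}
include M

/-- An element of `Gam` acting on the classes of `W` modulo the centre. -/
def clsHom (c : D.Gam) : D.W ⧸ D.Zw →* D.W ⧸ D.Zw :=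
  QuotientGroup.map D.Zw D.Zw (D.conjW c).toMonoidHom fun x hx => by
    rw [mem_comap, MulEquiv.coe_toMonoidHom, M.conjW_of_mem_Zw c hx]; exact hx

theorem clsHom_mk (c : D.Gam) (x : D.W) :
    M.clsHom c (x : D.W ⧸ D.Zw) = ((D.conjW c x : D.W) : D.W ⧸ D.Zw) := rfl

/-- `Gam` acting on the classes of `W` modulo the centre. -/
def clsPerm : D.Gam →* Equiv.Perm (D.W ⧸ D.Zw) where
  toFun c :=
    { toFun := M.clsHom c
      invFun := M.clsHom c⁻¹
      left_inv := fun q => by
        obtain ⟨x, rfl⟩ := QuotientGroup.mk_surjective q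
        rw [M.clsHom_mk, M.clsHom_mk, ← MulAut.mul_apply, ← map_mul, inv_mul_cancel, map_one]
        rfl
      right_inv := fun q => by
        obtain ⟨x, rfl⟩ := QuotientGroup.mk_surjective q
        rw [M.clsHom_mk, M.clsHom_mk, ← MulAut.mul_apply, ← map_mul, mul_inv_cancel, map_one]
        rfl }
  map_one' := Equiv.ext fun q => by
    obtain ⟨x, rfl⟩ := QuotientGroup.mk_surjective q
    show M.clsHom 1 (x : D.W ⧸ D.Zw) = x
    rw [M.clsHom_mk, map_one]
    rfl
  map_mul' c c' := Equiv.ext fun q => by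
    obtain ⟨x, rfl⟩ := QuotientGroup.mk_surjective q
    show M.clsHom (c * c') (x : D.W ⧸ D.Zw) = M.clsHom c (M.clsHom c' (x : D.W ⧸ D.Zw))
    rw [M.clsHom_mk, M.clsHom_mk, M.clsHom_mk, map_mul]
    rfl

theorem clsPerm_mk (c : D.Gam) (x : D.W) :
    M.clsPerm c (x : D.W ⧸ D.Zw) = ((D.conjW c x : D.W) : D.W ⧸ D.Zw) := rfl

theorem clsPerm_mul_apply (c : D.Gam) (q q' : D.W ⧸ D.Zw) :
    M.clsPerm c (q * q') = M.clsPerm c q * M.clsPerm c q' :=
  map_mul (M.clsHom c) q q'

/-- The classes fixed by `c`. -/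
def fixCls (c : D.Gam) : Subgroup (D.W ⧸ D.Zw) where
  carrier := {q | M.clsPerm c q = q}
  one_mem' := map_one (M.clsHom c)
  mul_mem' {x y} hx hy := by
    show M.clsPerm c (x * y) = x * y
    rw [M.clsPerm_mul_apply, hx, hy]
  inv_mem' {x} hx := by
    show M.clsPerm c x⁻¹ = x⁻¹
    rw [inv_eq_of_mul_eq_one_left (M.Zw_sq x)]
    exact hx

theorem mem_fixCls {c : D.Gam} {q : D.W ⧸ D.Zw} : q ∈ M.fixCls c ↔ M.clsPerm c q = q := Iff.rfl

/-- The class map of an element modulo the centre. -/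
theorem commute_iff_fixCls {c : D.Gam} (x : D.W) :
    Commute ((c : G) : G ⧸ center G) ((x : G) : G ⧸ center G) ↔ (x : D.W ⧸ D.Zw) ∈ M.fixCls c := by
  rw [M.mem_fixCls, M.clsPerm_mk, QuotientGroup.eq, UData.Zw, mem_subgroupOf, Subgroup.coe_mul,
    Subgroup.coe_inv, UData.conjW_apply, ← QuotientGroup.eq_one_iff, commute_iff_eq]
  simp only [QuotientGroup.mk_mul, QuotientGroup.mk_inv]
  constructor
  · intro h
    rw [h]; group
  · intro h
    exact (mul_inv_eq_iff_eq_mul.mp (inv_mul_eq_one.mp h))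

/-- A nontrivial permutation of odd order of the characters moves every class but the trivial one. -/
theorem clsPerm_eq_one_of_odd {c : D.Gam} {n : ℕ} (hn : Odd n)
    (hcn : M.permN (⟨c, c.2.1⟩ : D.N) ^ n = 1) (h : M.clsPerm c = 1) :
    M.permN (⟨c, c.2.1⟩ : D.N) = 1 := by
  refine M.permN_eq_one_of_fixes fun x hx => ?_
  set θ : D.W := (⟨x, hx⟩ : D.W)⁻¹ * D.conjW c ⟨x, hx⟩ with hθ
  have hθZ : θ ∈ D.Zw := by
    have h1 := M.clsPerm_mk c ⟨x, hx⟩
    rw [h] at h1
    exact QuotientGroup.eq.mp h1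
  have hit : ∀ i : ℕ, D.conjW (c ^ i) ⟨x, hx⟩ = ⟨x, hx⟩ * θ ^ i := by
    intro i
    induction i with
    | zero => rw [pow_zero, pow_zero, mul_one, map_one]; rfl
    | succ i ih =>
      rw [pow_succ', map_mul, MulAut.mul_apply, ih, map_mul, M.conjW_of_mem_Zw c (pow_mem hθZ i), pow_succ',
        ← mul_assoc, hθ, mul_inv_cancel_left]
  have hfix : D.conjW (c ^ n) ⟨x, hx⟩ = ⟨x, hx⟩ := by
    refine Subtype.ext ?_
    rw [UData.conjW_apply]
    refine M.conjN_of_permN_eq_one (n := (⟨((c ^ n : D.Gam) : G), (c ^ n).2.1⟩ : D.N)) ?_ ⟨x, hx⟩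
    rw [show (⟨((c ^ n : D.Gam) : G), (c ^ n).2.1⟩ : D.N) = (⟨c, c.2.1⟩ : D.N) ^ n from
      Subtype.ext (by simp), map_pow, hcn]
  rw [hit, mul_eq_left] at hfix
  obtain ⟨i, rfl⟩ := hn
  rw [pow_succ, pow_mul, pow_two, show θ * θ = 1 from Subtype.ext ((M.special2_U D).fix_sq θ θ.2), one_pow,
    one_mul] at hfix
  have h2 : (D.conjW c ⟨x, hx⟩ : D.W) = ⟨x, hx⟩ := by
    rw [hθ] at hfix
    exact (inv_mul_eq_one.mp hfix).symm
  exact congrArg Subtype.val h2

/-- Six characters on sixteen classes are impossible when the fixed points leave `N`. -/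
theorem false_six (hS : Shape ρ D r m) (hcard : Nat.card {μ : D.W →* ℤˣ // Occ ρ D μ} = 6)
    (hq : D.Zw.index = 16)
    (hA : ∀ c ∈ fixedBy a, ∀ w ∈ D.W, w ∉ center G → c * w * c⁻¹ ∈ D.N → c ∈ D.N)
    (hC : ¬ fixedBy a ≤ D.N) : False := by
  classical
  have : Fintype {μ : D.W →* ℤˣ // Occ ρ D μ} := Fintype.ofFinite _
  have : Fintype (D.W ⧸ D.Zw) := Fintype.ofFinite _
  let e6 : {μ : D.W →* ℤˣ // Occ ρ D μ} ≃ Fin 6 :=
    Fintype.equivFinOfCardEq (by rw [← Nat.card_eq_fintype_card, hcard])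
  let φ : D.Gam →* Equiv.Perm (Fin 6) :=
    e6.permCongrHom.toMonoidHom.comp (M.permN.comp (Subgroup.inclusion inf_le_left))
  have hφdef : ∀ c : D.Gam, φ c = e6.permCongrHom (M.permN (⟨c, c.2.1⟩ : D.N)) := fun c => rfl
  have hperm : ∀ c : D.Gam, φ c = 1 → M.permN (⟨c, c.2.1⟩ : D.N) = 1 := fun c h =>
    e6.permCongrHom.injective (by rw [map_one, ← hφdef, h])
  have hkerC : ∀ c : D.Gam, φ c = 1 → (c : G) ∈ centralizer (D.U : Set G) := fun c h =>
    M.centralizes_of_permN hS c.2 (hperm c h)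
  have hker : φ.ker ≤ (M.clsPerm (D := D)).ker := fun c hc => MonoidHom.mem_ker.mpr (Equiv.ext fun q => by
    obtain ⟨x, rfl⟩ := QuotientGroup.mk_surjective q
    rw [M.clsPerm_mk, show D.conjW c x = x from Subtype.ext
      (M.conjN_of_permN_eq_one (hperm c (MonoidHom.mem_ker.mp hc)) x)]
    rfl)
  obtain ⟨x₀, hx₀⟩ : ∃ x : D.W, x ∉ D.Zw := by
    by_contra h
    push Not at h
    rw [(eq_top_iff.mpr fun x _ => h x : D.Zw = ⊤), Subgroup.index_top] at hq
    omega
  let π := QuotientGroup.mk' (center G)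
  set b := quotAut (center G) M.inv_center with hb
  have hfix : fixedBy b = (fixedBy a).map π := M.coprimely.fixedBy_quot _ _
  have hπne : ∀ x : D.W, x ∉ D.Zw → π x ≠ 1 := fun x hx h =>
    hx (mem_subgroupOf.mpr ((QuotientGroup.eq_one_iff _).mp h))
  have hWb : D.Wb ≠ ⊥ := fun h => hπne x₀ hx₀ (Subgroup.mem_bot.mp (h ▸ mem_map_of_mem π x₀.2))
  -- fifteen divides the permutation group
  have h15 : 15 ∣ Nat.card φ.range := by
    refine (dvd_of_eq ?_).trans (orbit_card_dvd_range φ (M.clsPerm (D := D)) hker (x₀ : D.W ⧸ D.Zw))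
    rw [show (15 : ℕ) = Nat.card {y : D.W ⧸ D.Zw // y ≠ 1} by
      rw [Nat.card_eq_fintype_card, Fintype.card_subtype_compl, Fintype.card_subtype_eq,
        ← Nat.card_eq_fintype_card, ← Subgroup.index_eq_card, hq]]
    refine Nat.card_congr (Equiv.subtypeEquivRight fun y => ⟨fun hy => ?_, ?_⟩)
    · obtain ⟨y, rfl⟩ := QuotientGroup.mk_surjective y
      obtain ⟨c, hc⟩ := M.exists_conj_class hA hC hx₀ fun h => hy ((QuotientGroup.eq_one_iff y).mpr h)
      exact ⟨c, (M.clsPerm_mk c x₀).trans (QuotientGroup.eq.mpr hc)⟩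
    · rintro ⟨c, rfl⟩ h
      refine hx₀ ((QuotientGroup.eq_one_iff x₀).mp ((M.clsPerm c).injective (h.trans ?_)))
      exact (map_one (M.clsHom c)).symm
  obtain ⟨δ, ⟨d₀, hd₀⟩, η, ⟨e₀, he₀⟩, hδ2, hη5, hδη, hδfix⟩ := exists_inverted_five h15
  have hδD : IsDouble δ := ⟨hδ2, by
    have h1 := Finset.card_add_card_compl δ.support
    rw [Fintype.card_fin, show δ.supportᶜ = Finset.univ.filter fun i => δ i = i by
      ext i; simp] at h1
    omega⟩
  have hη5' : η ^ 5 = 1 := hη5 ▸ pow_orderOf_eq_one η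
  -- a Sylow 5 of the preimage of `η`
  have : Fact (Nat.Prime 5) := ⟨by norm_num⟩
  let M5 : Subgroup D.Gam := (zpowers η).comap φ
  let P5 : Sylow 5 M5 := default
  have hd₀n : ∀ x ∈ M5, d₀ * x * d₀⁻¹ ∈ M5 := by
    intro x hx
    obtain ⟨i, hi⟩ := mem_zpowers_iff.mp (mem_comap.mp hx)
    rw [mem_comap, map_mul, map_mul, map_inv, hd₀, ← hi, ← MulAut.conj_apply, map_zpow, MulAut.conj_apply, hδη]
    exact zpow_mem (inv_mem (mem_zpowers η)) i
  let α : M5 →* M5 :=
    { toFun := fun x => ⟨d₀ * x * d₀⁻¹, hd₀n x x.2⟩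
      map_one' := Subtype.ext (by simp)
      map_mul' := fun x y => Subtype.ext (by simp [mul_assoc]) }
  have hαinj : Function.Injective α := fun x y h => Subtype.ext
    (mul_left_cancel (mul_right_cancel (congrArg (fun z : M5 => (z : D.Gam)) h)))
  have hαP : Nat.card ((P5 : Subgroup M5).map α) = Nat.card P5 :=
    Subgroup.card_map_of_injective hαinj
  let Q5 : Sylow 5 M5 := Sylow.ofCard ((P5 : Subgroup M5).map α) (by rw [hαP]; exact P5.card_eq_multiplicity)
  obtain ⟨m₀, hm₀⟩ := MulAction.exists_smul_eq M5 Q5 P5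
  set s₁ : D.Gam := (m₀ : D.Gam) * d₀ with hs₁
  let PG : Subgroup D.Gam := (P5 : Subgroup M5).map M5.subtype
  have hs₁n : ∀ x ∈ PG, s₁ * x * s₁⁻¹ ∈ PG := by
    rintro _ ⟨x, hx, rfl⟩
    have h1 : m₀ * α x * m₀⁻¹ ∈ (P5 : Subgroup M5) := by
      rw [← hm₀]
      exact ⟨α x, ⟨x, hx, rfl⟩, rfl⟩
    refine ⟨_, h1, ?_⟩
    simp [α, hs₁, mul_assoc]
  obtain ⟨i, hi⟩ := mem_zpowers_iff.mp (mem_comap.mp m₀.2)
  have hφs₁ : φ s₁ = η ^ i * δ := by rw [hs₁, map_mul, ← hi, hd₀]
  have hηδ : ∀ j : ℤ, δ * η ^ j = η ^ (-j) * δ := fun j => by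
    have h1 : δ * η ^ j * δ⁻¹ = η ^ (-j) := by
      rw [← MulAut.conj_apply, map_zpow, MulAut.conj_apply, hδη, inv_zpow, ← zpow_neg]
    rw [← h1, inv_mul_cancel_right]
  have hD₁ : IsDouble (φ s₁) := by
    rw [hφs₁, show η ^ i * δ = η ^ (3 * i) * δ * (η ^ (3 * i))⁻¹ by
      rw [← zpow_neg, mul_assoc _ δ, hηδ, neg_neg, ← mul_assoc, ← zpow_add,
        show 3 * i + 3 * i = i + 5 * i by ring, zpow_add, zpow_mul η (5 : ℤ) i,
        show η ^ (5 : ℤ) = 1 from (zpow_natCast η 5).trans hη5', one_zpow, mul_one]]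
    exact hδD.conj _
  -- its 2-part
  obtain ⟨e2, o, ho, hord⟩ := Nat.exists_eq_two_pow_mul_odd (orderOf_pos s₁).ne'
  set s : D.Gam := s₁ ^ o with hs
  have hsD : IsDouble (φ s) := by
    obtain ⟨l, rfl⟩ := ho
    rw [hs, map_pow, pow_succ, pow_mul, pow_two, hD₁.1, one_pow, one_mul]
    exact hD₁
  have hs2 : s ^ 2 ^ e2 = 1 := by
    rw [hs, ← pow_mul, mul_comm, ← hord, pow_orderOf_eq_one]
  have hsn : ∀ x ∈ PG, s * x * s⁻¹ ∈ PG := by
    have hall : ∀ n : ℕ, ∀ x ∈ PG, s₁ ^ n * x * (s₁ ^ n)⁻¹ ∈ PG := by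
      intro n
      induction n with
      | zero => intro x hx; simpa using hx
      | succ n ih =>
        intro x hx
        have := hs₁n _ (ih x hx)
        simpa [pow_succ', mul_assoc] using this
    exact hall o
  obtain ⟨h₅, hh₅, hh₅1⟩ : ∃ h₅ ∈ PG, φ h₅ ≠ 1 := by
    by_contra hno
    push Not at hno
    let φ5 : M5 →* Equiv.Perm (Fin 6) := φ.comp M5.subtype
    have hle : (P5 : Subgroup M5) ≤ φ5.ker := fun x hx => hno (x : D.Gam) ⟨x, hx, rfl⟩
    have hidx : φ5.ker.index = 5 := by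
      rw [Subgroup.index_ker, show φ5.range = zpowers η from le_antisymm (by rintro _ ⟨x, rfl⟩; exact x.2)
        (zpowers_le.mpr ⟨⟨e₀, by rw [mem_comap, he₀]; exact mem_zpowers η⟩, he₀⟩), Nat.card_zpowers, hη5]
    have h := Subgroup.index_dvd_of_le hle
    rw [hidx] at h
    exact P5.not_dvd_index h
  have hh₅5 : ∃ n, h₅ ^ 5 ^ n = 1 := by
    obtain ⟨⟨x, hx⟩, hxe⟩ : ∃ x : P5, ((x : M5) : D.Gam) = h₅ := by
      obtain ⟨x, hx, rfl⟩ := hh₅
      exact ⟨⟨x, hx⟩, rfl⟩
    obtain ⟨n, hn⟩ := P5.2 ⟨x, hx⟩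
    exact ⟨n, by rw [← hxe]; exact congrArg (fun z : P5 => ((z : M5) : D.Gam)) hn⟩
  -- `h₅` fixes no class
  have hfpf : ∀ x : D.W, M.clsPerm h₅ x = (x : D.W ⧸ D.Zw) → x ∈ D.Zw := by
    intro x hx
    by_contra hxz
    obtain ⟨n, hn⟩ := hh₅5
    have h5 : (M.clsPerm h₅) ^ 5 ^ n = 1 := by rw [← map_pow, hn, map_one]
    have hmod := Equiv.Perm.card_compl_support_modEq h5
    have hcompl : Nat.card (M.fixCls h₅) = (M.clsPerm h₅).supportᶜ.card := by
      rw [Nat.card_eq_fintype_card, Fintype.card_of_subtype]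
      intro q
      simp [M.mem_fixCls]
    rw [← hcompl, ← Nat.card_eq_fintype_card, ← Subgroup.index_eq_card, hq] at hmod
    obtain ⟨j, hj4, hj⟩ : ∃ j, j ≤ 4 ∧ Nat.card (M.fixCls h₅) = 2 ^ j := (Nat.dvd_prime_pow Nat.prime_two).mp
      (by
        refine (card_subgroup_dvd_card (M.fixCls h₅)).trans (dvd_of_eq ?_)
        rw [← Subgroup.index_eq_card, hq]; rfl)
    have hj0 : Nat.card (M.fixCls h₅) ≠ 1 := by
      intro h1
      exact hxz ((QuotientGroup.eq_one_iff x).mp (Subgroup.mem_bot.mp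
        ((Subgroup.eq_bot_of_card_eq _ h1) ▸ (M.mem_fixCls.mpr hx : (x : D.W ⧸ D.Zw) ∈ M.fixCls h₅))))
    have htop : M.fixCls h₅ = ⊤ := by
      refine Subgroup.eq_top_of_card_eq _ ?_
      rw [← Subgroup.index_eq_card, hq]
      rw [hj] at hmod hj0
      rw [hj]
      unfold Nat.ModEq at hmod
      interval_cases j <;> omega
    refine hh₅1 ?_
    rw [hφdef, M.clsPerm_eq_one_of_odd (n := 5 ^ n) ((by decide : Odd 5).pow) ?_ (Equiv.ext fun q => ?_),
      map_one]
    · rw [← map_pow]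
      rw [show (⟨(h₅ : G), h₅.2.1⟩ : D.N) ^ 5 ^ n = 1 from Subtype.ext (by
        simpa using congrArg Subtype.val hn), map_one]
    · exact M.mem_fixCls.mp (htop ▸ mem_top q)
  -- kernel elements of 2-power order normalising the Sylow 5 are central
  have hkey : ∀ (j : ℕ) (c : D.Gam), φ c = 1 → c ^ 2 ^ j = 1 → (∀ x ∈ PG, c * x * c⁻¹ ∈ PG) →
      (c : G) ∈ center G := by
    intro j
    induction j with
    | zero =>
      intro c _ hc _
      rw [pow_zero, pow_one] at hc
      rw [hc]; exact one_mem _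
    | succ j ih =>
      intro c hc hcp hcn
      have hcc : (c : G) * c ∈ center G := ih (c * c) (by rw [map_mul, hc, one_mul])
        (by rw [← pow_two, ← pow_mul, ← pow_succ', hcp]) fun x hx => by
          have := hcn _ (hcn x hx)
          simpa [mul_assoc] using this
      have hWmem := M.invol_centralizer_mem_Wb hA hC hWb (hkerC c hc) hcc
      obtain ⟨x, hx, hxc⟩ := hWmem
      have hxz : (⟨x, hx⟩ : D.W) ∈ D.Zw := by
        refine hfpf ⟨x, hx⟩ (M.mem_fixCls.mp ((M.commute_iff_fixCls (c := h₅) ⟨x, hx⟩).mp ?_))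
        set t := ((c : G) : G ⧸ center G) with ht
        set h := ((h₅ : G) : G ⧸ center G) with hh
        have htx : π x = t := hxc
        set y := t * h * t⁻¹ * h⁻¹ with hy
        have hyP : ∃ z ∈ PG, ((z : G) : G ⧸ center G) = y := by
          refine ⟨c * h₅ * c⁻¹ * h₅⁻¹, PG.mul_mem (hcn _ hh₅) (PG.inv_mem hh₅), ?_⟩
          simp [hy, ht, hh]
        have hyW : y ∈ D.Wb := by
          have htW : t ∈ D.Wb := htx ▸ mem_map_of_mem π hx
          rw [hy, show t * h * t⁻¹ * h⁻¹ = t * (h * t⁻¹ * h⁻¹) by group]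
          exact mul_mem htW ((mem_normalizer_iff.mp ((M.frame D).N_le ((M.mem_Nb_iff D).mpr h₅.2.1)) _).mp
            (inv_mem htW))
        obtain ⟨z, ⟨z', hz', rfl⟩, hzy⟩ := hyP
        obtain ⟨n, hn⟩ := P5.2 ⟨z', hz'⟩
        have hy5 : y ^ 5 ^ n = 1 := by
          have hnG : ((z' : D.Gam) : G) ^ 5 ^ n = 1 := by
            simpa using congrArg (fun v : P5 => (((v : M5) : D.Gam) : G)) hn
          have hzy' : (((z' : D.Gam) : G) : G ⧸ center G) = y := hzy
          rw [← hzy', ← QuotientGroup.mk_pow, hnG]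
          rfl
        have hy2 : y ^ 2 = 1 := by rw [pow_two]; exact (M.frame D).W_sq y hyW
        have hy1 : y = 1 := by
          obtain ⟨l, hl⟩ := ((by decide : Odd 5).pow : Odd (5 ^ n))
          rw [hl, pow_succ, pow_mul, hy2, one_pow, one_mul] at hy5
          exact hy5
        show Commute h (π x)
        rw [htx]
        have h3 : h * t = t * h := by
          calc h * t = 1 * (h * t) := (one_mul _).symm
            _ = y * (h * t) := by rw [hy1]
            _ = t * h := by rw [hy]; group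
        exact h3
      have hz : x⁻¹ * (c : G) ∈ center G := QuotientGroup.eq.mp hxc
      simpa using mul_mem (mem_subgroupOf.mp hxz) hz
  have hss : (s : G) * s ∈ center G := hkey e2 (s * s) (by rw [map_mul, hsD.1])
    (by rw [← pow_two, ← pow_mul, mul_comm, pow_mul, hs2, one_pow]) fun x hx => by
      have := hsn _ (hsn x hx)
      simpa [mul_assoc] using this
  -- the class of involutions
  set I := M.isoData_fixed (D := D) hA
  let P : fixedBy b → Prop := fun t => ∃ c : D.Gam, ((c : G) : G ⧸ center G) = t ∧ t * t = 1 ∧ IsDouble (φ c)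
  refine I.false_of_class ?_ (w := ⟨π x₀, (M.frame D).W_fixed (mem_map_of_mem π x₀.2)⟩)
    (mem_subgroupOf.mpr (mem_map_of_mem π x₀.2)) (fun h => hπne x₀ hx₀ (congrArg Subtype.val h))
    P (fun _ ht => ht.choose_spec.2.1) ?_ ?_ ?_ ?_
    (δ := ⟨π (s : G), hfix ▸ mem_map_of_mem π s.2.2⟩)
    (mem_subgroupOf.mpr (mem_map_of_mem π s.2.1)) ⟨s, rfl, Subtype.ext (by
      show π (s : G) * π (s : G) = 1
      rw [← map_mul]
      exact (QuotientGroup.eq_one_iff _).mpr hss), hsD⟩
  · intro h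
    refine hC fun x hx => (M.mem_Nb_iff D).mp ?_
    have hxb : ((x : G) : G ⧸ center G) ∈ fixedBy b := hfix ▸ mem_map_of_mem _ hx
    exact mem_subgroupOf.mp (h ▸ mem_top (⟨_, hxb⟩ : fixedBy b))
  · rintro t ⟨c, hct, ht2, hc⟩ n hn
    obtain ⟨d, hd, hdn⟩ := M.exists_Gam (mem_subgroupOf.mp hn) n.2
    refine ⟨⟨d, hd⟩ * c * ⟨d, hd⟩⁻¹, ?_, conj_mul_self ht2, ?_⟩
    · simp only [Subgroup.coe_mul, Subgroup.coe_inv, QuotientGroup.mk_mul, QuotientGroup.mk_inv, hdn, hct]
    · rw [map_mul, map_mul, map_inv]; exact hc.conj _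
  · rintro t ⟨c, hct, -, hc⟩ ht
    obtain ⟨x, hx, hxe⟩ := mem_subgroupOf.mp ht
    have hz : x⁻¹ * (c : G) ∈ center G := QuotientGroup.eq.mp (by rw [hct]; exact hxe)
    have h1 : φ c = 1 := by
      rw [hφdef, M.permN_of_centralizes c.2.1 (by
        simpa using mul_mem (M.W_le_centralizer_U hx) (M.center_le_centralizer_U hz)), map_one]
    have h4 := hc.2
    rw [h1, Equiv.Perm.support_one, Finset.card_empty] at h4
    omega
  · -- isolation
    rintro t ⟨c, hct, ht2, hc⟩ htN g hg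
    by_contra hgN
    have hcc : (c : G) * c ∈ center G := by
      rw [← QuotientGroup.eq_one_iff, QuotientGroup.mk_mul, hct]
      exact congrArg Subtype.val ht2
    let f : D.W ⧸ D.Zw → M.fixCls c := fun q => ⟨M.clsPerm c q * q, by
      rw [M.mem_fixCls, M.clsPerm_mul_apply, ← Equiv.Perm.mul_apply, ← map_mul]
      have h1 : M.clsPerm (c * c) q = q := by
        obtain ⟨x, rfl⟩ := QuotientGroup.mk_surjective q
        rw [M.clsPerm_mk]
        refine congrArg _ (Subtype.ext ?_)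
        rw [UData.conjW_apply, Subgroup.coe_mul, ← mem_center_iff.mp hcc (x : G), mul_inv_cancel_right]
      rw [h1]
      obtain ⟨x, rfl⟩ := QuotientGroup.mk_surjective q
      rw [M.clsPerm_mk, ← QuotientGroup.mk_mul, ← QuotientGroup.mk_mul]
      exact congrArg _ (Subtype.ext ((M.special2_U D).fix_central _ x.2 _ (D.conjW c x).2.1))⟩
    have hF : 16 ≤ Nat.card (M.fixCls c) * Nat.card (M.fixCls c) := by
      let f' : (D.W ⧸ D.Zw) →* (D.W ⧸ D.Zw) :=
        { toFun := fun q => M.clsPerm c q * q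
          map_one' := by
            rw [mul_one]
            exact map_one (M.clsHom c)
          map_mul' := fun q q' => by
            rw [M.clsPerm_mul_apply]
            obtain ⟨x, rfl⟩ := QuotientGroup.mk_surjective q
            obtain ⟨y, rfl⟩ := QuotientGroup.mk_surjective q'
            rw [M.clsPerm_mk, M.clsPerm_mk]
            simp only [← QuotientGroup.mk_mul]
            refine congrArg _ (Subtype.ext ?_)
            have hcom := (M.special2_U D).fix_central _ (D.conjW c y).2 _ x.2.1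
            simp only [Subgroup.coe_mul]
            calc ((D.conjW c x : D.W) : G) * (D.conjW c y : D.W) * ((x : G) * y)
                = ((D.conjW c x : D.W) : G) * (((D.conjW c y : D.W) : G) * x) * y := by group
              _ = _ := by rw [hcom]; group }
      have h1 := f'.ker.card_mul_index
      rw [Subgroup.index_ker, ← Subgroup.index_eq_card, hq] at h1
      rw [← h1]
      refine Nat.mul_le_mul (Nat.le_of_dvd Nat.card_pos (card_dvd_of_le fun q hq' => ?_))
        (Nat.le_of_dvd Nat.card_pos (card_dvd_of_le ?_))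
      · rw [MonoidHom.mem_ker] at hq'
        rw [M.mem_fixCls]
        have h2 : M.clsPerm c q = q⁻¹ := eq_inv_of_mul_eq_one_left hq'
        rw [h2]
        exact inv_eq_of_mul_eq_one_left (M.Zw_sq q)
      · rintro _ ⟨q, rfl⟩
        exact (f q).2
    -- the stabiliser is a 2-group
    let H : Subgroup D.Gam :=
      (centralizer {((c : G) : G ⧸ center G)}).comap (π.comp D.Gam.subtype)
    have hH2 : IsPGroup 2 (H.map φ) := by
      rintro ⟨_, d, hd, rfl⟩
      refine ⟨2, Subtype.ext ?_⟩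
      show φ d ^ 2 ^ 2 = 1
      refine hc.pow_four ?_
      have hd' := mem_centralizer_singleton_iff.mp (mem_comap.mp hd)
      rw [MonoidHom.comp_apply, Subgroup.coe_subtype, QuotientGroup.mk'_apply, ← QuotientGroup.mk_mul,
        ← QuotientGroup.mk_mul, QuotientGroup.eq] at hd'
      show φ d * φ c = φ c * φ d
      rw [← map_mul, ← map_mul, hφdef, hφdef]
      refine congrArg _ ?_
      have hk : (M.permN (⟨((d * c : D.Gam) : G), (d * c).2.1⟩ : D.N))⁻¹ *
          M.permN (⟨((c * d : D.Gam) : G), (c * d).2.1⟩ : D.N) = 1 := by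
        rw [← map_inv, ← map_mul]
        exact M.permN_of_centralizes _ (M.center_le_centralizer_U hd')
      exact inv_mul_eq_one.mp hk
    obtain ⟨q₁, hq₁, hq₁1⟩ := (M.fixCls c).bot_or_exists_ne_one.resolve_left fun h => by
      rw [h, Subgroup.card_bot] at hF; omega
    obtain ⟨x₁, rfl⟩ := QuotientGroup.mk_surjective q₁
    have hx₁ : x₁ ∉ D.Zw := fun h => hq₁1 ((QuotientGroup.eq_one_iff _).mpr h)
    have horb := orbit_card_dvd_range (φ.comp H.subtype) ((M.clsPerm (D := D)).comp H.subtype)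
      (fun h hh => MonoidHom.mem_ker.mpr (MonoidHom.mem_ker.mp (hker (MonoidHom.mem_ker.mpr
        (MonoidHom.mem_ker.mp hh : φ (h : D.Gam) = 1))))) (x₁ : D.W ⧸ D.Zw)
    rw [MonoidHom.range_comp, Subgroup.range_subtype] at horb
    have horbeq : Nat.card {y : D.W ⧸ D.Zw // ∃ h : H, ((M.clsPerm (D := D)).comp H.subtype) h x₁ = y} =
        Nat.card (M.fixCls c) - 1 := by
      have hne : Nat.card (M.fixCls c) - 1 = Nat.card {y : M.fixCls c // y ≠ 1} := by
        have := Fintype.ofFinite (M.fixCls c)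
        rw [Nat.card_eq_fintype_card, Nat.card_eq_fintype_card, Fintype.card_subtype_compl,
          Fintype.card_subtype_eq]
      rw [hne]
      refine (Nat.card_congr (Equiv.subtypeEquivRight fun y => ?_)).trans
        (Nat.card_congr (Equiv.subtypeSubtypeEquivSubtypeInter (fun y => y ∈ M.fixCls c) (fun y => y ≠ 1)).symm
          |>.trans (Nat.card_congr (Equiv.subtypeEquivRight fun y =>
            not_congr ⟨fun h => Subtype.ext h, fun h => congrArg Subtype.val h⟩)))
      constructor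
      · rintro ⟨⟨d, hd⟩, rfl⟩
        refine ⟨?_, fun h => hx₁ ((QuotientGroup.eq_one_iff x₁).mp ((M.clsPerm d).injective (h.trans ?_)))⟩
        · show M.clsPerm d (x₁ : D.W ⧸ D.Zw) ∈ M.fixCls c
          rw [M.clsPerm_mk, ← M.commute_iff_fixCls]
          have h1 : Commute ((d : G) : G ⧸ center G) ((c : G) : G ⧸ center G) :=
            (mem_centralizer_singleton_iff.mp (mem_comap.mp hd) :)
          have h2 : Commute ((c : G) : G ⧸ center G) ((x₁ : G) : G ⧸ center G) :=
            (M.commute_iff_fixCls x₁).mpr hq₁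
          rw [UData.conjW_apply, QuotientGroup.mk_mul, QuotientGroup.mk_mul, QuotientGroup.mk_inv]
          exact (h1.symm.mul_right h2).mul_right h1.symm.inv_right
        · exact (map_one (M.clsHom d)).symm
      · rintro ⟨hy, hy1⟩
        obtain ⟨x₂, rfl⟩ := QuotientGroup.mk_surjective y
        have hx₂ : x₂ ∉ D.Zw := fun h => hy1 ((QuotientGroup.eq_one_iff _).mpr h)
        have hmk : ∀ x : D.W, x ∉ D.Zw → (x : D.W ⧸ D.Zw) ∈ M.fixCls c →
            ∃ w : fixedBy b, (w : G ⧸ center G) = π x ∧ w ∈ D.Wb.subgroupOf (fixedBy b) ∧ w ≠ 1 ∧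
              Commute w t := fun x hx hxc =>
          ⟨⟨π x, (M.frame D).W_fixed (mem_map_of_mem π x.2)⟩, rfl, mem_subgroupOf.mpr (mem_map_of_mem π x.2),
            fun h => hπne x hx (congrArg Subtype.val h), Subtype.ext (by
              show π x * (t : G ⧸ center G) = t * π x
              rw [← hct]
              exact ((M.commute_iff_fixCls x).mpr hxc).symm.eq)⟩
        obtain ⟨w₁, hw₁, hw₁W, hw₁1, hw₁c⟩ := hmk x₁ hx₁ hq₁
        obtain ⟨w₂, hw₂, hw₂W, hw₂1, hw₂c⟩ := hmk x₂ hx₂ hy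
        obtain ⟨n, hn, hnt, hnw⟩ := I.exists_conj_commute (fun h => hw₁1 (Subgroup.mem_bot.mp (h ▸ hw₁W)))
          htN ht2 (g := g⁻¹) (fun h => hgN (inv_mem_iff.mp h)) (by simpa using hg) hw₁W hw₁1 hw₁c hw₂W hw₂1
          hw₂c
        obtain ⟨d, hd, hdn⟩ := M.exists_Gam (mem_subgroupOf.mp hn) n.2
        refine ⟨⟨⟨d, hd⟩, mem_comap.mpr (mem_centralizer_singleton_iff.mpr ?_)⟩, ?_⟩
        · show ((d : G) : G ⧸ center G) * ((c : G) : G ⧸ center G) = ((c : G) : G ⧸ center G) * ((d : G) : G ⧸ center G)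
          rw [hct, hdn]
          exact congrArg Subtype.val hnt.eq
        · show M.clsPerm ⟨d, hd⟩ (x₁ : D.W ⧸ D.Zw) = x₂
          rw [M.clsPerm_mk, QuotientGroup.eq, UData.Zw, mem_subgroupOf, Subgroup.coe_mul, Subgroup.coe_inv,
            UData.conjW_apply]
          refine QuotientGroup.eq.mp ?_
          have h1 := congrArg Subtype.val hnw
          simp only [Subgroup.coe_mul, Subgroup.coe_inv, hw₁, hw₂, ← hdn] at h1
          simpa [π] using h1
    rw [horbeq] at horb
    obtain ⟨j, hj⟩ := IsPGroup.iff_card.mp hH2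
    rw [hj] at horb
    obtain ⟨i, -, hi⟩ := (Nat.dvd_prime_pow Nat.prime_two).mp horb
    obtain ⟨l, -, hl⟩ := (Nat.dvd_prime_pow (m := 4) Nat.prime_two).mp
      ((card_subgroup_dvd_card (M.fixCls c)).trans (dvd_of_eq (by rw [← Subgroup.index_eq_card, hq]; rfl)))
    rw [hl] at hi hF
    have h2l : 2 ≤ l := by
      by_contra hl2
      interval_cases l <;> norm_num at hF
    have hev : Even (2 ^ l) := Nat.even_pow.mpr ⟨even_two, by omega⟩
    have h4 : 4 ≤ 2 ^ l := (show 4 = 2 ^ 2 by norm_num) ▸ Nat.pow_le_pow_right two_pos h2l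
    rcases Nat.eq_zero_or_pos i with rfl | hi0
    · rw [pow_zero] at hi; omega
    · have hev' : Even (2 ^ i) := Nat.even_pow.mpr ⟨even_two, hi0.ne'⟩
      rw [← hi] at hev'
      rw [Nat.even_iff] at hev hev'
      omega
  · rintro w' hw' t ⟨c, hct, ht2, hc⟩ hcomm
    obtain ⟨x, hx, hxe⟩ := mem_subgroupOf.mp hw'
    refine ⟨⟨x, D.W_le_Gam hx⟩ * c, ?_, ?_, ?_⟩
    · rw [Subgroup.coe_mul, QuotientGroup.mk_mul, hct, Subgroup.coe_mul, ← hxe]
      rfl
    · rw [hcomm.symm.mul_mul_mul_comm, ht2, mul_one, I.W_sq w' hw']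
    · rw [map_mul, hφdef ⟨x, D.W_le_Gam hx⟩, M.permN_of_mem_U hx.1, map_one, one_mul]
      exact hc

end Cfg

end Cfsg.Agent.H24.Flav
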