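import Cfsg.Agent.H8.Shult.CnotLeN3Three
import Cfsg.Agent.H24.Flav.CnotLeN3Perm

/-!
Three occurring characters of `W` modulo a centre of order two: impossible when the fixed points leave `N`.

In the general configuration.
-/

set_option autoImplicit false
set_option linter.unusedSectionVars false

namespace Cfsg.Agent.H24.Flav

open Subgroup
open Cfsg.Agent.H8.Shult hiding Min
open scoped commutatorElement

universe u v w

variable {G : Type u} [Group G] [Finite G] {p r : ℕ} [hp : Fact p.Prime] {a : MulAut G}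
variable {k : Type w} [Field k] [CharP k p] {V : Type v} [AddCommGroup V] [Module k V]
variable [IsAlgClosed k] [FiniteDimensional k V]
variable {ρ : G →* Module.End k V} {T : Module.End k V}
variable {D : UData a}

namespace Cfg

variable (M : Cfg p r a ρ T) {m : ℕ}
include M

/-- The elements of `U` whose class modulo `W` an element of `Gam` fixes. -/
def fixClass (c : D.Gam) : Subgroup G where
  carrier := {y | y ∈ D.U ∧ ⁅(c : G), y⁆ ∈ D.W}
  one_mem' := ⟨one_mem _, by rw [commutatorElement_one_right]; exact one_mem _⟩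
  mul_mem' {y z} hy hz := ⟨mul_mem hy.1 hz.1, by
    rw [show ⁅(c : G), y * z⁆ = ⁅(c : G), y⁆ * (y * ⁅(c : G), z⁆ * y⁻¹) by
      simp [commutatorElement_def, mul_assoc],
      ← (M.special2_U D).fix_central _ hz.2 y hy.1, mul_inv_cancel_right]
    exact mul_mem hy.2 hz.2⟩
  inv_mem' {y} hy := ⟨inv_mem hy.1, by
    rw [show ⁅(c : G), y⁻¹⁆ = y⁻¹ * ⁅(c : G), y⁆⁻¹ * y by simp [commutatorElement_def, mul_assoc],
      ← (M.special2_U D).fix_central _ (inv_mem hy.2) _ (inv_mem hy.1), inv_mul_cancel_right]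
    exact inv_mem hy.2⟩

theorem mem_fixClass {c : D.Gam} {y : G} :
    y ∈ M.fixClass c ↔ y ∈ D.U ∧ ⁅(c : G), y⁆ ∈ D.W := Iff.rfl

theorem fixClass_le (c : D.Gam) : M.fixClass c ≤ D.U := fun _ hy => hy.1

theorem W_le_fixClass (c : D.Gam) : D.W ≤ M.fixClass c := fun y hy => ⟨hy.1, by
  rw [commutatorElement_def]
  exact mul_mem (D.conj_mem_W c.2 hy) (inv_mem hy)⟩

theorem inv_fixClass (c : D.Gam) : Inv a (M.fixClass c) := fun y hy => ⟨D.inv_U y hy.1, by
  rw [← mem_fixedBy.mp c.2.2, ← map_commutatorElement, mem_fixedBy.mp (hy.2 : ⁅(c : G), y⁆ ∈ D.W).2]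
  exact hy.2⟩

theorem commutator_U_le_W : ⁅D.U, D.U⁆ ≤ D.W :=
  commutator_le.mpr fun u hu v hv => (M.special2_U D).comm_mem u hu v hv

/-- An element fixing every class centralises `U`. -/
theorem centralizes_of_fixClass (hS : Shape ρ D r m) (c : D.Gam) (h : D.U ≤ M.fixClass c) :
    (c : G) ∈ centralizer (D.U : Set G) := by
  have hsp := hS.sp
  refine M.centralizes_of_permN hS c.2 (M.permN_eq_one_of_fixes fun y hy => ?_)
  show (c : G) * y * (c : G)⁻¹ = y
  have hmem : y ∈ ⁅D.U, D.U⁆ := hsp.fix_le hy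
  rw [Subgroup.commutator_def] at hmem
  induction hmem using Subgroup.closure_induction with
  | mem z hz =>
    obtain ⟨s, hs, t, ht, rfl⟩ := hz
    have hs' := (h hs).2
    have ht' := (h ht).2
    have z1 : ∀ (w₁ : D.W) (y : D.U), commW hsp ⟨w₁, w₁.2.1⟩ y = 1 := fun w₁ y => Subtype.ext
      (commutatorElement_eq_one_iff_mul_comm.mpr (hsp.fix_central w₁ w₁.2 y y.2))
    have z2 : ∀ (w₂ : D.W) (y : D.U), commW hsp y ⟨w₂, w₂.2.1⟩ = 1 := fun w₂ y => Subtype.ext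
      (commutatorElement_eq_one_iff_mul_comm.mpr (hsp.fix_central w₂ w₂.2 y y.2).symm)
    have key : ∀ (w₁ w₂ : D.W) (x y : D.U),
        commW hsp (⟨w₁, w₁.2.1⟩ * x) (⟨w₂, w₂.2.1⟩ * y) = commW hsp x y := fun w₁ w₂ x y => by
      rw [commW_mul_left, z1, one_mul, commW_mul_right, z2, one_mul]
    have e := congrArg Subtype.val (key ⟨_, hs'⟩ ⟨_, ht'⟩ ⟨s, hs⟩ ⟨t, ht⟩)
    calc (c : G) * ⁅s, t⁆ * (c : G)⁻¹ = ⁅(c : G) * s * (c : G)⁻¹, (c : G) * t * (c : G)⁻¹⁆ := by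
          simp [commutatorElement_def, mul_assoc]
      _ = ⁅⁅(c : G), s⁆ * s, ⁅(c : G), t⁆ * t⁆ := by simp [commutatorElement_def, mul_assoc]
      _ = _ := e
  | one => group
  | mul s t hs ht ihs iht =>
    rw [← Subgroup.commutator_def] at hs ht
    calc (c : G) * (s * t) * (c : G)⁻¹ = ((c : G) * s * (c : G)⁻¹) * ((c : G) * t * (c : G)⁻¹) := by group
      _ = _ := by rw [ihs (M.commutator_U_le_W hs), iht (M.commutator_U_le_W ht)]
  | inv s hs ihs =>
    rw [← Subgroup.commutator_def] at hs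
    calc (c : G) * s⁻¹ * (c : G)⁻¹ = ((c : G) * s * (c : G)⁻¹)⁻¹ := by group
      _ = _ := by rw [ihs (M.commutator_U_le_W hs)]

/-- Elements inducing the same permutation fix the same classes. -/
theorem fixClass_le_of_permN_eq (hS : Shape ρ D r m) {c c' : D.Gam}
    (h : M.permN ⟨c, c.2.1⟩ = M.permN ⟨c', c'.2.1⟩) : M.fixClass c ≤ M.fixClass c' := by
  intro y hy
  refine ⟨hy.1, ?_⟩
  have hk : ((c⁻¹ * c' : D.Gam) : G) ∈ centralizer (D.U : Set G) := by
    refine M.centralizes_of_permN hS (c⁻¹ * c' : D.Gam).2 ?_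
    rw [show (⟨((c⁻¹ * c' : D.Gam) : G), (c⁻¹ * c' : D.Gam).2.1⟩ : D.N) = (⟨c, c.2.1⟩ : D.N)⁻¹ * ⟨c', c'.2.1⟩
      from rfl, map_mul, map_inv, h, inv_mul_cancel]
  have hky := mem_centralizer_iff.mp hk y hy.1
  rw [Subgroup.coe_mul, Subgroup.coe_inv] at hky
  have e : ⁅(c' : G), y⁆ = ⁅(c : G), y⁆ := by
    calc ⁅(c' : G), y⁆ = (c : G) * (((c : G)⁻¹ * c') * y) * ((c : G)⁻¹ * c')⁻¹ * (c : G)⁻¹ * y⁻¹ := by
          rw [commutatorElement_def]; group
      _ = (c : G) * (y * ((c : G)⁻¹ * c')) * ((c : G)⁻¹ * c')⁻¹ * (c : G)⁻¹ * y⁻¹ := by rw [hky]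
      _ = _ := by rw [commutatorElement_def]; group
  rw [e]
  exact hy.2

theorem fixClass_le_pow (c : D.Gam) : M.fixClass c ≤ M.fixClass (c * c) := fun y hy => ⟨hy.1, by
  rw [Subgroup.coe_mul, show ⁅(c : G) * c, y⁆ = ((c : G) * ⁅(c : G), y⁆ * (c : G)⁻¹) * ⁅(c : G), y⁆ by
    simp [commutatorElement_def, mul_assoc]]
  exact mul_mem (D.conj_mem_W c.2 hy.2) hy.2⟩

/-- With an index `2 ^ (4 * m)` the quadratic sum is positive. -/
theorem sum_quad_pos {m : ℕ} (hm : 0 < m) (hr : r = 2 ^ m + 1) (hsp : Special2 a D.U) [Fintype D.U]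
    (χ : D.W →* ℤˣ) (hidx : Nat.card D.U = 2 ^ (2 * (2 * m)) * Nat.card (rad hsp χ)) :
    ∑ x, (quad hsp χ x : ℤ) = 2 ^ (2 * m) * Nat.card (rad hsp χ) := by
  refine (M.sum_quad hsp χ hidx).resolve_right fun h => M.not_dvd_card_W (D := D) ?_
  have h1 := M.sum_quad_modEq hsp χ
  obtain ⟨j, hj⟩ := M.exists_card hm hr (inv_rad hsp χ) (W_le_rad hsp χ) (rad_le hsp χ)
  have h2 : (2 : ℤ) ^ m ≡ -1 [ZMOD r] := by
    rw [Int.modEq_iff_dvd, hr]; push_cast; exact ⟨-1, by ring⟩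
  have h2' : ∀ i : ℕ, (2 : ℤ) ^ (2 * m * i) ≡ 1 [ZMOD r] := fun i => by
    rw [show 2 * m * i = m * (2 * i) by ring, pow_mul]
    exact (h2.pow (2 * i)).trans (by rw [(even_two_mul i).neg_one_pow])
  have h3 : -((2 : ℤ) ^ (2 * m) * (2 ^ (2 * m * j) * Nat.card D.W)) ≡ -(1 * (1 * Nat.card D.W)) [ZMOD r] := by
    have h21 := h2' 1
    rw [mul_one] at h21
    exact ((h21.mul ((h2' j).mul_right _))).neg
  rw [h, hj] at h1
  push_cast at h1
  have h4 : -(1 * (1 * (Nat.card D.W : ℤ))) ≡ Nat.card D.W [ZMOD r] := h3.symm.trans h1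
  rw [Int.modEq_iff_dvd, show (Nat.card D.W : ℤ) - -(1 * (1 * Nat.card D.W)) = ((2 * Nat.card D.W : ℕ) : ℤ) by
    push_cast; ring, Int.natCast_dvd_natCast] at h4
  refine (M.coprimely.prime.dvd_mul.mp h4).resolve_left fun h5 => ?_
  have := Nat.le_of_dvd two_pos h5
  have := Nat.pow_le_pow_right two_pos hm
  rw [pow_one] at this
  omega

variable {χ : Fin 3 → D.W →* ℤˣ} {z : D.W}

theorem Three_z (hT : Three ρ D r m χ z) (i : Fin 3) : χ i z = -1 :=
  M.occ_center (hT.occ i) (mem_subgroupOf.mp hT.center) hT.ne_one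

theorem Three_rad_ne (hT : Three ρ D r m χ z) {i j : Fin 3} (h : i ≠ j) :
    rad hT.shape.sp (χ i) ≠ rad hT.shape.sp (χ j) := by
  intro he
  obtain ⟨l, hli, hlj⟩ := exists_third h
  have hsp := hT.shape.sp
  have hW : rad hsp (χ i) ⊓ rad hsp (χ l) ≤ D.W := by
    by_contra hne
    obtain ⟨μ, hμ, hle⟩ := M.exists_occ_not_le (D := D) (inf_le_left.trans (rad_le hsp _)) hne
    obtain ⟨n, rfl⟩ := hT.all μ hμ
    rcases fin3_cases (n := n) h hli hlj with rfl | rfl | rfl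
    · exact hle inf_le_left
    · exact hle (inf_le_left.trans he.le)
    · exact hle inf_le_right
  have hWeq : rad hsp (χ i) ⊓ rad hsp (χ l) = D.W :=
    le_antisymm hW (le_inf (W_le_rad hsp _) (W_le_rad hsp _))
  by_cases hil : rad hsp (χ i) = rad hsp (χ l)
  · rw [← hil, inf_idem] at hWeq
    have h1 := hT.shape.idx _ (hT.occ i)
    rw [hWeq] at h1
    have hlt := hT.big
    rw [h1] at hlt
    exact absurd hlt (not_lt.mpr (Nat.mul_le_mul_right _ (Nat.pow_le_pow_right two_pos (by omega))))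
  · obtain ⟨h1, h2⟩ := M.rad_mul_eq hT.shape.pos hT.shape.eq hsp (hT.shape.idx _ (hT.occ i))
      (hT.shape.idx _ (hT.occ l)) hil
    rw [h1, hWeq] at h2
    exact absurd hT.big (not_lt.mpr h2.le)

/-- The facts about a pair of characters and the third one. -/
theorem Three_pair (hT : Three ρ D r m χ z) {i j l : Fin 3} (hij : i ≠ j) (hli : l ≠ i) (hlj : l ≠ j) :
    rad hT.shape.sp (χ i * χ j) = rad hT.shape.sp (χ i) ⊓ rad hT.shape.sp (χ j) ∧
    rad hT.shape.sp (χ i * χ j) ⊓ rad hT.shape.sp (χ l) = D.W ∧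
    rad hT.shape.sp (χ l) ⊔ rad hT.shape.sp (χ i * χ j) = D.U ∧
    Nat.card D.U = 2 ^ (2 * (2 * m)) * Nat.card (rad hT.shape.sp (χ i * χ j)) ∧
    Nat.card (rad hT.shape.sp (χ i * χ j)) = 2 ^ (2 * m) * Nat.card D.W := by
  have hsp := hT.shape.sp
  obtain ⟨h1, h2⟩ := M.rad_mul_eq hT.shape.pos hT.shape.eq hsp (hT.shape.idx _ (hT.occ i))
    (hT.shape.idx _ (hT.occ j)) (M.Three_rad_ne hT hij)
  have h3 : rad hsp (χ i * χ j) ⊓ rad hsp (χ l) = D.W := by
    refine le_antisymm ?_ (le_inf (W_le_rad hsp _) (W_le_rad hsp _))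
    by_contra hne
    obtain ⟨μ, hμ, hle⟩ := M.exists_occ_not_le (D := D) (inf_le_left.trans (rad_le hsp _)) hne
    obtain ⟨n, rfl⟩ := hT.all μ hμ
    rcases fin3_cases (n := n) hij hli hlj with rfl | rfl | rfl
    · exact hle (inf_le_left.trans (h1.le.trans inf_le_left))
    · exact hle (inf_le_left.trans (h1.le.trans inf_le_right))
    · exact hle inf_le_right
  have h4 : rad hsp (χ l) ⊔ rad hsp (χ i * χ j) = D.U := by
    refine (M.eq_or_eq hT.shape.pos hT.shape.eq hsp (hT.shape.idx _ (hT.occ l))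
      ((inv_rad hsp _).sup (inv_rad hsp _)) le_sup_left
      (sup_le (rad_le hsp _) (rad_le hsp _))).resolve_left fun h => ?_
    rw [inf_eq_left.mpr (sup_eq_left.mp h)] at h3
    rw [h3] at h2
    exact absurd hT.big (not_lt.mpr h2.le)
  refine ⟨h1, h3, h4, h2, ?_⟩
  have hn : rad hsp (χ i * χ j) ≤ normalizer (rad hsp (χ l) : Set G) :=
    (rad_le hsp _).trans (le_normalizer_of_W_le hsp (W_le_rad hsp _) (rad_le hsp _))
  have h5 := relIndex_mul_card_eq (inf_le_left : rad hsp (χ i * χ j) ⊓ rad hsp (χ l) ≤ rad hsp (χ i * χ j))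
  rw [inf_relIndex_left, h3] at h5
  have h6 : (rad hsp (χ l)).relIndex (rad hsp (χ i * χ j) ⊔ rad hsp (χ l)) = 2 ^ (2 * m) := by
    refine Nat.eq_of_mul_eq_mul_right (Nat.card_pos (α := rad hsp (χ l))) ?_
    rw [sup_comm, h4, relIndex_mul_card_eq (rad_le hsp _)]
    exact hT.shape.idx _ (hT.occ l)
  have h7 : (rad hsp (χ l)).relIndex (rad hsp (χ i * χ j)) =
      (rad hsp (χ l)).relIndex (rad hsp (χ i * χ j) ⊔ rad hsp (χ l)) := by
    have hUn : ((rad hsp (χ l)).subgroupOf D.U).Normal :=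
      Subgroup.normal_subgroupOf_of_le_normalizer (le_normalizer_of_W_le hsp (W_le_rad hsp _) (rad_le hsp _))
    have hA := rad_le hsp (χ l)
    have hB := rad_le hsp (χ i * χ j)
    rw [← relIndex_subgroupOf hB, ← relIndex_subgroupOf (sup_le hB hA), subgroupOf_sup hB hA,
      relIndex_sup_right]
  rw [← h5, h7, h6]

theorem Three_card_U (hT : Three ρ D r m χ z) : Nat.card D.U = 2 ^ (2 * m * 3) * Nat.card D.W := by
  obtain ⟨-, -, -, h1, h2⟩ := M.Three_pair hT (i := 0) (j := 1) (l := 2) (by decide) (by decide) (by decide)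
  rw [h1, h2, ← mul_assoc, ← pow_add, show 2 * (2 * m) + 2 * m = 2 * m * 3 by ring]

/-- A nontrivial element of `W` modulo the centre is not moved onto its product with `z` inside `N`. -/
theorem Three_not_flip (hT : Three ρ D r m χ z) (n : D.N) (x : D.W)
    (h : M.conjN n x = x * z) : False := by
  classical
  have : Fintype {μ : D.W →* ℤˣ // Occ ρ D μ} := Fintype.ofFinite _
  have hcard : Fintype.card {μ : D.W →* ℤˣ // Occ ρ D μ} = 3 := by
    rw [← Fintype.card_fin 3]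
    exact (Fintype.card_of_bijective (f := fun i => (⟨χ i, hT.occ i⟩ : {μ : D.W →* ℤˣ // Occ ρ D μ}))
      ⟨fun i j e => hT.inj (congrArg Subtype.val e),
        fun μ => (hT.all μ.1 μ.2).imp fun i hi => Subtype.ext hi⟩).symm
  have h1 : ∏ μ : {μ : D.W →* ℤˣ // Occ ρ D μ}, M.actN n⁻¹ μ.1 x =
      ∏ μ : {μ : D.W →* ℤˣ // Occ ρ D μ}, μ.1 x :=
    Equiv.prod_comp (M.permN n⁻¹) (fun μ : {μ : D.W →* ℤˣ // Occ ρ D μ} => μ.1 x)
  have h2 : ∀ μ : {μ : D.W →* ℤˣ // Occ ρ D μ}, M.actN n⁻¹ μ.1 x = -1 * μ.1 x := fun μ => by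
    rw [M.actN_apply, inv_inv, h, map_mul, M.occ_center μ.2 (mem_subgroupOf.mp hT.center) hT.ne_one]
    exact mul_comm _ _
  rw [Finset.prod_congr rfl fun μ _ => h2 μ, Finset.prod_mul_distrib, Finset.prod_const, Finset.card_univ,
    hcard] at h1
  exact absurd (mul_eq_right.mp h1) (by decide)

/-- The noncentral elements of `W` are isolated. -/
theorem Three_isolated (hT : Three ρ D r m χ z)
    (hA : ∀ c ∈ fixedBy a, ∀ w ∈ D.W, w ∉ center G → c * w * c⁻¹ ∈ D.N → c ∈ D.N)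
    {w g : G} (hw : w ∈ D.W) (hwc : w ∉ center G) (hN : g * w * g⁻¹ ∈ D.N) : g ∈ D.N := by
  classical
  have hS := hT.shape
  have hsp := hS.sp
  obtain ⟨c, hc, u, hu, hv⟩ := M.exists_fixed_mul D hN
  have hcG : c ∈ D.Gam := hc
  have hv2 : g * w * g⁻¹ * (g * w * g⁻¹) = 1 := conj_mul_self (hsp.fix_sq w hw)
  have hu' : c⁻¹ * u * c ∈ D.U := by simpa using D.conj_mem_U (inv_mem hc.1) hu
  have hvexp : c * c * ((c⁻¹ * u * c) * u) = 1 := by
    rw [← hv2, hv]; group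
  have hccW : c * c ∈ D.W := by
    refine ⟨?_, (fixedBy a).mul_mem hc.2 hc.2⟩
    rw [eq_inv_of_mul_eq_one_left hvexp]
    exact D.U.inv_mem (mul_mem hu' hu)
  have hccC := M.W_le_centralizer_U hccW
  set σ := M.permN (⟨c, hc.1⟩ : D.N) with hσ
  by_cases hσ1 : σ = 1
  · -- pure
    have hcC : c ∈ centralizer (D.U : Set G) := M.centralizes_of_permN hS hcG hσ1
    by_cases huW : u ∈ D.W
    · exact M.mem_N_of_fused hA hw hwc hN (hv ▸ mul_mem hc.2 huW.2)
    by_contra hg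
    let ψ : D.U →* D.W ⧸ D.Zw :=
      { toFun := fun y => QuotientGroup.mk' D.Zw (commW hsp y ⟨u, hu⟩)
        map_one' := by
          rw [show commW hsp 1 ⟨u, hu⟩ = 1 from Subtype.ext (commutatorElement_one_left u), map_one]
        map_mul' := fun y y' => by rw [commW_mul_left, map_mul] }
    have hmove : ∀ y : D.U, y ∈ ψ.ker → g⁻¹ * y * g ∈ D.N := by
      intro y hy
      have hz : ⁅(y : G), u⁆ ∈ center G :=
        mem_subgroupOf.mp ((QuotientGroup.eq_one_iff _).mp (MonoidHom.mem_ker.mp hy))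
      refine M.mem_N_of_conj D hw hwc hw (z := ⁅(y : G), u⁆) hz ?_
      have e : (y : G) * (g * w * g⁻¹) * (y : G)⁻¹ = ⁅(y : G), u⁆ * (g * w * g⁻¹) := by
        have hyc' : (y : G) * c = c * y := mem_centralizer_iff.mp hcC y y.2
        have hz' := mem_center_iff.mp hz c
        calc (y : G) * (g * w * g⁻¹) * (y : G)⁻¹ = (y * c) * u * (y : G)⁻¹ := by rw [hv]; group
          _ = c * ⁅(y : G), u⁆ * u := by rw [hyc', commutatorElement_def]; group
          _ = ⁅(y : G), u⁆ * (g * w * g⁻¹) := by rw [hv, hz', mul_assoc]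
      calc g⁻¹ * y * g * w * (g⁻¹ * y * g)⁻¹ = g⁻¹ * ((y : G) * (g * w * g⁻¹) * (y : G)⁻¹) * g := by group
        _ = g⁻¹ * ⁅(y : G), u⁆ * g * w := by rw [e]; group
        _ = w * ⁅(y : G), u⁆ := by
          rw [mem_center_iff.mp hz g⁻¹, mul_assoc _ g⁻¹ g, inv_mul_cancel, mul_one, ← mem_center_iff.mp hz w]
    let θ : ψ.ker →* Equiv.Perm {μ : D.W →* ℤˣ // Occ ρ D μ} :=
      M.permN.comp
        { toFun := fun y => ⟨g⁻¹ * ((y : D.U) : G) * g, hmove y.1 y.2⟩
          map_one' := Subtype.ext (by simp)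
          map_mul' := fun y y' => Subtype.ext (by simp [mul_assoc]) }
    let L0 : Subgroup G := (θ.ker.map ψ.ker.subtype).map D.U.subtype
    have hL0U : L0 ≤ D.U := map_subtype_le _
    have hsing : ∀ y ∈ L0, y * y ∈ center G := by
      rintro _ ⟨y, ⟨⟨y', hy'⟩, hyθ, rfl⟩, rfl⟩
      show (y' : G) * y' ∈ center G
      by_contra hyc
      have hy2 : (y' : G) * y' ∈ D.W := hsp.sq_mem y' y'.2
      have hn := hmove y' hy'
      obtain ⟨c', hc', u', hu'', hn'⟩ := M.exists_fixed_mul D hn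
      have hc'C : c' ∈ centralizer (D.U : Set G) := by
        refine M.centralizes_of_permN hS (show c' ∈ D.Gam from hc') ?_
        rw [← M.permN_mul_mem_U hc'.1 hu'',
          show (⟨c' * u', D.N.mul_mem hc'.1 (D.U_le_N hu'')⟩ : D.N) = ⟨g⁻¹ * (y' : G) * g, hn⟩
            from Subtype.ext hn'.symm]
        exact MonoidHom.mem_ker.mp hyθ
      refine hg (inv_mem_iff.mp (M.mem_N_of_fused hA (g := g⁻¹) hy2 hyc ?_ ?_))
      · rw [show g⁻¹ * ((y' : G) * y') * g⁻¹⁻¹ = (g⁻¹ * y' * g) * (g⁻¹ * y' * g) by group]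
        exact mul_mem hn hn
      · rw [show g⁻¹ * ((y' : G) * y') * g⁻¹⁻¹ = (g⁻¹ * y' * g) * (g⁻¹ * y' * g) by group, hn',
          M.mul_self_of_pure hc'C hu'']
        exact mul_mem (mul_mem hc'.2 hc'.2) (hsp.sq_mem u' hu'').2
    -- `L0` is large
    have hU4 : Nat.card D.U ≤ 4 * Nat.card ψ.ker := by
      have h1 := ψ.ker.card_mul_index
      rw [Subgroup.index_ker] at h1
      rw [← h1, mul_comm]
      refine Nat.mul_le_mul_right _ (le_of_le_of_eq ?_ hT.index)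
      exact Nat.le_of_dvd Nat.card_pos (card_subgroup_dvd_card _)
    have hθ : Nat.card θ.range ≤ 2 := by
      have h2 : IsPGroup 2 θ.range := by
        rw [MonoidHom.range_eq_map]
        exact ((D.isPGroup_U.to_subgroup ψ.ker).to_subgroup ⊤).map θ
      obtain ⟨e, he⟩ := IsPGroup.iff_card.mp h2
      have h6 : Nat.card θ.range ∣ 6 := by
        refine (card_subgroup_dvd_card θ.range).trans (dvd_of_eq ?_)
        rw [Nat.card_perm, show Nat.card {μ : D.W →* ℤˣ // Occ ρ D μ} = 3 by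
          rw [← Nat.card_fin 3]
          exact (Nat.card_eq_of_bijective (fun i => (⟨χ i, hT.occ i⟩ : {μ : D.W →* ℤˣ // Occ ρ D μ}))
            ⟨fun i j e => hT.inj (congrArg Subtype.val e),
              fun μ => (hT.all μ.1 μ.2).imp fun i hi => Subtype.ext hi⟩).symm]
        rfl
      rw [he] at h6 ⊢
      have := Nat.le_of_dvd (by norm_num) h6
      rcases Nat.lt_or_ge e 2 with he2 | he2
      · interval_cases e <;> norm_num
      · exfalso
        have h4 := (pow_dvd_pow 2 he2).trans h6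
        norm_num at h4
    have hL0 : Nat.card ψ.ker ≤ 2 * Nat.card L0 := by
      have h1 := θ.ker.card_mul_index
      rw [Subgroup.index_ker] at h1
      rw [← h1, mul_comm]
      refine Nat.mul_le_mul hθ (le_of_eq ?_)
      rw [Subgroup.card_map_of_injective D.U.subtype_injective,
        Subgroup.card_map_of_injective ψ.ker.subtype_injective]
    -- and small
    obtain ⟨hr, hr3, -, hidx, -⟩ := M.Three_pair hT (i := 0) (j := 1) (l := 2) (by decide) (by decide) (by decide)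
    have hsq : ∀ x : D.U, (x : G) ∈ L0 → χ 0 (sqW hsp x) = χ 1 (sqW hsp x) ∧
        χ 0 (sqW hsp x) = χ 2 (sqW hsp x) := fun x hx =>
      ⟨M.occ_center_eq (hT.occ 0) (hT.occ 1) (hsing x hx),
        M.occ_center_eq (hT.occ 0) (hT.occ 2) (hsing x hx)⟩
    have hq01 : ∀ x : D.U, (x : G) ∈ L0 → quad hsp (χ 0 * χ 1) x = 1 := fun x hx => by
      show χ 0 (sqW hsp x) * χ 1 (sqW hsp x) = 1
      rw [← (hsq x hx).1, Int.units_mul_self]
    have hb1 := M.isotropic_bound hsp (χ 0 * χ 1) (e := 2 * m) hidx hL0U fun x y hx hy => by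
      have h := (quad_isQuad hsp (χ 0 * χ 1)).mul x y
      rw [hq01 x hx, hq01 y hy, hq01 (x * y) (mul_mem hx hy), one_mul, one_mul] at h
      exact h.symm
    have hb2 := M.singular_bound hS.pos hS.eq hsp (χ 2) (hS.idx _ (hT.occ 2))
      (inf_le_left.trans hL0U : L0 ⊓ rad hsp (χ 0 * χ 1) ≤ D.U) fun x hx => by
        show χ 2 (sqW hsp x) = 1
        rw [← (hsq x hx.1).2]
        exact M.quad_rad hsp (χ 0) (hr.le hx.2).1
    have hW' : Nat.card ↥(L0 ⊓ rad hsp (χ 0 * χ 1) ⊓ rad hsp (χ 2)) ≤ Nat.card D.W := by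
      refine Nat.le_of_dvd Nat.card_pos (card_dvd_of_le fun x hx => ?_)
      exact hr3.le ⟨hx.1.2, hx.2⟩
    have hfin : 2 ^ (2 * m * 3) * Nat.card D.W ≤
        4 * (2 * (2 ^ (2 * m) * (2 ^ (m - 1) * Nat.card D.W))) := by
      rw [← M.Three_card_U hT]
      refine hU4.trans (Nat.mul_le_mul_left _ (hL0.trans (Nat.mul_le_mul_left _ (hb1.trans ?_))))
      exact Nat.mul_le_mul_left _ (hb2.trans (Nat.mul_le_mul_left _ hW'))
    rw [← mul_assoc, ← mul_assoc, ← mul_assoc, show (4 : ℕ) = 2 ^ 2 from rfl, ← pow_succ, ← pow_add,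
      ← pow_add] at hfin
    have := (Nat.pow_le_pow_iff_right one_lt_two).mp (Nat.le_of_mul_le_mul_right hfin Nat.card_pos)
    have := hS.pos
    omega
  -- a transposition
  obtain ⟨⟨μ₀, hμ₀⟩, hmov⟩ : ∃ μ, σ μ ≠ μ := by
    by_contra hno
    push Not at hno
    exact hσ1 (Equiv.ext hno)
  obtain ⟨i, rfl⟩ := hT.all μ₀ hμ₀
  obtain ⟨j, hj⟩ := hT.all _ (σ ⟨χ i, hμ₀⟩).2
  have hij : i ≠ j := fun e => hmov (Subtype.ext (hj.symm.trans (congrArg χ e).symm))
  obtain ⟨l, hli, hlj⟩ := exists_third hij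
  have hact : ∀ μ, M.actN (⟨c, hc.1⟩ : D.N) μ = D.act ⟨c, hcG⟩ μ :=
    M.actN_of_eq _ hcG (one_mem _) (mul_one c).symm
  have hinv : ∀ μ, D.act ⟨c, hcG⟩ (D.act ⟨c, hcG⟩ μ) = μ := fun μ => by
    rw [UData.act_act, M.act_eq_of_centralizes (g := (⟨c, hcG⟩ * ⟨c, hcG⟩ : D.Gam)) hccC]
  have hi : D.act ⟨c, hcG⟩ (χ i) = χ j := by rw [← hact]; exact hj.symm
  have hj' : D.act ⟨c, hcG⟩ (χ j) = χ i := by rw [← hi, hinv]
  have hl : D.act ⟨c, hcG⟩ (χ l) = χ l := by
    obtain ⟨n, hn⟩ := hT.all _ (M.occ_act (hT.occ l) ⟨c, hcG⟩)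
    rcases fin3_cases (n := n) hij hli hlj with rfl | rfl | rfl
    · have e := hinv (χ l)
      rw [← hn, hi] at e
      exact absurd (hT.inj e) hlj.symm
    · have e := hinv (χ l)
      rw [← hn, hj'] at e
      exact absurd (hT.inj e) hli.symm
    · exact hn.symm
  obtain ⟨hrij, hW, hsup, hidx, hcard⟩ := M.Three_pair hT hij hli hlj
  set B := rad hsp (χ i * χ j) with hB
  have hBU : B ≤ D.U := rad_le hsp _
  have hWB : D.W ≤ B := W_le_rad hsp _
  have hcB : ∀ y ∈ B, c * y * c⁻¹ ∈ B := by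
    intro y hy
    rw [hrij] at hy ⊢
    refine ⟨?_, ?_⟩
    · rw [← hj']
      exact (mem_rad_act hsp ⟨c, hcG⟩ (χ j)).mpr hy.2
    · rw [← hi]
      exact (mem_rad_act hsp ⟨c, hcG⟩ (χ i)).mpr hy.1
  have hcl : ∀ x ∈ D.U, ⁅c, x⁆ ∈ rad hsp (χ l) := fun x hx =>
    M.commutator_mem_rad hS.pos hS.eq hsp (hS.idx _ (hT.occ l)) ⟨c, hcG⟩ hl hx
  have hcomm : ∀ y ∈ disp a B, c * y = y * c := fun y hy => by
    have hmem : ∀ x ∈ B, ⁅c, x⁆ ∈ D.W := fun x hx => hW.le ⟨by
      rw [commutatorElement_def]; exact B.mul_mem (hcB x hx) (B.inv_mem hx), hcl x (hBU hx)⟩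
    refine commutatorElement_eq_one_iff_mul_comm.mp (eq_one_on_disp (inv_rad hsp _) (fun x => ⁅c, x⁆)
      (fun x hx x' hx' => ?_) (fun x hx => ?_) (commutatorElement_one_right c) hy)
    · calc ⁅c, x * x'⁆ = ⁅c, x⁆ * (x * ⁅c, x'⁆ * x⁻¹) := by simp [commutatorElement_def, mul_assoc]
        _ = _ := by rw [← hsp.fix_central _ (hmem x' hx') x (hBU hx), mul_inv_cancel_right]
    · conv_lhs => rw [← mem_fixedBy.mp hc.2, ← map_commutatorElement]
      exact mem_fixedBy.mp (hmem x hx).2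
  have hdisp : ¬ disp a B ≤ rad hsp (χ l) := fun h => by
    have hle : B ≤ rad hsp (χ l) := fun x hx => by
      obtain ⟨d, hd, w', hw', rfl⟩ := M.coprimely.exists_disp_mul (inv_rad hsp _) hx
      rw [M.inf_fixed_eq_W hWB hBU] at hw'
      exact mul_mem (W_le_rad hsp _ hw') (h hd)
    rw [inf_eq_left.mpr hle] at hW
    have h' := hcard
    rw [hW] at h'
    exact absurd h' (Nat.ne_of_lt (lt_mul_of_one_lt_left Nat.card_pos (Nat.one_lt_two_pow (by
      have := hS.pos; omega))))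
  have hsup' : rad hsp (χ l) ⊔ disp a B = D.U := by
    refine (M.eq_or_eq hS.pos hS.eq hsp (hS.idx _ (hT.occ l)) ((inv_rad hsp _).sup (inv_disp (inv_rad hsp _)))
      le_sup_left (sup_le (rad_le hsp _) ((disp_le (inv_rad hsp _)).trans hBU))).resolve_left fun h => ?_
    exact hdisp (sup_eq_left.mp h)
  -- the third component of `u` vanishes
  have hul : u ∈ rad hsp (χ l) := by
    by_contra hul
    obtain ⟨y, hyd, hy⟩ : ∃ y : D.U, (y : G) ∈ disp a B ∧ χ l (commW hsp y ⟨u, hu⟩) ≠ 1 := by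
      by_contra hno
      push Not at hno
      refine hul (mem_rad.mpr ⟨hu, fun x => ?_⟩)
      rw [← commW_symm]
      have hx : (x : G) ∈ rad hsp (χ l) ⊔ disp a B := hsup'.symm ▸ x.2
      rw [← SetLike.mem_coe, Subgroup.coe_mul_of_right_le_normalizer_left _ _ (((disp_le (inv_rad hsp _)).trans
        hBU).trans (le_normalizer_of_W_le hsp (W_le_rad hsp _) (rad_le hsp _)))] at hx
      obtain ⟨s, hs, t, ht, he⟩ := hx
      obtain ⟨hsU, hs'⟩ := mem_rad.mp hs
      rw [show x = (⟨s, hsU⟩ : D.U) * ⟨t, hBU (disp_le (inv_rad hsp _) ht)⟩ from Subtype.ext he.symm,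
        commW_mul_left, map_mul, hs', one_mul, hno ⟨t, hBU (disp_le (inv_rad hsp _) ht)⟩ ht]
    have hyB : (y : G) ∈ B := disp_le (inv_rad hsp _) hyd
    obtain ⟨ω, hω⟩ : ∃ ω : D.W, χ i ω ≠ χ j ω := by
      by_contra hno
      push Not at hno
      exact hij (hT.inj (MonoidHom.ext hno))
    have hω' : χ i ω * χ j ω = -1 := by
      rcases Int.units_eq_one_or (χ i ω) with h | h <;> rcases Int.units_eq_one_or (χ j ω) with h' | h' <;>
        simp [h, h'] at hω ⊢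
    set ω₂ : D.W := ω * (D.conjW ⟨c, hcG⟩ ω)⁻¹ with hω₂
    set ζ : D.W := ω₂ * D.conjW ⟨c, hcG⟩ (commW hsp y ⟨u, hu⟩) with hζ
    have hcact : ∀ (μ : D.W →* ℤˣ) (x : D.W), μ (D.conjW ⟨c, hcG⟩ x) = D.act ⟨c, hcG⟩ μ x := by
      intro μ x
      conv_lhs => rw [← hinv μ]
      rw [UData.act_apply, ← MulAut.mul_apply, ← map_mul, inv_mul_cancel, map_one]
      rfl
    have hval : ∀ μ, μ ζ = μ ω * (D.act ⟨c, hcG⟩ μ ω)⁻¹ * D.act ⟨c, hcG⟩ μ (commW hsp y ⟨u, hu⟩) :=
      fun μ => by rw [hζ, hω₂, map_mul, map_mul, map_inv μ, hcact, hcact]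
    have hyr := hrij.le hyB
    have hyi : χ i (commW hsp y ⟨u, hu⟩) = 1 := by
      obtain ⟨_, h⟩ := mem_rad.mp hyr.1
      exact h ⟨u, hu⟩
    have hyj : χ j (commW hsp y ⟨u, hu⟩) = 1 := by
      obtain ⟨_, h⟩ := mem_rad.mp hyr.2
      exact h ⟨u, hu⟩
    have hζz : ζ = z := by
      refine mul_inv_eq_one.mp ?_
      by_contra hne
      obtain ⟨μ, hμ, hμx⟩ := M.exists_occ hne
      obtain ⟨n, rfl⟩ := hT.all μ hμ
      rw [map_mul, map_inv (χ n), M.Three_z hT n, hval] at hμx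
      rcases fin3_cases (n := n) hij hli hlj with rfl | rfl | rfl
      · rw [hi, hyj, Int.units_inv_eq_self, hω'] at hμx
        exact absurd hμx (by decide)
      · rw [hj', hyi, Int.units_inv_eq_self, mul_comm (χ n ω), hω'] at hμx
        exact absurd hμx (by decide)
      · rw [hl, mul_inv_cancel, one_mul,
          (Int.units_eq_one_or _).resolve_left hy] at hμx
        exact absurd hμx (by decide)
    have he : ((y : G) * ω) * (g * w * g⁻¹) * ((y : G) * ω)⁻¹ = (z : G) * (g * w * g⁻¹) := by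
      rw [← hζz, hζ, hω₂]
      simp only [Subgroup.coe_mul, Subgroup.coe_inv, UData.conjW_apply]
      show _ = (ω : G) * (c * ω * c⁻¹)⁻¹ * (c * ⁅(y : G), u⁆ * c⁻¹) * (g * w * g⁻¹)
      rw [hv]
      have hωu := hsp.fix_central _ ω.2 u hu
      have hω2m : (ω : G) * (c * ω * c⁻¹)⁻¹ ∈ D.W := mul_mem ω.2 (inv_mem (D.conj_mem_W hcG ω.2))
      have hω2y := hsp.fix_central _ hω2m y y.2
      calc (y : G) * ω * (c * u) * ((y : G) * ω)⁻¹
          = (y : G) * (((ω : G) * (c * ω * c⁻¹)⁻¹) * c * ((ω : G) * u * (ω : G)⁻¹)) * (y : G)⁻¹ := by group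
        _ = ((y : G) * ((ω : G) * (c * ω * c⁻¹)⁻¹)) * c * u * (y : G)⁻¹ := by
          rw [hωu, mul_inv_cancel_right]; group
        _ = ((ω : G) * (c * ω * c⁻¹)⁻¹) * ((y : G) * c) * u * (y : G)⁻¹ := by rw [← hω2y]; group
        _ = _ := by rw [← hcomm y hyd, commutatorElement_def]; group
    have hzc : (z : G) ∈ center G := mem_subgroupOf.mp hT.center
    have hconj : (g⁻¹ * ((y : G) * ω) * g) * w * (g⁻¹ * ((y : G) * ω) * g)⁻¹ = w * z := by
      calc _ = g⁻¹ * (((y : G) * ω) * (g * w * g⁻¹) * ((y : G) * ω)⁻¹) * g := by group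
        _ = g⁻¹ * (z : G) * g * w := by rw [he]; group
        _ = _ := by
          rw [mem_center_iff.mp hzc g⁻¹, mul_assoc _ g⁻¹ g, inv_mul_cancel, mul_one, ← mem_center_iff.mp hzc w]
    exact M.Three_not_flip hT ⟨_, M.mem_N_of_conj D hw hwc hw hzc hconj⟩ ⟨w, hw⟩ (Subtype.ext hconj)
  -- `u` is then conjugate into the fixed part
  set cc : D.Gam := ⟨c, hcG⟩ with hcc
  set K := M.fixClass cc with hK
  have hKU : K ≤ D.U := M.fixClass_le cc
  have himg : ∀ x ∈ D.U, ⁅c, x⁆ ∈ K ⊓ rad hsp (χ l) := fun x hx => by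
    refine ⟨⟨(rad_le hsp _) (hcl x hx), ?_⟩, hcl x hx⟩
    show ⁅c, ⁅c, x⁆⁆ ∈ D.W
    have hccx := mem_centralizer_iff.mp hccC x hx
    have hcU : ⁅c, x⁆ ∈ D.U := rad_le hsp _ (hcl x hx)
    have e : ⁅c, ⁅c, x⁆⁆ = (⁅c, x⁆ * ⁅c, x⁆)⁻¹ := by
      have e1 : c * ⁅c, x⁆ * c⁻¹ = ⁅c, x⁆⁻¹ := by
        calc c * ⁅c, x⁆ * c⁻¹ = (c * c * x) * (c * c)⁻¹ * c * x⁻¹ * c⁻¹ := by
              rw [commutatorElement_def]; group
          _ = (x * (c * c)) * (c * c)⁻¹ * c * x⁻¹ * c⁻¹ := by rw [hccx]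
          _ = _ := by rw [commutatorElement_def]; group
      rw [commutatorElement_def c ⁅c, x⁆, e1]; group
    rw [e]
    exact inv_mem (hsp.sq_mem _ hcU)
  let F : D.U ⧸ K.subgroupOf D.U → ↥(K ⊓ rad hsp (χ l)) ⧸ D.W.subgroupOf (K ⊓ rad hsp (χ l)) :=
    Quotient.lift (fun x : D.U => ((⟨⁅c, (x : G)⁆, himg x x.2⟩ : ↥(K ⊓ rad hsp (χ l))) : _ ⧸ _)) (by
      intro x x' hxx
      have hd : ⁅c, (x : G)⁻¹ * x'⁆ ∈ D.W :=
        (mem_subgroupOf.mp (QuotientGroup.leftRel_apply.mp hxx) : (x : G)⁻¹ * x' ∈ K).2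
      rw [QuotientGroup.eq, mem_subgroupOf]
      show ⁅c, (x : G)⁆⁻¹ * ⁅c, (x' : G)⁆ ∈ D.W
      have e : ⁅c, (x' : G)⁆ = ⁅c, (x : G)⁆ * ((x : G) * ⁅c, (x : G)⁻¹ * x'⁆ * (x : G)⁻¹) := by
        simp [commutatorElement_def, mul_assoc]
      rw [e, ← hsp.fix_central _ hd x x.2, mul_inv_cancel_right, inv_mul_cancel_left]
      exact hd)
  have hFinj : Function.Injective F := by
    intro q q'
    induction q using Quotient.inductionOn with
    | _ x =>
      induction q' using Quotient.inductionOn with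
      | _ x' =>
        intro h
        change (QuotientGroup.mk (⟨⁅c, (x : G)⁆, himg x x.2⟩ : ↥(K ⊓ rad hsp (χ l))) : ↥(K ⊓ rad hsp (χ l)) ⧸ D.W.subgroupOf (K ⊓ rad hsp (χ l))) =
          QuotientGroup.mk (⟨⁅c, (x' : G)⁆, himg x' x'.2⟩ : ↥(K ⊓ rad hsp (χ l))) at h
        rw [QuotientGroup.eq, mem_subgroupOf] at h
        have h' : ⁅c, (x : G)⁆⁻¹ * ⁅c, (x' : G)⁆ ∈ D.W := h
        refine Quotient.sound (QuotientGroup.leftRel_apply.mpr (mem_subgroupOf.mpr
          ⟨mul_mem (inv_mem x.2) x'.2, ?_⟩))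
        show ⁅c, (x : G)⁻¹ * x'⁆ ∈ D.W
        have e : ⁅c, (x : G)⁻¹ * x'⁆ = (x : G)⁻¹ * (⁅c, (x : G)⁆⁻¹ * ⁅c, (x' : G)⁆) * x := by
          simp [commutatorElement_def, mul_assoc]
        rw [e, ← hsp.fix_central _ h' _ (inv_mem x.2), inv_mul_cancel_right]
        exact h'
  -- cardinalities
  have hc1 := Nat.card_le_card_of_injective F hFinj
  have hKne : K ≠ D.U := fun h => hσ1 (M.permN_of_centralizes hc.1 (M.centralizes_of_fixClass hS cc h.ge))
  have hKsup : rad hsp (χ l) ⊔ K = D.U := by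
    refine (M.eq_or_eq hS.pos hS.eq hsp (hS.idx _ (hT.occ l)) ((inv_rad hsp _).sup (M.inv_fixClass cc))
      le_sup_left (sup_le (rad_le hsp _) hKU)).resolve_left fun h => hdisp (le_trans ?_ (sup_eq_left.mp h))
    exact fun y hy => ⟨hBU (disp_le (inv_rad hsp _) hy), by
      show ⁅c, y⁆ ∈ D.W
      rw [commutatorElement_eq_one_iff_mul_comm.mpr (hcomm y hy)]; exact one_mem _⟩
  have e1 : Nat.card (D.U ⧸ K.subgroupOf D.U) * Nat.card K = Nat.card D.U := relIndex_mul_card_eq hKU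
  have e2 : Nat.card (↥(K ⊓ rad hsp (χ l)) ⧸ D.W.subgroupOf (K ⊓ rad hsp (χ l))) * Nat.card D.W =
      Nat.card ↥(K ⊓ rad hsp (χ l)) := relIndex_mul_card_eq (le_inf (M.W_le_fixClass cc) (W_le_rad hsp _))
  have e3 : Nat.card K = 2 ^ (2 * m) * Nat.card ↥(K ⊓ rad hsp (χ l)) := by
    have h5 := relIndex_mul_card_eq (inf_le_left : K ⊓ rad hsp (χ l) ≤ K)
    rw [inf_relIndex_left] at h5
    have h7 : (rad hsp (χ l)).relIndex K = (rad hsp (χ l)).relIndex (K ⊔ rad hsp (χ l)) := by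
      have hUn : ((rad hsp (χ l)).subgroupOf D.U).Normal :=
        Subgroup.normal_subgroupOf_of_le_normalizer (le_normalizer_of_W_le hsp (W_le_rad hsp _) (rad_le hsp _))
      have hA' := rad_le hsp (χ l)
      rw [← relIndex_subgroupOf hKU, ← relIndex_subgroupOf (sup_le hKU hA'), subgroupOf_sup hKU hA',
        relIndex_sup_right]
    rw [h7, sup_comm, hKsup] at h5
    rw [← h5]
    congr 1
    exact Nat.eq_of_mul_eq_mul_right Nat.card_pos ((relIndex_mul_card_eq (rad_le hsp _)).trans (hS.idx _ (hT.occ l)))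
  obtain ⟨jK, hjK⟩ := M.exists_card hS.pos hS.eq (M.inv_fixClass cc) (M.W_le_fixClass cc) hKU
  have hcardU := M.Three_card_U hT
  set W0 := Nat.card D.W with hW0
  set A := Nat.card (D.U ⧸ K.subgroupOf D.U) with hA0
  set B' := Nat.card (↥(K ⊓ rad hsp (χ l)) ⧸ D.W.subgroupOf (K ⊓ rad hsp (χ l))) with hB0
  have hW0p : 0 < W0 := Nat.card_pos
  have hjK2 : jK ≤ 2 := by
    by_contra hgt
    refine hKne (Subgroup.eq_of_le_of_card_ge hKU ?_)
    rw [hjK, hcardU]
    exact Nat.mul_le_mul_right _ (Nat.pow_le_pow_right two_pos (Nat.mul_le_mul_left _ (by omega)))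
  have eB : 2 ^ (2 * m) * B' = 2 ^ (2 * m * jK) := by
    refine Nat.eq_of_mul_eq_mul_right hW0p ?_
    rw [mul_assoc, e2, ← e3]
    exact hjK
  have eA : A * 2 ^ (2 * m * jK) = 2 ^ (2 * m * 3) := by
    refine Nat.eq_of_mul_eq_mul_right hW0p ?_
    rw [mul_assoc]
    rw [← hjK, ← hcardU]
    exact e1
  have hAB : A = B' := by
    refine le_antisymm hc1 ?_
    refine Nat.le_of_mul_le_mul_left (c := 2 ^ (2 * m)) ?_ (by positivity)
    rw [eB]
    refine Nat.le_of_mul_le_mul_right (c := 2 ^ (2 * m * jK)) ?_ (by positivity)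
    rw [Nat.mul_assoc (2 ^ (2 * m)) A (2 ^ (2 * m * jK)), eA, ← pow_add, ← pow_add]
    refine Nat.pow_le_pow_right two_pos ?_
    calc 2 * m * jK + 2 * m * jK = 2 * m * (2 * jK) := by ring
      _ ≤ 2 * m * (1 + 3) := Nat.mul_le_mul_left _ (by omega)
      _ = 2 * m + 2 * m * 3 := by ring
  have hFsurj : Function.Surjective F := ((Nat.bijective_iff_injective_and_card F).mpr ⟨hFinj, hAB⟩).2
  have hucu : c * u * c⁻¹ = c⁻¹ * u * c := by
    have h := mem_centralizer_iff.mp hccC _ hu'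
    calc c * u * c⁻¹ = (c * c * (c⁻¹ * u * c)) * (c * c)⁻¹ := by group
      _ = _ := by rw [← h, mul_inv_cancel_right]
  have huK : u ∈ K := by
    refine ⟨hu, ?_⟩
    show ⁅c, u⁆ ∈ D.W
    have e : ⁅c, u⁆ = (c * c)⁻¹ * (u * u)⁻¹ := by
      rw [commutatorElement_def, hucu, ← eq_inv_of_mul_eq_one_right hvexp]
      group
    rw [e]
    exact mul_mem (inv_mem hccW) (inv_mem (hsp.sq_mem u hu))
  obtain ⟨q, hq⟩ := hFsurj (QuotientGroup.mk (⟨u, huK, hul⟩ : ↥(K ⊓ rad hsp (χ l))))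
  induction q using Quotient.inductionOn with
  | _ x =>
    change (QuotientGroup.mk (⟨⁅c, (x : G)⁆, himg x x.2⟩ : ↥(K ⊓ rad hsp (χ l))) : ↥(K ⊓ rad hsp (χ l)) ⧸ D.W.subgroupOf (K ⊓ rad hsp (χ l))) =
      QuotientGroup.mk (⟨u, huK, hul⟩ : ↥(K ⊓ rad hsp (χ l))) at hq
    rw [QuotientGroup.eq, mem_subgroupOf] at hq
    have hd : ⁅c, (x : G)⁆⁻¹ * u ∈ D.W := hq
    set d := ⁅c, (x : G)⁆⁻¹ * u with hddef
    set s := ⁅(x : G), u⁆ with hsdef
    have hs : s ∈ D.W := hsp.comm_mem x x.2 u hu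
    have hxu : (x : G) * u * (x : G)⁻¹ = s * u := by rw [hsdef, commutatorElement_def]; group
    have hccx := mem_centralizer_iff.mp hccC x x.2
    have hxc : (x : G) * c * (x : G)⁻¹ = c * ⁅c, (x : G)⁆ := by
      calc (x : G) * c * (x : G)⁻¹ = ((x : G) * (c * c)) * c⁻¹ * (x : G)⁻¹ := by group
        _ = (c * c * (x : G)) * c⁻¹ * (x : G)⁻¹ := by rw [hccx]
        _ = _ := by rw [commutatorElement_def]; group
    have hcx : ⁅c, (x : G)⁆ = u * d⁻¹ := by rw [hddef]; group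
    have e : ((x : G) * g) * w * ((x : G) * g)⁻¹ = c * ((u * u) * (d⁻¹ * s)) := by
      calc ((x : G) * g) * w * ((x : G) * g)⁻¹ = ((x : G) * c * (x : G)⁻¹) * ((x : G) * u * (x : G)⁻¹) := by
            rw [show ((x : G) * g) * w * ((x : G) * g)⁻¹ = (x : G) * (g * w * g⁻¹) * (x : G)⁻¹ by group, hv]
            group
        _ = c * (u * ((d⁻¹ * s) * u)) := by rw [hxc, hcx, hxu]; group
        _ = _ := by rw [hsp.fix_central _ (mul_mem (inv_mem hd) hs) u hu]; group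
    have hfix : ((x : G) * g) * w * ((x : G) * g)⁻¹ ∈ D.N ⊓ fixedBy a := by
      rw [e]
      have hm : u * u * (d⁻¹ * s) ∈ D.W := mul_mem (hsp.sq_mem u hu) (mul_mem (inv_mem hd) hs)
      exact ⟨D.N.mul_mem hc.1 (D.W_le_N hm), (fixedBy a).mul_mem hc.2 hm.2⟩
    exact (D.N.mul_mem_cancel_left (D.U_le_N x.2)).mp
      (M.mem_N_of_fused hA hw hwc hfix.1 hfix.2)

/-- A transitive family contains a permutation of order three. -/
theorem Three_order_three (hT : Three ρ D r m χ z) (H : Subgroup D.Gam)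
    (htrans : ∀ x y : D.W, x ∉ D.Zw → y ∉ D.Zw → ∃ c ∈ H, (D.conjW c x)⁻¹ * y ∈ D.Zw) :
    ∃ c ∈ H, orderOf (M.permN (⟨c, c.2.1⟩ : D.N)) = 3 := by
  classical
  let π : D.Gam →* Equiv.Perm {μ : D.W →* ℤˣ // Occ ρ D μ} := M.permN.comp (Subgroup.inclusion inf_le_left)
  obtain ⟨x₀, hx₀⟩ : ∃ x : D.W, x ∉ D.Zw := by
    by_contra h
    push Not at h
    have := hT.index
    rw [(eq_top_iff.mpr fun x _ => h x : D.Zw = ⊤), Subgroup.index_top] at this
    omega
  have hex : ∀ q : {q : D.W ⧸ D.Zw // q ≠ 1}, ∃ c ∈ H, ((D.conjW c x₀ : D.W) : D.W ⧸ D.Zw) = q.1 := by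
    rintro ⟨q, hq⟩
    obtain ⟨y, rfl⟩ := QuotientGroup.mk_surjective q
    obtain ⟨c, hc, h⟩ := htrans x₀ y hx₀ fun h => hq ((QuotientGroup.eq_one_iff y).mpr h)
    exact ⟨c, hc, QuotientGroup.eq.mpr h⟩
  choose f hfH hf using hex
  have h3 : 3 ≤ Nat.card (H.map π) := by
    refine le_trans ?_ (Nat.card_le_card_of_injective (fun q => (⟨π (f q), mem_map_of_mem π (hfH q)⟩ : H.map π))
      fun q q' h => ?_)
    · have e : Nat.card {q : D.W ⧸ D.Zw // q ≠ 1} = 3 := by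
        have := Fintype.ofFinite (D.W ⧸ D.Zw)
        rw [Nat.card_eq_fintype_card, Fintype.card_subtype_compl, Fintype.card_subtype_eq,
          ← Nat.card_eq_fintype_card, ← Subgroup.index_eq_card, hT.index]
      exact e.ge
    · have h' : M.permN ((⟨f q', (f q').2.1⟩ : D.N)⁻¹ * ⟨f q, (f q).2.1⟩) = 1 := by
        rw [map_mul, map_inv]
        exact inv_mul_eq_one.mpr (congrArg Subtype.val h).symm
      have h2 := M.conjN_of_permN_eq_one h' x₀
      refine Subtype.ext ((hf q).symm.trans (Eq.trans (congrArg _ (Subtype.ext ?_)) (hf q')))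
      rw [UData.conjW_apply, UData.conjW_apply]
      simp only [Subgroup.coe_mul, Subgroup.coe_inv] at h2
      calc ((f q : D.Gam) : G) * x₀ * ((f q : D.Gam) : G)⁻¹
          = ((f q' : D.Gam) : G) * ((((f q' : D.Gam) : G)⁻¹ * ((f q : D.Gam) : G)) * x₀ *
              (((f q' : D.Gam) : G)⁻¹ * ((f q : D.Gam) : G))⁻¹) * ((f q' : D.Gam) : G)⁻¹ := by group
        _ = _ := by rw [h2]
  have h6 : Nat.card (H.map π) ∣ 6 := by
    refine (card_subgroup_dvd_card _).trans (dvd_of_eq ?_)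
    rw [Nat.card_perm, show Nat.card {μ : D.W →* ℤˣ // Occ ρ D μ} = 3 by
      rw [← Nat.card_fin 3]
      exact (Nat.card_eq_of_bijective (fun i => (⟨χ i, hT.occ i⟩ : {μ : D.W →* ℤˣ // Occ ρ D μ}))
        ⟨fun i j e => hT.inj (congrArg Subtype.val e),
          fun μ => (hT.all μ.1 μ.2).imp fun i hi => Subtype.ext hi⟩).symm]
    rfl
  have hd3 : 3 ∣ Nat.card (H.map π) := by
    have hle := Nat.le_of_dvd (by norm_num) h6
    interval_cases h : Nat.card (H.map π) <;> omega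
  have : Fact (Nat.Prime 3) := ⟨Nat.prime_three⟩
  obtain ⟨⟨_, c, hc, rfl⟩, he⟩ := exists_prime_orderOf_dvd_card' 3 hd3
  refine ⟨c, hc, ?_⟩
  rw [← he]
  exact Subgroup.orderOf_mk _ _ |>.symm

/-- Two permutations of order three. -/
theorem Three_perm_cases (hT : Three ρ D r m χ z)
    {σ τ : Equiv.Perm {μ : D.W →* ℤˣ // Occ ρ D μ}} (hσ : orderOf σ = 3) (hτ : orderOf τ = 3) :
    τ = σ ∨ τ = σ * σ := by
  classical
  let e : Fin 3 ≃ {μ : D.W →* ℤˣ // Occ ρ D μ} :=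
    Equiv.ofBijective (fun i => ⟨χ i, hT.occ i⟩)
      ⟨fun i j h => hT.inj (congrArg Subtype.val h),
        fun μ => (hT.all μ.1 μ.2).imp fun i hi => Subtype.ext hi⟩
  let E : Equiv.Perm {μ : D.W →* ℤˣ // Occ ρ D μ} ≃* Equiv.Perm (Fin 3) := e.symm.permCongrHom
  have key : ∀ φ : Equiv.Perm {μ : D.W →* ℤˣ // Occ ρ D μ}, orderOf φ = 3 →
      E φ * (E φ * E φ) = 1 ∧ E φ ≠ 1 := by
    intro φ hφ
    refine ⟨?_, fun h => ?_⟩
    · have h3 : φ ^ 3 = 1 := hφ ▸ pow_orderOf_eq_one φ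
      rw [← map_mul, ← map_mul, show φ * (φ * φ) = φ ^ 3 by simp [pow_succ, mul_assoc], h3, map_one]
    · rw [← E.map_one] at h
      rw [E.injective h, orderOf_one] at hφ
      omega
  rcases fin3_perm_order_three (E σ) (E τ) (key σ hσ).1 (key σ hσ).2 (key τ hτ).1 (key τ hτ).2 with h | h
  · exact Or.inl (E.injective h)
  · rw [← map_mul] at h
    exact Or.inr (E.injective h)

/-- An element of `N` commuting modulo the centre with a pure involution fixes its class. -/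
theorem fix_class_of_commute {e u' c u : G} (he : e ∈ D.Gam) (hu' : u' ∈ D.U)
    (hc : c ∈ centralizer (D.U : Set G)) (hu : u ∈ D.U)
    (h : Commute ((e * u' : G) : G ⧸ center G) ((c * u : G) : G ⧸ center G)) :
    ⁅e, u⁆ ∈ D.W := by
  have hz : (c * u)⁻¹ * ((e * u') * (c * u) * (e * u')⁻¹) ∈ center G := by
    rw [← QuotientGroup.eq_one_iff]
    have h1 := h.eq
    simp only [QuotientGroup.mk_mul, QuotientGroup.mk_inv] at h1 ⊢
    rw [h1]
    group
  set z := (c * u)⁻¹ * ((e * u') * (c * u) * (e * u')⁻¹) with hzdef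
  set w'' := ⁅u', u⁆ with hw''
  have hw''W : w'' ∈ D.W := (M.special2_U D).comm_mem u' hu' u hu
  have hu'c : u' * c = c * u' := mem_centralizer_iff.mp hc u' hu'
  have hk := M.conj_centralizer_U he.1 hc
  have e1 : (e * u') * (c * u) * (e * u')⁻¹ = (e * c * e⁻¹) * (e * w'' * e⁻¹) * (e * u * e⁻¹) := by
    calc (e * u') * (c * u) * (e * u')⁻¹ = e * (u' * c) * u * u'⁻¹ * e⁻¹ := by group
      _ = e * (c * u') * u * u'⁻¹ * e⁻¹ := by rw [hu'c]
      _ = _ := by rw [hw'', commutatorElement_def]; group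
  have e2 : ⁅e, u⁆ = ((e * c * e⁻¹) * (e * w'' * e⁻¹))⁻¹ * (c * z) := by
    have h5 : c * u * z = (e * u') * (c * u) * (e * u')⁻¹ := by rw [hzdef]; group
    rw [e1] at h5
    have h6 : e * u * e⁻¹ = ((e * c * e⁻¹) * (e * w'' * e⁻¹))⁻¹ * (c * (u * z)) := by
      rw [← mul_assoc c, h5]; group
    rw [commutatorElement_def, h6, mem_center_iff.mp hz u]
    group
  refine ⟨?_, ?_⟩
  · rw [commutatorElement_def]; exact D.U.mul_mem (D.conj_mem_U he.1 hu) (D.U.inv_mem hu)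
  · rw [e2]
    exact (fixedBy a).mul_mem ((fixedBy a).inv_mem
      ((fixedBy a).mul_mem (M.centralizer_U_le_fixed D hk) (D.conj_mem_W he hw''W).2))
      ((fixedBy a).mul_mem (M.centralizer_U_le_fixed D hc) (M.center_le_fixed hz))

/-- An element of `U` with central square outside the classes fixed by a permutation of order three. -/
theorem Three_exists_zero (hT : Three ρ D r m χ z) {e : D.Gam}
    (he : orderOf (M.permN (⟨e, e.2.1⟩ : D.N)) = 3) :
    ∃ u ∈ D.U, u * u ∈ center G ∧ u ∉ M.fixClass e := by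
  classical
  have hS := hT.shape
  have hsp := hS.sp
  by_contra hno
  push Not at hno
  have : Fintype D.U := Fintype.ofFinite _
  have : Fintype ((D.W ⧸ D.Zw) →* ℤˣ) := Fintype.ofFinite _
  have hle : Nat.card {u : D.U // (u : G) * u ∈ center G} ≤ Nat.card (M.fixClass e) :=
    Nat.card_le_card_of_injective (fun x => ⟨x.1.1, hno _ x.1.2 x.2⟩)
      fun x y h => Subtype.ext (Subtype.ext (congrArg (fun t : M.fixClass e => (t : G)) h))
  obtain ⟨jK, hjK⟩ := M.exists_card hS.pos hS.eq (M.inv_fixClass e) (M.W_le_fixClass e) (M.fixClass_le e)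
  have hcardU := M.Three_card_U hT
  have hjK2 : jK ≤ 2 := by
    by_contra hgt
    have hKne : M.fixClass e ≠ D.U := fun h => by
      rw [M.permN_of_centralizes e.2.1 (M.centralizes_of_fixClass hS e h.ge), orderOf_one] at he
      omega
    refine hKne (Subgroup.eq_of_le_of_card_ge (M.fixClass_le e) ?_)
    rw [hjK, hcardU]
    exact Nat.mul_le_mul_right _ (Nat.pow_le_pow_right two_pos (Nat.mul_le_mul_left _ (by omega)))
  -- the characters trivial on the centre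
  let emb : ((D.W ⧸ D.Zw) →* ℤˣ) → (D.W →* ℤˣ) := fun φ => φ.comp (QuotientGroup.mk' D.Zw)
  have hembinj : Function.Injective emb := fun φ φ' h => MonoidHom.ext fun x => by
    obtain ⟨x, rfl⟩ := QuotientGroup.mk_surjective x
    exact DFunLike.congr_fun h x
  have hpairs : ∀ φ : (D.W ⧸ D.Zw) →* ℤˣ, φ ≠ 1 → ∃ i j : Fin 3, i ≠ j ∧ emb φ = χ i * χ j := by
    let pr : Fin 3 → (D.W →* ℤˣ) := fun n => χ (n + 1) * χ (n + 2)
    have hker : ∀ n, D.Zw ≤ (pr n).ker := fun n x hx => by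
      show χ (n + 1) x * χ (n + 2) x = 1
      rw [M.occ_center_eq (hT.occ (n + 1)) (hT.occ (n + 2)) (mem_subgroupOf.mp hx), Int.units_mul_self]
    let lft : Fin 3 → ((D.W ⧸ D.Zw) →* ℤˣ) := fun n => QuotientGroup.lift D.Zw (pr n) (hker n)
    have hlft : ∀ n, emb (lft n) = pr n := fun n => MonoidHom.ext fun x => rfl
    have hne1 : ∀ n, lft n ≠ 1 := fun n h => by
      have hn1 : ∀ i : Fin 3, i + 1 ≠ i + 2 := by decide
      refine hn1 n (hT.inj (MonoidHom.ext fun x => ?_))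
      have h' : χ (n + 1) x * χ (n + 2) x = 1 := by
        have := DFunLike.congr_fun (hlft n) x
        rw [h] at this
        exact this.symm
      rw [mul_eq_one_iff_eq_inv, Int.units_inv_eq_self] at h'
      exact h'
    have hinj : Function.Injective lft := fun n n' h => by
      have h' := congrArg emb h
      rw [hlft, hlft] at h'
      have hprod : ∀ n, pr n * χ n = χ 0 * χ 1 * χ 2 := by
        intro i
        fin_cases i
        · show χ 1 * χ 2 * χ 0 = _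
          exact MonoidHom.ext fun x => by simp only [MonoidHom.mul_apply]; ac_rfl
        · show χ 2 * χ 0 * χ 1 = _
          exact MonoidHom.ext fun x => by simp only [MonoidHom.mul_apply]; ac_rfl
        · rfl
      have h1 := hprod n'
      rw [← h', ← hprod n] at h1
      exact hT.inj (mul_left_cancel h1).symm
    intro φ hφ
    have hsurj : (Finset.univ.image lft) = Finset.univ.erase 1 := by
      refine Finset.eq_of_subset_of_card_le (fun x hx => ?_) ?_
      · obtain ⟨n, -, rfl⟩ := Finset.mem_image.mp hx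
        exact Finset.mem_erase.mpr ⟨hne1 n, Finset.mem_univ _⟩
      · rw [Finset.card_erase_of_mem (Finset.mem_univ _), Finset.card_image_of_injective _ hinj,
          Finset.card_univ, Finset.card_univ, ← Nat.card_eq_fintype_card, card_sign_characters M.Zw_sq,
          ← Subgroup.index_eq_card, hT.index, Fintype.card_fin]
    obtain ⟨n, -, rfl⟩ := Finset.mem_image.mp (hsurj.symm ▸ Finset.mem_erase.mpr ⟨hφ, Finset.mem_univ φ⟩)
    exact ⟨n + 1, n + 2, (by decide : ∀ i : Fin 3, i + 1 ≠ i + 2) n, hlft n⟩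
  have hsum : ∀ φ : (D.W ⧸ D.Zw) →* ℤˣ, φ ∈ Finset.univ.erase 1 →
      ∑ u : D.U, (quad hsp (emb φ) u : ℤ) = 2 ^ (2 * m) * (2 ^ (2 * m) * Nat.card D.W) := by
    intro φ hφ
    obtain ⟨i, j, hij, he'⟩ := hpairs φ (Finset.ne_of_mem_erase hφ)
    obtain ⟨l, hli, hlj⟩ := exists_third hij
    obtain ⟨-, -, -, h1, h2⟩ := M.Three_pair hT hij hli hlj
    rw [he', M.sum_quad_pos hS.pos hS.eq hsp _ h1, h2]
    push_cast
    rfl
  have h1 : ∑ u : D.U, ∑ φ : (D.W ⧸ D.Zw) →* ℤˣ, (quad hsp (emb φ) u : ℤ) =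
      4 * Nat.card {u : D.U // (u : G) * u ∈ center G} := by
    have hsum' : ∀ u : D.U, ∑ φ : (D.W ⧸ D.Zw) →* ℤˣ, (quad hsp (emb φ) u : ℤ) =
        if (u : G) * u ∈ center G then (4 : ℤ) else 0 := by
      intro u
      refine (M.sum_sign_nonneg M.Zw_sq (QuotientGroup.mk' D.Zw (sqW hsp u))).trans ?_
      rw [← Subgroup.index_eq_card, hT.index]
      exact if_congr ((QuotientGroup.eq_one_iff (sqW hsp u)).trans Iff.rfl) rfl rfl
    rw [Finset.sum_congr rfl fun u _ => hsum' u, Finset.sum_ite, Finset.sum_const_zero, add_zero,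
      Finset.sum_const, nsmul_eq_mul, Nat.card_eq_fintype_card, Fintype.card_subtype]
    ring
  have h3 : ∑ u : D.U, (quad hsp (emb 1) u : ℤ) = 2 ^ (2 * m * 3) * Nat.card D.W := by
    have : ∀ u : D.U, (quad hsp (emb 1) u : ℤ) = 1 := fun u => rfl
    rw [Finset.sum_congr rfl fun u _ => this u, Finset.sum_const, Finset.card_univ, ← Nat.card_eq_fintype_card,
      hcardU, nsmul_eq_mul, mul_one]
    push_cast
    rfl
  rw [Finset.sum_comm, ← Finset.add_sum_erase _ _ (Finset.mem_univ (1 : (D.W ⧸ D.Zw) →* ℤˣ)), h3,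
    Finset.sum_congr rfl hsum, Finset.sum_const, Finset.card_erase_of_mem (Finset.mem_univ _), Finset.card_univ,
    ← Nat.card_eq_fintype_card, card_sign_characters M.Zw_sq, ← Subgroup.index_eq_card, hT.index,
    nsmul_eq_mul] at h1
  have hle' : (Nat.card {u : D.U // (u : G) * u ∈ center G} : ℤ) ≤ 2 ^ (2 * m * 2) * Nat.card D.W := by
    have : Nat.card {u : D.U // (u : G) * u ∈ center G} ≤ 2 ^ (2 * m * 2) * Nat.card D.W :=
      hle.trans (hjK.le.trans (Nat.mul_le_mul_right _ (Nat.pow_le_pow_right two_pos (Nat.mul_le_mul_left _ hjK2))))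
    exact_mod_cast this
  have hP : (2 : ℤ) ≤ 2 ^ (2 * m) := by
    calc (2 : ℤ) = 2 ^ 1 := (pow_one 2).symm
      _ ≤ _ := pow_le_pow_right₀ (by norm_num) (by have := hS.pos; omega)
  have hw : (0 : ℤ) < Nat.card D.W := Nat.cast_pos.mpr Nat.card_pos
  push_cast at h1
  rw [show (2 : ℤ) ^ (2 * m * 3) = 2 ^ (2 * m) * 2 ^ (2 * m) * 2 ^ (2 * m) by ring] at h1
  rw [show (2 : ℤ) ^ (2 * m * 2) = 2 ^ (2 * m) * 2 ^ (2 * m) by ring] at hle'
  nlinarith [mul_pos (mul_pos (show (0 : ℤ) < 2 ^ (2 * m) by positivity) (show (0 : ℤ) < 2 ^ (2 * m) by positivity)) hw,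
    mul_le_mul_of_nonneg_left hP (le_of_lt (mul_pos (mul_pos (show (0 : ℤ) < 2 ^ (2 * m) by positivity)
      (show (0 : ℤ) < 2 ^ (2 * m) by positivity)) hw))]

/-- Three occurring characters are impossible when the fixed points leave `N`. -/
theorem false_three (hT : Three ρ D r m χ z)
    (hA : ∀ c ∈ fixedBy a, ∀ w ∈ D.W, w ∉ center G → c * w * c⁻¹ ∈ D.N → c ∈ D.N)
    (hC : ¬ fixedBy a ≤ D.N) : False := by
  classical
  have hS := hT.shape
  have hsp := hS.sp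
  have hF := M.frame D
  have I : IsoData D.Nb D.Wb :=
    { W_le := hF.W_le
      N_le := hF.N_le
      W_sq := hF.W_sq
      isolated := by
        rintro _ ⟨w, hw, rfl⟩ hw1 g hg
        obtain ⟨g, rfl⟩ := QuotientGroup.mk_surjective g
        refine (M.mem_Nb_iff D).mpr (M.Three_isolated hT hA hw
          (fun h => hw1 ((QuotientGroup.eq_one_iff w).mpr h)) ((M.mem_Nb_iff D).mp ?_))
        simpa using hg }
  obtain ⟨x₀, hx₀⟩ : ∃ x : D.W, x ∉ D.Zw := by
    by_contra h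
    push Not at h
    have := hT.index
    rw [(eq_top_iff.mpr fun x _ => h x : D.Zw = ⊤), Subgroup.index_top] at this
    omega
  let π := QuotientGroup.mk' (center G)
  have hπne : ∀ x : D.W, x ∉ D.Zw → π x ≠ 1 := fun x hx h =>
    hx (mem_subgroupOf.mpr ((QuotientGroup.eq_one_iff _).mp h))
  have hWb : D.Wb ≠ ⊥ := fun h =>
    hπne x₀ hx₀ (Subgroup.mem_bot.mp (h ▸ mem_map_of_mem π x₀.2))
  obtain ⟨e₀, -, he₀⟩ := M.Three_order_three hT ⊤ fun x y hx hy =>
    (M.exists_conj_class hA hC hx hy).imp fun c hc => ⟨mem_top _, hc⟩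
  let P : G ⧸ center G → Prop := fun t => ∃ c ∈ centralizer (D.U : Set G), ∃ u ∈ D.U,
    ((c * u : G) : G ⧸ center G) = t ∧ t * t = 1 ∧
      ∀ e : D.Gam, orderOf (M.permN (⟨e, e.2.1⟩ : D.N)) = 3 → u ∉ M.fixClass e
  have hPN : ∀ t, P t → t ∈ D.Nb := by
    rintro t ⟨c, hc, u, hu, rfl, -, -⟩
    exact (M.mem_Nb_iff D).mpr (D.N.mul_mem (M.centralizer_U_le_N D hc) (D.U_le_N hu))
  obtain ⟨u₀, hu₀, hu₀2, hu₀f⟩ := M.Three_exists_zero hT he₀
  refine I.false_of_class hF.N_ne_top (mem_map_of_mem π x₀.2) (hπne x₀ hx₀) P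
    (fun t ⟨_, _, _, _, _, h, _⟩ => h) ?_ ?_ ?_ ?_
    (δ := π u₀) (mem_map_of_mem π (D.U_le_N hu₀)) ⟨1, one_mem _, u₀, hu₀, by rw [one_mul]; rfl, ?_, ?_⟩
  · -- invariance
    rintro t ⟨c, hc, u, hu, rfl, ht2, hfix⟩ n hn
    obtain ⟨n, hn, rfl⟩ := hn
    obtain ⟨d, hd, u₁, hu₁, rfl⟩ := M.exists_fixed_mul D hn
    refine ⟨d * c * d⁻¹, M.conj_centralizer_U hd.1 hc, d * (u₁ * u * u₁⁻¹) * d⁻¹,
      D.conj_mem_U hd.1 (mul_mem (mul_mem hu₁ hu) (inv_mem hu₁)), ?_, conj_mul_self ht2, ?_⟩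
    · have h : u₁ * c = c * u₁ := mem_centralizer_iff.mp hc u₁ hu₁
      simp only [QuotientGroup.mk'_apply, ← QuotientGroup.mk_inv, ← QuotientGroup.mk_mul]
      refine congrArg _ ?_
      calc d * c * d⁻¹ * (d * (u₁ * u * u₁⁻¹) * d⁻¹) = d * (c * u₁) * u * u₁⁻¹ * d⁻¹ := by group
        _ = d * (u₁ * c) * u * u₁⁻¹ * d⁻¹ := by rw [h]
        _ = _ := by group
    · intro e he hmem
      set d' : D.Gam := ⟨d, hd⟩
      refine hfix (d'⁻¹ * e * d') ?_ ⟨hu, ?_⟩
      · have e1 : (⟨((d'⁻¹ * e * d' : D.Gam) : G), (d'⁻¹ * e * d' : D.Gam).2.1⟩ : D.N) =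
            (⟨d, hd.1⟩ : D.N)⁻¹ * ⟨e, e.2.1⟩ * ⟨d, hd.1⟩ := rfl
        rw [e1, map_mul, map_mul, map_inv]
        have e2 := MulEquiv.orderOf_eq (MulAut.conj (M.permN (⟨d, hd.1⟩ : D.N))⁻¹) (M.permN (⟨e, e.2.1⟩ : D.N))
        rw [MulAut.conj_apply, inv_inv] at e2
        rw [e2, he]
      · set x := d * (u₁ * u * u₁⁻¹) * d⁻¹ with hx
        have hc1 : ⁅(e : G), x⁆ ∈ D.W := hmem.2
        set s := ⁅u₁, u⁆ with hs
        have hsW : s ∈ D.W := hsp.comm_mem u₁ hu₁ u hu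
        have hdx : d⁻¹ * x * d ∈ M.fixClass (d'⁻¹ * e * d') := ⟨by
          rw [show d⁻¹ * x * d = u₁ * u * u₁⁻¹ by rw [hx]; group]
          exact mul_mem (mul_mem hu₁ hu) (inv_mem hu₁), by
          show ⁅d⁻¹ * (e : G) * d, d⁻¹ * x * d⁆ ∈ D.W
          rw [show ⁅d⁻¹ * (e : G) * d, d⁻¹ * x * d⁆ = d⁻¹ * ⁅(e : G), x⁆ * d by
            simp [commutatorElement_def, mul_assoc]]
          simpa using D.conj_mem_W (g := d⁻¹) (D.Gam.inv_mem hd) hc1⟩
        have : u ∈ M.fixClass (d'⁻¹ * e * d') := by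
          have e3 : u = s⁻¹ * (d⁻¹ * x * d) := by rw [hs, hx, commutatorElement_def]; group
          rw [e3]
          exact mul_mem (inv_mem (M.W_le_fixClass _ hsW)) hdx
        exact this.2
  · -- outside `Wb`
    rintro t ⟨c, hc, u, hu, rfl, -, hfix⟩ ht
    obtain ⟨x, hx, hxe⟩ := ht
    have hz : x⁻¹ * (c * u) ∈ center G := QuotientGroup.eq.mp hxe
    have huf : u ∈ fixedBy a := by
      have h := (fixedBy a).mul_mem ((fixedBy a).inv_mem (M.centralizer_U_le_fixed D hc))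
        ((fixedBy a).mul_mem hx.2 (M.center_le_fixed hz))
      rwa [show c⁻¹ * (x * (x⁻¹ * (c * u))) = u by group] at h
    exact hfix e₀ he₀ (M.W_le_fixClass _ ⟨hu, huf⟩)
  · -- isolation
    rintro t ht - g hg
    by_contra hgN
    obtain ⟨c, hc, u, hu, rfl, ht2, hfix⟩ := ht
    have hcw : ∀ x : D.W, Commute (π x) ((c * u : G) : G ⧸ center G) := fun x =>
      ((M.commute_W_of_pure hc hu x.2).map π).symm
    obtain ⟨e, he, hor⟩ := M.Three_order_three hT
      { carrier := {e : D.Gam | ⁅(e : G), u⁆ ∈ D.W}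
        one_mem' := by show ⁅(1 : G), u⁆ ∈ D.W; rw [commutatorElement_one_left]; exact one_mem _
        mul_mem' := fun {e e'} h h' => by
          show ⁅(e : G) * e', u⁆ ∈ D.W
          rw [show ⁅(e : G) * e', u⁆ = ((e : G) * ⁅(e' : G), u⁆ * (e : G)⁻¹) * ⁅(e : G), u⁆ by
            simp [commutatorElement_def, mul_assoc]]
          exact mul_mem (D.conj_mem_W e.2 h') h
        inv_mem' := fun {e} h => by
          show ⁅(e : G)⁻¹, u⁆ ∈ D.W
          rw [show ⁅(e : G)⁻¹, u⁆ = (e : G)⁻¹ * ⁅(e : G), u⁆⁻¹ * (e : G) by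
            simp [commutatorElement_def, mul_assoc]]
          simpa using D.conj_mem_W (g := (e : G)⁻¹) (D.Gam.inv_mem e.2) (inv_mem h) }
      fun x y hx hy => by
        obtain ⟨n, hn, hnt, hnw⟩ := I.exists_conj_commute hWb (t := ((c * u : G) : G ⧸ center G))
          ((M.mem_Nb_iff D).mpr (D.N.mul_mem (M.centralizer_U_le_N D hc) (D.U_le_N hu))) ht2 (g := g⁻¹)
          (fun h => hgN (inv_mem_iff.mp h)) (by simpa using hg) (mem_map_of_mem π x.2) (hπne x hx) (hcw x)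
          (mem_map_of_mem π y.2) (hπne y hy) (hcw y)
        obtain ⟨n, hn, rfl⟩ := hn
        obtain ⟨d, hd, u', hu', rfl⟩ := M.exists_fixed_mul D hn
        refine ⟨⟨d, hd⟩, M.fix_class_of_commute hd hu' hc hu hnt, ?_⟩
        rw [UData.Zw, mem_subgroupOf, Subgroup.coe_mul, Subgroup.coe_inv, UData.conjW_apply]
        refine QuotientGroup.eq.mp ?_
        have hxu := hsp.fix_central x x.2 u' hu'
        have e1 : d * (x : G) * d⁻¹ = d * u' * x * (d * u')⁻¹ := by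
          calc d * (x : G) * d⁻¹ = d * ((x : G) * u') * u'⁻¹ * d⁻¹ := by group
            _ = d * (u' * (x : G)) * u'⁻¹ * d⁻¹ := by rw [hxu]
            _ = _ := by group
        rw [e1]
        exact (by simpa [π] using hnw)
    exact hfix e hor ⟨hu, he⟩
  · -- multiplication by `Wb`
    rintro w' hw' t ⟨c, hc, u, hu, rfl, ht2, hfix⟩ hcomm
    obtain ⟨x, hx, rfl⟩ := hw'
    refine ⟨c, hc, x * u, mul_mem hx.1 hu, ?_, ?_, fun e he h => hfix e he ?_⟩
    · rw [show c * (x * u) = x * (c * u) by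
        rw [← mul_assoc, ← mem_centralizer_iff.mp hc x hx.1, mul_assoc]]
      rfl
    · rw [hcomm.symm.mul_mul_mul_comm, ht2, mul_one, hF.W_sq _ (mem_map_of_mem π hx)]
    · simpa using mul_mem (inv_mem (M.W_le_fixClass e hx)) h
  · rw [← map_mul]
    exact (QuotientGroup.eq_one_iff _).mpr hu₀2
  · intro e he h
    refine hu₀f ?_
    rcases M.Three_perm_cases hT he he₀ with h' | h'
    · exact M.fixClass_le_of_permN_eq hS h'.symm h
    · refine M.fixClass_le_of_permN_eq hS (c := e * e) ?_ (M.fixClass_le_pow e h)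
      rw [h', show (⟨((e * e : D.Gam) : G), (e * e : D.Gam).2.1⟩ : D.N) = ⟨e, e.2.1⟩ * ⟨e, e.2.1⟩ from rfl,
        map_mul]

end Cfg

end Cfsg.Agent.H24.Flav
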