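import Cfsg.Agent.H8.Shult.CnotLeN3
import Cfsg.Agent.H24.Flav.CnotLeN3Three
import Cfsg.Agent.H24.Flav.CnotLeN3Six
import Cfsg.Agent.H24.Flav.StepA

/-!
Three or more constituents with a fixed element outside `N`: the occurring characters form a difference set
that is almost contained in a translate of a proper subgroup, leaving only three or six characters.

In the general configuration.
-/

set_option autoImplicit false
set_option linter.unusedSectionVars false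

namespace Cfsg.Agent.H24.Flav

open Subgroup
open Cfsg.Agent.H8.Shult hiding Min
open scoped commutatorElement

universe u v w

variable {G : Type u} [Group G] [Finite G] {p r : ℕ} [hp : Fact p.Prime] {a : MulAut G}
variable {k : Type w} [Field k] [CharP k p] {V : Type v} [AddCommGroup V] [Module k V]
variable [IsAlgClosed k] [FiniteDimensional k V]
variable {ρ : G →* Module.End k V} {T : Module.End k V}
variable {D : UData a}

namespace Cfg

variable (M : Cfg p r a ρ T) {m : ℕ}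
include M

/-- A subgroup in all radicals lies in `W`. -/
theorem le_W_of_le_rads {B : Subgroup G} (hS : Shape ρ D r m) (hBU : B ≤ D.U)
    (h : ∀ μ, Occ ρ D μ → B ≤ rad hS.sp μ) : B ≤ D.W := by
  by_contra hne
  obtain ⟨μ, hμ, hle⟩ := M.exists_occ_not_le hBU hne
  exact hle (h μ hμ)

/-- The occurring characters are not all nontrivial characters. -/
theorem exists_central (hS : Shape ρ D r m)
    (hC : ¬ fixedBy a ≤ D.N) (hk : 2 ^ (2 * m) * Nat.card D.W < Nat.card D.U) :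
    ∃ z ∈ D.Zw, z ≠ 1 := by
  classical
  by_contra hno
  push Not at hno
  have : Fintype D.W := Fintype.ofFinite _
  have : Fintype (D.W →* ℤˣ) := Fintype.ofFinite _
  set Λ : Finset (D.W →* ℤˣ) := Finset.univ.filter fun μ => Occ ρ D μ with hΛ
  have hmem : ∀ μ, μ ∈ Λ ↔ Occ ρ D μ := fun μ => by rw [hΛ, Finset.mem_filter]; simp
  obtain ⟨x₀, hx₀, hx₀1⟩ := D.W.bot_or_exists_ne_one.resolve_left (M.W_ne_bot D)
  let F : D.W → ℤ := fun x => ∑ μ ∈ Λ, (μ x : ℤ)
  have hinv : ∀ (c : D.Gam) (x : D.W), F (D.conjW c x) = F x := by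
    intro c x
    refine Finset.sum_nbij' (fun μ => D.act c⁻¹ μ) (fun μ => D.act c μ) (fun μ hμ => ?_) (fun μ hμ => ?_)
      (fun μ _ => ?_) (fun μ _ => ?_) (fun μ _ => ?_)
    · exact (hmem _).mpr (M.occ_act ((hmem μ).mp hμ) _)
    · exact (hmem _).mpr (M.occ_act ((hmem μ).mp hμ) _)
    · rw [UData.act_act, mul_inv_cancel, UData.act_one]
    · rw [UData.act_act, inv_mul_cancel, UData.act_one]
    · rw [UData.act_apply, inv_inv]
  have hne : ∀ x : D.W, x ≠ 1 → x ∉ D.Zw := fun x hx h => hx (hno x h)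
  set c0 := F ⟨x₀, hx₀⟩
  have hconst : ∀ x : D.W, x ≠ 1 → F x = c0 := by
    intro x hx
    obtain ⟨c, hc⟩ := M.exists_conj_class (fun c hc w hw hwc h => M.stepA hc hw hwc h) hC
      (hne ⟨x₀, hx₀⟩ fun e => hx₀1 (congrArg Subtype.val e)) (hne x hx)
    rw [← inv_mul_eq_one.mp (hno _ hc)]
    exact hinv c _
  have htot : ∑ x, F x = 0 := by
    rw [Finset.sum_comm]
    refine Finset.sum_eq_zero fun μ hμ => ?_
    obtain ⟨y, hy⟩ : ∃ y, μ y ≠ 1 := by
      by_contra h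
      push Not at h
      exact ((hmem μ).mp hμ).1 (MonoidHom.ext h)
    exact sum_sign_eq_zero μ hy
  have hF1 : F 1 = Λ.card := by simp [F]
  rw [← Finset.add_sum_erase _ _ (Finset.mem_univ (1 : D.W)), hF1,
    Finset.sum_congr rfl fun x hx => hconst x (Finset.ne_of_mem_erase hx), Finset.sum_const,
    Finset.card_erase_of_mem (Finset.mem_univ _), Finset.card_univ, nsmul_eq_mul] at htot
  have hsub : Λ ⊆ Finset.univ.erase 1 := fun μ hμ =>
    Finset.mem_erase.mpr ⟨((hmem μ).mp hμ).1, Finset.mem_univ _⟩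
  have hcardT : (Finset.univ.erase (1 : D.W →* ℤˣ)).card = Fintype.card D.W - 1 := by
    rw [Finset.card_erase_of_mem (Finset.mem_univ _), Finset.card_univ, ← Nat.card_eq_fintype_card,
      card_sign_characters fun x => Subtype.ext ((M.special2_U D).fix_sq x x.2), Nat.card_eq_fintype_card]
  have hle := Finset.card_le_card hsub
  rw [hcardT] at hle
  obtain ⟨χ, hχ, -⟩ := M.exists_occ (D := D) (x := ⟨x₀, hx₀⟩) fun e => hx₀1 (congrArg Subtype.val e)
  have hpos : 0 < Λ.card := Finset.card_pos.mpr ⟨χ, (hmem χ).mpr hχ⟩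
  have hfull : Λ = Finset.univ.erase 1 := by
    refine Finset.eq_of_subset_of_card_le hsub ?_
    rw [hcardT]
    rcases le_or_gt 0 c0 with h0 | h0
    · have : (0 : ℤ) < Λ.card := by exact_mod_cast hpos
      nlinarith [mul_nonneg (show (0 : ℤ) ≤ ((Fintype.card D.W - 1 : ℕ) : ℤ) by positivity) h0]
    · have h2 : ((Fintype.card D.W - 1 : ℕ) : ℤ) ≤ Λ.card := by
        nlinarith [mul_nonneg (show (0 : ℤ) ≤ ((Fintype.card D.W - 1 : ℕ) : ℤ) by positivity)
          (show (0 : ℤ) ≤ -c0 - 1 by omega)]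
      exact_mod_cast h2
  have hrad : ∀ μ, Occ ρ D μ → rad hS.sp χ ≤ rad hS.sp μ := by
    intro μ hμ
    by_cases he : rad hS.sp χ = rad hS.sp μ
    · exact he.le
    exfalso
    have hne1 : χ * μ ≠ 1 := fun h => he (congrArg _ (by
      refine MonoidHom.ext fun x => ?_
      have h2 := DFunLike.congr_fun h x
      rw [MonoidHom.mul_apply, MonoidHom.one_apply, mul_eq_one_iff_eq_inv, Int.units_inv_eq_self] at h2
      exact h2))
    have hocc : Occ ρ D (χ * μ) := (hmem _).mp (hfull ▸ Finset.mem_erase.mpr ⟨hne1, Finset.mem_univ _⟩)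
    obtain ⟨-, h4⟩ := M.rad_mul_eq hS.pos hS.eq hS.sp (hS.idx χ hχ) (hS.idx μ hμ) he
    rw [hS.idx _ hocc] at h4
    have := Nat.pow_right_injective (le_refl 2) (Nat.eq_of_mul_eq_mul_right Nat.card_pos h4)
    have := hS.pos
    omega
  have hW : rad hS.sp χ = D.W :=
    le_antisymm (M.le_W_of_le_rads hS (rad_le _ _) hrad) (W_le_rad _ _)
  have h1 := hS.idx χ hχ
  rw [hW] at h1
  rw [h1] at hk
  exact lt_irrefl _ hk

/-- Three or more constituents with a fixed element outside `N` are impossible. -/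
theorem false_notLe_three (hS : Shape ρ D r m) (hC : ¬ fixedBy a ≤ D.N) (hWb : D.Wb ≠ ⊥)
    (hk : 2 ^ (2 * (2 * m)) * Nat.card D.W < Nat.card D.U) : False := by
  classical
  have hA : ∀ c ∈ fixedBy a, ∀ w ∈ D.W, w ∉ center G → c * w * c⁻¹ ∈ D.N → c ∈ D.N :=
    fun c hc w hw hwc h => M.stepA hc hw hwc h
  have hsp := hS.sp
  obtain ⟨z, hz, hz1⟩ := M.exists_central hS hC
    (lt_of_le_of_lt (Nat.mul_le_mul_right _ (Nat.pow_le_pow_right two_pos (by omega))) hk)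
  have hq1 : 1 < D.Zw.index := by
    rw [← M.card_Wb]
    exact (Subgroup.one_lt_card_iff_ne_bot _).mpr hWb
  let _ : Fintype ((D.W ⧸ D.Zw) →* ℤˣ) := Fintype.ofFinite _
  have hT2 : ∀ δ : (D.W ⧸ D.Zw) →* ℤˣ, δ * δ = 1 := fun δ => MonoidHom.ext fun x => Int.units_mul_self _
  have hcardT : Fintype.card ((D.W ⧸ D.Zw) →* ℤˣ) = D.Zw.index := by
    rw [← Nat.card_eq_fintype_card, card_sign_characters M.Zw_sq, Subgroup.index_eq_card]
  obtain ⟨x₀, hx₀⟩ : ∃ x : D.W, x ∉ D.Zw := by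
    by_contra h
    push Not at h
    rw [(eq_top_iff.mpr fun x _ => h x : D.Zw = ⊤), Subgroup.index_top] at hq1
    omega
  obtain ⟨χ₀, hχ₀, -⟩ := M.exists_occ (D := D) (x := x₀) fun e => hx₀ (e ▸ one_mem _)
  let pb : ((D.W ⧸ D.Zw) →* ℤˣ) → (D.W →* ℤˣ) := fun δ => δ.comp (QuotientGroup.mk' D.Zw)
  let emb : ((D.W ⧸ D.Zw) →* ℤˣ) → (D.W →* ℤˣ) := fun δ => χ₀ * pb δ
  have hembinj : Function.Injective emb := fun δ δ' h => MonoidHom.ext fun x => by
    obtain ⟨x, rfl⟩ := QuotientGroup.mk_surjective x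
    exact mul_left_cancel (DFunLike.congr_fun h x : χ₀ x * δ x = χ₀ x * δ' x)
  have hembmul : ∀ δ δ', emb δ * emb δ' = pb (δ * δ') := fun δ δ' => MonoidHom.ext fun x => by
    show χ₀ x * δ (x : D.W ⧸ D.Zw) * (χ₀ x * δ' (x : D.W ⧸ D.Zw)) = δ (x : D.W ⧸ D.Zw) * δ' (x : D.W ⧸ D.Zw)
    rw [mul_mul_mul_comm, Int.units_mul_self, one_mul]
  have hlift : ∀ μ, Occ ρ D μ → ∃ δ, emb δ = μ := by
    intro μ hμ
    refine ⟨QuotientGroup.lift D.Zw (χ₀ * μ) fun x hx => ?_, MonoidHom.ext fun x => ?_⟩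
    · show χ₀ x * μ x = 1
      rw [M.occ_center_eq hχ₀ hμ (mem_subgroupOf.mp hx), Int.units_mul_self]
    · show χ₀ x * (χ₀ x * μ x) = μ x
      rw [← mul_assoc, Int.units_mul_self, one_mul]
  set O : Finset ((D.W ⧸ D.Zw) →* ℤˣ) := Finset.univ.filter fun δ => Occ ρ D (emb δ) with hO
  have hmem : ∀ δ, δ ∈ O ↔ Occ ρ D (emb δ) := fun δ => by rw [hO, Finset.mem_filter]; simp
  -- the spectrum
  let F : D.W → ℤ := fun x => ∑ δ ∈ O, (emb δ x : ℤ)
  have hinv : ∀ (c : D.Gam) (x : D.W), F (D.conjW c x) = F x := by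
    intro c x
    have hf : ∀ (g : D.Gam) (δ : O), ∃ δ' : O, emb δ'.1 = D.act g (emb δ.1) := fun g δ => by
      obtain ⟨δ', hδ'⟩ := hlift _ (M.occ_act ((hmem δ.1).mp δ.2) g)
      exact ⟨⟨δ', (hmem δ').mpr (hδ' ▸ M.occ_act ((hmem δ.1).mp δ.2) g)⟩, hδ'⟩
    choose f hf using hf
    simp only [F, ← Finset.sum_coe_sort O]
    refine Fintype.sum_bijective (f c⁻¹) ⟨fun δ δ' h => Subtype.ext (hembinj ?_), fun δ => ⟨f c δ, Subtype.ext
      (hembinj ?_)⟩⟩ _ _ fun δ => ?_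
    · have h' := congrArg (fun y : O => D.act c (emb y.1)) h
      simp only [hf, UData.act_act, mul_inv_cancel, UData.act_one] at h'
      exact h'
    · rw [hf, hf, UData.act_act, inv_mul_cancel, UData.act_one]
    · rw [hf, UData.act_apply, inv_inv]
  have hFz : ∀ (x : D.W) (ζ : D.W), ζ ∈ D.Zw → F (x * ζ) ^ 2 = F x ^ 2 := by
    intro x ζ hζ
    by_cases hζ1 : ζ = 1
    · rw [hζ1, mul_one]
    · have hF : F (x * ζ) = -F x := by
        simp only [F]
        rw [← Finset.sum_neg_distrib]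
        refine Finset.sum_congr rfl fun δ hδ => ?_
        rw [map_mul, M.occ_center ((hmem δ).mp hδ) (mem_subgroupOf.mp hζ) hζ1]
        simp
      rw [hF, neg_sq]
  have hc : ∀ ψ : ((D.W ⧸ D.Zw) →* ℤˣ) →* ℤˣ, ψ ≠ 1 → (∑ δ ∈ O, (ψ δ : ℤ)) ^ 2 = F x₀ ^ 2 := by
    intro ψ hψ
    let ev : (D.W ⧸ D.Zw) → (((D.W ⧸ D.Zw) →* ℤˣ) →* ℤˣ) := fun x => MonoidHom.eval x
    have hev : Function.Bijective ev := by
      refine (Nat.bijective_iff_injective_and_card ev).mpr ⟨fun x y h => ?_, ?_⟩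
      · by_contra hne
        obtain ⟨φ, hφ⟩ := exists_sign_ne_one M.Zw_sq (x := x⁻¹ * y) fun e => hne (inv_mul_eq_one.mp e)
        refine hφ ?_
        rw [map_mul, map_inv φ x, show φ x = φ y from DFunLike.congr_fun h φ, inv_mul_cancel]
      · rw [card_sign_characters hT2, card_sign_characters M.Zw_sq]
    obtain ⟨q, rfl⟩ := hev.2 ψ
    obtain ⟨x, rfl⟩ := QuotientGroup.mk_surjective q
    have hx : x ∉ D.Zw := fun h => hψ (MonoidHom.ext fun δ => by
      show δ (x : D.W ⧸ D.Zw) = 1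
      rw [(QuotientGroup.eq_one_iff x).mpr h, map_one])
    obtain ⟨c, hc⟩ := M.exists_conj_class hA hC hx₀ hx
    have hFx : F x ^ 2 = F x₀ ^ 2 := by
      rw [show x = D.conjW c x₀ * ((D.conjW c x₀)⁻¹ * x) from (mul_inv_cancel_left _ _).symm, hFz _ _ hc, hinv]
    rw [← hFx]
    have hS' : F x = (χ₀ x : ℤ) * ∑ δ ∈ O, (ev (x : D.W ⧸ D.Zw) δ : ℤ) := by
      simp only [F, Finset.mul_sum]
      refine Finset.sum_congr rfl fun δ _ => ?_
      rw [← Units.val_mul]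
      rfl
    rw [hS', mul_pow, ← Units.val_pow_eq_pow_val, Int.units_sq, Units.val_one, one_mul]
  have hlam := spectrum_filter_card hT2 O _ hc
  have h1O : (1 : (D.W ⧸ D.Zw) →* ℤˣ) ∈ O := (hmem 1).mpr (by
    rw [show emb 1 = χ₀ from MonoidHom.ext fun x => mul_one (χ₀ x)]; exact hχ₀)
  obtain ⟨d, hd⟩ : ∃ d, D.Zw.index = 2 ^ d := by
    rw [Subgroup.index_eq_card]
    exact IsPGroup.iff_card.mp fun x => ⟨1, by rw [pow_one, pow_two]; exact M.Zw_sq x⟩
  have hn2 : 2 ≤ O.card := by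
    by_contra hlt
    have hO1 : ∀ δ ∈ O, δ = 1 := fun δ hδ => Finset.card_le_one.mp (by omega) δ hδ 1 h1O
    have hW : rad hsp χ₀ = D.W := le_antisymm (M.le_W_of_le_rads hS (rad_le _ _) fun μ hμ => by
      obtain ⟨δ, rfl⟩ := hlift μ hμ
      rw [hO1 δ ((hmem δ).mpr hμ), show emb 1 = χ₀ from MonoidHom.ext fun x => mul_one (χ₀ x)])
      (W_le_rad _ _)
    have h1 := hS.idx χ₀ hχ₀
    rw [hW] at h1
    rw [h1] at hk
    exact absurd hk (not_lt.mpr (Nat.mul_le_mul_right _ (Nat.pow_le_pow_right two_pos (by omega))))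
  have hpbne : ∀ ε : (D.W ⧸ D.Zw) →* ℤˣ, ε ≠ 1 → pb ε ≠ 1 := fun ε hε h => hε (MonoidHom.ext fun x => by
    obtain ⟨x, rfl⟩ := QuotientGroup.mk_surjective x
    exact DFunLike.congr_fun h x)
  -- not all translates
  have hnotall : O.card ≠ D.Zw.index := by
    intro h
    have huniv : O = Finset.univ := Finset.eq_univ_of_card O (h.trans hcardT.symm)
    obtain ⟨ε, hε⟩ := exists_sign_ne_one M.Zw_sq (x := (x₀ : D.W ⧸ D.Zw))
      fun e => hx₀ ((QuotientGroup.eq_one_iff x₀).mp e)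
    have hε1 : ε ≠ 1 := fun e => hε (by rw [e]; rfl)
    refine absurd hk (not_lt.mpr (M.card_le_of_translation hS (hpbne ε hε1) fun μ hμ => ?_).1)
    obtain ⟨δ, rfl⟩ := hlift μ hμ
    rw [show emb δ * pb ε = emb (δ * ε) from MonoidHom.ext fun x => mul_assoc _ _ _]
    exact (hmem _).mp (huniv ▸ Finset.mem_univ _)
  -- a pair in a translate
  obtain ⟨ε, hε, δ₁, hδ₁, hδ₁'⟩ : ∃ ε, ε ≠ 1 ∧ ∃ δ ∈ O, ε * δ ∈ O := by
    obtain ⟨δ, hδ, hne⟩ := Finset.exists_mem_ne hn2 1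
    exact ⟨δ, hne, 1, h1O, by rw [mul_one]; exact hδ⟩
  set I := rad hsp (pb ε) with hIdef
  have hpair : I ≤ rad hsp (emb δ₁) ∧ Nat.card D.U ≤ 2 ^ (2 * (2 * m)) * Nat.card I := by
    have hprod : emb δ₁ * emb (ε * δ₁) = pb ε := by
      rw [hembmul, mul_comm ε, ← mul_assoc, hT2, one_mul]
    by_cases he : rad hsp (emb δ₁) = rad hsp (emb (ε * δ₁))
    · have hge := rad_mul_ge hsp (emb δ₁) (emb (ε * δ₁))
      rw [← he, inf_idem, hprod] at hge
      rcases M.eq_or_eq hS.pos hS.eq hsp (hS.idx _ ((hmem _).mp hδ₁)) (inv_rad hsp _) hge (rad_le _ _) with h | h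
      · refine ⟨h.le, ?_⟩
        rw [hIdef, h, hS.idx _ ((hmem _).mp hδ₁)]
        exact Nat.mul_le_mul_right _ (Nat.pow_le_pow_right two_pos (by omega))
      · exact absurd (M.eq_one_of_rad_eq hsp h.ge) (hpbne ε hε)
    · obtain ⟨h1, h2⟩ := M.rad_mul_eq hS.pos hS.eq hsp (hS.idx _ ((hmem _).mp hδ₁))
        (hS.idx _ ((hmem _).mp hδ₁')) he
      rw [hprod] at h1 h2
      exact ⟨h1.le.trans inf_le_left, h2.le⟩
  let E : Subgroup ((D.W ⧸ D.Zw) →* ℤˣ) :=
    { carrier := {δ | I ≤ rad hsp (pb δ)}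
      one_mem' := fun x hx => mem_rad.mpr ⟨rad_le hsp _ hx, fun y => rfl⟩
      mul_mem' := fun {δ δ'} h h' x hx => by
        rw [show pb (δ * δ') = pb δ * pb δ' from rfl]
        exact rad_mul_ge hsp _ _ ⟨h hx, h' hx⟩
      inv_mem' := fun {δ} h => by
        show I ≤ rad hsp (pb δ⁻¹)
        rw [inv_eq_of_mul_eq_one_left (hT2 δ)]
        exact h }
  let S : Finset ((D.W ⧸ D.Zw) →* ℤˣ) := O.filter fun δ => I ≤ rad hsp (emb δ)
  have hSE : ∀ δ ∈ O, ∀ δ' ∈ O, I ≤ rad hsp (emb δ) → I ≤ rad hsp (emb δ') → δ * δ' ∈ E := fun δ _ δ' _ h h' => by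
    show I ≤ rad hsp (pb (δ * δ'))
    rw [← hembmul]
    exact (le_inf h h').trans (rad_mul_ge hsp _ _)
  -- two elements of a translate
  have hsame : ∀ δ ∈ O, ∀ δ' ∈ O, δ * δ' ∈ E → δ ≠ δ' → I ≤ rad hsp (emb δ) := by
    intro δ hδ δ' hδ' hE hne
    have hne1 : δ * δ' ≠ 1 := fun h => hne (by
      rw [mul_eq_one_iff_eq_inv, inv_eq_of_mul_eq_one_left (hT2 δ')] at h; exact h)
    have hprod := hembmul δ δ'
    have hI : I ≤ rad hsp (pb (δ * δ')) := hE
    by_cases he : rad hsp (emb δ) = rad hsp (emb δ')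
    · have hge := rad_mul_ge hsp (emb δ) (emb δ')
      rw [← he, inf_idem, hprod] at hge
      rcases M.eq_or_eq hS.pos hS.eq hsp (hS.idx _ ((hmem _).mp hδ)) (inv_rad hsp _) hge (rad_le _ _) with h | h
      · exact hI.trans h.le
      · exact absurd (M.eq_one_of_rad_eq hsp h.ge) (hpbne _ hne1)
    · obtain ⟨h1, -⟩ := M.rad_mul_eq hS.pos hS.eq hsp (hS.idx _ ((hmem _).mp hδ))
        (hS.idx _ ((hmem _).mp hδ')) he
      rw [hprod] at h1
      exact hI.trans (h1.le.trans inf_le_left)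
  have hScard : S.card ≤ Nat.card E := by
    rw [← Fintype.card_coe, ← Nat.card_eq_fintype_card]
    refine Nat.card_le_card_of_injective (fun δ : S => (⟨δ.1 * δ₁,
      hSE δ.1 (Finset.mem_filter.mp δ.2).1 δ₁ hδ₁ (Finset.mem_filter.mp δ.2).2 hpair.1⟩ : E))
      fun x y h => Subtype.ext (mul_right_cancel (congrArg Subtype.val h))
  have hout : (O \ S).card + 1 ≤ E.index := by
    have hcls : ∀ δ ∈ O \ S, (δ : ((D.W ⧸ D.Zw) →* ℤˣ) ⧸ E) ≠ δ₁ := fun δ hδ h => by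
      obtain ⟨hδO, hδS⟩ := Finset.mem_sdiff.mp hδ
      rw [QuotientGroup.eq, inv_eq_of_mul_eq_one_left (hT2 δ)] at h
      refine hδS (Finset.mem_filter.mpr ⟨hδO, ?_⟩)
      by_cases he : δ = δ₁
      · rw [he]; exact hpair.1
      · exact hsame δ hδO δ₁ hδ₁ h he
    let _ : Fintype (((D.W ⧸ D.Zw) →* ℤˣ) ⧸ E) := Fintype.ofFinite _
    rw [Subgroup.index_eq_card, Nat.card_eq_fintype_card]
    have hinjo : Set.InjOn (fun δ : (D.W ⧸ D.Zw) →* ℤˣ => (δ : ((D.W ⧸ D.Zw) →* ℤˣ) ⧸ E)) ↑(O \ S) := fun δ hδ δ' hδ' h => by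
      obtain ⟨hδO, hδS⟩ := Finset.mem_sdiff.mp hδ
      rw [QuotientGroup.eq, inv_eq_of_mul_eq_one_left (hT2 δ)] at h
      by_contra hne
      exact hδS (Finset.mem_filter.mpr ⟨hδO, hsame δ hδO δ' (Finset.mem_sdiff.mp hδ').1 h hne⟩)
    have h1 : ((O \ S).image fun δ : (D.W ⧸ D.Zw) →* ℤˣ => (δ : ((D.W ⧸ D.Zw) →* ℤˣ) ⧸ E)) ⊆
        Finset.univ.erase (δ₁ : ((D.W ⧸ D.Zw) →* ℤˣ) ⧸ E) := fun c hc => by
      obtain ⟨δ, hδ, rfl⟩ := Finset.mem_image.mp hc
      exact Finset.mem_erase.mpr ⟨hcls δ hδ, Finset.mem_univ _⟩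
    have h2 := Finset.card_le_card h1
    rw [Finset.card_image_of_injOn hinjo, Finset.card_erase_of_mem (Finset.mem_univ _), Finset.card_univ] at h2
    have : 0 < Fintype.card (((D.W ⧸ D.Zw) →* ℤˣ) ⧸ E) := Fintype.card_pos
    omega
  have hSO : S ⊆ O := Finset.filter_subset _ _
  have hOS : O.card = (O \ S).card + S.card := (Finset.card_sdiff_add_card_eq_card hSO).symm
  have hEtop : E.index ≠ 1 := by
    intro h
    refine absurd hk (not_lt.mpr (hpair.2.trans (Nat.mul_le_mul_left _ (Nat.le_of_dvd Nat.card_pos ?_))))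
    refine card_dvd_of_le (M.le_W_of_le_rads hS (rad_le _ _) fun μ hμ => ?_)
    obtain ⟨δ, rfl⟩ := hlift μ hμ
    have he : O \ S = ∅ := Finset.card_eq_zero.mp (by omega)
    exact (Finset.mem_filter.mp (Finset.sdiff_eq_empty_iff_subset.mp he ((hmem δ).mpr hμ))).2
  -- parameters
  have hEmul : Nat.card E * E.index = 2 ^ d := by
    rw [E.card_mul_index, Nat.card_eq_fintype_card, hcardT, hd]
  obtain ⟨t, htd, ht⟩ := (Nat.dvd_prime_pow Nat.prime_two).mp (Dvd.intro _ hEmul)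
  have hidx : E.index = 2 ^ (d - t) := by
    refine Nat.eq_of_mul_eq_mul_left (Nat.two_pow_pos t) ?_
    rw [← pow_add, Nat.add_sub_cancel' htd, ← ht, hEmul]
  have htlt : t < d := lt_of_le_of_ne htd fun e => hEtop (by rw [hidx, e, Nat.sub_self, pow_zero])
  have hfilE : (O.filter (ε * · ∈ O)).card ≤ 2 ^ t := by
    refine (Finset.card_le_card fun δ hδ => ?_).trans (hScard.trans ht.le)
    obtain ⟨hδO, hδ'⟩ := Finset.mem_filter.mp hδ
    refine Finset.mem_filter.mpr ⟨hδO, hsame δ hδO _ hδ' ?_ fun e => hε ?_⟩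
    · show δ * (ε * δ) ∈ E
      rw [mul_left_comm, hT2, mul_one]
      exact (le_rfl : I ≤ rad hsp (pb ε))
    · exact mul_right_cancel (b := δ) (by rw [one_mul, ← e])
  have hlamε := hlam ε hε
  rw [hcardT] at hlamε
  have htop : t + 1 = d → (O.filter (ε * · ∈ O)).card ≤ 2 := by
    intro h
    obtain ⟨ε', hε'⟩ : ∃ ε', ε' ∉ E := by
      by_contra hno
      push Not at hno
      exact hEtop (by rw [(eq_top_iff.mpr fun x _ => hno x : E = ⊤), Subgroup.index_top])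
    have hε'1 : ε' ≠ 1 := fun e => hε' (e ▸ one_mem E)
    have hlam' := hlam ε' hε'1
    rw [hcardT] at hlam'
    rw [Nat.eq_of_mul_eq_mul_right (show 0 < D.Zw.index - 1 by omega) (hlamε.trans hlam'.symm)]
    have h1 : (O \ S).card ≤ 1 := by
      have h2 : E.index = 2 := by rw [hidx, show d - t = 1 by omega, pow_one]
      omega
    have hsub : O.filter (ε' * · ∈ O) ⊆ (O \ S) ∪ (O \ S).image (ε' * ·) := by
      intro δ hδ
      obtain ⟨hδO, hδ'⟩ := Finset.mem_filter.mp hδ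
      by_cases hS1 : δ ∈ S
      · by_cases hS2 : ε' * δ ∈ S
        · exfalso
          have := hSE δ hδO _ hδ' (Finset.mem_filter.mp hS1).2 (Finset.mem_filter.mp hS2).2
          rw [mul_left_comm, hT2, mul_one] at this
          exact hε' this
        · refine Finset.mem_union_right _ (Finset.mem_image.mpr ⟨ε' * δ, Finset.mem_sdiff.mpr ⟨hδ', hS2⟩, ?_⟩)
          rw [← mul_assoc, hT2, one_mul]
      · exact Finset.mem_union_left _ (Finset.mem_sdiff.mpr ⟨hδO, hS1⟩)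
    exact (Finset.card_le_card hsub).trans ((Finset.card_union_le _ _).trans
      (by have := (Finset.card_image_le (s := O \ S) (f := (ε' * ·))); omega))
  have hcases : O.card = D.Zw.index - 1 ∨
      ∃ s, 0 < s ∧ D.Zw.index = 4 * s ^ 2 ∧ (O.card + s = 2 * s ^ 2 ∨ O.card = 2 * s ^ 2 + s) := by
    rw [← hcardT]
    rcases spectrum_card hT2 O _ hc with h | h | h | h | h
    · omega
    · omega
    · exact Or.inl h
    · exact absurd h (fun e => hnotall (e.trans hcardT))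
    · exact Or.inr h
  have hnum : Nat.card {μ : D.W →* ℤˣ // Occ ρ D μ} = O.card := by
    rw [← Fintype.card_coe, ← Nat.card_eq_fintype_card]
    exact (Nat.card_eq_of_bijective (fun δ : O => (⟨emb δ.1, (hmem δ.1).mp δ.2⟩ : {μ : D.W →* ℤˣ // Occ ρ D μ}))
      ⟨fun δ δ' h => Subtype.ext (hembinj (congrArg Subtype.val h)), fun μ => by
        obtain ⟨δ, hδ⟩ := hlift μ.1 μ.2
        exact ⟨⟨δ, (hmem δ).mpr (hδ ▸ μ.2)⟩, Subtype.ext hδ⟩⟩).symm
  rcases shult_diff_set_cases (t := t) hd htlt hlamε hn2 hfilE (by omega) htop hcases with ⟨hq, hv⟩ | ⟨hq, hv⟩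
  · have : Fintype {μ : D.W →* ℤˣ // Occ ρ D μ} := Fintype.ofFinite _
    let e : Fin 3 ≃ {μ : D.W →* ℤˣ // Occ ρ D μ} :=
      (Fintype.equivFinOfCardEq (by rw [← Nat.card_eq_fintype_card, hnum, hv])).symm
    exact M.false_three (χ := fun i => (e i).1) (z := z)
      ⟨hS, fun i => (e i).2, fun i j h => e.injective (Subtype.ext h),
        fun μ hμ => ⟨e.symm ⟨μ, hμ⟩, by simp⟩, hk, hz, hz1, hq⟩ hA hC
  · exact M.false_six hS (hnum.trans hv) hq hA hC

end Cfg

end Cfsg.Agent.H24.Flav
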