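import Cfsg.Agent.H8.Shult.CleN3
import Cfsg.Agent.H24.Flav.CleNBase
import Cfsg.Agent.H24.Flav.CnotLeN1
import Cfsg.Agent.H24.Flav.CnotLeN3
import Cfsg.Agent.H24.Flav.CnotLeN3Perm

/-!
All fixed points of the automorphism in `N` and at least three constituents: impossible.

In the general configuration.
-/

set_option autoImplicit false
set_option linter.unusedSectionVars false

namespace Cfsg.Agent.H24.Flav

open Subgroup
open Cfsg.Agent.H8.Shult hiding Min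
open scoped commutatorElement

universe u v w

variable {G : Type u} [Group G] [Finite G] {p r : ℕ} [hp : Fact p.Prime] {a : MulAut G}
variable {k : Type w} [Field k] [CharP k p] {V : Type v} [AddCommGroup V] [Module k V]
variable [IsAlgClosed k] [FiniteDimensional k V]
variable {ρ : G →* Module.End k V} {T : Module.End k V}
variable {D : UData a}

namespace Cfg

variable (M : Cfg p r a ρ T) {m : ℕ}
include M

theorem W_commute (x y : D.W) : x * y = y * x :=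
  Subtype.ext ((M.special2_U D).fix_central x x.2 y y.2.1)

theorem W_mul_self (x : D.W) : x * x = 1 := Subtype.ext ((M.special2_U D).fix_sq x x.2)

/-- With at least three constituents some element of `W` is good. -/
theorem exists_good (hS : Shape ρ D r m) (hWb : D.Wb ≠ ⊥)
    (hk : 2 ^ (2 * (2 * m)) * Nat.card D.W < Nat.card D.U) : ∃ w, D.Good w := by
  classical
  by_contra hno
  have := Fintype.ofFinite D.W
  let O := {μ : D.W →* ℤˣ // Occ ρ D μ}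
  have : Finite (D.W →* ℤˣ) := Finite.of_injective (fun f : D.W →* ℤˣ => (f : D.W → ℤˣ)) DFunLike.coe_injective
  let _ : Fintype O := Fintype.ofFinite O
  have hbad : ∀ x : D.W, (x : G) ∉ center G → ∑ μ : O, ((μ.1 x : ℤˣ) : ℤ) = 0 := by
    intro x hx
    obtain ⟨g, z, hz, he, hz1⟩ : ∃ g z : G, z ∈ center G ∧ g * x * g⁻¹ = x * z ∧ z ≠ 1 := by
      by_contra h
      exact hno ⟨x, x.2, hx, fun g z hz he => by_contra fun hz1 => h ⟨g, z, hz, he, hz1⟩⟩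
    have hg := M.mem_N_of_conj D x.2 hx x.2 hz he
    have hzW : z ∈ D.W := by
      have := mul_mem (inv_mem x.2) (M.conj_mem_W_of_mem_N (D := D) hg x.2)
      rwa [he, inv_mul_cancel_left] at this
    have hneg : ∀ μ : O, (M.permN (D := D) ⟨g, hg⟩ μ).1 x = -μ.1 x := by
      intro μ
      rw [M.permN_apply, M.actN_apply,
        show M.conjN (⟨g, hg⟩ : D.N)⁻¹ x = x * ⟨z, hzW⟩ from Subtype.ext ?_, map_mul,
        M.occ_center μ.2 (z := ⟨z, hzW⟩) hz (fun h => hz1 (congrArg Subtype.val h)), mul_neg_one]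
      rw [M.conjN_apply, Subgroup.coe_inv, inv_inv, Subgroup.coe_mul]
      show g⁻¹ * x * g = x * z
      have hz2 : z * z = 1 := (M.special2_U D).fix_sq z hzW
      calc g⁻¹ * x * g = g⁻¹ * ((x * z) * z) * g := by rw [mul_assoc (x : G), hz2, mul_one]
        _ = g⁻¹ * ((g * x * g⁻¹) * z) * g := by rw [he]
        _ = x * (g⁻¹ * z * g) := by group
        _ = _ := by rw [mul_assoc g⁻¹, ← mem_center_iff.mp hz g, inv_mul_cancel_left]
    have h := Equiv.sum_comp (M.permN (D := D) ⟨g, hg⟩) (fun μ : O => ((μ.1 x : ℤˣ) : ℤ))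
    rw [Finset.sum_congr rfl fun μ _ => show ((((M.permN (D := D) ⟨g, hg⟩) μ).1 x : ℤˣ) : ℤ) =
      -((μ.1 x : ℤˣ) : ℤ) by rw [hneg, Units.val_neg], Finset.sum_neg_distrib] at h
    linarith
  obtain ⟨χ₀, hχ₀⟩ : ∃ χ, Occ ρ D χ := by
    obtain ⟨x, hx, hx1⟩ := D.W.bot_or_exists_ne_one.resolve_left (M.W_ne_bot D)
    obtain ⟨χ, hχ, -⟩ := M.exists_occ (x := ⟨x, hx⟩) fun e => hx1 (congrArg Subtype.val e)
    exact ⟨χ, hχ⟩
  -- all characters with the central values of an occurring one occur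
  have hall : ∀ χ : D.W →* ℤˣ, (∀ x : D.W, (x : G) ∈ center G → χ x = χ₀ x) → Occ ρ D χ := by
    intro χ hχ
    by_contra hn
    have h1 : ∑ x : D.W, ∑ μ : O, ((χ x : ℤˣ) : ℤ) * (μ.1 x : ℤˣ) = 0 := by
      rw [Finset.sum_comm]
      refine Finset.sum_eq_zero fun μ _ => ?_
      have hne : χ * μ.1 ≠ 1 := fun e => hn (by
        have e' : χ * (μ.1 * μ.1) = μ.1 := by rw [← mul_assoc, e, one_mul]
        rw [char_sq, mul_one] at e'
        exact e' ▸ μ.2)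
      obtain ⟨x, hx⟩ : ∃ x, (χ * μ.1) x ≠ 1 := by
        by_contra h
        push Not at h
        exact hne (MonoidHom.ext h)
      have hs := sum_sign_eq_zero (χ * μ.1) hx
      simp only [MonoidHom.mul_apply, Units.val_mul] at hs
      exact hs
    have h2 : ∀ x : D.W, ∑ μ : O, ((χ x : ℤˣ) : ℤ) * (μ.1 x : ℤˣ) =
        if (x : G) ∈ center G then (Fintype.card O : ℤ) else 0 := by
      intro x
      split_ifs with hx
      · have h3 : ∀ μ : O, ((χ x : ℤˣ) : ℤ) * (μ.1 x : ℤˣ) = 1 := fun μ => by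
          rw [hχ x hx, M.occ_center_eq μ.2 hχ₀ hx, ← Units.val_mul, Int.units_mul_self, Units.val_one]
        simp [h3]
      · rw [← Finset.mul_sum, hbad x hx, mul_zero]
    simp only [h2] at h1
    rw [← Finset.sum_filter, Finset.sum_const, nsmul_eq_mul, mul_eq_zero] at h1
    rcases h1 with h1 | h1
    · have : (1 : D.W) ∈ Finset.univ.filter fun x : D.W => (x : G) ∈ center G := by simp
      exact (Finset.card_ne_zero.mpr ⟨_, this⟩) (by exact_mod_cast h1)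
    · have : Nonempty O := ⟨⟨χ₀, hχ₀⟩⟩
      exact (Fintype.card_ne_zero (α := O)) (by exact_mod_cast h1)
  obtain ⟨y, hy, hy1⟩ := D.Wb.bot_or_exists_ne_one.resolve_left hWb
  obtain ⟨y, hy, rfl⟩ := hy
  obtain ⟨ψ, hψ⟩ := exists_sign_ne_one M.Zw_sq
    (x := ((⟨y, hy⟩ : D.W) : D.W ⧸ D.Zw)) (fun h => hy1 ((QuotientGroup.eq_one_iff y).mpr
      (mem_subgroupOf.mp ((QuotientGroup.eq_one_iff _).mp h))))
  refine absurd (M.card_le_of_translation hS (ε := ψ.comp (QuotientGroup.mk' D.Zw)) (fun h => hψ ?_)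
    fun χ hχ => hall _ fun x hx => ?_).1 (not_le.mpr hk)
  · exact DFunLike.congr_fun h ⟨y, hy⟩
  · have hq : (QuotientGroup.mk' D.Zw) x = 1 := (QuotientGroup.eq_one_iff x).mpr (mem_subgroupOf.mpr hx)
    rw [MonoidHom.mul_apply, MonoidHom.comp_apply, hq, map_one, mul_one, M.occ_center_eq hχ hχ₀ hx]

/-- An element of `N` commuting with `W` modulo the centre is pure. -/
theorem pure_of_commute (hnt : D.NoTrans) {v : G} (hv : v ∈ D.N) (h : ∀ w ∈ D.W, ⁅v, w⁆ ∈ center G) :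
    D.Pure v := by
  have hsp := M.special2_U D
  obtain ⟨γ, hγ, u, hu, rfl⟩ := M.exists_fixed_mul D hv
  have hγC : γ ∈ centralizer (D.U : Set G) := by
    refine hnt γ hγ fun w hw => ?_
    have h1 := h w hw
    rwa [show ⁅γ * u, w⁆ = γ * ⁅u, w⁆ * γ⁻¹ * ⁅γ, w⁆ by simp [commutatorElement_def, mul_assoc],
      commutatorElement_eq_one_iff_mul_comm.mpr (hsp.fix_central w hw u hu).symm, mul_one, mul_inv_cancel,
      one_mul] at h1
  refine ⟨hv, fun x hx => ?_⟩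
  rw [show ⁅γ * u, x⁆ = γ * ⁅u, x⁆ * γ⁻¹ * ⁅γ, x⁆ by simp [commutatorElement_def, mul_assoc],
    commutatorElement_eq_one_iff_mul_comm.mpr (mem_centralizer_iff.mp hγC x hx).symm, mul_one]
  exact D.conj_mem_W (g := γ) hγ (hsp.comm_mem u hu x hx)

/-- Two points stabilising each other's `W` completely are impossible. -/
theorem false_of_full (hS : Shape ρ D r m) (hWb : D.Wb ≠ ⊥)
    (hk : 2 ^ (2 * (2 * m)) * Nat.card D.W < Nat.card D.U) {g : G ⧸ center G} (hg : g ∉ D.Nb)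
    (h1 : ∀ w ∈ D.Wb, g⁻¹ * w * g ∈ D.Nb) (h2 : ∀ w ∈ D.Wb, g * w * g⁻¹ ∈ D.Nb) : False := by
  obtain ⟨g, rfl⟩ := QuotientGroup.mk_surjective g
  have hnt := M.noTrans_of_big hS hk
  have key : ∀ g : G, (g : G ⧸ center G) ∉ D.Nb → (∀ w ∈ D.Wb, (g : G ⧸ center G)⁻¹ * w * g ∈ D.Nb) →
      (∀ w ∈ D.Wb, (g : G ⧸ center G) * w * (g : G ⧸ center G)⁻¹ ∈ D.Nb) →
      ∀ w' ∈ D.W, D.Pure (g * w' * g⁻¹) := by
    intro g hg h1 h2 w' hw'
    have hwb : (w' : G ⧸ center G) ∈ D.Wb := ⟨w', hw', rfl⟩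
    refine M.pure_of_commute hnt ((M.mem_Nb_iff D).mp (by simpa using h2 _ hwb)) fun w hw => ?_
    have hx : (w : G ⧸ center G) ∈ eMeet D.Nb D.Wb (g : G ⧸ center G) :=
      mem_eMeet.mpr ⟨⟨w, hw, rfl⟩, h1 _ ⟨w, hw, rfl⟩⟩
    have hy : (g : G ⧸ center G) * w' * (g : G ⧸ center G)⁻¹ ∈ eImg D.Nb D.Wb (g : G ⧸ center G) :=
      mem_eImg.mpr ⟨by simpa [mul_assoc] using hwb, h2 _ hwb⟩
    have h := commutatorElement_eq_one_iff_mul_comm.mpr ((M.frame D).eMeet_commute hg hx hy).symm.eq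
    refine (QuotientGroup.eq_one_iff _).mp ?_
    rw [← QuotientGroup.mk'_apply, map_commutatorElement, map_mul, map_mul, map_inv]
    exact h
  obtain ⟨y, hy, hy1⟩ := D.Wb.bot_or_exists_ne_one.resolve_left hWb
  obtain ⟨y, hy, rfl⟩ := hy
  refine M.false_of_mutual hS hnt (g := g) (fun h => hg ((M.mem_Nb_iff D).mpr h)) (key g hg h1 h2)
    (key g⁻¹ ?_ ?_ ?_) hy fun h => hy1 ((QuotientGroup.eq_one_iff y).mpr h)
  · rw [QuotientGroup.mk_inv]; exact fun h => hg (inv_mem_iff.mp h)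
  · intro w hw; rw [QuotientGroup.mk_inv, inv_inv]; exact h2 w hw
  · intro w hw; rw [QuotientGroup.mk_inv, inv_inv]; exact h1 w hw

/-- An involution of `N` has fixed part of order dividing four and moves radicals apart. -/
theorem rad_moved (hS : Shape ρ D r m) {v : G} (hv : v ∈ D.N) (hvv : v * v = 1) {χ : D.W →* ℤˣ}
    (hχ : Occ ρ D χ) (hne : M.actN ⟨v, hv⟩ χ ≠ χ) :
    rad hS.sp (M.actN ⟨v, hv⟩ χ) ≠ rad hS.sp χ ∧
      rad hS.sp (χ * M.actN ⟨v, hv⟩ χ) = rad hS.sp χ ⊓ rad hS.sp (M.actN ⟨v, hv⟩ χ) ∧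
      Nat.card D.U = 2 ^ (2 * (2 * m)) * Nat.card (rad hS.sp (χ * M.actN ⟨v, hv⟩ χ)) := by
  have hsp := hS.sp
  obtain ⟨c, hc, u, hu, he⟩ := M.exists_fixed_mul D hv
  have hact : M.actN ⟨v, hv⟩ χ = D.act ⟨c, hc⟩ χ := M.actN_of_eq ⟨v, hv⟩ hc hu he χ
  have hcc : c * c ∈ D.W := by
    have e : c * c = (c⁻¹ * u * c * u)⁻¹ := by
      refine eq_inv_of_mul_eq_one_left ?_
      calc c * c * (c⁻¹ * u * c * u) = c * u * (c * u) := by group
        _ = 1 := by rw [← he, hvv]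
    refine ⟨?_, (fixedBy a).mul_mem hc.2 hc.2⟩
    show c * c ∈ D.U
    rw [e]
    exact inv_mem (mul_mem (by simpa using D.conj_mem_U (inv_mem hc.1) hu) hu)
  have hc4 : c ^ 2 ^ 2 = 1 := by
    rw [show (2 : ℕ) ^ 2 = 2 * 2 by norm_num, pow_mul, pow_two, pow_two]
    exact hsp.fix_sq _ hcc
  rw [hact] at hne ⊢
  have hrad := M.rad_act_ne hS (g := ⟨c, hc⟩) (j := 2) hc4 hχ hne
  exact ⟨hrad, M.rad_mul_eq hS.pos hS.eq hsp (hS.idx χ hχ) (hS.idx _ (M.occ_act hχ _)) (Ne.symm hrad)⟩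

/-- The final configuration: three characters and an element mapped to a central translate. -/
theorem false_of_three (hS : Shape ρ D r m) {a₀ γ : G} (ha₀ : D.Good a₀) (hγ : γ ∈ D.Gam)
    (hγγ : γ * γ ∈ D.W) {χ₁ χ₂ χ₃ : D.W →* ℤˣ} (h₁ : D.act ⟨γ, hγ⟩ χ₁ = χ₂)
    (h₂ : D.act ⟨γ, hγ⟩ χ₂ = χ₁) (h₃ : D.act ⟨γ, hγ⟩ χ₃ = χ₃) (hO₁ : Occ ρ D χ₁) (hO₃ : Occ ρ D χ₃)
    (hOcc : ∀ ψ, Occ ρ D ψ → ψ = χ₁ ∨ ψ = χ₂ ∨ ψ = χ₃)
    (hI : rad hS.sp (χ₁ * χ₂) = rad hS.sp χ₁ ⊓ rad hS.sp χ₂)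
    (hne : rad hS.sp χ₂ ≠ rad hS.sp χ₁) (hI₃ : ¬ rad hS.sp (χ₁ * χ₂) ≤ rad hS.sp χ₃)
    (hcen : ∀ z : D.W, χ₁ z = -1 → χ₂ z = -1 → χ₃ z = -1 → (z : G) ∈ center G)
    {g u : G} (hg : g ∉ D.N) (hu : u ∈ D.U) (he : g * a₀ * g⁻¹ = γ * u) : False := by
  classical
  have hsp := hS.sp
  set c : D.Gam := ⟨γ, hγ⟩ with hc
  set I := rad hsp (χ₁ * χ₂) with hIdef
  set A₃ := rad hsp χ₃ with hA₃
  have hact : D.act c (χ₁ * χ₂) = χ₁ * χ₂ := by rw [UData.act_mul, h₁, h₂, mul_comm]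
  have hIU : I ≤ D.U := rad_le hsp _
  have hA₃U : A₃ ≤ D.U := rad_le hsp _
  have hint : I ⊓ A₃ ≤ D.W := by
    refine M.le_W_of_le_rads hS (inf_le_left.trans hIU) fun ψ hψ => ?_
    rcases hOcc ψ hψ with rfl | rfl | rfl
    · exact inf_le_left.trans (hI.le.trans inf_le_left)
    · exact inf_le_left.trans (hI.le.trans inf_le_right)
    · exact inf_le_right
  have hsup : A₃ ⊔ I = D.U :=
    (M.eq_or_eq hS.pos hS.eq hsp (hS.idx χ₃ hO₃) ((inv_rad hsp χ₃).sup (inv_rad hsp _)) le_sup_left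
      (sup_le hA₃U hIU)).resolve_left fun h => hI₃ (sup_eq_left.mp h)
  have hdec : ∀ x ∈ D.U, ∃ i ∈ I, ∃ y ∈ A₃, x = i * y := by
    intro x hx
    have hn : A₃ ≤ normalizer (I : Set G) := hA₃U.trans (le_normalizer_of_W_le hsp (W_le_rad hsp _) hIU)
    have h : x ∈ I ⊔ A₃ := by rw [sup_comm, hsup]; exact hx
    rw [← SetLike.mem_coe, Subgroup.coe_mul_of_right_le_normalizer_left _ _ hn] at h
    obtain ⟨i, hi, y, hy, rfl⟩ := h
    exact ⟨i, hi, y, hy, rfl⟩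
  have hcW : ∀ {x y : G}, x ∈ D.U → y ∈ D.U → ⁅x, y⁆ ∈ D.W := fun {x y} hx hy => hsp.comm_mem x hx y hy
  have hcen' : ∀ {s x : G}, s ∈ D.W → x ∈ D.U → s * x = x * s := fun {s x} hs hx => hsp.fix_central s hs x hx
  -- behaviour of `γ` on `U`
  have hγ' : ∀ x ∈ D.U, γ⁻¹ * x * γ = γ * x * γ⁻¹ := fun x hx => by
    have h := hcen' hγγ hx
    calc γ⁻¹ * x * γ = γ⁻¹ * (x * (γ * γ)) * γ⁻¹ := by group
      _ = γ * x * γ⁻¹ := by rw [← h]; group
  have hA₃γ : ∀ x ∈ D.U, ⁅γ, x⁆ ∈ A₃ := fun x hx =>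
    M.commutator_mem_rad hS.pos hS.eq hsp (hS.idx χ₃ hO₃) c h₃ hx
  have hA₃γ' : ∀ x ∈ D.U, ⁅γ⁻¹, x⁆ ∈ A₃ := fun x hx =>
    M.commutator_mem_rad hS.pos hS.eq hsp (hS.idx χ₃ hO₃) c⁻¹ (by
      conv_lhs => rw [← h₃]
      rw [UData.act_act, inv_mul_cancel, UData.act_one]) hx
  have hvv : ∀ u', u' ∈ D.U → γ * u' * (γ * u') = 1 → γ * u' * γ⁻¹ * u'⁻¹ ∈ D.W := fun u' hu' h => by
    have e : γ * u' * γ⁻¹ * u'⁻¹ = (γ * γ * (u' * u'))⁻¹ := by
      have h2 : γ * u' * γ⁻¹ = u'⁻¹ * (γ * γ)⁻¹ := by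
        calc γ * u' * γ⁻¹ = (γ * u' * (γ * u')) * u'⁻¹ * (γ * γ)⁻¹ := by group
          _ = _ := by rw [h, one_mul]
      rw [h2, ← hcen' (inv_mem hγγ) (inv_mem hu'), mul_inv_rev (γ * γ), mul_inv_rev u', mul_assoc,
        ← hcen' (inv_mem hγγ) (mul_mem (inv_mem hu') (inv_mem hu'))]
    exact e ▸ inv_mem (mul_mem hγγ (hsp.sq_mem u' hu'))
  have hinvol : ∀ g' : G, g' * a₀ * g'⁻¹ * (g' * a₀ * g'⁻¹) = 1 := fun g' => by
    rw [show g' * a₀ * g'⁻¹ * (g' * a₀ * g'⁻¹) = g' * (a₀ * a₀) * g'⁻¹ by group, hsp.fix_sq a₀ ha₀.1]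
    group
  -- the element avoids `A₃`
  have havoid : u ∉ A₃ := by
    intro huA
    set R := A₃ ⊓ rad hsp χ₁ with hR
    set R' := A₃ ⊓ rad hsp χ₂ with hR'
    have hRR : R ⊓ R' ≤ D.W := fun x hx => hint ⟨hI.ge ⟨hx.1.2, hx.2.2⟩, hx.1.1⟩
    have hRU : R ≤ D.U := inf_le_left.trans hA₃U
    have hR'U : R' ≤ D.U := inf_le_left.trans hA₃U
    have hswap : ∀ x ∈ R, γ * x * γ⁻¹ ∈ R' := fun x hx => by
      have k₁ := (mem_rad_act hsp c χ₃).mpr (Subgroup.mem_inf.mp hx).1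
      have k₂ := (mem_rad_act hsp c χ₁).mpr (Subgroup.mem_inf.mp hx).2
      rw [h₃] at k₁
      rw [h₁] at k₂
      exact Subgroup.mem_inf.mpr ⟨k₁, k₂⟩
    have hswap' : ∀ x ∈ R', γ * x * γ⁻¹ ∈ R := fun x hx => by
      have k₁ := (mem_rad_act hsp c χ₃).mpr (Subgroup.mem_inf.mp hx).1
      have k₂ := (mem_rad_act hsp c χ₂).mpr (Subgroup.mem_inf.mp hx).2
      rw [h₃] at k₁
      rw [h₂] at k₂
      exact Subgroup.mem_inf.mpr ⟨k₁, k₂⟩
    have hWR : D.W ≤ R := le_inf (W_le_rad hsp _) (W_le_rad hsp _)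
    have hWR' : D.W ≤ R' := le_inf (W_le_rad hsp _) (W_le_rad hsp _)
    have hsup12 : rad hsp χ₁ ⊔ rad hsp χ₂ = D.U := by
      refine (M.eq_or_eq hS.pos hS.eq hsp (hS.idx χ₁ hO₁) ((inv_rad hsp _).sup (inv_rad hsp _)) le_sup_left
        (sup_le (rad_le hsp _) (rad_le hsp _))).resolve_left fun h => hne ?_
      refine Subgroup.eq_of_le_of_card_ge (sup_eq_left.mp h) (le_of_eq ?_)
      rw [← h₁, card_rad_act]
    obtain ⟨p₀, hp₀, q₀, hq₀, hpq⟩ : ∃ p₀ ∈ rad hsp χ₁, ∃ q₀ ∈ rad hsp χ₂, u = p₀ * q₀ := by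
      have hn : rad hsp χ₂ ≤ normalizer (rad hsp χ₁ : Set G) :=
        (rad_le hsp _).trans (le_normalizer_of_W_le hsp (W_le_rad hsp _) (rad_le hsp _))
      have h : u ∈ rad hsp χ₁ ⊔ rad hsp χ₂ := hsup12 ▸ hu
      rw [← SetLike.mem_coe, Subgroup.coe_mul_of_right_le_normalizer_left _ _ hn] at h
      obtain ⟨p₀, hp₀, q₀, hq₀, e⟩ := h
      exact ⟨p₀, hp₀, q₀, hq₀, e.symm⟩
    obtain ⟨i, hi, p', hp'A, hip⟩ := hdec p₀ (rad_le hsp _ hp₀)
    obtain ⟨j, hj, q', hq'A, hjq⟩ := hdec q₀ (rad_le hsp _ hq₀)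
    have hi₁ := Subgroup.mem_inf.mp (hI.le hi)
    have hj₁ := Subgroup.mem_inf.mp (hI.le hj)
    have hp' : p' ∈ R := Subgroup.mem_inf.mpr ⟨hp'A, by
      have h := mul_mem (inv_mem hi₁.1) hp₀; rwa [hip, inv_mul_cancel_left] at h⟩
    have hq' : q' ∈ R' := Subgroup.mem_inf.mpr ⟨hq'A, by
      have h := mul_mem (inv_mem hj₁.2) hq₀; rwa [hjq, inv_mul_cancel_left] at h⟩
    have hpU := hRU hp'
    have hqU := hR'U hq'
    set s := u * (p' * q')⁻¹ with hs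
    have hsW : s ∈ D.W := by
      refine hint (Subgroup.mem_inf.mpr ⟨?_, mul_mem huA (inv_mem (mul_mem hp'A hq'A))⟩)
      rw [hs, hpq, hip, hjq, show i * p' * (j * q') * (p' * q')⁻¹ = i * ⁅p', j⁆ * j by
        rw [commutatorElement_def]; group]
      exact mul_mem (mul_mem hi (W_le_rad hsp _ (hcW hpU (hIU hj)))) hj
    have hus : u = s * (p' * q') := by rw [hs, inv_mul_cancel_right]
    set p'' := γ * p' * γ⁻¹ with hp''
    set q'' := γ * q' * γ⁻¹ with hq''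
    have hp''R : p'' ∈ R' := hswap p' hp'
    have hq''R : q'' ∈ R := hswap' q' hq'
    have hwu := hvv u hu (by rw [← he]; exact hinvol g)
    have hsc : γ * s * γ⁻¹ ∈ D.W := D.conj_mem_W (g := γ) hγ hsW
    have hkey : ∃ t ∈ D.W, p'' * q'' = t * (p' * q') := by
      refine ⟨(γ * s * γ⁻¹)⁻¹ * (γ * u * γ⁻¹ * u⁻¹ * s), mul_mem (inv_mem hsc) (mul_mem hwu hsW), ?_⟩
      rw [hp'', hq'', hus]; group
    obtain ⟨t, ht, hpq'⟩ := hkey
    have hX : p'⁻¹ * q'' = ⁅p'', q''⁆⁻¹ * t * (q' * p''⁻¹) := by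
      have hW2 : ⁅p'', q''⁆⁻¹ * t ∈ D.W := mul_mem (inv_mem (hcW (hR'U hp''R) (hRU hq''R))) ht
      calc p'⁻¹ * q'' = p'⁻¹ * (⁅p'', q''⁆⁻¹ * (p'' * q'') * p''⁻¹) := by rw [commutatorElement_def]; group
        _ = p'⁻¹ * (⁅p'', q''⁆⁻¹ * t) * p' * q' * p''⁻¹ := by rw [hpq']; group
        _ = _ := by rw [← hcen' hW2 (inv_mem hpU)]; group
    have hqp : q' * p''⁻¹ ∈ D.W := by
      have hW2 : ⁅p'', q''⁆⁻¹ * t ∈ D.W := mul_mem (inv_mem (hcW (hR'U hp''R) (hRU hq''R))) ht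
      have h : p'⁻¹ * q'' ∈ D.W := hRR (Subgroup.mem_inf.mpr ⟨mul_mem (inv_mem hp') hq''R,
        hX ▸ mul_mem (hWR' hW2) (mul_mem hq' (inv_mem hp''R))⟩)
      have h' := mul_mem (inv_mem hW2) h
      rwa [hX, inv_mul_cancel_left] at h'
    refine hg (M.mem_N_of_free (x := p') ha₀.1 ha₀.2.1 hγ hu he hpU ?_)
    set s' := q' * p''⁻¹ with hs'
    have hu' : u = s * s' * (p' * p'') := by
      rw [hus, show q' = s' * p'' by rw [hs']; group, ← mul_assoc p', ← hcen' hqp hpU]; group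
    rw [hu', show ⁅γ, p'⁆ = p'' * p'⁻¹ by rw [commutatorElement_def, hp''],
      show (s * s' * (p' * p''))⁻¹ * (p'' * p'⁻¹) = (p' * p'')⁻¹ * ((s * s')⁻¹ * (p'' * p'⁻¹)) by group,
      hcen' (inv_mem (mul_mem hsW hqp)) (mul_mem (hR'U hp''R) (inv_mem hpU)),
      show (p' * p'')⁻¹ * (p'' * p'⁻¹ * (s * s')⁻¹) = ⁅p''⁻¹, p'⁻¹⁆ * (p' * p')⁻¹ * (s * s')⁻¹ by
        rw [commutatorElement_def]; group]
    exact mul_mem (mul_mem (hcW (inv_mem (hR'U hp''R)) (inv_mem hpU)) (inv_mem (hsp.sq_mem p' hpU)))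
      (inv_mem (mul_mem hsW hqp))
  -- the element avoiding both radicals cannot exist
  have core : ∀ g' u', u' ∈ D.U → g' * a₀ * g'⁻¹ = γ * u' → u' ∉ I → u' ∉ A₃ → False := by
    intro g' u' hu' he' huI huA
    have hwu := hvv u' hu' (by rw [← he']; exact hinvol g')
    obtain ⟨t, htI, ht⟩ : ∃ t : D.U, (t : G) ∈ I ∧ χ₃ (commW hsp t ⟨u', hu'⟩) = -1 := by
      by_contra h
      push Not at h
      refine huA (mem_rad.mpr ⟨hu', fun y => ?_⟩)
      obtain ⟨i, hi, y', hy', hiy⟩ := hdec y y.2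
      obtain ⟨hyU, hy''⟩ := mem_rad.mp hy'
      rw [show y = ⟨i, hIU hi⟩ * ⟨y', hyU⟩ from Subtype.ext hiy, commW_mul_right, map_mul,
        commW_symm hsp ⟨i, hIU hi⟩, commW_symm hsp ⟨y', hyU⟩, hy'' ⟨u', hu'⟩, mul_one]
      exact (Int.units_eq_one_or _).resolve_right (h ⟨i, hIU hi⟩ hi)
    obtain ⟨x, hx⟩ : ∃ x : D.U, (χ₁ * χ₂) (commW hsp x ⟨u', hu'⟩) = -1 := by
      by_contra h
      push Not at h
      refine huI (mem_rad.mpr ⟨hu', fun y => ?_⟩)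
      rw [commW_symm]
      exact (Int.units_eq_one_or _).resolve_right (h y)
    set xγ : D.U := ⟨γ * x * γ⁻¹, D.conj_mem_U hγ.1 x.2⟩ with hxγ
    set y : D.U := t * (xγ * x) with hy
    have hflip : ∀ χ, χ (commW hsp xγ ⟨u', hu'⟩) = D.act c⁻¹ χ (commW hsp x ⟨u', hu'⟩) := by
      intro χ
      rw [UData.act_apply, inv_inv, ← commW_conj hsp c x ⟨u', hu'⟩]
      have e : (⟨γ * u' * γ⁻¹, D.conj_mem_U hγ.1 hu'⟩ : D.U) =
          ⟨γ * u' * γ⁻¹ * u'⁻¹, D.W_le_U hwu⟩ * ⟨u', hu'⟩ :=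
        Subtype.ext (inv_mul_cancel_right _ _).symm
      show _ = χ (commW hsp xγ ⟨γ * u' * γ⁻¹, _⟩)
      rw [e, commW_mul_right, map_mul, show commW hsp xγ ⟨γ * u' * γ⁻¹ * u'⁻¹, D.W_le_U hwu⟩ = 1 from
        Subtype.ext (commutatorElement_eq_one_iff_mul_comm.mpr (hcen' hwu xγ.2).symm), map_one, one_mul]
    have hinv : ∀ {χ χ' : D.W →* ℤˣ}, D.act c χ = χ' → D.act c⁻¹ χ' = χ := fun {χ χ'} h => by
      rw [← h, UData.act_act, inv_mul_cancel, UData.act_one]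
    have hmid : ∀ χ, χ (commW hsp y ⟨u', hu'⟩) =
        χ (commW hsp t ⟨u', hu'⟩) * (D.act c⁻¹ χ (commW hsp x ⟨u', hu'⟩) * χ (commW hsp x ⟨u', hu'⟩)) := by
      intro χ
      rw [hy, commW_mul_left, commW_mul_left, map_mul, map_mul, hflip]
    obtain ⟨_, ht₁⟩ := mem_rad.mp (hI.le htI).1
    obtain ⟨_, ht₂⟩ := mem_rad.mp (hI.le htI).2
    have hv₁ : χ₁ (commW hsp y ⟨u', hu'⟩) = -1 := by
      rw [hmid, ht₁, one_mul, hinv h₂, ← hx, MonoidHom.mul_apply, mul_comm]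
    have hv₂ : χ₂ (commW hsp y ⟨u', hu'⟩) = -1 := by
      rw [hmid, ht₂, one_mul, hinv h₁, ← hx, MonoidHom.mul_apply]
    have hv₃ : χ₃ (commW hsp y ⟨u', hu'⟩) = -1 := by
      rw [hmid, ht, hinv h₃, Int.units_mul_self, mul_one]
    let Y₀ : Subgroup G :=
      { carrier := {y | y ∈ D.U ∧ ⁅γ, y⁆ ∈ D.W}
        one_mem' := ⟨one_mem _, by rw [commutatorElement_one_right]; exact one_mem _⟩
        mul_mem' := fun {x y} hx hy => ⟨mul_mem hx.1 hy.1, by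
          rw [comm_mul_right hsp hx.1 hy.2]; exact mul_mem hx.2 hy.2⟩
        inv_mem' := fun {y} hy => ⟨inv_mem hy.1, by
          have h := comm_mul_right hsp (inv_mem hy.1) hy.2
          rw [inv_mul_cancel, commutatorElement_one_right] at h
          rw [eq_inv_of_mul_eq_one_left h.symm]
          exact inv_mem hy.2⟩ }
    have hY₀a : Inv a Y₀ := fun z hz => ⟨D.inv_U z hz.1, by
      rw [show ⁅γ, a z⁆ = a ⁅γ, z⁆ by rw [map_commutatorElement, mem_fixedBy.mp hγ.2], mem_fixedBy.mp hz.2.2]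
      exact hz.2⟩
    have hyY : (y : G) ∈ Y₀ := by
      refine Y₀.mul_mem ⟨t.2, hint (Subgroup.mem_inf.mpr ⟨?_, hA₃γ t t.2⟩)⟩ ⟨(xγ * x).2, ?_⟩
      · have h := (mem_rad_act hsp c (χ₁ * χ₂)).mpr htI
        rw [hact] at h
        rw [commutatorElement_def]
        exact mul_mem h (inv_mem htI)
      · show ⁅γ, γ * x * γ⁻¹ * x⁆ ∈ D.W
        have hxU : γ * x * γ⁻¹ ∈ D.U := xγ.2
        have e : ⁅γ, γ * (x : G) * γ⁻¹ * x⁆ = ⁅(x : G), γ * x * γ⁻¹⁆ := by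
          calc ⁅γ, γ * (x : G) * γ⁻¹ * x⁆
              = (γ * γ * x) * (γ * γ)⁻¹ * (γ * x * γ⁻¹) * (x : G)⁻¹ * (γ * x * γ⁻¹)⁻¹ := by
                rw [commutatorElement_def]; group
            _ = _ := by rw [hcen' hγγ x.2, mul_inv_cancel_right, commutatorElement_def]
        exact e ▸ hcW x.2 hxU
    obtain ⟨d, hd, c₀, hc₀, hdc⟩ := M.coprimely.exists_disp_mul hY₀a hyY
    have hdY := disp_le hY₀a hd
    have hc₀W : c₀ ∈ D.W := ⟨hc₀.1.1, hc₀.2⟩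
    have hcomm : ⁅γ, d⁆ = 1 := eq_one_on_disp hY₀a (fun z => ⁅γ, z⁆)
      (fun z hz z' hz' => comm_mul_right hsp hz.1 hz'.2)
      (fun z hz => by
        conv_rhs => rw [← mem_fixedBy.mp hz.2.2]
        rw [map_commutatorElement, mem_fixedBy.mp hγ.2]) (commutatorElement_one_right γ) hd
    set z := commW hsp ⟨d, hdY.1⟩ ⟨u', hu'⟩ with hz
    have hyz : commW hsp y ⟨u', hu'⟩ = z := by
      rw [show y = ⟨c₀, D.W_le_U hc₀W⟩ * ⟨d, hdY.1⟩ from Subtype.ext hdc, commW_mul_left, ← hz,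
        show commW hsp ⟨c₀, D.W_le_U hc₀W⟩ ⟨u', hu'⟩ = 1 from Subtype.ext
          (commutatorElement_eq_one_iff_mul_comm.mpr (hcen' hc₀W hu')), one_mul]
    rw [hyz] at hv₁ hv₂ hv₃
    have hzc := hcen z hv₁ hv₂ hv₃
    have hconj : (g'⁻¹ * d * g') * a₀ * (g'⁻¹ * d * g')⁻¹ = a₀ * (z : G) := by
      have hdγ : d * γ = γ * d := (commutatorElement_eq_one_iff_mul_comm.mp hcomm).symm
      calc (g'⁻¹ * d * g') * a₀ * (g'⁻¹ * d * g')⁻¹ = g'⁻¹ * (d * (g' * a₀ * g'⁻¹) * d⁻¹) * g' := by group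
        _ = g'⁻¹ * (γ * (⁅d, u'⁆ * u')) * g' := by
          rw [he', ← mul_assoc d γ, hdγ, commutatorElement_def]; group
        _ = g'⁻¹ * (γ * u' * z) * g' := by
          rw [show ⁅d, u'⁆ = (z : G) from rfl, ← mem_center_iff.mp hzc u', mul_assoc γ]
        _ = g'⁻¹ * (g' * a₀ * g'⁻¹) * (z * g') := by rw [he']; group
        _ = g'⁻¹ * (g' * a₀ * g'⁻¹) * (g' * z) := by rw [mem_center_iff.mp hzc g']
        _ = _ := by group
    have h1 : (z : G) = 1 := ha₀.2.2 _ _ hzc hconj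
    rw [show z = 1 from Subtype.ext h1, map_one] at hv₁
    exact absurd hv₁ (by decide)
  by_cases huI : u ∈ I
  swap
  · exact core g u hu he huI havoid
  obtain ⟨x, hxU, hx⟩ : ∃ x ∈ D.U, ⁅γ⁻¹, x⁆ ∉ I := by
    by_contra h
    push Not at h
    refine hne (Subgroup.eq_of_le_of_card_ge (fun z hz => ?_) (le_of_eq ?_))
    · rw [← h₁] at hz
      have hxR : γ⁻¹ * z * γ ∈ rad hsp χ₁ := (mem_rad_act hsp c χ₁).mp (by
        show γ * (γ⁻¹ * z * γ) * γ⁻¹ ∈ _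
        rw [show γ * (γ⁻¹ * z * γ) * γ⁻¹ = z by group]; exact hz)
      have hzU := rad_le hsp _ hz
      have h2 := (Subgroup.mem_inf.mp (hI.le (h z hzU))).1
      have := mul_mem (inv_mem h2) hxR
      rwa [show ⁅γ⁻¹, z⁆⁻¹ * (γ⁻¹ * z * γ) = z by rw [commutatorElement_def]; group] at this
    · rw [← h₁, card_rad_act]
  set xg := γ⁻¹ * x * γ with hxg
  have hxgU : xg ∈ D.U := by rw [hxg]; simpa using D.conj_mem_U (inv_mem hγ.1) hxU
  refine core (x * g) (xg * u * x⁻¹) (mul_mem (mul_mem hxgU hu) (inv_mem hxU)) ?_ ?_ ?_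
  · calc x * g * a₀ * (x * g)⁻¹ = x * (g * a₀ * g⁻¹) * x⁻¹ := by group
      _ = _ := by rw [he, hxg]; group
  · intro h
    refine hx ?_
    have hn := le_normalizer_of_W_le hsp (W_le_rad hsp (χ₁ * χ₂)) hIU hxgU
    have := mul_mem ((mem_normalizer_iff.mp hn _).mp (inv_mem huI)) h
    rwa [hxg, show γ⁻¹ * x * γ * u⁻¹ * (γ⁻¹ * x * γ)⁻¹ * (γ⁻¹ * x * γ * u * x⁻¹) = ⁅γ⁻¹, x⁆ by
      rw [commutatorElement_def]; group] at this
  · intro h
    refine havoid ?_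
    have hn := le_normalizer_of_W_le hsp (W_le_rad hsp χ₃) hA₃U hxgU
    refine (mem_normalizer_iff.mp hn u).mpr ?_
    have := mul_mem h (inv_mem (hA₃γ' x hxU))
    rwa [commutatorElement_def, show γ⁻¹⁻¹ = γ from inv_inv γ,
      show xg * u * x⁻¹ * (γ⁻¹ * x * γ * x⁻¹)⁻¹ = xg * u * xg⁻¹ by rw [hxg]; group] at this

/-- An intersection of index two is impossible. -/
theorem false_of_eOne (hS : Shape ρ D r m) (hk : 2 ^ (2 * (2 * m)) * Nat.card D.W < Nat.card D.U)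
    {g a₀ w₁ : G} (ha₀ : D.Good a₀) (ha₀m : (a₀ : G ⧸ center G) ∈ eMeet D.Nb D.Wb (g : G ⧸ center G))
    (hw₁ : w₁ ∈ D.W) (hE : EOne D.Nb D.Wb (g : G ⧸ center G) (w₁ : G ⧸ center G)) : False := by
  classical
  have hsp := hS.sp
  let InA : D.W → Prop := fun x => ((x : G) : G ⧸ center G) ∈ eMeet D.Nb D.Wb (g : G ⧸ center G)
  have hinA_mul : ∀ x y, InA x → InA y → InA (x * y) := fun x y hx hy => by
    show (((x * y : D.W) : G) : G ⧸ center G) ∈ _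
    rw [Subgroup.coe_mul, QuotientGroup.mk_mul]; exact mul_mem hx hy
  let A0 : D.W := ⟨a₀, ha₀.1⟩
  let W1 : D.W := ⟨w₁, hw₁⟩
  have hA0 : InA A0 := ha₀m
  have hW1 : ¬ InA W1 := hE.w1_not
  have htwo : ∀ x : D.W, InA x ∨ InA (W1 * x) := fun x => by
    rcases hE.two _ ⟨x, x.2, rfl⟩ with h | h
    · exact Or.inl h
    · exact Or.inr h
  have hconjN : ∀ y : D.W, InA y → g * y * g⁻¹ ∈ D.N := fun y hy =>
    (M.mem_Nb_iff D).mp (by simpa using hE.conj _ hy)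
  have hinvol : ∀ y : D.W, g * (y : G) * g⁻¹ * (g * y * g⁻¹) = 1 := fun y => by
    rw [show g * (y : G) * g⁻¹ * (g * y * g⁻¹) = g * (y * y : D.W) * g⁻¹ by rw [Subgroup.coe_mul]; group,
      M.W_mul_self y, Subgroup.coe_one]
    group
  let nb : ∀ y : D.W, InA y → D.N := fun y hy => ⟨g * y * g⁻¹, hconjN y hy⟩
  have hnb2 : ∀ (y : D.W) (hy : InA y), nb y hy * nb y hy = 1 := fun y hy => Subtype.ext (hinvol y)
  have hnb_comm : ∀ (y : D.W) (hy : InA y) (y' : D.W) (hy' : InA y'), nb y hy * nb y' hy' = nb y' hy' * nb y hy := fun y hy y' hy' => by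
    refine Subtype.ext ?_
    show g * (y : G) * g⁻¹ * (g * y' * g⁻¹) = g * y' * g⁻¹ * (g * y * g⁻¹)
    calc g * (y : G) * g⁻¹ * (g * y' * g⁻¹) = g * ((y : G) * y') * g⁻¹ := by group
      _ = g * ((y' : G) * y) * g⁻¹ := by rw [(M.special2_U D).fix_central y y.2 y' y'.2.1]
      _ = _ := by group
  have hnb_mul : ∀ (y : D.W) (hy : InA y) (y' : D.W) (hy' : InA y') (h : InA (y * y')), nb (y * y') h = nb y hy * nb y' hy' := fun y hy y' hy' h => by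
    refine Subtype.ext ?_
    show g * ((y * y' : D.W) : G) * g⁻¹ = g * y * g⁻¹ * (g * y' * g⁻¹)
    rw [Subgroup.coe_mul]; group
  -- the commutator of an element of `W` with an involution of `N`
  let cm : D.W → D.N → D.W := fun x n => x * M.conjN n⁻¹ x
  have hcm : ∀ (x y : D.W) (hy : InA y), ((cm x (nb y hy) : D.W) : G) = ⁅(x : G), g * y * g⁻¹⁆ := fun x y hy => by
    show ((x * M.conjN (nb y hy)⁻¹ x : D.W) : G) = _
    rw [Subgroup.coe_mul, M.conjN_apply, Subgroup.coe_inv, inv_inv, commutatorElement_def]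
    show (x : G) * ((g * y * g⁻¹)⁻¹ * x * (g * y * g⁻¹)) = _
    rw [inv_eq_of_mul_eq_one_left (hinvol y), inv_eq_of_mul_eq_one_left ((M.special2_U D).fix_sq x x.2)]
    group
  let sh : D.N → (D.W →* ℤˣ) → (D.W →* ℤˣ) := fun n χ => χ * M.actN n χ
  have hsh : ∀ n χ x, sh n χ x = χ (cm x n) := fun n χ x => by
    show χ x * M.actN n χ x = χ (x * M.conjN n⁻¹ x)
    rw [M.actN_apply, map_mul]
  have hfix : ∀ n χ, sh n χ = 1 → M.actN n χ = χ := fun n χ h => by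
    have h' : χ * (χ * M.actN n χ) = χ := by rw [show χ * M.actN n χ = 1 from h, mul_one]
    rwa [← mul_assoc, char_sq, one_mul] at h'
  have hmk : ∀ (x y : D.W) (hy : InA y), (((cm x (nb y hy) : D.W) : G) : G ⧸ center G) =
      ⁅((x : G) : G ⧸ center G), (g : G ⧸ center G) * (y : G) * (g : G ⧸ center G)⁻¹⁆ := fun x y hy => by
    rw [hcm x y hy, ← QuotientGroup.mk'_apply, map_commutatorElement, map_mul, map_mul, map_inv]
    rfl
  have hcA : ∀ (x y : D.W) (hy : InA y), InA (cm x (nb y hy)) := fun x y hy => by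
    show (((cm x (nb y hy) : D.W) : G) : G ⧸ center G) ∈ _
    rw [hmk x y hy]
    exact hE.comm_mem _ ⟨x, x.2, rfl⟩ _ hy
  have hcZ : ∀ (x y : D.W) (hy : InA y), InA x → ((cm x (nb y hy) : D.W) : G) ∈ center G := fun x y hy hx => by
    rw [← QuotientGroup.eq_one_iff, hmk x y hy]
    exact commutatorElement_eq_one_iff_mul_comm.mpr (hE.comm _ hx _ hy).eq
  have hfree : ∀ (x y : D.W) (hy : InA y), (y : G) ∉ center G → ((cm x (nb y hy) : D.W) : G) ∈ center G → InA x := by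
    intro x y hy hyc hc
    rw [← QuotientGroup.eq_one_iff, hmk x y hy, commutatorElement_eq_one_iff_mul_comm] at hc
    exact hE.free _ hy (fun h => hyc ((QuotientGroup.eq_one_iff _).mp h)) _ ⟨x, x.2, rfl⟩ hc
  have hc0 : ∀ x, InA x → cm x (nb A0 hA0) = 1 := by
    intro x hx
    have hz := hcZ x A0 hA0 hx
    rw [hcm x A0 hA0] at hz
    refine Subtype.ext ?_
    rw [hcm x A0 hA0, Subgroup.coe_one]
    refine ha₀.2.2 (g⁻¹ * x * g) _ hz ?_
    have hzc := mem_center_iff.mp hz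
    set z := ⁅(x : G), g * (A0 : G) * g⁻¹⁆ with hzd
    calc g⁻¹ * (x : G) * g * a₀ * (g⁻¹ * x * g)⁻¹ = g⁻¹ * (z * (g * a₀ * g⁻¹)) * g := by
          rw [hzd, show (A0 : G) = a₀ from rfl, commutatorElement_def]; group
      _ = g⁻¹ * ((g * a₀ * g⁻¹) * z) * g := by rw [hzc (g * a₀ * g⁻¹)]
      _ = a₀ * (g⁻¹ * z) * g := by group
      _ = a₀ * (z * g⁻¹) * g := by rw [hzc g⁻¹]
      _ = a₀ * z := by group
  set n₀ := nb A0 hA0 with hn₀
  set A1 := cm W1 n₀ with hA1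
  have hA1A : InA A1 := hcA W1 A0 hA0
  have hA1c : (A1 : G) ∉ center G := fun h => hW1 (hfree W1 A0 hA0 ha₀.2.1 h)
  have hext : ∀ φ ψ : D.W →* ℤˣ, (∀ x, InA x → φ x = ψ x) → φ W1 = ψ W1 → φ = ψ := by
    intro φ ψ h h1
    refine MonoidHom.ext fun x => ?_
    rcases htwo x with hx | hx
    · exact h x hx
    · have := h _ hx
      rwa [map_mul, map_mul, h1, mul_left_cancel_iff] at this
  obtain ⟨χ₁, hO₁, hχ₁⟩ := M.exists_occ (x := A1) fun h => hA1c (by rw [h]; exact one_mem _)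
  set χ₂ := M.actN n₀ χ₁ with hχ₂
  have hO₂ : Occ ρ D χ₂ := M.occ_actN n₀ hO₁
  set h := χ₁ * χ₂ with hh
  have hhA : ∀ x, InA x → h x = 1 := fun x hx => by
    rw [hh, show (χ₁ * χ₂) x = χ₁ (cm x n₀) from hsh n₀ χ₁ x, hc0 x hx, map_one]
  have hhW : h W1 = -1 := (hsh n₀ χ₁ W1).trans hχ₁
  have hh1 : h ≠ 1 := fun e => by rw [e, MonoidHom.one_apply] at hhW; exact absurd hhW (by decide)
  have htriv : ∀ φ : D.W →* ℤˣ, (∀ x, InA x → φ x = 1) → φ = 1 ∨ φ = h := fun φ hφ => by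
    rcases Int.units_eq_one_or (φ W1) with h1 | h1
    · exact Or.inl (hext φ 1 (fun x hx => hφ x hx) h1)
    · exact Or.inr (hext φ h (fun x hx => (hφ x hx).trans (hhA x hx).symm) (h1.trans hhW.symm))
  have hsh₀ : ∀ ψ : D.W →* ℤˣ, ψ A1 = -1 → sh n₀ ψ = h := fun ψ hψ =>
    hext _ _ (fun x hx => by rw [hsh, hc0 x hx, map_one, hhA x hx]) ((hsh n₀ ψ W1).trans (hψ.trans hhW.symm))
  have hfix₀ : ∀ ψ : D.W →* ℤˣ, ψ A1 = 1 → M.actN n₀ ψ = ψ := fun ψ hψ => hfix _ _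
    (hext _ _ (fun x hx => by rw [hsh, hc0 x hx, map_one, MonoidHom.one_apply])
      ((hsh n₀ ψ W1).trans hψ))
  have hmoved : ∀ (n : D.N) (ψ : D.W →* ℤˣ), sh n ψ ≠ 1 → M.actN n ψ ≠ ψ := fun n ψ hne he => hne (by
    show ψ * M.actN n ψ = 1
    rw [he, char_sq])
  have hrad : ∀ (y : D.W) (hy : InA y) (ψ : D.W →* ℤˣ), Occ ρ D ψ → sh (nb y hy) ψ ≠ 1 →
      rad hsp (M.actN (nb y hy) ψ) ≠ rad hsp ψ ∧
      rad hsp (sh (nb y hy) ψ) = rad hsp ψ ⊓ rad hsp (M.actN (nb y hy) ψ) ∧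
      Nat.card D.U = 2 ^ (2 * (2 * m)) * Nat.card (rad hsp (sh (nb y hy) ψ)) := fun y hy ψ hψ hne =>
    M.rad_moved hS (hconjN y hy) (hinvol y) hψ (hmoved _ _ hne)
  obtain ⟨hne₁₂, hI, hIcard⟩ : rad hsp χ₂ ≠ rad hsp χ₁ ∧ rad hsp h = rad hsp χ₁ ⊓ rad hsp χ₂ ∧
      Nat.card D.U = 2 ^ (2 * (2 * m)) * Nat.card (rad hsp h) :=
    hrad A0 hA0 χ₁ hO₁ (show h ≠ 1 from hh1)
  set I := rad hsp h with hIdef
  have hnotall : ¬ ∀ ψ, Occ ρ D ψ → I ≤ rad hsp ψ := fun hall => by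
    have hle : Nat.card I ≤ Nat.card D.W :=
      Nat.le_of_dvd Nat.card_pos (card_dvd_of_le (M.le_W_of_le_rads hS (rad_le hsp _) hall))
    exact absurd (hIcard.le.trans (Nat.mul_le_mul_left _ hle)) (not_le.mpr hk)
  have hImoved : ∀ ψ, Occ ρ D ψ → ψ A1 = -1 → I ≤ rad hsp ψ := by
    intro ψ hψ hψ1
    have e := hsh₀ ψ hψ1
    have := (hrad A0 hA0 ψ hψ (by rw [← hn₀, e]; exact hh1)).2.1
    rw [← hn₀, e] at this
    exact this.le.trans inf_le_left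
  have hcomm_act : ∀ (y : D.W) (hy : InA y) (ψ : D.W →* ℤˣ), M.actN (nb y hy) (M.actN n₀ ψ) = M.actN n₀ (M.actN (nb y hy) ψ) :=
    fun y hy ψ => by rw [← M.actN_mul, ← M.actN_mul, hn₀, hnb_comm y hy A0 hA0]
  have hinvol_act : ∀ (y : D.W) (hy : InA y) (ψ : D.W →* ℤˣ), M.actN (nb y hy) (M.actN (nb y hy) ψ) = ψ := fun y hy ψ => by
    rw [← M.actN_mul, hnb2 y hy, M.actN_one]
  -- exact commutation
  have hexact : ∀ (x y : D.W) (hy : InA y), InA x → cm x (nb y hy) = 1 := by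
    intro x y hy hx
    by_contra hne
    have hzc := hcZ x y hy hx
    have hval : ∀ ψ, Occ ρ D ψ → sh (nb y hy) ψ ≠ 1 := fun ψ hψ e => by
      have h1 := hsh (nb y hy) ψ x
      rw [e, M.occ_center hψ hzc hne, MonoidHom.one_apply] at h1
      exact absurd h1 (by decide)
    set η := sh (nb y hy) χ₁ with hη
    have hIη : I ≤ rad hsp η := by
      refine (le_inf (hImoved χ₁ hO₁ hχ₁) (hImoved _ (M.occ_actN _ hO₁) ?_)).trans (rad_mul_ge hsp _ _)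
      refine (Int.units_eq_one_or _).resolve_left fun h1 => ?_
      have h2 := hfix₀ _ h1
      rw [← hcomm_act y hy] at h2
      have h3 := congrArg (M.actN (nb y hy)) h2
      rw [hinvol_act y hy, hinvol_act y hy] at h3
      exact hh1 (by rw [hh, hχ₂, h3, char_sq])
    refine hnotall fun ψ hψ => ?_
    have hcase : η * sh (nb y hy) ψ = 1 ∨ η * sh (nb y hy) ψ = h := htriv _ fun x' hx' => by
      rw [MonoidHom.mul_apply, hη, hsh, hsh, M.occ_center_eq hO₁ hψ (hcZ x' y hy hx'), Int.units_mul_self]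
    have hle : I ≤ rad hsp (sh (nb y hy) ψ) := by
      have e : sh (nb y hy) ψ = η * (η * sh (nb y hy) ψ) := by rw [← mul_assoc, char_sq, one_mul]
      rw [e]
      rcases hcase with h' | h'
      · rw [h', mul_one]; exact hIη
      · rw [h']; exact (le_inf hIη le_rfl).trans (rad_mul_ge hsp _ _)
    exact hle.trans ((hrad y hy ψ hψ (hval ψ hψ)).2.1.le.trans inf_le_left)
  have hsh_cases : ∀ (y : D.W) (hy : InA y) (ψ : D.W →* ℤˣ), sh (nb y hy) ψ = 1 ∨ sh (nb y hy) ψ = h := fun y hy ψ =>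
    htriv _ fun x hx => by rw [hsh, hexact x y hy hx, map_one]
  -- every moved character is moved by every noncentral element
  have hmove : ∀ (y : D.W) (hy : InA y), (y : G) ∉ center G → M.actN (nb y hy) χ₁ = χ₂ := by
    intro y hy hyc
    rcases hsh_cases y hy χ₁ with e | e
    swap
    · show M.actN (nb y hy) χ₁ = M.actN n₀ χ₁
      exact mul_left_cancel e
    exfalso
    obtain ⟨c, hc, u, hu, hcu⟩ := M.exists_fixed_mul D (hconjN y hy)
    have hact : ∀ ψ, M.actN (nb y hy) ψ = D.act ⟨c, hc⟩ ψ := fun ψ =>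
      M.actN_of_eq (nb y hy) hc hu hcu ψ
    have h1 : D.act ⟨c, hc⟩ χ₁ = χ₁ := (hact χ₁).symm.trans (hfix _ _ e)
    have h2 : D.act ⟨c, hc⟩ χ₂ = χ₂ := by
      rw [← hact, hχ₂, hcomm_act y hy, hfix _ _ e]
    have hcI : ∀ x ∈ D.U, ⁅c, x⁆ ∈ I := fun x hx => hI.ge
      ⟨M.commutator_mem_rad hS.pos hS.eq hsp (hS.idx χ₁ hO₁) ⟨c, hc⟩ h1 hx,
        M.commutator_mem_rad hS.pos hS.eq hsp (hS.idx χ₂ hO₂) ⟨c, hc⟩ h2 hx⟩
    have hcU : c ∈ centralizer (D.U : Set G) := by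
      refine M.centralizes_of_act hS ⟨c, hc⟩ fun ψ hψ => by_contra fun hne => ?_
      rw [← hact] at hne
      have hsne : sh (nb y hy) ψ ≠ 1 := fun e' => hne (hfix _ _ e')
      obtain ⟨hr1, hr2, -⟩ := hrad y hy ψ hψ hsne
      rw [(hsh_cases y hy ψ).resolve_left hsne] at hr2
      have hIψ : I ≤ rad hsp ψ := hr2.le.trans inf_le_left
      refine hr1 ?_
      rw [hact]
      refine Subgroup.eq_of_le_of_card_ge (fun z hz => ?_) (card_rad_act hsp ⟨c, hc⟩ ψ).ge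
      have hz' : c⁻¹ * z * c ∈ rad hsp ψ := (mem_rad_act hsp ⟨c, hc⟩ ψ).mp (by
        show c * (c⁻¹ * z * c) * c⁻¹ ∈ _
        rw [show c * (c⁻¹ * z * c) * c⁻¹ = z by group]; exact hz)
      have := mul_mem (hIψ (hcI _ (rad_le hsp _ hz'))) hz'
      rwa [commutatorElement_def, inv_mul_cancel_right,
        show c * (c⁻¹ * z * c) * c⁻¹ = z by group] at this
    refine hW1 (hfree W1 y hy hyc ?_)
    rw [hcm W1 y hy, hcu, commutatorElement_eq_one_iff_mul_comm.mpr (M.commute_W_of_pure hcU hu W1.2).symm.eq]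
    exact one_mem _
  have hA0two : ∀ x, InA x → (x : G) ∈ center G ∨ ((x * A0 : D.W) : G) ∈ center G := by
    intro x hx
    by_contra hne
    push Not at hne
    obtain ⟨hxc, hxa⟩ := hne
    have h1 := hmove (x * A0) (hinA_mul _ _ hx hA0) hxa
    rw [hnb_mul x hx A0 hA0 (hinA_mul _ _ hx hA0), M.actN_mul, ← hn₀, ← hχ₂, ← hmove x hx hxc, hinvol_act x hx] at h1
    exact hh1 (by rw [hh, ← h1.trans (hmove x hx hxc), char_sq])
  have hA2 : ∀ x, InA x → (x : G) ∈ center G ∨ ((x * A1 : D.W) : G) ∈ center G := by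
    intro x hx
    refine (hA0two x hx).imp_right fun h1 => ?_
    have h2 := (hA0two A1 hA1A).resolve_left hA1c
    have e : x * A1 = (x * A0) * (A1 * A0) := by
      rw [mul_assoc, ← mul_assoc A0, M.W_commute A0 A1, mul_assoc A1, M.W_mul_self, mul_one]
    rw [e, Subgroup.coe_mul]
    exact mul_mem h1 h2
  have hdet : ∀ φ ψ, Occ ρ D φ → Occ ρ D ψ → φ A1 = ψ A1 → φ W1 = ψ W1 → φ = ψ := by
    intro φ ψ hφ hψ h1 h2
    refine hext φ ψ (fun x hx => ?_) h2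
    rcases hA2 x hx with hc | hc
    · exact M.occ_center_eq hφ hψ hc
    · have h3 := M.occ_center_eq hφ hψ hc
      rwa [map_mul φ x A1, map_mul ψ x A1, h1, mul_right_cancel_iff] at h3
  have hne_flip : ∀ s t e : ℤˣ, e = -1 → s ≠ t → s = t * e := by decide
  -- the third character
  obtain ⟨χ₃, hO₃, hχ₃⟩ : ∃ ψ, Occ ρ D ψ ∧ ψ A1 = 1 := by
    by_contra h'
    push Not at h'
    exact hnotall fun ψ hψ => hImoved ψ hψ ((Int.units_eq_one_or _).resolve_left (h' ψ hψ))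
  have hflip : ∀ φ ψ, Occ ρ D φ → Occ ρ D (ψ * h) → φ A1 = ψ A1 → φ W1 ≠ ψ W1 → φ = ψ * h := by
    intro φ ψ hφ hψ h1 h2
    refine hdet φ _ hφ hψ ?_ ?_
    · rw [MonoidHom.mul_apply, hhA A1 hA1A, mul_one, h1]
    · rw [MonoidHom.mul_apply]; exact hne_flip _ _ _ hhW h2
  have hχ₁h : χ₁ * h = χ₂ := by rw [hh, ← mul_assoc, char_sq, one_mul]
  have hnocc : ¬ Occ ρ D (χ₃ * h) := by
    intro hocc
    refine absurd (M.card_le_of_translation hS hh1 fun χ hχ => ?_).1 (not_le.mpr hk)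
    rcases Int.units_eq_one_or (χ A1) with h1 | h1
    · by_cases h2 : χ W1 = χ₃ W1
      · rw [hdet χ χ₃ hχ hO₃ (h1.trans hχ₃.symm) h2]; exact hocc
      · rw [hflip χ χ₃ hχ hocc (h1.trans hχ₃.symm) h2, mul_assoc, char_sq, mul_one]; exact hO₃
    · have e := hsh₀ χ h1
      rw [← e, show χ * sh n₀ χ = M.actN n₀ χ by
        show χ * (χ * M.actN n₀ χ) = _
        rw [← mul_assoc, char_sq, one_mul]]
      exact M.occ_actN n₀ hχ
  have hOcc : ∀ ψ, Occ ρ D ψ → ψ = χ₁ ∨ ψ = χ₂ ∨ ψ = χ₃ := by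
    intro ψ hψ
    rcases Int.units_eq_one_or (ψ A1) with h1 | h1
    · refine Or.inr (Or.inr (hdet ψ χ₃ hψ hO₃ (h1.trans hχ₃.symm) (by_contra fun h2 => hnocc ?_)))
      have e : ψ = χ₃ * h := hext ψ _ (fun x hx => by
        rw [MonoidHom.mul_apply, hhA x hx, mul_one]
        rcases hA2 x hx with hc | hc
        · exact M.occ_center_eq hψ hO₃ hc
        · have h3 := M.occ_center_eq hψ hO₃ hc
          rwa [map_mul ψ x A1, map_mul χ₃ x A1, h1, hχ₃, mul_one, mul_one] at h3)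
        (by rw [MonoidHom.mul_apply]; exact hne_flip _ _ _ hhW h2)
      exact e ▸ hψ
    · by_cases h2 : ψ W1 = χ₁ W1
      · exact Or.inl (hdet ψ χ₁ hψ hO₁ (h1.trans hχ₁.symm) h2)
      · exact Or.inr (Or.inl (hχ₁h ▸ hflip ψ χ₁ hψ (hχ₁h.symm ▸ hO₂) (h1.trans hχ₁.symm) h2))
  have hI₃ : ¬ rad hsp (χ₁ * χ₂) ≤ rad hsp χ₃ := fun hle => hnotall fun ψ hψ => by
    rcases hOcc ψ hψ with rfl | rfl | rfl
    · exact hImoved _ hψ hχ₁
    · exact hI.le.trans inf_le_right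
    · exact hle
  have hcen : ∀ z : D.W, χ₁ z = -1 → χ₂ z = -1 → χ₃ z = -1 → (z : G) ∈ center G := by
    intro z h1 h2 h3
    have hz : InA z := by
      refine (htwo z).resolve_right fun hz => ?_
      have h4 := hhA _ hz
      rw [map_mul, hhW, hh, MonoidHom.mul_apply, h1, h2] at h4
      exact absurd h4 (by decide)
    refine (hA2 z hz).resolve_right fun hc => ?_
    have h4 := M.occ_center_eq hO₁ hO₃ hc
    rw [map_mul χ₁ z A1, map_mul χ₃ z A1, h1, h3, hχ₁, hχ₃] at h4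
    exact absurd h4 (by decide)
  obtain ⟨γ, hγ, u, hu, hγu⟩ := M.exists_fixed_mul D (hconjN A0 hA0)
  have hact : ∀ ψ, M.actN n₀ ψ = D.act ⟨γ, hγ⟩ ψ := fun ψ => M.actN_of_eq n₀ hγ hu hγu ψ
  have hγγ : γ * γ ∈ D.W := by
    have e : γ * γ = (γ⁻¹ * u * γ * u)⁻¹ := by
      refine eq_inv_of_mul_eq_one_left ?_
      calc γ * γ * (γ⁻¹ * u * γ * u) = γ * u * (γ * u) := by group
        _ = 1 := by rw [← hγu]; exact hinvol A0
    refine ⟨?_, (fixedBy a).mul_mem hγ.2 hγ.2⟩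
    show γ * γ ∈ D.U
    rw [e]
    exact inv_mem (mul_mem (by simpa using D.conj_mem_U (inv_mem hγ.1) hu) hu)
  refine M.false_of_three hS ha₀ hγ hγγ (hact χ₁).symm ?_ ?_ hO₁ hO₃ hOcc hI hne₁₂ hI₃ hcen
    (fun hgN => hE.not_mem ((M.mem_Nb_iff D).mpr hgN)) hu hγu
  · rw [← hact]; exact hinvol_act A0 hA0 χ₁
  · rw [← hact]; exact hfix₀ χ₃ hχ₃

/-- With all fixed points in `N` and at least three constituents there is no configuration. -/
theorem false_le_big (hS : Shape ρ D r m) (hC : fixedBy a ≤ D.N) (hWb : D.Wb ≠ ⊥)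
    (hk : 2 ^ (2 * (2 * m)) * Nat.card D.W < Nat.card D.U) : False := by
  obtain ⟨w, hw⟩ := M.exists_good hS hWb hk
  let P : G ⧸ center G → Prop := fun y => ∃ x, D.Good x ∧ (x : G ⧸ center G) = y
  have hP1 : ∀ y ∈ D.Wb, P y → y ≠ 1 := by
    rintro y - ⟨x, hx, rfl⟩ h
    exact hx.2.1 ((QuotientGroup.eq_one_iff x).mp h)
  have hiso : ∀ y ∈ D.Wb, P y → ¬ Isolated D.Nb y := by
    rintro y - ⟨x, hx, rfl⟩ hiso
    refine M.false_of_iso hC hx.1 hx.2.1 fun g hg => (M.mem_Nb_iff D).mp (hiso g ?_)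
    simpa using (M.mem_Nb_iff D).mpr hg
  rcases (M.frame D).emethod P hP1 ⟨w, ⟨w, hw.1, rfl⟩, w, hw, rfl⟩ hiso
      (fun w' hw' hw1 g δ hδ ho hinv hδ1 h hh => M.mem_Nb_of_inverted hC hw' hw1 hδ ho hinv hδ1 hh) with
    ⟨g, hg, h1, h2⟩ | ⟨g, a₀, w₁, ⟨x, hx, rfl⟩, ha₀, hE⟩
  · exact M.false_of_full hS hWb hk hg h1 h2
  · obtain ⟨g, rfl⟩ := QuotientGroup.mk_surjective g
    obtain ⟨y, hy, rfl⟩ := hE.w1_mem
    exact M.false_of_eOne hS hk hx ha₀ hy hE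

end Cfg

end Cfsg.Agent.H24.Flav
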