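import Cfsg.Agent.H8.Shult.TransferZero
import Cfsg.Agent.H24.Flav.CleNBase

/-!
Transfer to `U ⧸ W` when `W` is central: this configuration is impossible.

In the general configuration.
-/

set_option autoImplicit false
set_option linter.unusedSectionVars false

namespace Cfsg.Agent.H24.Flav

open Subgroup
open Cfsg.Agent.H8.Shult hiding Min
open scoped commutatorElement Pointwise

universe u v w

variable {G : Type u} [Group G] [Finite G] {p r : ℕ} [hp : Fact p.Prime] {a : MulAut G}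
variable {k : Type w} [Field k] [CharP k p] {V : Type v} [AddCommGroup V] [Module k V]
variable [IsAlgClosed k] [FiniteDimensional k V]
variable {ρ : G →* Module.End k V} {T : Module.End k V}
variable {D : UData a}

namespace Cfg

variable (M : Cfg p r a ρ T) {m : ℕ}
include M

/-- `W` is not central. -/
theorem false_of_Wb_bot (hS : Shape ρ D r m) (hWb : D.Wb = ⊥) : False := by
  classical
  have hsp := M.special2_U D
  have hWc : D.W ≤ center G := fun x hx => (QuotientGroup.eq_one_iff x).mp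
    (Subgroup.mem_bot.mp (hWb ▸ (⟨x, hx, rfl⟩ : (x : G ⧸ center G) ∈ D.Wb)))
  have hcent : ∀ γ ∈ D.Gam, γ ∈ centralizer (D.U : Set G) := fun γ hγ =>
    M.centralizes_of_act hS ⟨γ, hγ⟩ fun χ _ => MonoidHom.ext fun x => by
      rw [UData.act_apply]
      refine congrArg χ (Subtype.ext ?_)
      rw [UData.conjW_apply]
      rw [mem_center_iff.mp (hWc x.2) _, mul_inv_cancel_right]
  have hcomm : ∀ {γ u : G}, γ ∈ D.Gam → u ∈ D.U → u * γ = γ * u := fun hγ hu =>
    (mem_centralizer_iff.mp (hcent _ hγ) _ hu)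
  have hUUW : ∀ u ∈ D.U, ∀ v ∈ D.U, ⁅u, v⁆ ∈ D.Gam := fun u hu v hv => D.W_le_Gam (hsp.comm_mem u hu v hv)
  let K := D.Gam.subgroupOf D.N
  have hK : K.Normal := ⟨fun x hx n => by
    obtain ⟨γ, hγ, u, hu, he⟩ := M.exists_fixed_mul D n.2
    show (n : G) * x * (n : G)⁻¹ ∈ D.Gam
    have hx' : (x : G) ∈ D.Gam := hx
    rw [he, show γ * u * (x : G) * (γ * u)⁻¹ = γ * (u * x * u⁻¹) * γ⁻¹ by group, hcomm hx' hu,
      mul_inv_cancel_right]
    exact mul_mem (mul_mem hγ hx') (inv_mem hγ)⟩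
  have hab : ∀ x y : D.N ⧸ K, x * y = y * x := by
    intro x y
    obtain ⟨x, rfl⟩ := QuotientGroup.mk_surjective x
    obtain ⟨y, rfl⟩ := QuotientGroup.mk_surjective y
    obtain ⟨γ, hγ, u, hu, hex⟩ := M.exists_fixed_mul D x.2
    obtain ⟨δ, hδ, v, hv, hey⟩ := M.exists_fixed_mul D y.2
    have ex : (x : D.N ⧸ K) = ((⟨u, D.U_le_N hu⟩ : D.N) : D.N ⧸ K) := by
      rw [QuotientGroup.eq]
      show (x : G)⁻¹ * u ∈ D.Gam
      rw [hex, ← hcomm hγ hu, mul_inv_rev, mul_assoc, inv_mul_cancel, mul_one]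
      exact inv_mem hγ
    have ey : (y : D.N ⧸ K) = ((⟨v, D.U_le_N hv⟩ : D.N) : D.N ⧸ K) := by
      rw [QuotientGroup.eq]
      show (y : G)⁻¹ * v ∈ D.Gam
      rw [hey, ← hcomm hδ hv, mul_inv_rev, mul_assoc, inv_mul_cancel, mul_one]
      exact inv_mem hδ
    rw [ex, ey, ← QuotientGroup.mk_mul, ← QuotientGroup.mk_mul, QuotientGroup.eq]
    show (u * v)⁻¹ * (v * u) ∈ D.Gam
    rw [show (u * v)⁻¹ * (v * u) = ⁅v⁻¹, u⁻¹⁆ by simp [commutatorElement_def, mul_assoc]]
    exact hUUW _ (inv_mem hv) _ (inv_mem hu)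
  let _ : CommGroup (D.N ⧸ K) := { (inferInstance : Group (D.N ⧸ K)) with mul_comm := hab }
  have hexp : ∀ x : D.N ⧸ K, x * x = 1 := by
    intro x
    obtain ⟨x, rfl⟩ := QuotientGroup.mk_surjective x
    obtain ⟨γ, hγ, u, hu, hex⟩ := M.exists_fixed_mul D x.2
    rw [← QuotientGroup.mk_mul, QuotientGroup.eq_one_iff]
    show (x : G) * x ∈ D.Gam
    rw [hex, show γ * u * (γ * u) = γ * (u * γ) * u by group, hcomm hγ hu, ← mul_assoc γ γ u, mul_assoc (γ * γ)]
    exact mul_mem (mul_mem hγ hγ) (D.W_le_Gam (hsp.sq_mem u hu))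
  let ψ : D.N →* D.N ⧸ K := QuotientGroup.mk' K
  obtain ⟨u, hu, huW⟩ : ∃ u ∈ D.U, u ∉ D.W := by
    by_contra hall
    push Not at hall
    have h1 : D.U ≤ fixedBy a := fun x hx => (hall x hx).2
    exact M.U_ne_bot D (by rw [← D.disp_U M.coprimely, disp_eq_bot_iff.mpr h1])
  have huN : u ∈ D.N := D.U_le_N hu
  have hψu : ψ ⟨u, huN⟩ ≠ 1 := fun h => huW ⟨hu,
    ((show u ∈ D.Gam from (QuotientGroup.eq_one_iff (N := K) ⟨u, huN⟩).mp h)).2⟩
  refine hψu ?_
  -- the transfer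
  let _ := D.N.fintypeQuotientOfFiniteIndex
  let R : D.N.LeftTransversal := ⟨Set.range Quotient.out, isComplement_range_left Quotient.out_eq'⟩
  have hmem : ∀ q : G ⧸ D.N, q.out⁻¹ * (u * (u⁻¹ • q).out) ∈ D.N := fun q => by
    rw [← QuotientGroup.eq, QuotientGroup.out_eq', ← smul_eq_mul, ← MulAction.Quotient.smul_coe,
      QuotientGroup.out_eq', smul_inv_smul]
  let f : G ⧸ D.N → D.N ⧸ K := fun q => ψ ⟨_, hmem q⟩
  have htr : MonoidHom.transfer ψ u = ∏ q, f q := by
    rw [MonoidHom.transfer_def ψ R]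
    refine Finset.prod_congr (by ext; simp) fun q _ => congrArg ψ (Subtype.ext ?_)
    show ((R.2.leftQuotientEquiv q : G))⁻¹ * ((u • R).2.leftQuotientEquiv q : G) = _
    rw [smul_apply_eq_smul_apply_inv_smul, IsComplement.leftQuotientEquiv_apply Quotient.out_eq',
      IsComplement.leftQuotientEquiv_apply Quotient.out_eq', smul_eq_mul]
  have hK' : ∀ {x : G} (hx : x ∈ D.Gam) (hxN : x ∈ D.N), ψ ⟨x, hxN⟩ = 1 := fun hx hxN =>
    (QuotientGroup.eq_one_iff (N := K) ⟨_, hxN⟩).mpr hx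
  have hzc : u * u ∈ center G := hWc (hsp.sq_mem u hu)
  have hz : ∀ q : G ⧸ D.N, u⁻¹ • u⁻¹ • q = q := fun q => by
    induction q using QuotientGroup.induction_on with
    | _ g =>
    rw [← mul_smul, MulAction.Quotient.smul_coe, QuotientGroup.eq, smul_eq_mul]
    have e : (u⁻¹ * u⁻¹ * g)⁻¹ * g = u * u := by
      calc (u⁻¹ * u⁻¹ * g)⁻¹ * g = g⁻¹ * ((u * u) * g) := by simp [mul_assoc]
        _ = g⁻¹ * (g * (u * u)) := by rw [mem_center_iff.mp hzc g]
        _ = u * u := by group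
    rw [e]
    exact mul_mem huN huN
  let F : G ⧸ D.N → D.N ⧸ K := fun q => if u⁻¹ • q = q then f q else 1
  have hnot : ∏ q ∈ Finset.univ.filter (fun q => ¬u⁻¹ • q = q), f q = 1 := by
    refine Finset.prod_involution (fun q _ => u⁻¹ • q) (fun q _ => ?_) (fun q hq _ => (Finset.mem_filter.mp hq).2)
      (fun q hq => ?_) (fun q _ => hz q)
    · show f q * f (u⁻¹ • q) = 1
      rw [← map_mul]
      have e : (q.out⁻¹ * (u * (u⁻¹ • q).out)) * ((u⁻¹ • q).out⁻¹ * (u * (u⁻¹ • u⁻¹ • q).out)) = u * u := by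
        rw [hz q]
        calc q.out⁻¹ * (u * (u⁻¹ • q).out) * ((u⁻¹ • q).out⁻¹ * (u * q.out))
            = q.out⁻¹ * ((u * u) * q.out) := by simp [mul_assoc]
          _ = q.out⁻¹ * (q.out * (u * u)) := by rw [mem_center_iff.mp hzc q.out]
          _ = u * u := by group
      rw [show (⟨_, hmem q⟩ : D.N) * ⟨_, hmem (u⁻¹ • q)⟩ = ⟨u * u, mul_mem huN huN⟩ from Subtype.ext e]
      exact hK' (D.W_le_Gam (hsp.sq_mem u hu)) _
    · refine Finset.mem_filter.mpr ⟨Finset.mem_univ _, fun h => (Finset.mem_filter.mp hq).2 ?_⟩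
      rw [hz q] at h
      exact h.symm
  have hFprod : ∏ q, f q = ∏ q, F q := by
    rw [← Finset.prod_filter_mul_prod_filter_not Finset.univ (fun q => u⁻¹ • q = q) f, hnot, mul_one,
      Finset.prod_filter]
  have hfix : ∀ q : G ⧸ D.N, u⁻¹ • q = q → ∃ h : q.out⁻¹ * u * q.out ∈ D.N, f q = ψ ⟨_, h⟩ := fun q hq => by
    have h := hmem q
    rw [hq, ← mul_assoc] at h
    refine ⟨h, congrArg ψ (Subtype.ext ?_)⟩
    show q.out⁻¹ * (u * (u⁻¹ • q).out) = _
    rw [hq]
    exact (mul_assoc _ _ _).symm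
  -- `S` permutes the fixed points of `u`
  have hSz : ∀ s ∈ (D.S : Subgroup G), ∃ z ∈ D.W, s⁻¹ * u * s = u * z := fun s hs => by
    obtain ⟨γ, hγ, v, hv, rfl⟩ := M.exists_fixed_mul D (M.sylow_le_N hs)
    refine ⟨⁅u⁻¹, v⁻¹⁆, hsp.comm_mem _ (inv_mem hu) _ (inv_mem hv), ?_⟩
    calc (γ * v)⁻¹ * u * (γ * v) = v⁻¹ * (γ⁻¹ * (u * γ)) * v := by group
      _ = v⁻¹ * u * v := by rw [hcomm hγ hu, inv_mul_cancel_left]
      _ = u * ⁅u⁻¹, v⁻¹⁆ := by simp [commutatorElement_def, mul_assoc]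
  have hFinv : ∀ (s : (D.S : Subgroup G)) q, F (s • q) = F q := by
    intro s q
    obtain ⟨z, hzW, hzs⟩ := hSz s s.2
    have hzq : ∀ x : G ⧸ D.N, z • x = x := fun x => by
      induction x using QuotientGroup.induction_on with
      | _ g =>
      rw [MulAction.Quotient.smul_coe, QuotientGroup.eq, smul_eq_mul, ← mem_center_iff.mp (hWc hzW) g,
        mul_inv_rev, mul_assoc, inv_mul_cancel, mul_one]
      exact inv_mem (D.W_le_N hzW)
    have hiff : u⁻¹ • s • q = s • q ↔ u⁻¹ • q = q := by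
      rw [inv_smul_eq_iff, inv_smul_eq_iff]
      have e : u • (s : G) • q = (s : G) • u • q := by
        rw [← mul_smul, show u * (s : G) = s * (u * z) by rw [← hzs]; group, mul_smul, mul_smul, hzq]
      show (s : G) • q = u • (s : G) • q ↔ q = u • q
      rw [e]
      exact (MulAction.injective (s : G)).eq_iff
    by_cases hq : u⁻¹ • q = q
    · simp only [F, if_pos hq, if_pos (hiff.mpr hq)]
      obtain ⟨h1, e1⟩ := hfix q hq
      obtain ⟨h2, e2⟩ := hfix (s • q) (hiff.mpr hq)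
      rw [e1, e2]
      set n := ((s : G) * q.out)⁻¹ * (s • q).out with hn
      have hnN : n ∈ D.N := by
        rw [hn, ← QuotientGroup.eq, QuotientGroup.out_eq', ← smul_eq_mul, ← MulAction.Quotient.smul_coe,
          QuotientGroup.out_eq']
        rfl
      have e : (⟨_, h2⟩ : D.N) = (⟨n, hnN⟩ : D.N)⁻¹ * (⟨_, h1⟩ * ⟨z, D.W_le_N hzW⟩) * ⟨n, hnN⟩ := by
        refine Subtype.ext ?_
        show (s • q).out⁻¹ * u * (s • q).out = n⁻¹ * (q.out⁻¹ * u * q.out * z) * n
        rw [show (s • q).out = (s : G) * q.out * n by rw [hn, mul_inv_cancel_left]]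
        calc ((s : G) * q.out * n)⁻¹ * u * ((s : G) * q.out * n)
            = n⁻¹ * (q.out⁻¹ * ((s : G)⁻¹ * u * s) * q.out) * n := by group
          _ = n⁻¹ * (q.out⁻¹ * u * (z * q.out)) * n := by rw [hzs]; group
          _ = n⁻¹ * (q.out⁻¹ * u * (q.out * z)) * n := by rw [mem_center_iff.mp (hWc hzW) q.out]
          _ = _ := by group
      rw [e, map_mul, map_mul, map_mul, map_inv, hK' (D.W_le_Gam hzW), mul_one, mul_comm (ψ _)⁻¹,
        inv_mul_cancel_right]
    · simp only [F, if_neg hq, if_neg (fun h => hq (hiff.mp h))]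
  have h0 : u⁻¹ • ((1 : G) : G ⧸ D.N) = ((1 : G) : G ⧸ D.N) := by
    rw [MulAction.Quotient.smul_coe, QuotientGroup.eq]
    simpa using huN
  have hprod : ∏ q, F q = F ((1 : G) : G ⧸ D.N) := by
    refine prod_eq_of_two_group D.S.2 hexp F hFinv _ (fun s => ?_) fun q hq => ?_
    · show (((s : G) * 1 : G) : G ⧸ D.N) = _
      rw [QuotientGroup.eq, mul_one, mul_one]
      exact inv_mem (M.sylow_le_N s.2)
    · induction q using QuotientGroup.induction_on with
      | _ g =>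
      rw [QuotientGroup.eq, mul_one]
      refine inv_mem ?_
      have : Fact (Nat.Prime 2) := ⟨Nat.prime_two⟩
      -- `g⁻¹ S g` is a Sylow subgroup of `N`
      let S1 : Sylow 2 D.N := D.S.subtype M.sylow_le_N
      have hg : ((g⁻¹ • D.S : Sylow 2 G) : Subgroup G) ≤ D.N := by
        rintro _ ⟨s, hs, rfl⟩
        have h := QuotientGroup.eq.mp (hq ⟨s, hs⟩ : ((s * g : G) : G ⧸ D.N) = g)
        have h' := inv_mem h
        simpa [mul_assoc] using h'
      let S2 : Sylow 2 D.N := (g⁻¹ • D.S).subtype hg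
      obtain ⟨n, hn⟩ := MulAction.exists_smul_eq D.N S1 S2
      have h3 : ((n : G) • D.S : Sylow 2 G) = g⁻¹ • D.S := by
        refine Sylow.ext (SetLike.ext fun x => ?_)
        have hx := SetLike.ext_iff.mp (congrArg Sylow.toSubgroup hn)
        constructor
        · intro h
          have hxN : x ∈ D.N := by
            obtain ⟨s, hs, rfl⟩ := h
            exact mul_mem (mul_mem n.2 (M.sylow_le_N hs)) (inv_mem n.2)
          obtain ⟨s, hs, he⟩ := h
          exact (hx ⟨x, hxN⟩).mp ⟨⟨s, M.sylow_le_N hs⟩, hs, Subtype.ext he⟩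
        · intro h
          obtain ⟨s, hs, he⟩ := (hx ⟨x, hg h⟩).mpr h
          exact ⟨s, hs, congrArg Subtype.val he⟩
      have hgn : g * (n : G) ∈ normalizer ((D.S : Subgroup G) : Set G) := by
        have : ((g * n : G) • D.S : Sylow 2 G) = D.S := by rw [mul_smul, h3, smul_inv_smul]
        exact Sylow.smul_eq_iff_mem_normalizer.mp this
      have hle : normalizer ((D.S : Subgroup G) : Set G) ≤ D.N := by
        refine M.le_N D D.inv.normalizer (fun h => ?_) (D.U_le.trans le_normalizer)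
        have hS2 : (D.S : Subgroup G) ≠ ⊤ := fun e => M.N_ne_top D (top_le_iff.mp (e ▸ M.sylow_le_N))
        have hc := M.normal_le_center (normalizer_eq_top_iff.mp h) D.inv hS2
        exact huW ⟨hu, M.center_le_fixed (hc (D.U_le hu))⟩
      exact (D.N.mul_mem_cancel_right n.2).mp (hle hgn)
  have hF1 : F ((1 : G) : G ⧸ D.N) = ψ ⟨u, huN⟩ := by
    simp only [F, if_pos h0]
    obtain ⟨h, e⟩ := hfix _ h0
    rw [e]
    set c := ((1 : G) : G ⧸ D.N).out with hc
    have hcN : c ∈ D.N := by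
      have h1 : ((c : G) : G ⧸ D.N) = ((1 : G) : G ⧸ D.N) := QuotientGroup.out_eq' _
      rwa [QuotientGroup.eq, mul_one, inv_mem_iff] at h1
    rw [show (⟨c⁻¹ * u * c, h⟩ : D.N) = (⟨c, hcN⟩ : D.N)⁻¹ * ⟨u, huN⟩ * ⟨c, hcN⟩ from rfl, map_mul, map_mul,
      map_inv, mul_comm (ψ _)⁻¹, inv_mul_cancel_right]
  rw [← hF1, ← hprod, ← hFprod, ← htr]
  exact M.hom_eq_one _ u

end Cfg

end Cfsg.Agent.H24.Flav
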