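import Cfsg.Agent.H24.Flav.CnotLeN2
import Cfsg.Agent.H24.Flav.CleN12
import Cfsg.Agent.H24.Flav.CleN3
import Cfsg.Agent.H24.Flav.TransferZero

/-!
No minimal configuration exists, in the general configuration.
-/

set_option autoImplicit false
set_option linter.unusedSectionVars false

namespace Cfsg.Agent.H24.Flav

open Subgroup
open Cfsg.Agent.H8.Shult hiding Min
open scoped commutatorElement

universe u v w

variable {G : Type u} [Group G] [Finite G] {p r : ℕ} [hp : Fact p.Prime] {a : MulAut G}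
variable {k : Type w} [Field k] [CharP k p] {V : Type v} [AddCommGroup V] [Module k V]
variable [IsAlgClosed k] [FiniteDimensional k V]
variable {ρ : G →* Module.End k V} {T : Module.End k V}

/-- There is no minimal configuration, . -/
theorem Cfg.false (M : Cfg p r a ρ T) : False := by
  obtain ⟨D⟩ := M.coprimely.exists_uData
  obtain ⟨m, hS⟩ := M.exists_shape (D := D)
  by_cases hWb : D.Wb = ⊥
  · exact M.false_of_Wb_bot hS hWb
  have hA : ∀ c ∈ fixedBy a, ∀ w ∈ D.W, w ∉ center G → c * w * c⁻¹ ∈ D.N → c ∈ D.N :=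
    fun c hc w hw hwc h => M.stepA hc hw hwc h
  obtain ⟨i, hi⟩ := M.exists_card hS.pos hS.eq D.inv_U D.W_le_U le_rfl
  have hi0 : i ≠ 0 := by
    intro h
    obtain ⟨x, hx, hx1⟩ := D.W.bot_or_exists_ne_one.resolve_left (M.W_ne_bot D)
    obtain ⟨χ, hχ, -⟩ := M.exists_occ (x := ⟨x, hx⟩) fun e => hx1 (congrArg Subtype.val e)
    have h1 := hS.idx χ hχ
    have h2 : Nat.card D.W ≤ Nat.card (rad hS.sp χ) :=
      Nat.le_of_dvd Nat.card_pos (card_dvd_of_le (W_le_rad hS.sp χ))
    rw [hi, h, mul_zero, pow_zero, one_mul] at h1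
    have h3 : 1 < 2 ^ (2 * m) := Nat.one_lt_two_pow (by have := hS.pos; omega)
    have h4 := Nat.mul_le_mul_left (2 ^ (2 * m)) h2
    rw [← h1] at h4
    exact absurd (lt_mul_of_one_lt_left (Nat.card_pos (α := D.W)) h3) (not_lt.mpr h4)
  rcases Nat.lt_or_ge i 3 with h3 | h3
  · rcases (show i = 1 ∨ i = 2 by omega) with rfl | rfl
    · rw [mul_one] at hi
      by_cases hC : fixedBy a ≤ D.N
      · exact M.false_le_one hS hC hWb hi
      · exact M.false_notLe_one hS hi hA hC hWb
    · rw [mul_comm (2 * m) 2] at hi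
      by_cases hC : fixedBy a ≤ D.N
      · exact M.false_le_two hS hC hWb hi
      · exact M.false_notLe_two hS hC hWb hi
  · have hk : 2 ^ (2 * (2 * m)) * Nat.card D.W < Nat.card D.U := by
      rw [hi]
      refine Nat.mul_lt_mul_of_pos_right (Nat.pow_lt_pow_right one_lt_two ?_) Nat.card_pos
      have := Nat.mul_le_mul_left (2 * m) h3
      have := hS.pos
      omega
    by_cases hC : fixedBy a ≤ D.N
    · exact M.false_le_big hS hC hWb hk
    · exact M.false_notLe_three hS hC hWb hk

end Cfsg.Agent.H24.Flav
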