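import Cfsg.Agent.H8.Shult.CnotLeN2Base
import Cfsg.Agent.H24.Flav.CnotLeN3
import Cfsg.Agent.H24.Flav.Pure

/-!
Two constituents with a fixed element outside `N`: general facts about the characters, purity of the moved
conjugates, and the transfer argument.

In the general configuration.
-/

set_option autoImplicit false
set_option linter.unusedSectionVars false

namespace Cfsg.Agent.H24.Flav

open Subgroup
open Cfsg.Agent.H8.Shult hiding Min
open scoped commutatorElement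

universe u v w

variable {G : Type u} [Group G] [Finite G] {p r : ℕ} [hp : Fact p.Prime] {a : MulAut G}
variable {k : Type w} [Field k] [CharP k p] {V : Type v} [AddCommGroup V] [Module k V]
variable [IsAlgClosed k] [FiniteDimensional k V]
variable {ρ : G →* Module.End k V} {T : Module.End k V}
variable {D : UData a}

namespace Cfg

variable (M : Cfg p r a ρ T) {m : ℕ} {z : D.W}
include M

theorem two_hA : ∀ c ∈ fixedBy a, ∀ w ∈ D.W, w ∉ center G → c * w * c⁻¹ ∈ D.N → c ∈ D.N :=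
  fun _ hc _ hw hwc h => M.stepA hc hw hwc h

theorem two_Zw (h : Two ρ D r m z) {x : D.W} (hx : x ∈ D.Zw) : x = 1 ∨ x = z := by
  by_cases hx1 : x = 1
  · exact Or.inl hx1
  · exact Or.inr (M.Zw_eq hx hx1 h.center h.ne_one)

theorem two_apply_Zw (h : Two ρ D r m z) {ε : D.W →* ℤˣ} (hε : ε z = 1) {x : D.W} (hx : x ∈ D.Zw) :
    ε x = 1 := by
  rcases M.two_Zw h hx with rfl | rfl
  · exact map_one ε
  · exact hε

theorem two_occ_z (h : Two ρ D r m z) {χ : D.W →* ℤˣ} (hχ : Occ ρ D χ) : χ z = -1 :=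
  M.occ_center hχ (mem_subgroupOf.mp h.center) h.ne_one

theorem two_act_z (h : Two ρ D r m z) (c : D.Gam) (μ : D.W →* ℤˣ) : D.act c μ z = μ z := by
  rw [UData.act_apply, M.conjW_of_mem_Zw _ h.center]

theorem two_mul_z (h : Two ρ D r m z) {χ μ : D.W →* ℤˣ} (hχ : Occ ρ D χ) (hμ : Occ ρ D μ) :
    (χ * μ) z = 1 := by
  rw [MonoidHom.mul_apply, M.two_occ_z h hχ, M.two_occ_z h hμ, Int.units_mul_self]

theorem clsPerm_eq_one_iff {c : D.Gam} :
    M.clsPerm c = 1 ↔ ∀ x : D.W, (D.conjW c x)⁻¹ * x ∈ D.Zw := by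
  refine ⟨fun h x => ?_, fun h => Equiv.ext fun q => ?_⟩
  · exact QuotientGroup.eq.mp ((M.clsPerm_mk c x).symm.trans (Equiv.ext_iff.mp h x))
  · obtain ⟨x, rfl⟩ := QuotientGroup.mk_surjective q
    rw [M.clsPerm_mk]
    exact QuotientGroup.eq.mpr (h x)

theorem clsPerm_of_centralizes {c : D.Gam} (hc : (c : G) ∈ centralizer (D.U : Set G)) : M.clsPerm c = 1 := by
  refine M.clsPerm_eq_one_iff.mpr fun x => ?_
  have e : D.conjW c x = x := Subtype.ext (by
    rw [UData.conjW_apply, ← mem_centralizer_iff.mp hc x x.2.1, mul_inv_cancel_right])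
  rw [e, inv_mul_cancel]
  exact one_mem _

/-- A translation fixes the characters trivial on the centre. -/
theorem two_act_of_cls (h : Two ρ D r m z) {c : D.Gam} (hc : M.clsPerm c = 1) {ε : D.W →* ℤˣ} (hε : ε z = 1) :
    D.act c ε = ε := by
  refine MonoidHom.ext fun x => ?_
  have hc' : M.clsPerm c⁻¹ = 1 := by rw [map_inv, hc, inv_one]
  have h1 := M.two_apply_Zw h hε (M.clsPerm_eq_one_iff.mp hc' x)
  rw [map_mul, map_inv ε (D.conjW c⁻¹ x), inv_mul_eq_one] at h1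
  exact h1

/-- A translation multiplies the occurring characters by one character. -/
theorem two_act_translation (h : Two ρ D r m z) {c : D.Gam} (hc : M.clsPerm c = 1) {χ μ : D.W →* ℤˣ}
    (hχ : χ z = -1) (hμ : μ z = -1) : D.act c μ = μ * (χ * D.act c χ) := by
  have hz : (χ * μ) z = 1 := by rw [MonoidHom.mul_apply, hχ, hμ, Int.units_mul_self]
  have e : μ = χ * (χ * μ) := by rw [← mul_assoc, char_mul_self, one_mul]
  conv_lhs => rw [e, UData.act_mul, M.two_act_of_cls h hc hz]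
  rw [mul_comm χ μ, mul_comm (D.act c χ), mul_assoc]

/-- Translations fixing one character centralise `U`. -/
theorem two_centralizes_of_cls (h : Two ρ D r m z) {c : D.Gam} (hc : M.clsPerm c = 1) {ν : D.W →* ℤˣ}
    (hν : ν z = -1) (hfix : D.act c ν = ν) : (c : G) ∈ centralizer (D.U : Set G) :=
  M.centralizes_of_act h.shape c fun μ hμ => by
    rw [M.two_act_translation h hc hν (M.two_occ_z h hμ), hfix, char_mul_self, mul_one]

/-- Two occurring characters with different radicals. -/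
theorem two_exists_pair (h : Two ρ D r m z) :
    ∃ χ μ, Occ ρ D χ ∧ Occ ρ D μ ∧ rad h.shape.sp χ ≠ rad h.shape.sp μ := by
  obtain ⟨χ, hχ, -⟩ := M.exists_occ (x := z) h.ne_one
  by_contra hno
  push Not at hno
  have hW : rad h.shape.sp χ = D.W :=
    le_antisymm (M.le_W_of_le_rads h.shape (rad_le _ _) fun μ hμ => (hno χ μ hχ hμ).le) (W_le_rad _ _)
  have h1 := h.shape.idx χ hχ
  rw [hW, h.card] at h1
  have := h.shape.pos
  have := Nat.pow_right_injective le_rfl (Nat.eq_of_mul_eq_mul_right Nat.card_pos h1)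
  omega

theorem two_index (h : Two ρ D r m z) : 2 ≤ D.Zw.index := by
  rw [← M.card_Wb]
  exact (Subgroup.one_lt_card_iff_ne_bot _).mpr h.wb

theorem two_exists_not_Zw (h : Two ρ D r m z) : ∃ x : D.W, x ∉ D.Zw := by
  by_contra hno
  push Not at hno
  have h2 := M.two_index h
  rw [(eq_top_iff.mpr fun x _ => hno x : D.Zw = ⊤), Subgroup.index_top] at h2
  omega

/-- A subgroup transitive on the classes is transitive on the characters trivial on the centre. -/
theorem two_trans (h : Two ρ D r m z) (H : Subgroup D.Gam)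
    (htr : ∀ x y : D.W, x ∉ D.Zw → y ∉ D.Zw → ∃ c ∈ H, (D.conjW c x)⁻¹ * y ∈ D.Zw)
    {ε ε' : D.W →* ℤˣ} (hε : ε z = 1) (hε1 : ε ≠ 1) (hε' : ε' z = 1) (hε'1 : ε' ≠ 1) :
    ∃ c ∈ H, D.act c ε = ε' := by
  classical
  by_contra hno
  have : Fintype D.W := Fintype.ofFinite _
  have : Fintype (D.W →* ℤˣ) := Fintype.ofFinite _
  set O : Finset (D.W →* ℤˣ) := Finset.univ.filter fun δ => ∃ c ∈ H, D.act c ε = δ with hO
  have hmem : ∀ δ, δ ∈ O ↔ ∃ c ∈ H, D.act c ε = δ := fun δ => by rw [hO, Finset.mem_filter]; simp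
  have hεO : ε ∈ O := (hmem ε).mpr ⟨1, H.one_mem, D.act_one ε⟩
  have hε'O : ε' ∉ O := fun hm => hno ((hmem ε').mp hm)
  have hOz : ∀ δ ∈ O, δ z = 1 := fun δ hδ => by
    obtain ⟨c, -, rfl⟩ := (hmem δ).mp hδ
    rw [M.two_act_z h, hε]
  let F : D.W → ℤ := fun x => ∑ δ ∈ O, (δ x : ℤ)
  have hinv : ∀ c ∈ H, ∀ x : D.W, F (D.conjW c x) = F x := by
    intro c hc x
    refine Finset.sum_nbij' (fun μ => D.act c⁻¹ μ) (fun μ => D.act c μ) (fun μ hμ => ?_) (fun μ hμ => ?_)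
      (fun μ _ => ?_) (fun μ _ => ?_) (fun μ _ => ?_)
    · obtain ⟨d, hd, rfl⟩ := (hmem μ).mp hμ
      exact (hmem _).mpr ⟨c⁻¹ * d, H.mul_mem (H.inv_mem hc) hd, (D.act_act _ _ _).symm⟩
    · obtain ⟨d, hd, rfl⟩ := (hmem μ).mp hμ
      exact (hmem _).mpr ⟨c * d, H.mul_mem hc hd, (D.act_act _ _ _).symm⟩
    · rw [UData.act_act, mul_inv_cancel, UData.act_one]
    · rw [UData.act_act, inv_mul_cancel, UData.act_one]
    · rw [UData.act_apply, inv_inv]
  obtain ⟨x₀, hx₀⟩ := M.two_exists_not_Zw h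
  have hconst : ∀ x : D.W, x ∉ D.Zw → F x = F x₀ := by
    intro x hx
    obtain ⟨c, hc, hcx⟩ := htr x₀ x hx₀ hx
    rw [← hinv c hc x₀]
    refine Finset.sum_congr rfl fun δ hδ => ?_
    have h1 := M.two_apply_Zw h (hOz δ hδ) hcx
    rw [map_mul, map_inv δ (D.conjW c x₀), inv_mul_eq_one] at h1
    rw [h1]
  have key : ∀ η : D.W →* ℤˣ, η z = 1 → η ≠ 1 → ∑ x, (η x : ℤ) * F x =
      ∑ x ∈ Finset.univ.filter (· ∈ D.Zw), ((O.card : ℤ) - F x₀) := by
    intro η hη hη1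
    obtain ⟨y, hy⟩ : ∃ y, η y ≠ 1 := by
      by_contra h'
      push Not at h'
      exact hη1 (MonoidHom.ext h')
    have h0 : ∑ x, (η x : ℤ) * F x₀ = 0 := by rw [← Finset.sum_mul, sum_sign_eq_zero η hy, zero_mul]
    rw [← sub_zero (∑ x, (η x : ℤ) * F x), ← h0, ← Finset.sum_sub_distrib, Finset.sum_filter]
    refine Finset.sum_congr rfl fun x _ => ?_
    split_ifs with hx
    · rw [M.two_apply_Zw h hη hx, Units.val_one, one_mul, one_mul]
      congr 1
      show ∑ δ ∈ O, (δ x : ℤ) = O.card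
      rw [Finset.sum_congr rfl fun δ hδ => by rw [M.two_apply_Zw h (hOz δ hδ) hx], Finset.sum_const]
      simp
    · rw [hconst x hx, sub_self]
  have hfour : ∀ η : D.W →* ℤˣ, ∑ x, (η x : ℤ) * F x = if η ∈ O then (Fintype.card D.W : ℤ) else 0 := by
    intro η
    simp only [F, Finset.mul_sum]
    rw [Finset.sum_comm, Finset.sum_congr rfl fun δ _ => ?_, Finset.sum_ite_eq]
    split_ifs with he
    · subst he
      rw [Finset.sum_congr rfl fun x _ => by rw [← Units.val_mul, Int.units_mul_self, Units.val_one],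
        Finset.sum_const, Finset.card_univ]
      simp
    · obtain ⟨y, hy⟩ : ∃ y, (η * δ) y ≠ 1 := by
        by_contra h'
        push Not at h'
        refine he (MonoidHom.ext fun x => ?_)
        have := h' x
        rwa [MonoidHom.mul_apply, mul_eq_one_iff_eq_inv, Int.units_inv_eq_self] at this
      rw [← sum_sign_eq_zero (η * δ) hy]
      exact Finset.sum_congr rfl fun x _ => by rw [MonoidHom.mul_apply, Units.val_mul]
  have h1 := (hfour ε).symm.trans ((key ε hε hε1).trans ((key ε' hε' hε'1).symm.trans (hfour ε')))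
  rw [if_pos hεO, if_neg hε'O] at h1
  exact absurd h1 (by exact_mod_cast (Fintype.card_pos (α := D.W)).ne')

/-- All of the fixed part of `N` is transitive on the classes. -/
theorem two_trans_top (h : Two ρ D r m z) {ε ε' : D.W →* ℤˣ} (hε : ε z = 1) (hε1 : ε ≠ 1) (hε' : ε' z = 1)
    (hε'1 : ε' ≠ 1) : ∃ c, D.act c ε = ε' := by
  obtain ⟨c, -, hc⟩ := M.two_trans h ⊤ (fun x y hx hy => (M.exists_conj_class (M.two_hA) h.notLe hx hy).imp
    fun c hc => ⟨mem_top c, hc⟩) hε hε1 hε' hε'1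
  exact ⟨c, hc⟩

/-- Every nontrivial character trivial on the centre is nondegenerate. -/
theorem two_rad_eq (h : Two ρ D r m z) {ε : D.W →* ℤˣ} (hε : ε z = 1) (hε1 : ε ≠ 1) :
    rad h.shape.sp ε = D.W := by
  obtain ⟨χ, μ, hχ, hμ, hne⟩ := M.two_exists_pair h
  obtain ⟨-, h2⟩ := M.rad_mul_eq h.shape.pos h.shape.eq h.shape.sp (h.shape.idx χ hχ) (h.shape.idx μ hμ) hne
  rw [h.card] at h2
  have hcard : Nat.card (rad h.shape.sp (χ * μ)) = Nat.card D.W :=
    (Nat.eq_of_mul_eq_mul_left (Nat.two_pow_pos _) h2).symm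
  obtain ⟨c, hc⟩ := M.two_trans_top h (M.two_mul_z h hχ hμ) (fun h1 => hne (congrArg _ (by
    rw [← one_mul μ, ← h1, mul_assoc, char_mul_self, mul_one]))) hε hε1
  refine (Subgroup.eq_of_le_of_card_ge (W_le_rad _ _) ?_).symm
  rw [← hc, card_rad_act, hcard]

/-- Index of the forms trivial on the centre. -/
theorem two_idx (h : Two ρ D r m z) {ε : D.W →* ℤˣ} (hε : ε z = 1) (hε1 : ε ≠ 1) :
    Nat.card D.U = 2 ^ (2 * (2 * m)) * Nat.card (rad h.shape.sp ε) := by
  rw [M.two_rad_eq h hε hε1]; exact h.card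

theorem two_exists_char (h : Two ρ D r m z) {x : D.W} (hx : x ∉ D.Zw) :
    ∃ ε : D.W →* ℤˣ, ε z = 1 ∧ ε x ≠ 1 := by
  obtain ⟨φ, hφ⟩ := exists_sign_ne_one M.Zw_sq (x := (x : D.W ⧸ D.Zw)) fun e =>
    hx ((QuotientGroup.eq_one_iff x).mp e)
  exact ⟨φ.comp (QuotientGroup.mk' D.Zw), by
    show φ (z : D.W ⧸ D.Zw) = 1
    rw [(QuotientGroup.eq_one_iff z).mpr h.center, map_one], hφ⟩

theorem two_exists_eps (h : Two ρ D r m z) : ∃ ε : D.W →* ℤˣ, ε z = 1 ∧ ε ≠ 1 := by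
  obtain ⟨x, hx⟩ := M.two_exists_not_Zw h
  obtain ⟨ε, hε, hεx⟩ := M.two_exists_char h hx
  exact ⟨ε, hε, fun e => hεx (by rw [e]; rfl)⟩

/-- A subgroup on which all forms trivial on the centre vanish is small. -/
theorem two_isotropic (h : Two ρ D r m z) {S : Subgroup G} (hS : S ≤ D.U)
    (hiso : ∀ x y : D.U, (x : G) ∈ S → (y : G) ∈ S → commW h.shape.sp x y ∈ D.Zw) :
    Nat.card S ≤ 2 ^ (2 * m) * Nat.card D.W := by
  obtain ⟨ε, hε, hε1⟩ := M.two_exists_eps h
  have hb := M.isotropic_bound h.shape.sp ε (M.two_idx h hε hε1) hS fun x y hx hy =>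
    M.two_apply_Zw h hε (hiso x y hx hy)
  refine hb.trans (Nat.mul_le_mul_left _ (Nat.le_of_dvd Nat.card_pos (card_dvd_of_le ?_)))
  rw [M.two_rad_eq h hε hε1]
  exact inf_le_right

/-- Occurring characters have different radicals. -/
theorem two_rad_inf (h : Two ρ D r m z) {χ μ : D.W →* ℤˣ} (hχ : Occ ρ D χ) (hμ : Occ ρ D μ) (hne : χ ≠ μ) :
    rad h.shape.sp χ ⊓ rad h.shape.sp μ = D.W := by
  refine le_antisymm ?_ (le_inf (W_le_rad _ _) (W_le_rad _ _))
  rw [← M.two_rad_eq h (M.two_mul_z h hχ hμ) fun e => hne (by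
    rw [← one_mul μ, ← e, mul_assoc, char_mul_self, mul_one])]
  exact rad_mul_ge _ _ _

theorem two_rad_ne (h : Two ρ D r m z) {χ μ : D.W →* ℤˣ} (hχ : Occ ρ D χ) (hμ : Occ ρ D μ) (hne : χ ≠ μ) :
    rad h.shape.sp χ ≠ rad h.shape.sp μ := by
  intro he
  have h1 := M.two_rad_inf h hχ hμ hne
  rw [← he, inf_idem] at h1
  have h2 := h.shape.idx χ hχ
  rw [h1, h.card] at h2
  have := h.shape.pos
  have := Nat.pow_right_injective le_rfl (Nat.eq_of_mul_eq_mul_right Nat.card_pos h2)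
  omega

/-- An element fixing two occurring characters centralises `U`. -/
theorem two_centralizes_of_fix (h : Two ρ D r m z) {c : D.Gam} {χ μ : D.W →* ℤˣ} (hχ : Occ ρ D χ)
    (hμ : Occ ρ D μ) (hne : χ ≠ μ) (hcχ : D.act c χ = χ) (hcμ : D.act c μ = μ) :
    (c : G) ∈ centralizer (D.U : Set G) :=
  M.centralizes_of_trivial h.shape c fun _ hx => (M.two_rad_inf h hχ hμ hne).le
    ⟨M.commutator_mem_rad h.shape.pos h.shape.eq h.shape.sp (h.shape.idx χ hχ) c hcχ hx,
      M.commutator_mem_rad h.shape.pos h.shape.eq h.shape.sp (h.shape.idx μ hμ) c hcμ hx⟩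

/-- The kernel on an invariant set with two occurring characters. -/
theorem two_actPerm_eq_one (h : Two ρ D r m z) {P : (D.W →* ℤˣ) → Prop} (hP : ∀ c μ, P μ → P (D.act c μ))
    (hocc : ∀ μ, P μ → Occ ρ D μ) {χ μ : D.W →* ℤˣ} (hχ : P χ) (hμ : P μ) (hne : χ ≠ μ) {c : D.Gam} :
    D.actPerm P hP c = 1 ↔ (c : G) ∈ centralizer (D.U : Set G) := by
  rw [UData.actPerm_eq_one_iff]
  exact ⟨fun hf => M.two_centralizes_of_fix h (hocc χ hχ) (hocc μ hμ) hne (hf χ hχ) (hf μ hμ),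
    fun hc μ _ => M.act_eq_of_centralizes hc μ⟩

/-- The two-point stabilisers on occurring characters are trivial. -/
theorem two_two_point (h : Two ρ D r m z) {P : (D.W →* ℤˣ) → Prop} (hP : ∀ c μ, P μ → P (D.act c μ))
    (hocc : ∀ μ, P μ → Occ ρ D μ) (g : (D.actPerm P hP).range) (x y : {μ // P μ}) (hne : x ≠ y)
    (hx : g • x = x) (hy : g • y = y) : g = 1 := by
  obtain ⟨_, c, rfl⟩ := g
  refine Subtype.ext ((M.two_actPerm_eq_one h hP hocc x.2 y.2 fun e => hne (Subtype.ext e)).mpr ?_)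
  exact M.two_centralizes_of_fix h (hocc _ x.2) (hocc _ y.2) (fun e => hne (Subtype.ext e))
    (congrArg Subtype.val hx) (congrArg Subtype.val hy)

/-- The nontrivial classes form an orbit: its length divides the order of images. -/
theorem two_sub_one_dvd (h : Two ρ D r m z) {P : Type*} [Group P] (φ : D.Gam →* P)
    (hk : φ.ker ≤ M.clsPerm.ker) : D.Zw.index - 1 ∣ Nat.card φ.range := by
  classical
  obtain ⟨x₀, hx₀⟩ := M.two_exists_not_Zw h
  refine (dvd_of_eq ?_).trans (orbit_card_dvd_range φ M.clsPerm hk ((x₀ : D.W) : D.W ⧸ D.Zw))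
  rw [Nat.card_congr (Equiv.subtypeEquivRight (q := fun q => q ≠ 1) fun q => ⟨?_, fun hq => ?_⟩)]
  · have := Fintype.ofFinite (D.W ⧸ D.Zw)
    rw [Nat.card_eq_fintype_card, Fintype.card_subtype_compl, Fintype.card_subtype_eq,
      ← Nat.card_eq_fintype_card, ← Subgroup.index_eq_card]
  · rintro ⟨c, rfl⟩ he
    refine hx₀ ((QuotientGroup.eq_one_iff x₀).mp ((M.clsPerm c).injective (he.trans ?_)))
    show (1 : D.W ⧸ D.Zw) = M.clsHom c 1
    rw [map_one]
  · obtain ⟨y, rfl⟩ := QuotientGroup.mk_surjective q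
    obtain ⟨c, hc⟩ := M.exists_conj_class (M.two_hA) h.notLe hx₀ fun hy => hq ((QuotientGroup.eq_one_iff y).mpr hy)
    exact ⟨c, (M.clsPerm_mk c x₀).trans (QuotientGroup.eq.mpr hc)⟩

/-- The number of classes is a power of two. -/
theorem two_index_pow (h : Two ρ D r m z) : ∃ d, 0 < d ∧ D.Zw.index = 2 ^ d := by
  obtain ⟨d, hd⟩ : ∃ d, D.Zw.index = 2 ^ d := by
    rw [Subgroup.index_eq_card]
    exact IsPGroup.iff_card.mp fun x => ⟨1, by rw [pow_one, pow_two]; exact M.Zw_sq x⟩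
  refine ⟨d, Nat.pos_of_ne_zero fun e => ?_, hd⟩
  have := M.two_index h
  rw [hd, e] at this
  norm_num at this

/-- A normal subgroup of two-power image acts trivially on the classes. -/
theorem two_cls_of_normal (h : Two ρ D r m z) (K : Subgroup D.Gam) [K.Normal]
    (hK : ∀ c ∈ K, ∃ j : ℕ, ((c ^ 2 ^ j : D.Gam) : G) ∈ centralizer (D.U : Set G)) :
    ∀ c ∈ K, M.clsPerm c = 1 := by
  have : Fact (Nat.Prime 2) := ⟨Nat.prime_two⟩
  have hp2 : IsPGroup 2 (K.map M.clsPerm) := by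
    rintro ⟨_, c, hc, rfl⟩
    obtain ⟨j, hj⟩ := hK c hc
    refine ⟨j, Subtype.ext ?_⟩
    show M.clsPerm c ^ 2 ^ j = 1
    rw [← map_pow]
    exact M.clsPerm_of_centralizes hj
  have hone : ∀ σ : K.map M.clsPerm, σ • (1 : D.W ⧸ D.Zw) = 1 := by
    rintro ⟨_, c, hc, rfl⟩
    exact map_one (M.clsHom c)
  obtain ⟨d, hd0, hd⟩ := M.two_index_pow h
  obtain ⟨q, hq, hq1⟩ := hp2.exists_fixed_point_of_prime_dvd_card_of_fixed_point (D.W ⧸ D.Zw)
    (by rw [← Subgroup.index_eq_card, hd]; exact dvd_pow_self 2 hd0.ne') (a := 1) hone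
  obtain ⟨x, rfl⟩ := QuotientGroup.mk_surjective q
  have hx : x ∉ D.Zw := fun e => hq1 ((QuotientGroup.eq_one_iff x).mpr e).symm
  intro c hc
  refine Equiv.ext fun q => ?_
  by_cases hq0 : q = 1
  · rw [hq0]; exact map_one (M.clsHom c)
  obtain ⟨y, rfl⟩ := QuotientGroup.mk_surjective q
  obtain ⟨d, hd⟩ := M.exists_conj_class (M.two_hA) h.notLe hx fun hy => hq0 ((QuotientGroup.eq_one_iff y).mpr hy)
  have e : M.clsPerm d (x : D.W ⧸ D.Zw) = (y : D.W ⧸ D.Zw) := (M.clsPerm_mk d x).trans (QuotientGroup.eq.mpr hd)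
  have hf : M.clsPerm (d⁻¹ * c * d⁻¹⁻¹) (x : D.W ⧸ D.Zw) = x :=
    hq ⟨_, mem_map_of_mem M.clsPerm (Subgroup.Normal.conj_mem ‹K.Normal› c hc d⁻¹)⟩
  show M.clsPerm c y = y
  have h2 := congrArg (M.clsPerm d) hf
  rw [← Equiv.Perm.mul_apply, ← map_mul, show d * (d⁻¹ * c * d⁻¹⁻¹) = c * d by group, map_mul,
    Equiv.Perm.mul_apply, e] at h2
  exact h2

/-- The size of an invariant set of occurring characters. -/
theorem two_orbit_card (h : Two ρ D r m z) (P : Finset (D.W →* ℤˣ)) (hocc : ∀ μ ∈ P, Occ ρ D μ)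
    (hinvP : ∀ c, ∀ μ ∈ P, D.act c μ ∈ P) :
    P.card = 0 ∨ P.card = 1 ∨ P.card = D.Zw.index - 1 ∨ P.card = D.Zw.index ∨
      ∃ s, 0 < s ∧ D.Zw.index = 4 * s ^ 2 ∧ (P.card + s = 2 * s ^ 2 ∨ P.card = 2 * s ^ 2 + s) := by
  classical
  obtain ⟨χ₀, -, hχ₀, -, -⟩ := M.two_exists_pair h
  obtain ⟨x₀, hx₀⟩ := M.two_exists_not_Zw h
  let _ : Fintype ((D.W ⧸ D.Zw) →* ℤˣ) := Fintype.ofFinite _
  have hT2 : ∀ δ : (D.W ⧸ D.Zw) →* ℤˣ, δ * δ = 1 := fun δ => char_mul_self δ
  have hcardT : Fintype.card ((D.W ⧸ D.Zw) →* ℤˣ) = D.Zw.index := by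
    rw [← Nat.card_eq_fintype_card, card_sign_characters M.Zw_sq, Subgroup.index_eq_card]
  let emb : ((D.W ⧸ D.Zw) →* ℤˣ) → (D.W →* ℤˣ) := fun δ => χ₀ * δ.comp (QuotientGroup.mk' D.Zw)
  have hembinj : Function.Injective emb := fun δ δ' he => MonoidHom.ext fun x => by
    obtain ⟨x, rfl⟩ := QuotientGroup.mk_surjective x
    exact mul_left_cancel (DFunLike.congr_fun he x : χ₀ x * δ x = χ₀ x * δ' x)
  have hlift : ∀ μ ∈ P, ∃ δ, emb δ = μ := by
    intro μ hμ
    refine ⟨QuotientGroup.lift D.Zw (χ₀ * μ) fun x hx => ?_, MonoidHom.ext fun x => ?_⟩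
    · exact M.two_apply_Zw h (M.two_mul_z h hχ₀ (hocc μ hμ)) hx
    · show χ₀ x * (χ₀ x * μ x) = μ x
      rw [← mul_assoc, Int.units_mul_self, one_mul]
  set O : Finset ((D.W ⧸ D.Zw) →* ℤˣ) := Finset.univ.filter fun δ => emb δ ∈ P with hO
  have hOP : O.card = P.card := by
    rw [← Finset.card_image_of_injective O hembinj]
    congr 1
    ext μ
    refine ⟨fun hμ => ?_, fun hμ => ?_⟩
    · obtain ⟨δ, hδ, rfl⟩ := Finset.mem_image.mp hμ
      exact (Finset.mem_filter.mp hδ).2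
    · obtain ⟨δ, rfl⟩ := hlift μ hμ
      exact Finset.mem_image.mpr ⟨δ, Finset.mem_filter.mpr ⟨Finset.mem_univ _, hμ⟩, rfl⟩
  let F : D.W → ℤ := fun x => ∑ μ ∈ P, (μ x : ℤ)
  have hinv : ∀ (c : D.Gam) (x : D.W), F (D.conjW c x) = F x := by
    intro c x
    refine Finset.sum_nbij' (fun μ => D.act c⁻¹ μ) (fun μ => D.act c μ) (fun μ hμ => hinvP _ μ hμ)
      (fun μ hμ => hinvP _ μ hμ) (fun μ _ => ?_) (fun μ _ => ?_) (fun μ _ => ?_)
    · rw [UData.act_act, mul_inv_cancel, UData.act_one]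
    · rw [UData.act_act, inv_mul_cancel, UData.act_one]
    · rw [UData.act_apply, inv_inv]
  have hFz : ∀ x ζ : D.W, ζ ∈ D.Zw → F (x * ζ) ^ 2 = F x ^ 2 := by
    intro x ζ hζ
    rcases M.two_Zw h hζ with hζ1 | hζ1 <;> subst hζ1
    · rw [mul_one]
    · have hF : F (x * ζ) = -F x := by
        simp only [F]
        rw [← Finset.sum_neg_distrib]
        refine Finset.sum_congr rfl fun μ hμ => ?_
        rw [map_mul, M.two_occ_z h (hocc μ hμ)]
        simp
      rw [hF, neg_sq]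
  have hc : ∀ ψ : ((D.W ⧸ D.Zw) →* ℤˣ) →* ℤˣ, ψ ≠ 1 → (∑ δ ∈ O, (ψ δ : ℤ)) ^ 2 = F x₀ ^ 2 := by
    intro ψ hψ
    let ev : (D.W ⧸ D.Zw) → (((D.W ⧸ D.Zw) →* ℤˣ) →* ℤˣ) := fun x => MonoidHom.eval x
    have hev : Function.Bijective ev := by
      refine (Nat.bijective_iff_injective_and_card ev).mpr ⟨fun x y he => ?_, ?_⟩
      · by_contra hne
        obtain ⟨φ, hφ⟩ := exists_sign_ne_one M.Zw_sq (x := x⁻¹ * y) fun e => hne (inv_mul_eq_one.mp e)
        refine hφ ?_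
        rw [map_mul, map_inv φ x, show φ x = φ y from DFunLike.congr_fun he φ, inv_mul_cancel]
      · rw [card_sign_characters hT2, card_sign_characters M.Zw_sq]
    obtain ⟨q, rfl⟩ := hev.2 ψ
    obtain ⟨x, rfl⟩ := QuotientGroup.mk_surjective q
    have hx : x ∉ D.Zw := fun he => hψ (MonoidHom.ext fun δ => by
      show δ (x : D.W ⧸ D.Zw) = 1
      rw [(QuotientGroup.eq_one_iff x).mpr he, map_one])
    obtain ⟨c, hc⟩ := M.exists_conj_class (M.two_hA) h.notLe hx₀ hx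
    have hFx : F x ^ 2 = F x₀ ^ 2 := by
      rw [show x = D.conjW c x₀ * ((D.conjW c x₀)⁻¹ * x) from (mul_inv_cancel_left _ _).symm, hFz _ _ hc, hinv]
    rw [← hFx]
    have hS' : F x = (χ₀ x : ℤ) * ∑ δ ∈ O, (ev (x : D.W ⧸ D.Zw) δ : ℤ) := by
      rw [Finset.mul_sum]
      refine Finset.sum_bij' (fun μ hμ => (hlift μ hμ).choose) (fun δ _ => emb δ) (fun μ hμ => ?_) (fun δ hδ => ?_)
        (fun μ hμ => (hlift μ hμ).choose_spec) (fun δ hδ => ?_) (fun μ hμ => ?_)
      · exact Finset.mem_filter.mpr ⟨Finset.mem_univ _, by rw [(hlift μ hμ).choose_spec]; exact hμ⟩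
      · exact (Finset.mem_filter.mp hδ).2
      · exact hembinj (hlift (emb δ) (Finset.mem_filter.mp hδ).2).choose_spec
      · conv_lhs => rw [← (hlift μ hμ).choose_spec]
        rw [← Units.val_mul]
        rfl
    rw [hS', mul_pow, ← Units.val_pow_eq_pow_val, Int.units_sq, Units.val_one, one_mul]
  rw [← hOP, ← hcardT]
  exact spectrum_card hT2 O _ hc

/-- The characters with value `-1` on the centre are as many as the classes. -/
theorem two_affine_card (h : Two ρ D r m z) :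
    Nat.card {μ : D.W →* ℤˣ // μ z = -1} = D.Zw.index := by
  obtain ⟨χ₀, -, hχ₀, -, -⟩ := M.two_exists_pair h
  rw [Subgroup.index_eq_card, ← card_sign_characters M.Zw_sq]
  refine Nat.card_congr
    { toFun := fun μ => QuotientGroup.lift D.Zw (χ₀ * μ.1) fun x hx => M.two_apply_Zw h (by
        rw [MonoidHom.mul_apply, M.two_occ_z h hχ₀, μ.2, Int.units_mul_self]) hx
      invFun := fun δ => ⟨χ₀ * δ.comp (QuotientGroup.mk' D.Zw), by
        show χ₀ z * δ (z : D.W ⧸ D.Zw) = -1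
        rw [(QuotientGroup.eq_one_iff z).mpr h.center, map_one, mul_one, M.two_occ_z h hχ₀]⟩
      left_inv := fun μ => Subtype.ext (MonoidHom.ext fun x => by
        show χ₀ x * (χ₀ x * μ.1 x) = μ.1 x
        rw [← mul_assoc, Int.units_mul_self, one_mul])
      right_inv := fun δ => MonoidHom.ext fun x => by
        obtain ⟨x, rfl⟩ := QuotientGroup.mk_surjective x
        show χ₀ x * (χ₀ x * δ (x : D.W ⧸ D.Zw)) = δ (x : D.W ⧸ D.Zw)
        rw [← mul_assoc, Int.units_mul_self, one_mul] }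

/-- `W` is normal in `U`. -/
theorem W_normal_in_U : (D.W.subgroupOf D.U).Normal :=
  ⟨fun x hx g => by
    rw [mem_subgroupOf] at hx ⊢
    show (g : G) * x * (g : G)⁻¹ ∈ D.W
    rw [← (M.special2_U D).fix_central x hx g g.2, mul_inv_cancel_right]
    exact hx⟩

/-- A proper invariant subgroup over `W` is a line. -/
theorem two_line_card (h : Two ρ D r m z) {B : Subgroup G} (hB : Inv a B) (hWB : D.W ≤ B) (hBU : B ≤ D.U)
    (hne : B ≠ D.W) (hne' : B ≠ D.U) : Nat.card B = 2 ^ (2 * m) * Nat.card D.W := by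
  obtain ⟨j, hj⟩ := M.exists_card h.shape.pos h.shape.eq hB hWB hBU
  rcases Nat.lt_or_ge j 1 with h0 | h1
  · refine absurd (Subgroup.eq_of_le_of_card_ge hWB ?_).symm hne
    rw [hj, show j = 0 by omega]
    simp
  rcases Nat.lt_or_ge 1 j with h2 | h2
  · refine absurd (Subgroup.eq_of_le_of_card_ge hBU ?_) hne'
    rw [hj, h.card]
    refine Nat.mul_le_mul_right _ (Nat.pow_le_pow_right two_pos ?_)
    calc 2 * (2 * m) = 2 * m * 2 := by ring
      _ ≤ 2 * m * j := Nat.mul_le_mul_left _ h2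
  · rw [hj, show j = 1 by omega, mul_one]

/-- A line contains no invariant subgroup strictly over `W`. -/
theorem two_line_eq (h : Two ρ D r m z) {B X : Subgroup G} (hBU : B ≤ D.U)
    (hB : Nat.card B = 2 ^ (2 * m) * Nat.card D.W) (hX : Inv a X) (hWX : D.W ≤ X) (hXB : X ≤ B) :
    X = D.W ∨ X = B :=
  M.eq_or_eq_of_card h.shape.pos h.shape.eq D.inv_W le_rfl hBU hB hX hWX hXB

/-- Nothing invariant lies strictly between a line and `U`. -/
theorem two_line_max (h : Two ρ D r m z) {B X : Subgroup G} (hBa : Inv a B) (hWB : D.W ≤ B)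
    (hB : Nat.card B = 2 ^ (2 * m) * Nat.card D.W) (hX : Inv a X) (hBX : B ≤ X) (hXU : X ≤ D.U) :
    X = B ∨ X = D.U := by
  refine M.eq_or_eq_of_card h.shape.pos h.shape.eq hBa hWB le_rfl ?_ hX hBX hXU
  rw [hB, h.card, ← mul_assoc (2 ^ (2 * m)), ← pow_add, two_mul (2 * m)]

theorem two_rad_card (h : Two ρ D r m z) {χ : D.W →* ℤˣ} (hχ : Occ ρ D χ) :
    Nat.card (rad h.shape.sp χ) = 2 ^ (2 * m) * Nat.card D.W := by
  refine (Nat.eq_of_mul_eq_mul_left (Nat.two_pow_pos (2 * m)) ?_).symm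
  rw [← h.shape.idx χ hχ, h.card, ← mul_assoc (2 ^ (2 * m)), ← pow_add, two_mul (2 * m)]

/-- A line different from a radical meets it in `W`. -/
theorem two_line_inf_rad (h : Two ρ D r m z) {χ : D.W →* ℤˣ} (hχ : Occ ρ D χ) {B : Subgroup G} (hBa : Inv a B)
    (hWB : D.W ≤ B) (hBU : B ≤ D.U) (hB : Nat.card B = 2 ^ (2 * m) * Nat.card D.W)
    (hne : B ≠ rad h.shape.sp χ) : B ⊓ rad h.shape.sp χ = D.W :=
  (M.two_line_eq h hBU hB (hBa.inf (inv_rad _ _)) (le_inf hWB (W_le_rad _ _)) inf_le_left).resolve_right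
    fun e => hne (Subgroup.eq_of_le_of_card_ge (inf_eq_left.mp e) (by rw [hB, M.two_rad_card h hχ]))

/-- An element whose square centralises `U` shears `U` onto the classes it fixes. -/
theorem two_shear (h : Two ρ D r m z) {c : D.Gam} (hcc : (c : G) * c ∈ centralizer (D.U : Set G))
    (hne : ¬ D.U ≤ M.fixClass c) :
    Nat.card (M.fixClass c) = 2 ^ (2 * m) * Nat.card D.W ∧ (∀ x ∈ D.U, ⁅(c : G), x⁆ ∈ M.fixClass c) ∧
      ∀ u ∈ M.fixClass c, ∃ x ∈ D.U, u⁻¹ * ⁅(c : G), x⁆ ∈ D.W := by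
  classical
  have hsp := h.shape.sp
  have hWn := M.W_normal_in_U (D := D)
  have himg : ∀ x ∈ D.U, ⁅(c : G), x⁆ ∈ M.fixClass c := fun x hx => by
    have hcU : ⁅(c : G), x⁆ ∈ D.U := by
      rw [commutatorElement_def]; exact mul_mem (D.conj_mem_U c.2.1 hx) (inv_mem hx)
    refine ⟨hcU, ?_⟩
    have hccx := mem_centralizer_iff.mp hcc x hx
    have e1 : (c : G) * ⁅(c : G), x⁆ * (c : G)⁻¹ = ⁅(c : G), x⁆⁻¹ := by
      calc (c : G) * ⁅(c : G), x⁆ * (c : G)⁻¹
          = ((c : G) * c * x) * ((c : G) * c)⁻¹ * c * x⁻¹ * (c : G)⁻¹ := by rw [commutatorElement_def]; group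
        _ = (x * ((c : G) * c)) * ((c : G) * c)⁻¹ * c * x⁻¹ * (c : G)⁻¹ := by rw [hccx]
        _ = _ := by rw [commutatorElement_def]; group
    rw [commutatorElement_def (c : G) ⁅(c : G), x⁆, e1, ← mul_inv_rev]
    exact inv_mem (hsp.sq_mem _ hcU)
  let φ : D.U →* D.U ⧸ D.W.subgroupOf D.U :=
    MonoidHom.mk' (fun x => ((⟨⁅(c : G), (x : G)⁆, M.fixClass_le c (himg x x.2)⟩ : D.U) : _ ⧸ _)) fun x y => by
      rw [← QuotientGroup.mk_mul, QuotientGroup.eq, mem_subgroupOf]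
      show (⁅(c : G), (x : G) * y⁆)⁻¹ * (⁅(c : G), (x : G)⁆ * ⁅(c : G), (y : G)⁆) ∈ D.W
      have e : (⁅(c : G), (x : G) * y⁆)⁻¹ * (⁅(c : G), (x : G)⁆ * ⁅(c : G), (y : G)⁆) =
          ⁅(x : G), ⁅(c : G), (y : G)⁆⁻¹⁆ := by simp [commutatorElement_def, mul_assoc]
      rw [e]
      exact hsp.comm_mem _ x.2 _ (inv_mem (M.fixClass_le c (himg y y.2)))
  have hker : φ.ker = (M.fixClass c).subgroupOf D.U := by
    ext x
    rw [MonoidHom.mem_ker, mem_subgroupOf]
    show ((⟨⁅(c : G), (x : G)⁆, _⟩ : D.U) : D.U ⧸ D.W.subgroupOf D.U) = 1 ↔ _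
    rw [QuotientGroup.eq_one_iff, mem_subgroupOf]
    exact ⟨fun hx => ⟨x.2, hx⟩, fun hx => hx.2⟩
  let K1 := ((M.fixClass c).subgroupOf D.U).map (QuotientGroup.mk' (D.W.subgroupOf D.U))
  have hrange : φ.range ≤ K1 := by
    rintro _ ⟨x, rfl⟩
    exact ⟨⟨_, M.fixClass_le c (himg x x.2)⟩, mem_subgroupOf.mpr (himg x x.2), rfl⟩
  have hK1 : Nat.card K1 * Nat.card D.W = Nat.card (M.fixClass c) := by
    let ψ := (QuotientGroup.mk' (D.W.subgroupOf D.U)).comp (inclusion (M.fixClass_le c))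
    have hk : ψ.ker = D.W.subgroupOf (M.fixClass c) := by
      ext x
      rw [MonoidHom.mem_ker, mem_subgroupOf]
      exact (QuotientGroup.eq_one_iff _).trans mem_subgroupOf
    have hr : ψ.range = K1 := by
      ext q
      exact ⟨fun ⟨x, hx⟩ => ⟨inclusion (M.fixClass_le c) x, x.2, hx⟩,
        fun ⟨x, hx, he⟩ => ⟨⟨x, hx⟩, he⟩⟩
    have h1 := ψ.ker.card_mul_index
    rw [Subgroup.index_ker, hr, hk, Nat.card_congr (subgroupOfEquivOfLe (M.W_le_fixClass c)).toEquiv,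
      mul_comm] at h1
    exact h1
  have hUcard : Nat.card φ.range * Nat.card (M.fixClass c) = Nat.card D.U := by
    have h1 := φ.ker.card_mul_index
    rw [Subgroup.index_ker] at h1
    rw [hker, Nat.card_congr (subgroupOfEquivOfLe (M.fixClass_le c)).toEquiv, mul_comm] at h1
    exact h1
  have hle : Nat.card φ.range ≤ Nat.card K1 := Nat.le_of_dvd Nat.card_pos (card_dvd_of_le hrange)
  have hneW : M.fixClass c ≠ D.W := by
    intro e
    rw [e] at hUcard hK1
    have h1 := Nat.eq_of_mul_eq_mul_right Nat.card_pos (hK1.trans (one_mul _).symm)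
    rw [h.card] at hUcard
    have h2 := Nat.eq_of_mul_eq_mul_right Nat.card_pos hUcard
    have := Nat.one_lt_two_pow (n := 2 * (2 * m)) (by have := h.shape.pos; omega)
    omega
  have hcard := M.two_line_card h (M.inv_fixClass c) (M.W_le_fixClass c) (M.fixClass_le c) hneW
    fun e => hne e.ge
  refine ⟨hcard, himg, fun u hu => ?_⟩
  rw [hcard] at hK1 hUcard
  have h1 := Nat.eq_of_mul_eq_mul_right Nat.card_pos hK1
  rw [h.card, ← mul_assoc] at hUcard
  have h2 := Nat.eq_of_mul_eq_mul_right Nat.card_pos hUcard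
  rw [two_mul (2 * m), pow_add] at h2
  have h3 := Nat.eq_of_mul_eq_mul_right (Nat.two_pow_pos _) h2
  have heq : φ.range = K1 := Subgroup.eq_of_le_of_card_ge hrange (h1.trans h3.symm).le
  obtain ⟨x, hx⟩ : ((⟨u, M.fixClass_le c hu⟩ : D.U) : D.U ⧸ D.W.subgroupOf D.U) ∈ φ.range :=
    heq ▸ ⟨⟨u, M.fixClass_le c hu⟩, mem_subgroupOf.mpr hu, rfl⟩
  exact ⟨x, x.2, mem_subgroupOf.mp (QuotientGroup.eq.mp hx.symm)⟩

/-- With two constituents all moved conjugates are pure. -/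
theorem two_allPure (h : Two ρ D r m z) : D.AllPure := by
  intro g w hg hw hwc hN
  have hsp := h.shape.sp
  obtain ⟨γ, hγ, u, hu, he⟩ := M.exists_fixed_mul D hN
  set c : D.Gam := ⟨γ, hγ⟩ with hc
  by_cases hall : D.U ≤ M.fixClass c
  · refine ⟨hN, fun x hx => ?_⟩
    rw [he, show ⁅γ * u, x⁆ = γ * ⁅u, x⁆ * γ⁻¹ * ⁅γ, x⁆ by simp [commutatorElement_def, mul_assoc]]
    exact mul_mem (D.conj_mem_W hγ (hsp.comm_mem u hu x hx)) (hall hx).2
  refine absurd ?_ hg
  have hu' : γ⁻¹ * u * γ ∈ D.U := by simpa using D.conj_mem_U (inv_mem hγ.1) hu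
  have hvv : γ * u * (γ * u) = 1 := he ▸ conj_mul_self (hsp.fix_sq w hw)
  have e1 : γ * γ * ((γ⁻¹ * u * γ) * u) = 1 := by rw [← hvv]; group
  have hγγ : γ * γ ∈ D.W := ⟨by
    rw [eq_inv_of_mul_eq_one_left e1]; exact D.U.inv_mem (mul_mem hu' hu), (fixedBy a).mul_mem hγ.2 hγ.2⟩
  have hcc : (c : G) * c ∈ centralizer (D.U : Set G) := M.W_le_centralizer_U hγγ
  have hucu : γ * u * γ⁻¹ = γ⁻¹ * u * γ := by
    have h' := mem_centralizer_iff.mp hcc _ hu'
    calc γ * u * γ⁻¹ = (γ * γ * (γ⁻¹ * u * γ)) * (γ * γ)⁻¹ := by group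
      _ = _ := by rw [← show γ⁻¹ * u * γ * (γ * γ) = γ * γ * (γ⁻¹ * u * γ) from h', mul_inv_cancel_right]
  have huK : u ∈ M.fixClass c := ⟨hu, by
    show ⁅γ, u⁆ ∈ D.W
    rw [show ⁅γ, u⁆ = (γ * γ)⁻¹ * (u * u)⁻¹ by
      rw [commutatorElement_def, hucu, ← eq_inv_of_mul_eq_one_right e1]; group]
    exact mul_mem (inv_mem hγγ) (inv_mem (hsp.sq_mem u hu))⟩
  obtain ⟨x, hx, hxu⟩ := (M.two_shear h hcc hall).2.2 u huK
  exact M.mem_N_of_free hw hwc hγ hu he hx hxu

theorem two_pure_of_conj (h : Two ρ D r m z) {g w : G} (hw : w ∈ D.W) (hN : g * w * g⁻¹ ∈ D.N) :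
    D.Pure (g * w * g⁻¹) := by
  by_cases hg : g ∈ D.N
  · exact M.pure_of_mem_W (M.conj_mem_W_of_mem_N hg hw)
  by_cases hwc : w ∈ center G
  · rw [mem_center_iff.mp hwc g, mul_inv_cancel_right]
    exact M.pure_of_mem_W hw
  exact M.two_allPure h g w hg hw hwc hN

/-- A homomorphism of `U` invariant under the fixed part of `N` with small kernel contradicts isolation. -/
theorem two_false_of_hom (h : Two ρ D r m z) (I : IsoData D.Nb D.Wb) {A : Type u} [CommGroup A] [Finite A]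
    (f : D.U →* A) (hW : ∀ x : D.U, (x : G) ∈ D.W → f x = 1)
    (hinv : ∀ (c : D.Gam) (x : D.U),
      f ⟨(c : G) * x * (c : G)⁻¹, D.conj_mem_U c.2.1 x.2⟩ = f x)
    (hker : Nat.card f.ker ≤ 2 ^ (2 * m) * Nat.card D.W) : False := by
  classical
  have : Fintype D.U := Fintype.ofFinite _
  have hsp := h.shape.sp
  obtain ⟨y, hy1, hy2⟩ : ∃ y : D.U, f y ≠ 1 ∧ (y : G) * y ∉ center G := by
    by_contra hno
    push Not at hno
    obtain ⟨ε, hε, hε1⟩ := M.two_exists_eps h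
    have h1 := M.sum_quad_pos h.shape.pos h.shape.eq hsp ε (M.two_idx h hε hε1)
    rw [M.two_rad_eq h hε hε1] at h1
    have h2 : ∑ x : D.U, ((1 : ℤ) - 2 * if x ∈ f.ker then 1 else 0) ≤ ∑ x, (quad hsp ε x : ℤ) := by
      refine Finset.sum_le_sum fun x _ => ?_
      split_ifs with hx
      · rcases Int.units_eq_one_or (quad hsp ε x) with e | e <;> rw [e] <;> norm_num
      · rw [quad, M.two_apply_Zw h hε (x := sqW hsp x) (mem_subgroupOf.mpr (hno x fun e => hx e))]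
        norm_num
    have hcard : (Finset.univ.filter fun x : D.U => x ∈ f.ker).card = Nat.card f.ker := by
      rw [Nat.card_eq_fintype_card, Fintype.card_subtype]
    rw [h1, Finset.sum_sub_distrib, Finset.sum_const, Finset.card_univ, nsmul_eq_mul, mul_one,
      ← Finset.mul_sum, Finset.sum_boole, hcard, ← Nat.card_eq_fintype_card, h.card] at h2
    push_cast at h2
    have h3 : (Nat.card f.ker : ℤ) ≤ 2 ^ (2 * m) * Nat.card D.W := by exact_mod_cast hker
    have h4 : (4 : ℤ) ≤ 2 ^ (2 * m) := by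
      have := Nat.pow_le_pow_right two_pos (show 2 ≤ 2 * m by have := h.shape.pos; omega)
      exact_mod_cast this
    have h5 : (0 : ℤ) < Nat.card D.W := Nat.cast_pos.mpr Nat.card_pos
    rw [two_mul (2 * m), pow_add] at h2
    nlinarith [mul_le_mul_of_nonneg_right h4 (le_of_lt (mul_pos (lt_of_lt_of_le (by norm_num) h4) h5)),
      mul_pos (lt_of_lt_of_le (by norm_num : (0 : ℤ) < 4) h4) h5]
  let π := QuotientGroup.mk' (center G)
  have hex : ∀ n : D.Nb, ∃ u : D.U, ∃ c : D.Gam, π ((c : G) * u) = n.1 := by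
    rintro ⟨_, x, hx, rfl⟩
    obtain ⟨c, hc, u, hu, rfl⟩ := M.exists_fixed_mul D hx
    exact ⟨⟨u, hu⟩, ⟨c, hc⟩, rfl⟩
  choose val cc hval using hex
  have key : ∀ (n : D.Nb) (c : D.Gam) (u : D.U), π ((c : G) * u) = n.1 → f (val n) = f u := by
    intro n c u he
    have hz : ((c : G) * u)⁻¹ * ((cc n : G) * (val n : G)) ∈ center G :=
      QuotientGroup.eq.mp (he.trans (hval n).symm)
    set ζ := ((c : G) * u)⁻¹ * ((cc n : G) * (val n : G)) with hζ
    have e : (val n : G) * (u : G)⁻¹ = (cc n : G)⁻¹ * ((c : G) * ζ) := by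
      rw [hζ]
      have hzu := mem_center_iff.mp hz (u : G)
      calc (val n : G) * (u : G)⁻¹ = (cc n : G)⁻¹ * ((c : G) * u * ζ) * (u : G)⁻¹ := by rw [hζ]; group
        _ = (cc n : G)⁻¹ * ((c : G) * (ζ * u)) * (u : G)⁻¹ := by rw [mul_assoc (c : G), hzu]
        _ = _ := by rw [hζ]; group
    have hmem : (val n : G) * (u : G)⁻¹ ∈ D.W := ⟨D.U.mul_mem (val n).2 (D.U.inv_mem u.2), by
      rw [e]
      exact (fixedBy a).mul_mem ((fixedBy a).inv_mem (cc n).2.2)
        ((fixedBy a).mul_mem c.2.2 (M.center_le_fixed hz))⟩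
    have h1 := hW (val n * u⁻¹) hmem
    rw [map_mul, map_inv, mul_inv_eq_one] at h1
    exact h1
  let ψ : D.Nb →* A := MonoidHom.mk' (fun n => f (val n)) fun n n' => by
    have hu : ((cc n' : G))⁻¹ * (val n : G) * cc n' ∈ D.U := by
      simpa using D.conj_mem_U (inv_mem (cc n').2.1) (val n).2
    rw [key (n * n') (cc n * cc n') (⟨_, hu⟩ * val n') (by
      rw [Subgroup.coe_mul D.Nb n n', ← hval n, ← hval n', ← map_mul]
      congr 1
      simp only [Subgroup.coe_mul]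
      group), map_mul]
    congr 1
    rw [← hinv (cc n') ⟨_, hu⟩]
    exact congrArg f (Subtype.ext (by show _ * ((cc n' : G)⁻¹ * (val n : G) * cc n') * _ = _; group))
  have hyN : π (y : G) ∈ D.Nb := mem_map_of_mem π (D.U_le_N y.2)
  have hsq : π (y : G) * π (y : G) ∈ D.Wb := by
    rw [← map_mul]; exact mem_map_of_mem π (hsp.sq_mem y y.2)
  refine (M.frame D).false_of_transfer ψ hyN hsq (I.isolated _ hsq fun e => hy2 ?_) fun e => hy1 ?_
  · rw [← map_mul] at e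
    exact (QuotientGroup.eq_one_iff _).mp e
  · rw [← key ⟨_, hyN⟩ 1 y (by rw [Subgroup.coe_one, one_mul])]
    exact e

/-- A small subgroup containing all displacements by the fixed part of `N` contradicts isolation. -/
theorem two_false_of_line (h : Two ρ D r m z) (I : IsoData D.Nb D.Wb) {B : Subgroup G} (hWB : D.W ≤ B)
    (hBU : B ≤ D.U) (hB : Nat.card B ≤ 2 ^ (2 * m) * Nat.card D.W)
    (hcen : ∀ c : D.Gam, ∀ x ∈ D.U, ⁅(c : G), x⁆ ∈ B) : False := by
  have hn : (B.subgroupOf D.U).Normal :=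
    normal_subgroupOf_of_le_normalizer (le_normalizer_of_W_le h.shape.sp hWB hBU)
  let _ : CommGroup (D.U ⧸ B.subgroupOf D.U) :=
    { (inferInstance : Group (D.U ⧸ B.subgroupOf D.U)) with
      mul_comm := fun x y => by
        obtain ⟨x, rfl⟩ := QuotientGroup.mk_surjective x
        obtain ⟨y, rfl⟩ := QuotientGroup.mk_surjective y
        rw [← QuotientGroup.mk_mul, ← QuotientGroup.mk_mul, QuotientGroup.eq, mem_subgroupOf]
        refine hWB ?_
        have e : (((x * y)⁻¹ * (y * x) : D.U) : G) = ⁅(y : G)⁻¹, (x : G)⁻¹⁆ := by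
          simp [commutatorElement_def, mul_assoc]
        rw [e]
        exact h.shape.sp.comm_mem _ (inv_mem y.2) _ (inv_mem x.2) }
  refine M.two_false_of_hom h I (QuotientGroup.mk' (B.subgroupOf D.U))
    (fun x hx => (QuotientGroup.eq_one_iff x).mpr (mem_subgroupOf.mpr (hWB hx)))
    (fun c x => ?_) ?_
  · refine QuotientGroup.eq_iff_div_mem.mpr (mem_subgroupOf.mpr ?_)
    rw [div_eq_mul_inv]
    have h1 := hcen c x x.2
    rw [commutatorElement_def] at h1
    exact h1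
  · rw [QuotientGroup.ker_mk', Nat.card_congr (subgroupOfEquivOfLe hBU).toEquiv]
    exact hB

/-- Some element outside a small subgroup has central square. -/
theorem two_exists_zero (h : Two ρ D r m z) {B : Subgroup G}
    (hB : Nat.card B ≤ 2 ^ (2 * m) * Nat.card D.W) : ∃ u ∈ D.U, u ∉ B ∧ u * u ∈ center G := by
  classical
  by_contra hno
  push Not at hno
  have : Fintype D.U := Fintype.ofFinite _
  have : Fintype ((D.W ⧸ D.Zw) →* ℤˣ) := Fintype.ofFinite _
  let e : ((D.W ⧸ D.Zw) →* ℤˣ) → (D.W →* ℤˣ) := fun χ => χ.comp (QuotientGroup.mk' D.Zw)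
  have hsum : ∀ u : D.U, ∑ χ : (D.W ⧸ D.Zw) →* ℤˣ, (quad h.shape.sp (e χ) u : ℤ) =
      if (u : G) * u ∈ center G then (D.Zw.index : ℤ) else 0 := by
    intro u
    refine (M.sum_sign_nonneg M.Zw_sq (QuotientGroup.mk' D.Zw (sqW h.shape.sp u))).trans ?_
    exact if_congr ((QuotientGroup.eq_one_iff (sqW h.shape.sp u)).trans Iff.rfl) rfl rfl
  have h1 : ∑ u : D.U, ∑ χ : (D.W ⧸ D.Zw) →* ℤˣ, (quad h.shape.sp (e χ) u : ℤ) =
      (D.Zw.index : ℤ) * Nat.card {u : D.U // (u : G) * u ∈ center G} := by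
    rw [Finset.sum_congr rfl fun u _ => hsum u, Finset.sum_ite, Finset.sum_const_zero, add_zero,
      Finset.sum_const, nsmul_eq_mul, Nat.card_eq_fintype_card, Fintype.card_subtype]
    ring
  have h2 : ∀ χ : (D.W ⧸ D.Zw) →* ℤˣ, χ ∈ Finset.univ.erase 1 →
      ∑ u : D.U, (quad h.shape.sp (e χ) u : ℤ) = 2 ^ (2 * m) * Nat.card D.W := by
    intro χ hχ
    have hz : e χ z = 1 := by
      show χ (z : D.W ⧸ D.Zw) = 1
      rw [(QuotientGroup.eq_one_iff z).mpr h.center, map_one]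
    have hne : e χ ≠ 1 := fun he => Finset.ne_of_mem_erase hχ (MonoidHom.ext fun x => by
      obtain ⟨y, rfl⟩ := QuotientGroup.mk_surjective x
      exact DFunLike.congr_fun he y)
    rw [M.sum_quad_pos h.shape.pos h.shape.eq h.shape.sp (e χ) (M.two_idx h hz hne), M.two_rad_eq h hz hne]
  have h3 : ∑ u : D.U, (quad h.shape.sp (e 1) u : ℤ) = 2 ^ (2 * (2 * m)) * Nat.card D.W := by
    have : ∀ u : D.U, (quad h.shape.sp (e 1) u : ℤ) = 1 := fun u => rfl
    rw [Finset.sum_congr rfl fun u _ => this u, Finset.sum_const, Finset.card_univ, ← Nat.card_eq_fintype_card,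
      h.card, nsmul_eq_mul, mul_one]
    push_cast
    rfl
  rw [Finset.sum_comm, ← Finset.add_sum_erase _ _ (Finset.mem_univ (1 : (D.W ⧸ D.Zw) →* ℤˣ)), h3,
    Finset.sum_congr rfl h2, Finset.sum_const, Finset.card_erase_of_mem (Finset.mem_univ _), Finset.card_univ,
    ← Nat.card_eq_fintype_card, card_sign_characters M.Zw_sq, ← Subgroup.index_eq_card, nsmul_eq_mul,
    Nat.cast_sub (by have := M.two_index h; omega)] at h1
  have hle : Nat.card {u : D.U // (u : G) * u ∈ center G} ≤ Nat.card B :=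
    Nat.card_le_card_of_injective (fun u => ⟨u.1.1, by_contra fun hb => hno _ u.1.2 hb u.2⟩)
      fun x y he => Subtype.ext (Subtype.ext (congrArg (fun b : B => (b : G)) he))
  have h4 : (Nat.card {u : D.U // (u : G) * u ∈ center G} : ℤ) ≤ 2 ^ (2 * m) * Nat.card D.W := by
    exact_mod_cast hle.trans hB
  have h5 : (0 : ℤ) < Nat.card D.W := Nat.cast_pos.mpr Nat.card_pos
  have h6 : (2 : ℤ) ≤ 2 ^ (2 * m) := by
    have := Nat.pow_le_pow_right two_pos (show 1 ≤ 2 * m by have := h.shape.pos; omega)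
    exact_mod_cast this
  rw [two_mul (2 * m), pow_add] at h1
  push_cast at h1
  nlinarith [mul_le_mul_of_nonneg_left h4 (Nat.cast_nonneg (α := ℤ) D.Zw.index),
    mul_pos (mul_pos (lt_of_lt_of_le two_pos h6) (sub_pos.mpr (lt_of_lt_of_le one_lt_two h6))) h5]

/-- A moved pure involution makes the stabiliser of its class transitive. -/
theorem two_trans_of_moved (h : Two ρ D r m z) (I : IsoData D.Nb D.Wb) {γ u : G}
    (hγC : γ ∈ centralizer (D.U : Set G)) (hu : u ∈ D.U) (ht2 : γ * u * (γ * u) ∈ center G)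
    {g : G ⧸ center G} (hg : g ∉ D.Nb)
    (hgN : g * ((γ * u : G) : G ⧸ center G) * g⁻¹ ∈ D.Nb) :
    ∀ x y : D.W, x ∉ D.Zw → y ∉ D.Zw → ∃ c ∈ D.stabCls u, (D.conjW c x)⁻¹ * y ∈ D.Zw := by
  have hsp := h.shape.sp
  have hγa := M.centralizer_U_le_fixed D hγC
  have hγN := M.centralizer_U_le_N D hγC
  have htN : ((γ * u : G) : G ⧸ center G) ∈ D.Nb := (M.mem_Nb_iff D).mpr (mul_mem hγN (D.U_le_N hu))
  have ht2' : ((γ * u : G) : G ⧸ center G) * ((γ * u : G) : G ⧸ center G) = 1 := by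
    rw [← QuotientGroup.mk_mul]; exact (QuotientGroup.eq_one_iff _).mpr ht2
  intro x y hx hy
  have hne : ∀ w : D.W, w ∉ D.Zw → ((w : G) : G ⧸ center G) ≠ 1 := fun w hw e =>
    hw (mem_subgroupOf.mpr ((QuotientGroup.eq_one_iff _).mp e))
  have hcomm : ∀ w : D.W, Commute ((w : G) : G ⧸ center G) ((γ * u : G) : G ⧸ center G) := fun w =>
    ((M.commute_W_of_pure hγC hu w.2).map (QuotientGroup.mk' (center G))).symm
  obtain ⟨n, hn, hnt, hnw⟩ := I.exists_conj_commute h.wb htN ht2' (g := g⁻¹)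
    (fun he => hg (inv_mem_iff.mp he)) (by simpa using hgN) (mem_map_of_mem _ x.2) (hne x hx) (hcomm x)
    (mem_map_of_mem _ y.2) (hne y hy) (hcomm y)
  obtain ⟨n, rfl⟩ := QuotientGroup.mk_surjective n
  obtain ⟨e, he, u', hu', rfl⟩ := M.exists_fixed_mul D ((M.mem_Nb_iff D).mp hn)
  refine ⟨⟨e, he⟩, ?_, ?_⟩
  · have hz : (γ * u)⁻¹ * ((e * u') * (γ * u) * (e * u')⁻¹) ∈ center G := by
      rw [← QuotientGroup.eq_one_iff]
      have h1 : ((e * u' : G) : G ⧸ center G) * ((γ * u : G) : G ⧸ center G) =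
          ((γ * u : G) : G ⧸ center G) * ((e * u' : G) : G ⧸ center G) := hnt.eq
      simp only [QuotientGroup.mk_mul, QuotientGroup.mk_inv] at h1 ⊢
      rw [h1]
      group
    set ζ := (γ * u)⁻¹ * ((e * u') * (γ * u) * (e * u')⁻¹) with hζdef
    set w'' := ⁅u', u⁆ with hw''
    have hw''W : w'' ∈ D.W := hsp.comm_mem u' hu' u hu
    have hu'c : u' * γ = γ * u' := mem_centralizer_iff.mp hγC u' hu'
    have hk := M.conj_centralizer_U he.1 hγC
    have e1 : (e * u') * (γ * u) * (e * u')⁻¹ = (e * γ * e⁻¹) * (e * w'' * e⁻¹) * (e * u * e⁻¹) := by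
      calc (e * u') * (γ * u) * (e * u')⁻¹ = e * (u' * γ) * u * u'⁻¹ * e⁻¹ := by group
        _ = e * (γ * u') * u * u'⁻¹ * e⁻¹ := by rw [hu'c]
        _ = _ := by rw [hw'', commutatorElement_def]; group
    have e2 : ⁅e, u⁆ = ((e * γ * e⁻¹) * (e * w'' * e⁻¹))⁻¹ * (γ * ζ) := by
      have h5 : γ * u * ζ = (e * u') * (γ * u) * (e * u')⁻¹ := by rw [hζdef]; group
      rw [e1] at h5
      have h6 : e * u * e⁻¹ = ((e * γ * e⁻¹) * (e * w'' * e⁻¹))⁻¹ * (γ * (u * ζ)) := by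
        rw [← mul_assoc γ, h5]; group
      rw [commutatorElement_def, h6, mem_center_iff.mp hz u]
      group
    rw [UData.mem_stabCls]
    refine ⟨?_, ?_⟩
    · rw [commutatorElement_def]; exact D.U.mul_mem (D.conj_mem_U he.1 hu) (D.U.inv_mem hu)
    · show ⁅e, u⁆ ∈ fixedBy a
      rw [e2]
      exact (fixedBy a).mul_mem ((fixedBy a).inv_mem
          ((fixedBy a).mul_mem (M.centralizer_U_le_fixed D hk) (D.conj_mem_W he hw''W).2))
        ((fixedBy a).mul_mem hγa (M.center_le_fixed hz))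
  · have hux := hsp.fix_central x x.2 u' hu'
    rw [UData.Zw, mem_subgroupOf, Subgroup.coe_mul, Subgroup.coe_inv, UData.conjW_apply]
    refine QuotientGroup.eq.mp (Eq.trans ?_ hnw)
    show ((e * (x : G) * e⁻¹ : G) : G ⧸ center G) =
      ((e * u' : G) : G ⧸ center G) * ((x : G) : G ⧸ center G) * ((e * u' : G) : G ⧸ center G)⁻¹
    rw [← QuotientGroup.mk_inv, ← QuotientGroup.mk_mul, ← QuotientGroup.mk_mul]
    congr 1
    calc e * (x : G) * e⁻¹ = e * ((x : G) * u') * u'⁻¹ * e⁻¹ := by group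
      _ = e * (u' * (x : G)) * u'⁻¹ * e⁻¹ := by rw [hux]
      _ = _ := by group

end Cfg

end Cfsg.Agent.H24.Flav
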