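import Cfsg.Agent.H8.Shult.CnotLeN2Odd
import Cfsg.Agent.H24.Flav.CnotLeN2Base

/-!
Two constituents and a character with value `-1` on the centre fixed by the whole fixed part of `N`.

In the general configuration.
-/

set_option autoImplicit false
set_option linter.unusedSectionVars false

namespace Cfsg.Agent.H24.Flav

open Subgroup
open Cfsg.Agent.H8.Shult hiding Min
open scoped commutatorElement

universe u v w

variable {G : Type u} [Group G] [Finite G] {p r : ℕ} [hp : Fact p.Prime] {a : MulAut G}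
variable {k : Type w} [Field k] [CharP k p] {V : Type v} [AddCommGroup V] [Module k V]
variable [IsAlgClosed k] [FiniteDimensional k V]
variable {ρ : G →* Module.End k V} {T : Module.End k V}
variable {D : UData a}

namespace Cfg

variable (M : Cfg p r a ρ T) {m : ℕ} {z : D.W}
include M

/-- With a fixed affine character there are no translations. -/
theorem two_noTrans (h : Two ρ D r m z) {ν : D.W →* ℤˣ} (hν : ν z = -1) (hfix : ∀ c, D.act c ν = ν) :
    D.NoTrans := by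
  intro γ hγ htr
  refine M.two_centralizes_of_cls h (c := ⟨γ, hγ⟩) (M.clsPerm_eq_one_iff.mpr fun x => ?_) hν (hfix _)
  rw [UData.Zw, mem_subgroupOf, Subgroup.coe_mul, Subgroup.coe_inv, UData.conjW_apply]
  have h1 := htr _ (inv_mem x.2)
  rw [commutatorElement_def, inv_inv] at h1
  rw [show (γ * (x : G) * γ⁻¹)⁻¹ * x = γ * (x : G)⁻¹ * γ⁻¹ * x by group]
  exact h1

theorem two_isoData (h : Two ρ D r m z) {ν : D.W →* ℤˣ} (hν : ν z = -1) (hfix : ∀ c, D.act c ν = ν) :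
    IsoData D.Nb D.Wb :=
  M.isoData (M.allIso_of_pure h.shape (M.two_allPure h) (M.two_noTrans h hν hfix))

/-- An occurring fixed character: transfer to `U` modulo its radical. -/
theorem two_false_fixed_occ (h : Two ρ D r m z) {χ : D.W →* ℤˣ} (hχ : Occ ρ D χ)
    (hfix : ∀ c, D.act c χ = χ) : False :=
  M.two_false_of_line h (M.two_isoData h (M.two_occ_z h hχ) hfix) (W_le_rad h.shape.sp χ) (rad_le _ _)
    (M.two_rad_card h hχ).le fun c _ hx =>
      M.commutator_mem_rad h.shape.pos h.shape.eq h.shape.sp (h.shape.idx χ hχ) c (hfix c) hx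

/-- The stabiliser of a class outside `W` is not transitive when a non-occurring character is fixed. -/
theorem two_false_stab (h : Two ρ D r m z) (I : IsoData D.Nb D.Wb) {ν : D.W →* ℤˣ} (hν : ν z = -1)
    (hfix : ∀ c, D.act c ν = ν) (hocc : ¬ Occ ρ D ν) {u : G} (hu : u ∈ D.U) (huW : u ∉ D.W)
    (htr : ∀ x y : D.W, x ∉ D.Zw → y ∉ D.Zw → ∃ c ∈ D.stabCls u, (D.conjW c x)⁻¹ * y ∈ D.Zw) : False := by
  classical
  have hS := h.shape
  have hsp := hS.sp
  let X := {μ : D.W →* ℤˣ // Occ ρ D μ}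
  let θ := D.actPerm (Occ ρ D) fun c μ hμ => M.occ_act hμ c
  let θ' := θ.rangeRestrict
  obtain ⟨χ₁, χ₂, hχ₁, hχ₂, hrne⟩ := M.two_exists_pair h
  have hne12 : χ₁ ≠ χ₂ := fun e => hrne (by rw [e])
  have hθ : ∀ {c : D.Gam}, θ c = 1 ↔ (c : G) ∈ centralizer (D.U : Set G) := fun {c} =>
    M.two_actPerm_eq_one h _ (fun μ hμ => hμ) hχ₁ hχ₂ hne12
  have hne : ∀ μ, Occ ρ D μ → (ν * μ) z = 1 ∧ ν * μ ≠ 1 := fun μ hμ =>
    ⟨by rw [MonoidHom.mul_apply, hν, M.two_occ_z h hμ, Int.units_mul_self], fun e => hocc (by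
      rwa [show ν = μ by rw [← mul_one ν, ← char_mul_self μ, ← mul_assoc, e, one_mul]])⟩
  have htrH : ∀ H : Subgroup D.Gam,
      (∀ x y : D.W, x ∉ D.Zw → y ∉ D.Zw → ∃ c ∈ H, (D.conjW c x)⁻¹ * y ∈ D.Zw) →
      ∀ χ μ : D.W →* ℤˣ, Occ ρ D χ → μ z = -1 → μ ≠ ν → ∃ c ∈ H, D.act c χ = μ := by
    intro H hH χ μ hχ hμ hμν
    obtain ⟨c, hc, he⟩ := M.two_trans h H hH (hne χ hχ).1 (hne χ hχ).2
      (show (ν * μ) z = 1 by rw [MonoidHom.mul_apply, hν, hμ, Int.units_mul_self])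
      (fun e => hμν (by rw [← one_mul μ, ← e, mul_assoc, char_mul_self, mul_one]))
    rw [UData.act_mul, hfix] at he
    exact ⟨c, hc, mul_left_cancel he⟩
  -- the permutation group
  have hXne : ∀ x : X, x.1 ≠ ν := fun x e => hocc (e ▸ x.2)
  have hall : ∀ μ : D.W →* ℤˣ, μ z = -1 → μ ≠ ν → Occ ρ D μ := fun μ hμ hμν => by
    obtain ⟨c, -, rfl⟩ := htrH ⊤ (fun x y hx hy => (M.exists_conj_class (M.two_hA) h.notLe hx hy).imp
      fun c hc => ⟨mem_top c, hc⟩) χ₁ μ hχ₁ hμ hμν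
    exact M.occ_act hχ₁ c
  have hXcard : Nat.card X + 1 = D.Zw.index := by
    rw [← M.two_affine_card h]
    have : Fintype {μ : D.W →* ℤˣ // μ z = -1} := Fintype.ofFinite _
    have e : Nat.card X = Nat.card {x : {μ : D.W →* ℤˣ // μ z = -1} // x ≠ ⟨ν, hν⟩} :=
      Nat.card_congr
        { toFun := fun x => ⟨⟨x.1, M.two_occ_z h x.2⟩, fun e => hXne x (congrArg Subtype.val e)⟩
          invFun := fun x => ⟨x.1.1, hall _ x.1.2 fun e => x.2 (Subtype.ext e)⟩
          left_inv := fun _ => rfl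
          right_inv := fun _ => rfl }
    rw [e, Nat.card_eq_fintype_card, Nat.card_eq_fintype_card, Fintype.card_subtype_compl,
      Fintype.card_subtype_eq]
    have : 0 < Fintype.card {μ : D.W →* ℤˣ // μ z = -1} := Fintype.card_pos_iff.mpr ⟨⟨ν, hν⟩⟩
    omega
  have : Nonempty X := ⟨⟨χ₁, hχ₁⟩⟩
  have htwo := M.two_two_point h (fun c μ hμ => M.occ_act hμ c) fun μ hμ => hμ
  -- derangements come from the stabiliser of the class of `u`
  have hder : ∀ c : D.Gam, (∀ x : X, θ' c • x ≠ x) → ∃ d ∈ D.stabCls u, θ d = θ c := by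
    intro c hc
    obtain ⟨d, hd, he⟩ := mem_of_derangement htwo ((D.stabCls u).map θ') (fun x y => by
      obtain ⟨d, hd, he⟩ := htrH _ htr x.1 y.1 x.2 (M.two_occ_z h y.2) (hXne y)
      exact ⟨θ' d, mem_map_of_mem _ hd, Subtype.ext he⟩) hc
    exact ⟨d, hd, congrArg Subtype.val he⟩
  have hperm : ∀ c d : D.Gam, θ c = θ d → M.fixClass c ≤ M.fixClass d := fun c d he =>
    M.fixClass_le_of_permN_eq hS (Equiv.ext fun x => Subtype.ext (by
      rw [M.permN_apply, M.permN_apply, M.actN_of_eq _ c.2 (one_mem _) (mul_one _).symm,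
        M.actN_of_eq _ d.2 (one_mem _) (mul_one _).symm]
      exact congrArg Subtype.val (Equiv.ext_iff.mp he x)))
  let E : Subgroup G := D.U ⊓ ⨅ (c : D.Gam) (_ : ∀ x : X, θ' c • x ≠ x), M.fixClass c
  have hEmem : ∀ {y : G}, y ∈ E ↔ y ∈ D.U ∧ ∀ c : D.Gam, (∀ x : X, θ' c • x ≠ x) → y ∈ M.fixClass c := by
    intro y
    simp only [E, Subgroup.mem_inf, Subgroup.mem_iInf]
  have hEa : Inv a E := fun y hy => hEmem.mpr ⟨D.inv_U y (hEmem.mp hy).1,
    fun c hc => M.inv_fixClass c y ((hEmem.mp hy).2 c hc)⟩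
  have hEW : D.W ≤ E := fun y hy => hEmem.mpr ⟨hy.1, fun c _ => M.W_le_fixClass c hy⟩
  have hEU : E ≤ D.U := fun y hy => (hEmem.mp hy).1
  have huE : u ∈ E := hEmem.mpr ⟨hu, fun c hc => by
    obtain ⟨d, hd, he⟩ := hder c hc
    exact hperm d c he ⟨hu, UData.mem_stabCls.mp hd⟩⟩
  have hdex : ∃ c : D.Gam, ∀ x : X, θ' c • x ≠ x := by
    have : MulAction.IsPretransitive θ.range X := ⟨fun x y => by
      obtain ⟨d, -, he⟩ := htrH _ htr x.1 y.1 x.2 (M.two_occ_z h y.2) (hXne y)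
      exact ⟨θ' d, Subtype.ext he⟩⟩
    have h1 := card_derangements_eq (H := θ.range) (X := X) htwo
    have h2 : 2 ≤ Nat.card X := Finite.one_lt_card_iff_nontrivial.mpr
      ⟨⟨χ₁, hχ₁⟩, ⟨χ₂, hχ₂⟩, fun e => hne12 (congrArg Subtype.val e)⟩
    have : Nonempty {g : θ.range // ∀ x : X, g • x ≠ x} := (Nat.card_pos_iff.mp (by omega)).1
    obtain ⟨⟨_, c, rfl⟩, hc⟩ := Classical.arbitrary {g : θ.range // ∀ x : X, g • x ≠ x}
    exact ⟨c, hc⟩
  have hEne : E ≠ D.U := by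
    intro e
    obtain ⟨c, hc⟩ := hdex
    have hC := M.centralizes_of_fixClass hS c fun y hy => (hEmem.mp (e.symm ▸ hy : y ∈ E)).2 c hc
    exact hc ⟨χ₁, hχ₁⟩ (Subtype.ext (M.act_eq_of_centralizes hC χ₁))
  have hEcard := M.two_line_card h hEa hEW hEU (fun e => huW (e ▸ huE)) hEne
  have hEconj : ∀ d : D.Gam, ∀ y ∈ E, (d : G) * y * (d : G)⁻¹ ∈ E := by
    intro d y hy
    refine hEmem.mpr ⟨D.conj_mem_U d.2.1 (hEU hy), fun c hc => ⟨D.conj_mem_U d.2.1 (hEU hy), ?_⟩⟩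
    have h1 := (hEmem.mp hy).2 (d⁻¹ * c * d) fun x hx => hc (θ' d • x) (by
      rw [map_mul, map_mul, map_inv θ' d, mul_smul, mul_smul, inv_smul_eq_iff] at hx
      exact hx)
    have h2 := D.conj_mem_W d.2 h1.2
    have e : (d : G) * ⁅((d⁻¹ * c * d : D.Gam) : G), y⁆ * (d : G)⁻¹ = ⁅(c : G), (d : G) * y * (d : G)⁻¹⁆ := by
      simp [commutatorElement_def, mul_assoc]
    exact e ▸ h2
  have hErad : ∀ χ, Occ ρ D χ → E ⊓ rad hsp χ = D.W := by
    intro χ hχ
    refine M.two_line_inf_rad h hχ hEa hEW hEU hEcard fun e => ?_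
    obtain ⟨μ, hμ, hμne⟩ : ∃ μ, Occ ρ D μ ∧ μ ≠ χ := by
      by_cases hc : χ₁ = χ
      · exact ⟨χ₂, hχ₂, fun e' => hne12 (hc.trans e'.symm)⟩
      · exact ⟨χ₁, hχ₁, hc⟩
    obtain ⟨d, -, hd⟩ := htrH _ htr χ μ hχ (M.two_occ_z h hμ) fun e' => hocc (e' ▸ hμ)
    refine M.two_rad_ne h hμ hχ hμne (Subgroup.eq_of_le_of_card_ge ?_ ?_).symm.symm
    · intro y hy
      have hy' : (d : G)⁻¹ * y * d ∈ rad hsp χ := by
        refine (mem_rad_act hsp d χ).mp ?_
        rw [hd]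
        simpa [mul_assoc] using hy
      have h3 := hEconj d _ (e.symm ▸ hy' : (d : G)⁻¹ * y * d ∈ E)
      rw [e] at h3
      simpa [mul_assoc] using h3
    · rw [M.two_rad_card h hμ, M.two_rad_card h hχ]
  have hEfix : ∀ c : D.Gam, E ≤ M.fixClass c := by
    intro c
    by_cases hc : ∀ x : X, θ' c • x ≠ x
    · exact fun y hy => (hEmem.mp hy).2 c hc
    push Not at hc
    obtain ⟨⟨χ, hχ⟩, hx⟩ := hc
    intro y hy
    refine ⟨hEU hy, (hErad χ hχ).le ⟨?_, ?_⟩⟩
    · rw [commutatorElement_def]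
      exact E.mul_mem (hEconj c y hy) (E.inv_mem hy)
    · exact M.commutator_mem_rad hS.pos hS.eq hsp (hS.idx χ hχ) c (congrArg Subtype.val hx) (hEU hy)
  -- the action on `U` modulo `W` has odd order
  have hWn := M.W_normal_in_U (D := D)
  let Q := D.U ⧸ D.W.subgroupOf D.U
  let _ : CommGroup Q :=
    { (inferInstance : Group Q) with
      mul_comm := fun x y => by
        obtain ⟨x, rfl⟩ := QuotientGroup.mk_surjective x
        obtain ⟨y, rfl⟩ := QuotientGroup.mk_surjective y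
        rw [← QuotientGroup.mk_mul, ← QuotientGroup.mk_mul, QuotientGroup.eq, mem_subgroupOf]
        have e : (((x * y)⁻¹ * (y * x) : D.U) : G) = ⁅(y : G)⁻¹, (x : G)⁻¹⁆ := by
          simp [commutatorElement_def, mul_assoc]
        rw [e]
        exact hsp.comm_mem _ (inv_mem y.2) _ (inv_mem x.2) }
  let ψ : D.Gam →* MulAut D.U := (Subgroup.normalizerMonoidHom D.U).comp (Subgroup.inclusion inf_le_left)
  have hψW : ∀ c : D.Gam, (D.W.subgroupOf D.U).map (ψ c).toMonoidHom = D.W.subgroupOf D.U := by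
    intro c
    refine Subgroup.eq_of_le_of_card_ge ?_ (Subgroup.card_map_of_injective (ψ c).injective).ge
    rintro _ ⟨x, hx, rfl⟩
    exact mem_subgroupOf.mpr (D.conj_mem_W c.2 (mem_subgroupOf.mp hx))
  let κ : D.Gam →* MulAut Q :=
    { toFun := fun c => QuotientGroup.congr _ _ (ψ c) (hψW c)
      map_one' := MulEquiv.ext fun x => by
        obtain ⟨x, rfl⟩ := QuotientGroup.mk_surjective x
        show ((ψ 1 x : D.U) : Q) = _
        rw [map_one]
        rfl
      map_mul' := fun c d => MulEquiv.ext fun x => by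
        obtain ⟨x, rfl⟩ := QuotientGroup.mk_surjective x
        show ((ψ (c * d) x : D.U) : Q) = ((ψ c (ψ d x) : D.U) : Q)
        rw [map_mul]
        rfl }
  have hκfix : ∀ (c : D.Gam) (x : D.U), κ c (x : Q) = (x : Q) ↔ ⁅(c : G), (x : G)⁆ ∈ D.W := by
    intro c x
    show ((ψ c x : D.U) : Q) = (x : Q) ↔ _
    rw [eq_comm, QuotientGroup.eq, mem_subgroupOf]
    show (x : G)⁻¹ * ((c : G) * x * (c : G)⁻¹) ∈ D.W ↔ _
    have e1 : ⁅(c : G), (x : G)⁆ = (x : G) * ((x : G)⁻¹ * ((c : G) * x * (c : G)⁻¹)) * (x : G)⁻¹ := by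
      rw [commutatorElement_def]; group
    refine ⟨fun hw => ?_, fun hw => ?_⟩
    · rw [e1, ← hsp.fix_central _ hw x x.2, mul_inv_cancel_right]; exact hw
    · have e2 : (x : G)⁻¹ * ((c : G) * x * (c : G)⁻¹) = (x : G)⁻¹ * ⁅(c : G), (x : G)⁆ * x := by
        rw [commutatorElement_def]; group
      rw [e2, ← hsp.fix_central _ hw _ (inv_mem x.2), inv_mul_cancel_right]; exact hw
  have hκ : ∀ {c : D.Gam}, κ c = 1 → (c : G) ∈ centralizer (D.U : Set G) := fun {c} hc =>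
    M.centralizes_of_trivial hS c fun x hx => (hκfix c ⟨x, hx⟩).mp (by rw [hc]; rfl)
  have hκ' : ∀ {c : D.Gam}, (c : G) ∈ centralizer (D.U : Set G) → κ c = 1 := fun {c} hc =>
    MulEquiv.ext fun q => by
      obtain ⟨x, rfl⟩ := QuotientGroup.mk_surjective q
      refine (hκfix c x).mpr ?_
      rw [commutatorElement_eq_one_iff_mul_comm.mpr (mem_centralizer_iff.mp hc x x.2).symm]
      exact one_mem _
  have hodd : Odd (Nat.card κ.range) := by
    by_contra heven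
    have : Fact (Nat.Prime 2) := ⟨Nat.prime_two⟩
    obtain ⟨⟨_, c, rfl⟩, ho⟩ := exists_prime_orderOf_dvd_card' (G := κ.range) 2
      (Nat.not_odd_iff_even.mp heven).two_dvd
    replace ho : orderOf (κ c) = 2 := (Subgroup.orderOf_mk _ _).symm.trans ho
    have hcc : (c : G) * c ∈ centralizer (D.U : Set G) := by
      refine hκ (c := c * c) ?_
      rw [map_mul, ← pow_two, ← ho, pow_orderOf_eq_one]
    have hθcc : θ c * θ c = 1 := by rw [← map_mul]; exact hθ.mpr hcc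
    have hne1 : κ c ≠ 1 := fun e => by rw [e, orderOf_one] at ho; omega
    obtain ⟨d, hd0, hd⟩ := M.two_index_pow h
    have hXodd : ¬ 2 ∣ Nat.card X := by
      have hev : 2 ∣ Nat.card X + 1 := hXcard.trans hd ▸ dvd_pow_self 2 hd0.ne'
      omega
    have hp2 : IsPGroup 2 (zpowers (θ c)) := by
      refine fun g => ⟨1, Subtype.ext ?_⟩
      obtain ⟨i, hi⟩ := mem_zpowers_iff.mp g.2
      show (g : Equiv.Perm X) ^ (2 ^ 1) = 1
      rw [← hi, pow_one, ← zpow_natCast, zpow_comm, zpow_natCast, pow_two, hθcc, one_zpow]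
    obtain ⟨⟨χ, hχ⟩, hx⟩ := hp2.nonempty_fixed_point_of_prime_not_dvd_card X hXodd
    have hcχ : D.act c χ = χ := congrArg Subtype.val (hx ⟨θ c, mem_zpowers _⟩)
    have hnle : ¬ D.U ≤ M.fixClass c := fun hle => hne1 (hκ' (M.centralizes_of_fixClass hS c hle))
    obtain ⟨hKcard, himg, -⟩ := M.two_shear h hcc hnle
    have hKE : E = M.fixClass c := Subgroup.eq_of_le_of_card_ge (hEfix c) (by rw [hKcard, hEcard])
    refine hne1 (hκ' (M.centralizes_of_trivial hS c fun x hx => (hErad χ hχ).le ⟨?_, ?_⟩))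
    · rw [hKE]; exact himg x hx
    · exact M.commutator_mem_rad hS.pos hS.eq hsp (hS.idx χ hχ) c hcχ hx
  -- transfer
  have : Fintype κ.range := Fintype.ofFinite _
  let f : D.U →* Q := MonoidHom.mk' (fun x => ∏ σ : κ.range, (σ : MulAut Q) (x : Q)) fun x y => by
    rw [← Finset.prod_mul_distrib]
    exact Finset.prod_congr rfl fun σ _ => by rw [QuotientGroup.mk_mul, map_mul]
  have hfE : ∀ x : D.U, (x : G) ∈ E → f x = (x : Q) := by
    intro x hx
    show ∏ σ : κ.range, (σ : MulAut Q) (x : Q) = _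
    have hc : ∀ σ : κ.range, (σ : MulAut Q) (x : Q) = (x : Q) := by
      rintro ⟨_, c, rfl⟩
      exact (hκfix c x).mpr (hEfix c hx).2
    rw [Finset.prod_congr rfl fun σ _ => hc σ, Finset.prod_const, Finset.card_univ, ← Nat.card_eq_fintype_card]
    obtain ⟨j, hj⟩ := hodd
    rw [hj, pow_succ, pow_mul, show (x : Q) ^ 2 = 1 by
      rw [pow_two, ← QuotientGroup.mk_mul, QuotientGroup.eq_one_iff, mem_subgroupOf]
      exact hsp.sq_mem x x.2, one_pow, one_mul]
  refine M.two_false_of_hom h I f (fun x hx => (hfE x (hEW hx)).trans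
    ((QuotientGroup.eq_one_iff x).mpr (mem_subgroupOf.mpr hx))) (fun c x => ?_) ?_
  · show ∏ σ : κ.range, (σ : MulAut Q) _ = ∏ σ : κ.range, (σ : MulAut Q) (x : Q)
    refine Fintype.prod_equiv (Equiv.mulRight (⟨κ c, c, rfl⟩ : κ.range)) _ _ fun σ => ?_
    rfl
  · let ι : E →* Q := (QuotientGroup.mk' (D.W.subgroupOf D.U)).comp (inclusion hEU)
    have hι : ι.range ≤ f.range := by
      rintro _ ⟨x, rfl⟩
      exact ⟨inclusion hEU x, hfE _ x.2⟩
    have hιk : ι.ker = D.W.subgroupOf E := by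
      ext x
      rw [MonoidHom.mem_ker, mem_subgroupOf]
      exact (QuotientGroup.eq_one_iff _).trans mem_subgroupOf
    have h1 := ι.ker.card_mul_index
    rw [Subgroup.index_ker, hιk, Nat.card_congr (subgroupOfEquivOfLe hEW).toEquiv, hEcard, mul_comm] at h1
    have hr : 2 ^ (2 * m) ≤ Nat.card f.range := by
      rw [← Nat.eq_of_mul_eq_mul_right Nat.card_pos h1]
      exact Nat.le_of_dvd Nat.card_pos (card_dvd_of_le hι)
    have h2 := f.ker.card_mul_index
    rw [Subgroup.index_ker, h.card, two_mul (2 * m), pow_add, mul_assoc] at h2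
    refine Nat.le_of_mul_le_mul_left (le_trans ?_ h2.le) (Nat.two_pow_pos (2 * m))
    rw [mul_comm (2 ^ (2 * m))]
    exact Nat.mul_le_mul_left _ hr

/-- A fixed affine character that does not occur is impossible. -/
theorem two_false_fixed_not_occ (h : Two ρ D r m z) {ν : D.W →* ℤˣ} (hν : ν z = -1)
    (hfix : ∀ c, D.act c ν = ν) (hocc : ¬ Occ ρ D ν) : False := by
  have I := M.two_isoData h hν hfix
  let π := QuotientGroup.mk' (center G)
  let P : G ⧸ center G → Prop := fun t => t * t = 1 ∧ t ∉ D.Wb ∧ ∃ x, D.Pure x ∧ π x = t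
  obtain ⟨w, hw, hw1⟩ := D.Wb.bot_or_exists_ne_one.resolve_left h.wb
  obtain ⟨u, hu, huW, hu2⟩ := M.two_exists_zero h (B := D.W) (Nat.le_mul_of_pos_left _ (Nat.two_pow_pos _))
  have hπu : π u * π u = 1 := by rw [← map_mul]; exact (QuotientGroup.eq_one_iff _).mpr hu2
  have huWb : π u ∉ D.Wb := fun hm => huW ⟨hu, by
    obtain ⟨x, hx, z', hz', e⟩ := M.exists_of_mem_Wb D hm
    rw [e]
    exact (fixedBy a).mul_mem hx.2 (M.center_le_fixed hz')⟩
  refine I.false_of_class (M.frame D).N_ne_top hw hw1 P (fun t ht => ht.1) ?_ (fun t ht => ht.2.1) ?_ ?_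
    (δ := π u) (mem_map_of_mem π (D.U_le_N hu))
    ⟨hπu, huWb, u, ⟨D.U_le_N hu, fun x hx => h.shape.sp.comm_mem u hu x hx⟩, rfl⟩
  · rintro t ⟨ht2, htW, x, hx, rfl⟩ n hn
    refine ⟨conj_mul_self ht2, fun hm => htW (by simpa [mul_assoc] using I.conj_mem_W hm (inv_mem hn)), ?_⟩
    obtain ⟨n, hn', rfl⟩ := hn
    refine ⟨n * x * n⁻¹, ⟨mul_mem (mul_mem hn' hx.1) (inv_mem hn'), fun y hy => ?_⟩, by simp [π]⟩
    have hy' : n⁻¹ * y * n ∈ D.U := by simpa using D.conj_mem_U (inv_mem hn') hy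
    have e : ⁅n * x * n⁻¹, y⁆ = n * ⁅x, n⁻¹ * y * n⁆ * n⁻¹ := by simp [commutatorElement_def, mul_assoc]
    rw [e]
    exact M.conj_mem_W_of_mem_N hn' (hx.2 _ hy')
  · rintro t ⟨ht2, htW, x, hx, rfl⟩ - g hg
    by_contra hgN
    obtain ⟨γ, -, hγC, u', hu', rfl⟩ := M.exists_of_pure h.shape hx
    have hx2 : γ * u' * (γ * u') ∈ center G := by
      rw [← map_mul] at ht2; exact (QuotientGroup.eq_one_iff _).mp ht2
    by_cases hu'W : u' ∈ D.W
    · exact htW (M.invol_centralizer_mem_Wb M.two_hA h.notLe h.wb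
        (mul_mem hγC (M.W_le_centralizer_U hu'W)) hx2)
    exact M.two_false_stab h I hν hfix hocc hu' hu'W (M.two_trans_of_moved h I hγC hu' hx2 hgN hg)
  · rintro w' hw' t ⟨ht2, htW, x, hx, rfl⟩ hc
    refine ⟨by rw [hc.symm.mul_mul_mul_comm, I.W_sq w' hw', one_mul, ht2],
      fun hm => htW ((D.Wb.mul_mem_cancel_left hw').mp hm), ?_⟩
    obtain ⟨v, hv, rfl⟩ := hw'
    refine ⟨v * x, ⟨mul_mem (D.W_le_N hv) hx.1, fun y hy => ?_⟩, map_mul π v x⟩
    rw [show ⁅v * x, y⁆ = v * ⁅x, y⁆ * v⁻¹ * ⁅v, y⁆ by simp [commutatorElement_def, mul_assoc]]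
    exact mul_mem (mul_mem (mul_mem hv (hx.2 y hy)) (inv_mem hv)) (h.shape.sp.comm_mem v hv.1 y hy)

end Cfg

end Cfsg.Agent.H24.Flav
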