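import Cfsg.Agent.H8.Shult.CnotLeN2Trans
import Cfsg.Agent.H24.Flav.CnotLeN2Base

/-!
Two constituents, all characters with value `-1` on the centre occurring and permuted transitively:
translations, their common axis, isolation and the contradiction.

In the general configuration.
-/

set_option autoImplicit false
set_option linter.unusedSectionVars false

namespace Cfsg.Agent.H24.Flav

open Subgroup
open Cfsg.Agent.H8.Shult hiding Min
open scoped commutatorElement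

universe u v w

variable {G : Type u} [Group G] [Finite G] {p r : ℕ} [hp : Fact p.Prime] {a : MulAut G}
variable {k : Type w} [Field k] [CharP k p] {V : Type v} [AddCommGroup V] [Module k V]
variable [IsAlgClosed k] [FiniteDimensional k V]
variable {ρ : G →* Module.End k V} {T : Module.End k V}
variable {D : UData a}

namespace Cfg

variable (M : Cfg p r a ρ T) {m : ℕ} {z : D.W}
include M

/-- Transitivity on all affine characters comes from translations, which absorb the two-elements. -/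
theorem two_translations (h : Two ρ D r m z) (hall : ∀ μ : D.W →* ℤˣ, μ z = -1 → Occ ρ D μ)
    (htr : ∀ χ μ, Occ ρ D χ → Occ ρ D μ → ∃ c, D.act c χ = μ) :
    (∀ χ μ, Occ ρ D χ → Occ ρ D μ → ∃ c, M.clsPerm c = 1 ∧ D.act c χ = μ) ∧
      ∀ (c : D.Gam) (j : ℕ), ((c ^ 2 ^ j : D.Gam) : G) ∈ centralizer (D.U : Set G) → M.clsPerm c = 1 := by
  classical
  by_cases hq : D.Zw.index = 2
  · have hone : ∀ c, M.clsPerm c = 1 := fun c => M.clsPerm_eq_one_iff.mpr fun x => by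
      refine (Subgroup.mul_mem_iff_of_index_two hq).mpr ?_
      rw [inv_mem_iff]
      by_cases hx : x ∈ D.Zw
      · exact iff_of_true (by rw [M.conjW_of_mem_Zw c hx]; exact hx) hx
      · refine iff_of_false (fun hc => hx ?_) hx
        have h1 := M.conjW_of_mem_Zw c⁻¹ hc
        rw [← MulAut.mul_apply, ← map_mul, inv_mul_cancel, map_one, MulAut.one_apply] at h1
        exact h1.symm ▸ hc
    exact ⟨fun χ μ hχ hμ => (htr χ μ hχ hμ).imp fun c hc => ⟨hone c, hc⟩, fun c _ _ => hone c⟩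
  obtain ⟨d, hd0, hd⟩ := M.two_index_pow h
  let X := {μ : D.W →* ℤˣ // Occ ρ D μ}
  let θ := D.actPerm (Occ ρ D) fun c μ hμ => M.occ_act hμ c
  let θ' := θ.rangeRestrict
  obtain ⟨χ₁, χ₂, hχ₁, hχ₂, hrne⟩ := M.two_exists_pair h
  have hne12 : χ₁ ≠ χ₂ := fun e => hrne (by rw [e])
  have hθ : ∀ {c : D.Gam}, θ c = 1 ↔ (c : G) ∈ centralizer (D.U : Set G) := fun {c} =>
    M.two_actPerm_eq_one h _ (fun μ hμ => hμ) hχ₁ hχ₂ hne12
  have htwo := M.two_two_point h (fun c μ hμ => M.occ_act hμ c) fun μ hμ => hμ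
  let x₀ : X := ⟨χ₁, hχ₁⟩
  have : MulAction.IsPretransitive θ.range X := ⟨fun x y => by
    obtain ⟨c, hc⟩ := htr x.1 y.1 x.2 y.2
    exact ⟨θ' c, Subtype.ext hc⟩⟩
  have hXcard : Nat.card X = 2 ^ d := by
    rw [← hd, ← M.two_affine_card h]
    exact Nat.card_congr (Equiv.subtypeEquivRight fun μ => ⟨M.two_occ_z h, hall μ⟩)
  have hker : θ.ker ≤ M.clsPerm.ker := fun c hc =>
    MonoidHom.mem_ker.mpr (M.clsPerm_of_centralizes (hθ.mp (MonoidHom.mem_ker.mp hc)))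
  have hst : MulAction.stabilizer θ.range x₀ ≠ ⊥ := by
    intro e
    have h1 := MulAction.index_stabilizer_of_transitive (G := θ.range) x₀
    rw [e, Subgroup.index_bot, hXcard] at h1
    have h2 := M.two_sub_one_dvd h θ hker
    rw [h1, hd] at h2
    have h3 : (2 ^ d - 1).Coprime (2 ^ d) :=
      Nat.Coprime.symm ((Nat.coprime_self_sub_right Nat.one_le_two_pow).mpr (Nat.coprime_one_right _))
    have h4 := Nat.eq_one_of_dvd_coprimes h3 dvd_rfl h2
    omega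
  obtain ⟨K, hKn, hK2, -, hKsr, hKcard⟩ := exists_semiregular_two_kernel htwo x₀ hst
    (hXcard ▸ Nat.even_pow.mpr ⟨even_two, hd0.ne'⟩)
  have := hKn
  have hKc := hKcard d hXcard
  have : Fact (Nat.Prime 2) := ⟨Nat.prime_two⟩
  have hKt : ∀ c ∈ K.comap θ', M.clsPerm c = 1 := M.two_cls_of_normal h (K.comap θ') fun c hc => by
    obtain ⟨j, hj⟩ := hK2 ⟨θ' c, hc⟩
    have e : θ' c ^ 2 ^ j = 1 := congrArg Subtype.val hj
    rw [← map_pow] at e
    exact ⟨j, hθ.mp (congrArg Subtype.val e)⟩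
  have hKtr : ∀ x y : X, ∃ g ∈ K, g • x = y := by
    intro x y
    have hinj : Function.Injective fun g : K => (g : θ.range) • x := fun g g' e => by
      by_contra hne
      refine hKsr _ (K.mul_mem (K.inv_mem g'.2) g.2) (fun e1 => hne (Subtype.ext (inv_mul_eq_one.mp e1).symm)) x ?_
      rw [mul_smul, show (g : θ.range) • x = (g' : θ.range) • x from e, inv_smul_smul]
    obtain ⟨g, hg⟩ := ((Nat.bijective_iff_injective_and_card _).mpr ⟨hinj, hKc⟩).2 y
    exact ⟨g, g.2, hg⟩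
  refine ⟨fun χ μ hχ hμ => ?_, fun c j hc => hKt c ?_⟩
  · obtain ⟨⟨_, c, rfl⟩, hg, he⟩ := hKtr ⟨χ, hχ⟩ ⟨μ, hμ⟩
    exact ⟨c, hKt c hg, congrArg Subtype.val he⟩
  · have hp : IsPGroup 2 (zpowers (θ' c)) := by
      intro g
      obtain ⟨i, hi⟩ := mem_zpowers_iff.mp g.2
      refine ⟨j, Subtype.ext ?_⟩
      show (g : θ.range) ^ 2 ^ j = 1
      rw [← hi, ← zpow_natCast, zpow_comm, zpow_natCast, ← map_pow,
        show θ' (c ^ 2 ^ j) = 1 from Subtype.ext (hθ.mpr hc), one_zpow]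
    have hL := hK2.to_sup_of_normal_left hp
    obtain ⟨g, hg, hgx⟩ := hKtr x₀ (θ' c • x₀)
    have hgL : g⁻¹ * θ' c ∈ K ⊔ zpowers (θ' c) :=
      mul_mem (inv_mem (mem_sup_left hg)) (mem_sup_right (mem_zpowers _))
    have hfix : (g⁻¹ * θ' c) • x₀ = x₀ := by rw [mul_smul, ← hgx, inv_smul_smul]
    have hp' : IsPGroup 2 (zpowers (g⁻¹ * θ' c)) := hL.to_le (zpowers_le.mpr hgL)
    have hfix' : x₀ ∈ MulAction.fixedPoints (zpowers (g⁻¹ * θ' c)) X := by
      rintro ⟨s, hs⟩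
      exact MulAction.mem_stabilizer_iff.mp
        ((zpowers_le (H := MulAction.stabilizer θ.range x₀)).mpr (MulAction.mem_stabilizer_iff.mpr hfix) hs)
    obtain ⟨x, hx, hxne⟩ := hp'.exists_fixed_point_of_prime_dvd_card_of_fixed_point X
      (hXcard ▸ dvd_pow_self 2 hd0.ne') hfix'
    have h1 := htwo _ x₀ x hxne hfix (hx ⟨_, mem_zpowers _⟩)
    show θ' c ∈ K
    rw [← inv_mul_eq_one.mp h1]
    exact hg

/-- The common axis of the translations. -/
theorem two_axis (h : Two ρ D r m z) (hall : ∀ μ : D.W →* ℤˣ, μ z = -1 → Occ ρ D μ)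
    (ht : ∀ χ μ, Occ ρ D χ → Occ ρ D μ → ∃ c, M.clsPerm c = 1 ∧ D.act c χ = μ) :
    ∃ E, Axis2 D m E := by
  classical
  have hS := h.shape
  have hsp := hS.sp
  obtain ⟨χ₁, χ₂, hχ₁, hχ₂, hrne⟩ := M.two_exists_pair h
  have hz1 := M.two_occ_z h hχ₁
  have hactz : ∀ c, D.act c χ₁ z = -1 := fun c => by rw [M.two_act_z h]; exact hz1
  have hsq : ∀ c, M.clsPerm c = 1 → (c : G) * c ∈ centralizer (D.U : Set G) := fun c hc =>
    M.two_centralizes_of_cls h (c := c * c) (by rw [map_mul, hc, mul_one]) hz1 (by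
      rw [← UData.act_act, M.two_act_translation h hc hz1 (hactz c)]
      rw [mul_comm χ₁, ← mul_assoc, char_mul_self, one_mul])
  obtain ⟨τ, hτ, hτ12⟩ := ht χ₁ χ₂ hχ₁ hχ₂
  have hτne : ∀ {μ : D.W →* ℤˣ}, μ z = -1 → D.act τ μ ≠ μ := fun {μ} hμ e => hrne (by
    rw [← hτ12, M.act_eq_of_centralizes (M.two_centralizes_of_cls h hτ hμ e)])
  have hnle : ¬ D.U ≤ M.fixClass τ := fun e =>
    hτne hz1 (M.act_eq_of_centralizes (M.centralizes_of_fixClass hS τ e) χ₁)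
  obtain ⟨hEcard, hEimg, -⟩ := M.two_shear h (hsq τ hτ) hnle
  -- translations fix every class on the axis
  have hfixT : ∀ c : D.Gam, M.clsPerm c = 1 → M.fixClass τ ≤ M.fixClass c := by
    intro c hc x hx
    by_cases hcU : D.U ≤ M.fixClass c
    · exact hcU hx.1
    obtain ⟨-, hcimg, -⟩ := M.two_shear h (hsq c hc) hcU
    have hk : (((τ * c) * (c * τ)⁻¹ : D.Gam) : G) ∈ centralizer (D.U : Set G) := by
      refine M.two_centralizes_of_cls h (by rw [map_mul, map_inv, map_mul, map_mul, hc, hτ]; simp)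
        (hν := hactz (c * τ)) ?_
      rw [UData.act_act, inv_mul_cancel_right, ← D.act_act τ c χ₁, ← D.act_act c τ χ₁,
        M.two_act_translation h hτ hz1 (hactz c), M.two_act_translation h hc hz1 (hactz τ)]
      rw [mul_comm χ₁ (D.act τ χ₁), mul_left_comm, mul_comm (D.act c χ₁) χ₁]
    set κ := ((τ * c) * (c * τ)⁻¹ : D.Gam) with hκ
    have hyU : (c : G) * x * (c : G)⁻¹ ∈ D.U := D.conj_mem_U c.2.1 hx.1
    have hcW := D.conj_mem_W c.2 hx.2
    have hmem : (c : G) * x * (c : G)⁻¹ ∈ M.fixClass τ := by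
      refine ⟨hyU, ?_⟩
      have e : (τ : G) * ((c : G) * x * (c : G)⁻¹) * (τ : G)⁻¹ =
          (κ : G) * (((c : G) * ⁅(τ : G), x⁆ * (c : G)⁻¹) * ((c : G) * x * (c : G)⁻¹)) * (κ : G)⁻¹ := by
        rw [hκ, commutatorElement_def]
        simp only [Subgroup.coe_mul, Subgroup.coe_inv]
        group
      rw [← mem_centralizer_iff.mp hk _ (D.U.mul_mem hcW.1 hyU), mul_inv_cancel_right] at e
      rw [commutatorElement_def (τ : G) ((c : G) * x * (c : G)⁻¹), e, mul_inv_cancel_right]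
      exact hcW
    have hcx : ⁅(c : G), x⁆ ∈ M.fixClass τ ⊓ M.fixClass c := ⟨by
      rw [commutatorElement_def]; exact (M.fixClass τ).mul_mem hmem ((M.fixClass τ).inv_mem hx),
      hcimg x hx.1⟩
    rcases M.two_line_eq h (M.fixClass_le τ) hEcard ((M.inv_fixClass τ).inf (M.inv_fixClass c))
      (le_inf (M.W_le_fixClass τ) (M.W_le_fixClass c)) inf_le_left with e | e
    · exact ⟨hx.1, e.le hcx⟩
    · exact inf_eq_left.mp e hx
  set E := M.fixClass τ with hE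
  have hEconj : ∀ d : D.Gam, ∀ x ∈ E, (d : G) * x * (d : G)⁻¹ ∈ E := by
    intro d x hx
    refine ⟨D.conj_mem_U d.2.1 hx.1, ?_⟩
    have hd : M.clsPerm (d⁻¹ * τ * d) = 1 := by rw [map_mul, map_mul, hτ, mul_one, ← map_mul, inv_mul_cancel, map_one]
    have h1 := D.conj_mem_W d.2 (hfixT _ hd hx).2
    have e : (d : G) * ⁅((d⁻¹ * τ * d : D.Gam) : G), x⁆ * (d : G)⁻¹ = ⁅(τ : G), (d : G) * x * (d : G)⁻¹⁆ := by
      simp [commutatorElement_def, mul_assoc]
    exact e ▸ h1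
  have hErad : ∀ χ, Occ ρ D χ → E ⊓ rad hsp χ = D.W := by
    intro χ hχ
    refine M.two_line_inf_rad h hχ (M.inv_fixClass τ) (M.W_le_fixClass τ) (M.fixClass_le τ) hEcard fun e => ?_
    refine M.two_rad_ne h hχ (M.occ_act hχ τ) (fun e' => hτne (M.two_occ_z h hχ) e'.symm)
      (Subgroup.eq_of_le_of_card_ge (fun y hy => ?_) (card_rad_act _ _ _).le)
    have h1 := hEconj τ⁻¹ y (e.symm ▸ hy)
    rw [e, Subgroup.coe_inv, inv_inv] at h1
    have h2 := (mem_rad_act hsp τ χ).mpr h1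
    simpa [mul_assoc] using h2
  have hfix : ∀ c : D.Gam, ∀ x ∈ E, ⁅(c : G), x⁆ ∈ D.W := by
    intro c x hx
    obtain ⟨t, htc, htχ⟩ := ht χ₁ (D.act c χ₁) hχ₁ (M.occ_act hχ₁ c)
    set s := t⁻¹ * c with hs
    have hsfix : D.act s χ₁ = χ₁ := by rw [hs, ← UData.act_act, ← htχ, UData.act_act, inv_mul_cancel, UData.act_one]
    have hsx : ⁅(s : G), x⁆ ∈ D.W := (hErad χ₁ hχ₁).le ⟨by
      rw [commutatorElement_def]; exact E.mul_mem (hEconj s x hx) (E.inv_mem hx),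
      M.commutator_mem_rad hS.pos hS.eq hsp (hS.idx χ₁ hχ₁) s hsfix hx.1⟩
    have e : ⁅(c : G), x⁆ = (t : G) * ⁅(s : G), x⁆ * (t : G)⁻¹ * ⁅(t : G), x⁆ := by
      simp [hs, commutatorElement_def, mul_assoc]
    rw [e]
    exact mul_mem (D.conj_mem_W t.2 hsx) (hfixT t htc hx).2
  -- fixed elements of `W`
  have hcen : ∀ w : D.W, (∀ c : D.Gam, M.clsPerm c = 1 → D.conjW c w = w) → w ∈ D.Zw := by
    intro w hw
    by_contra hwZ
    obtain ⟨ε, hε, hεw⟩ := M.two_exists_char h hwZ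
    have hμ : Occ ρ D (χ₁ * ε) := hall _ (by rw [MonoidHom.mul_apply, hz1, hε, mul_one])
    obtain ⟨c, hc, he⟩ := ht χ₁ _ hχ₁ hμ
    have h1 := DFunLike.congr_fun he w
    rw [UData.act_apply, hw _ (by rw [map_inv, hc, inv_one]), MonoidHom.mul_apply] at h1
    exact hεw (mul_eq_left.mp h1.symm)
  have z1 : ∀ (w₁ : D.W) (y : D.U), commW hsp ⟨w₁, w₁.2.1⟩ y = 1 := fun w₁ y => Subtype.ext
    (commutatorElement_eq_one_iff_mul_comm.mpr (hsp.fix_central w₁ w₁.2 y y.2))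
  have z2 : ∀ (w₂ : D.W) (y : D.U), commW hsp y ⟨w₂, w₂.2.1⟩ = 1 := fun w₂ y => Subtype.ext
    (commutatorElement_eq_one_iff_mul_comm.mpr (hsp.fix_central w₂ w₂.2 y y.2).symm)
  refine ⟨E, M.inv_fixClass τ, M.W_le_fixClass τ, M.fixClass_le τ, hEcard, hfix, fun c hc x hx => ?_,
    fun e he => ?_, fun e he f hf => ?_⟩
  · by_cases hcU : D.U ≤ M.fixClass c
    · exact M.W_le_fixClass τ (hcU hx).2
    have hc' := M.clsPerm_eq_one_iff.mpr hc
    obtain ⟨hccard, hcimg, -⟩ := M.two_shear h (hsq c hc') hcU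
    exact (Subgroup.eq_of_le_of_card_ge (hfixT c hc') (by rw [hccard, hEcard])).symm.le (hcimg x hx)
  · refine mem_subgroupOf.mp (hcen (sqW hsp ⟨e, he.1⟩) fun c hc => ?_)
    rw [← sqW_conj hsp c ⟨e, he.1⟩,
      show (⟨(c : G) * e * (c : G)⁻¹, D.conj_mem_U c.2.1 he.1⟩ : D.U) =
        ⟨⁅(c : G), e⁆, (hfix c e he).1⟩ * ⟨e, he.1⟩ from Subtype.ext (by
        show (c : G) * e * (c : G)⁻¹ = ⁅(c : G), e⁆ * e; simp [commutatorElement_def, mul_assoc]), sqW_mul, z1 ⟨_, hfix c e he⟩, mul_one,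
      show sqW hsp ⟨⁅(c : G), e⁆, (hfix c e he).1⟩ = 1 from Subtype.ext (hsp.fix_sq _ (hfix c e he)), one_mul]
  · refine mem_subgroupOf.mp (hcen (commW hsp ⟨e, he.1⟩ ⟨f, hf.1⟩) fun c hc => ?_)
    rw [← commW_conj hsp c ⟨e, he.1⟩ ⟨f, hf.1⟩,
      show (⟨(c : G) * e * (c : G)⁻¹, D.conj_mem_U c.2.1 he.1⟩ : D.U) =
        ⟨⁅(c : G), e⁆, (hfix c e he).1⟩ * ⟨e, he.1⟩ from Subtype.ext (by
        show (c : G) * e * (c : G)⁻¹ = ⁅(c : G), e⁆ * e; simp [commutatorElement_def, mul_assoc]),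
      show (⟨(c : G) * f * (c : G)⁻¹, D.conj_mem_U c.2.1 hf.1⟩ : D.U) =
        ⟨⁅(c : G), f⁆, (hfix c f hf).1⟩ * ⟨f, hf.1⟩ from Subtype.ext (by
        show (c : G) * f * (c : G)⁻¹ = ⁅(c : G), f⁆ * f; simp [commutatorElement_def, mul_assoc]),
      commW_mul_left, z1 ⟨_, hfix c e he⟩, one_mul, commW_mul_right, z2 ⟨_, hfix c f hf⟩, one_mul]

/-- There are fewer classes than classes of `U` modulo the axis. -/
theorem two_index_lt (h : Two ρ D r m z) {E : Subgroup G} (hE : Axis2 D m E) :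
    D.Zw.index < 2 ^ (2 * m) := by
  have hS := h.shape
  have hsp := hS.sp
  have hle : D.Zw.index ≤ 2 ^ (2 * m) := by
    obtain ⟨e, he, heW⟩ : ∃ e ∈ E, e ∉ D.W := by
      by_contra hno
      push Not at hno
      have h1 := Nat.le_of_dvd Nat.card_pos (card_dvd_of_le (fun x hx => hno x hx : E ≤ D.W))
      rw [hE.card] at h1
      exact absurd h1 (not_le.mpr (lt_mul_of_one_lt_left Nat.card_pos (Nat.one_lt_two_pow (by
        have := hS.pos; omega))))
    let ψ : D.U →* D.W ⧸ D.Zw :=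
      MonoidHom.mk' (fun y => QuotientGroup.mk' D.Zw (commW hsp y ⟨e, hE.le_U he⟩)) fun y y' => by
        rw [commW_mul_left, map_mul]
    have htop : ψ.range = ⊤ := by
      by_contra hne
      let B : Subgroup D.W := ψ.range.comap (QuotientGroup.mk' D.Zw)
      have hBn : B.Normal := ⟨fun x hx y => by
        rw [show y * x * y⁻¹ = x from Subtype.ext (by
          show (y : G) * x * (y : G)⁻¹ = x
          rw [← hsp.fix_central x x.2 y y.2.1, mul_inv_cancel_right])]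
        exact hx⟩
      obtain ⟨x, hx⟩ : ∃ x, x ∉ B := by
        by_contra hall
        push Not at hall
        refine hne (eq_top_iff.mpr fun q _ => ?_)
        obtain ⟨x, rfl⟩ := QuotientGroup.mk_surjective q
        exact hall x
      obtain ⟨φ, hφ⟩ := exists_sign_ne_one (Q := D.W ⧸ B) (fun q => by
        obtain ⟨y, rfl⟩ := QuotientGroup.mk_surjective q
        rw [← QuotientGroup.mk_mul, show y * y = 1 from Subtype.ext (hsp.fix_sq y y.2)]
        rfl) (x := (x : D.W ⧸ B)) fun e => hx ((QuotientGroup.eq_one_iff x).mp e)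
      set ε := φ.comp (QuotientGroup.mk' B) with hεdef
      have hεB : ∀ y ∈ B, ε y = 1 := fun y hy => by
        show φ (y : D.W ⧸ B) = 1
        rw [(QuotientGroup.eq_one_iff y).mpr hy, map_one]
      have hεz : ε z = 1 := hεB z (mem_comap.mpr (by
        rw [QuotientGroup.mk'_apply, (QuotientGroup.eq_one_iff z).mpr h.center]; exact one_mem _))
      refine heW ((M.two_rad_eq h hεz fun e1 => hφ ?_).le (mem_rad.mpr ⟨hE.le_U he, fun y => ?_⟩))
      · exact DFunLike.congr_fun e1 x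
      · rw [← commW_symm]
        exact hεB _ (mem_comap.mpr ⟨y, rfl⟩)
    have hk : E.subgroupOf D.U ≤ ψ.ker := fun y hy =>
      MonoidHom.mem_ker.mpr ((QuotientGroup.eq_one_iff _).mpr
        (mem_subgroupOf.mpr (hE.comm y (mem_subgroupOf.mp hy) e he)))
    have h1 := ψ.ker.card_mul_index
    rw [Subgroup.index_ker, htop, Subgroup.card_top, ← Subgroup.index_eq_card, h.card, two_mul (2 * m), pow_add,
      mul_assoc] at h1
    have h2 := Nat.le_of_dvd Nat.card_pos (card_dvd_of_le hk)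
    rw [Nat.card_congr (subgroupOfEquivOfLe hE.le_U).toEquiv, hE.card] at h2
    refine Nat.le_of_mul_le_mul_left (le_trans (Nat.mul_le_mul_right _ h2) (h1.le.trans (le_of_eq ?_)))
      (Nat.mul_pos (Nat.two_pow_pos _) Nat.card_pos)
    ring
  refine lt_of_le_of_ne hle fun e => M.coprimely.ndvd ?_
  have h1 : D.Zw.index - 1 ∣ Nat.card G :=
    (M.two_sub_one_dvd h M.clsPerm le_rfl).trans ((Subgroup.card_range_dvd _).trans (card_subgroup_dvd_card _))
  refine dvd_trans ⟨2 ^ m - 1, ?_⟩ h1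
  rw [e, hS.eq, ← Nat.sq_sub_sq (2 ^ m) 1, one_pow, ← pow_mul, mul_comm m 2]

/-- Noncentral elements of `W` are isolated. -/
theorem two_allIso (h : Two ρ D r m z) (hsub : ∀ (c : D.Gam) (j : ℕ),
      ((c ^ 2 ^ j : D.Gam) : G) ∈ centralizer (D.U : Set G) → M.clsPerm c = 1)
    (htsq : ∀ c : D.Gam, M.clsPerm c = 1 → (c : G) * c ∈ centralizer (D.U : Set G))
    {E : Subgroup G} (hE : Axis2 D m E) : D.AllIso := by
  classical
  intro w hw hwc g hN
  by_contra hg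
  have hS := h.shape
  have hsp := hS.sp
  have hA := M.two_hA (D := D)
  have hWlt := M.two_index_lt h hE
  let X : Subgroup G := E ⊔ center G
  have hXmem : ∀ {x : G}, x ∈ X ↔ ∃ e ∈ E, ∃ ζ ∈ center G, e * ζ = x := fun {x} =>
    Subgroup.mem_sup_of_normal_right
  have hγX : ∀ {γ e : G}, γ ∈ centralizer (D.U : Set G) → e ∈ E → γ * e * (γ * e) = 1 → γ * e ∈ X := by
    intro γ e hγ he h2
    have hγ2 : γ * γ ∈ center G := by
      rw [M.mul_self_of_pure hγ (hE.le_U he)] at h2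
      rw [eq_inv_of_mul_eq_one_left h2]
      exact inv_mem (hE.sq e he)
    obtain ⟨x, hx, ζ, hζ, rfl⟩ := M.exists_of_mem_Wb D (M.invol_centralizer_mem_Wb hA h.notLe h.wb hγ hγ2)
    refine hXmem.mpr ⟨x * e, mul_mem (hE.W_le hx) he, ζ, hζ, ?_⟩
    rw [mul_assoc x ζ e, ← mem_center_iff.mp hζ e, mul_assoc]
  -- a conjugate in the axis from a moved point
  have hA1 : ∀ (g' w' : G), g' ∉ D.N → w' ∈ D.W → w' ∉ center G → g' * w' * g'⁻¹ ∈ D.N →
      ∃ w₁ ∈ D.W, w₁ ∉ center G ∧ ∃ e ∈ E, e ∉ D.W ∧ ∃ ζ ∈ center G, g'⁻¹ * w₁ * g' = e * ζ := by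
    intro g' w' hg' hw' hw'c hN'
    obtain ⟨γ, hγ, hγC, u, hu, hv⟩ := M.exists_of_pure hS (M.two_allPure h g' w' hg' hw' hw'c hN')
    have huW : u ∉ D.W := fun huW => hg' (M.mem_N_of_fused hA hw' hw'c hN'
      (hv ▸ mul_mem hγ.2 huW.2))
    let ψ : D.U →* D.W ⧸ D.Zw :=
      MonoidHom.mk' (fun y => QuotientGroup.mk' D.Zw (commW hsp y ⟨u, hu⟩)) fun y y' => by
        rw [commW_mul_left, map_mul]
    set L : Subgroup G := ψ.ker.map D.U.subtype with hLdef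
    obtain ⟨y, hy, hy2⟩ : ∃ y ∈ ψ.ker, (y : G) * y ∉ center G := by
      by_contra hno
      push Not at hno
      have hb := M.two_isotropic h (S := L) (map_subtype_le _) fun x x' hx hx' => by
        obtain ⟨x, hxk, hxe⟩ := hx
        obtain ⟨x', hxk', hxe'⟩ := hx'
        obtain rfl := Subtype.ext hxe
        obtain rfl := Subtype.ext hxe'
        have hsqz : ∀ s ∈ ψ.ker, sqW hsp s ∈ D.Zw := fun s hs => mem_subgroupOf.mpr (hno s hs)
        have h1 := hsqz _ (ψ.ker.mul_mem hxk hxk')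
        rw [sqW_mul] at h1
        exact (D.Zw.mul_mem_cancel_left (D.Zw.mul_mem (hsqz _ hxk) (hsqz _ hxk'))).mp h1
      have h1 := ψ.ker.card_mul_index
      rw [Subgroup.index_ker, h.card, two_mul (2 * m), pow_add, mul_assoc] at h1
      rw [hLdef, Subgroup.card_map_of_injective D.U.subtype_injective] at hb
      have h2 : Nat.card ψ.range ≤ D.Zw.index := by
        rw [Subgroup.index_eq_card]; exact Nat.le_of_dvd Nat.card_pos (card_subgroup_dvd_card _)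
      have h3 := Nat.mul_le_mul hb h2
      rw [h1, mul_comm _ D.Zw.index] at h3
      exact absurd (Nat.le_of_mul_le_mul_right h3 (Nat.mul_pos (Nat.two_pow_pos _) Nat.card_pos)) (not_le.mpr hWlt)
    have hz : ⁅(y : G), u⁆ ∈ center G :=
      mem_subgroupOf.mp ((QuotientGroup.eq_one_iff _).mp (MonoidHom.mem_ker.mp hy))
    have hn : g'⁻¹ * y * g' ∈ D.N := by
      refine M.mem_N_of_conj D hw' hw'c hw' (z := ⁅(y : G), u⁆) hz ?_
      have e : (y : G) * (g' * w' * g'⁻¹) * (y : G)⁻¹ = ⁅(y : G), u⁆ * (g' * w' * g'⁻¹) := by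
        have hyc' : (y : G) * γ = γ * y := mem_centralizer_iff.mp hγC y y.2
        have hz' := mem_center_iff.mp hz γ
        calc (y : G) * (g' * w' * g'⁻¹) * (y : G)⁻¹ = (y * γ) * u * (y : G)⁻¹ := by rw [hv]; group
          _ = γ * ⁅(y : G), u⁆ * u := by rw [hyc', commutatorElement_def]; group
          _ = ⁅(y : G), u⁆ * (g' * w' * g'⁻¹) := by rw [hv, hz', mul_assoc]
      calc g'⁻¹ * y * g' * w' * (g'⁻¹ * y * g')⁻¹
          = g'⁻¹ * ((y : G) * (g' * w' * g'⁻¹) * (y : G)⁻¹) * g' := by group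
        _ = g'⁻¹ * ⁅(y : G), u⁆ * g' * w' := by rw [e]; group
        _ = w' * ⁅(y : G), u⁆ := by
          rw [mem_center_iff.mp hz g'⁻¹, mul_assoc _ g'⁻¹ g', inv_mul_cancel, mul_one, ← mem_center_iff.mp hz w']
    obtain ⟨c, hc, u', hu', hn'⟩ := M.exists_fixed_mul D hn
    have hc' : c ∈ D.Gam := hc
    set c' : D.Gam := ⟨c, hc'⟩ with hcdef
    set w₁ := (y : G) * y with hw₁def
    have hw₁ : w₁ ∈ D.W := hsp.sq_mem y y.2
    have hu'c : c⁻¹ * u' * c ∈ D.U := by simpa using D.conj_mem_U (inv_mem hc.1) hu'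
    have e1 : g'⁻¹ * w₁ * g' = c * c * (c⁻¹ * u' * c * u') := by
      calc g'⁻¹ * w₁ * g' = (g'⁻¹ * y * g') * (g'⁻¹ * y * g') := by rw [hw₁def]; group
        _ = _ := by rw [hn']; group
    have hpow : ∀ n : ℕ, ∃ u'' ∈ D.U, (c * u') ^ n = c ^ n * u'' := by
      intro n
      induction n with
      | zero => exact ⟨1, one_mem _, by simp⟩
      | succ n ih =>
        obtain ⟨u'', hu'', he⟩ := ih
        refine ⟨c⁻¹ * u'' * c * u', mul_mem (by simpa using D.conj_mem_U (inv_mem hc.1) hu'') hu', ?_⟩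
        rw [pow_succ, he, pow_succ]
        group
    obtain ⟨u'', hu'', h4⟩ := hpow 4
    have h4' : (c * u') ^ 4 = 1 := by
      rw [← hn', show (g'⁻¹ * (y : G) * g') ^ 4 = g'⁻¹ * (w₁ * w₁) * g' by
        rw [hw₁def]; simp [pow_succ, mul_assoc], hsp.fix_sq _ hw₁]
      group
    have hcl : M.clsPerm c' = 1 := hsub c' 2 (M.W_le_centralizer_U ⟨by
      rw [SubmonoidClass.coe_pow, show (2 : ℕ) ^ 2 = 4 from rfl, eq_inv_of_mul_eq_one_left (h4.symm.trans h4')]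
      exact D.U.inv_mem hu'', (fixedBy a).pow_mem hc.2 _⟩)
    have hu₁ : c⁻¹ * u' * c * u' ∈ E := by
      have h1 := hE.image c'⁻¹ (M.clsPerm_eq_one_iff.mp (by rw [map_inv, hcl, inv_one])) u' hu'
      rw [Subgroup.coe_inv] at h1
      rw [show c⁻¹ * u' * c * u' = ⁅c⁻¹, u'⁆ * (u' * u') by rw [commutatorElement_def]; group]
      exact mul_mem h1 (hE.W_le (hsp.sq_mem u' hu'))
    refine ⟨w₁, hw₁, hy2, ?_⟩
    have hv2 : c * c * (c⁻¹ * u' * c * u') * (c * c * (c⁻¹ * u' * c * u')) = 1 := by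
      rw [← e1, show g'⁻¹ * w₁ * g' * (g'⁻¹ * w₁ * g') = g'⁻¹ * (w₁ * w₁) * g' by group, hsp.fix_sq _ hw₁]
      group
    obtain ⟨e, he, ζ, hζ, hee⟩ := hXmem.mp (hγX (htsq c' hcl) hu₁ hv2)
    refine ⟨e, he, fun heW => hg' (inv_mem_iff.mp (M.mem_N_of_fused hA (g := g'⁻¹) hw₁ hy2 ?_ ?_)), ζ, hζ,
      e1.trans hee.symm⟩
    · rw [inv_inv, e1, ← hee]; exact mul_mem (D.W_le_N heW) (M.center_le_N D hζ)
    · rw [inv_inv, e1, ← hee]; exact mul_mem heW.2 (M.center_le_fixed hζ)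
  obtain ⟨w₁, hw₁, hw₁c, e₁, he₁, he₁W, ζ₁, hζ₁, hv₁⟩ := hA1 g w hg hw hwc hN
  have hg' : g⁻¹ ∉ D.N := fun he => hg (inv_mem_iff.mp he)
  obtain ⟨w₂, hw₂, hw₂c, e₂, he₂, he₂W, ζ₂, hζ₂, hv₂⟩ := hA1 g⁻¹ w₁ hg' hw₁ hw₁c (by
    rw [inv_inv, hv₁]; exact mul_mem (D.U_le_N (hE.le_U he₁)) (M.center_le_N D hζ₁))
  rw [inv_inv] at hv₂
  have hv2N : g * w₂ * g⁻¹ ∈ D.N := by
    rw [hv₂]; exact mul_mem (D.U_le_N (hE.le_U he₂)) (M.center_le_N D hζ₂)
  have hXN : ∀ x ∈ X, x ∈ D.N := fun x hx => by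
    obtain ⟨e, he, ζ, hζ, rfl⟩ := hXmem.mp hx
    exact mul_mem (D.U_le_N (hE.le_U he)) (M.center_le_N D hζ)
  have hXpure : ∀ x ∈ X, D.Pure x := fun x hx => ⟨hXN x hx, fun y hy => by
    obtain ⟨e, he, ζ, hζ, rfl⟩ := hXmem.mp hx
    rw [show ⁅e * ζ, y⁆ = e * (ζ * y * ζ⁻¹) * e⁻¹ * y⁻¹ by simp [commutatorElement_def, mul_assoc],
      ← mem_center_iff.mp hζ y, mul_inv_cancel_right, ← commutatorElement_def]
    exact hsp.comm_mem e (hE.le_U he) y hy⟩
  have haw : ∀ (i : ℕ) {x : G}, x ∈ D.W → (a ^ i) x = x := by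
    intro i x hx
    induction i with
    | zero => rfl
    | succ i ih => rw [pow_succ', MulAut.mul_apply, ih, mem_fixedBy.mp hx.2]
  -- conjugates of an element of `W` lying in the translates of a moved one
  have hmove : ∀ (g' w' e ζ : G), w' ∈ D.W → w' ∉ center G → e ∈ E → ζ ∈ center G → g'⁻¹ * w' * g' = e * ζ →
      ∀ i : ℕ, g' * ((a ^ i) e * ζ) * g'⁻¹ ∈ D.N ∧ D.Pure (g' * ((a ^ i) e * ζ) * g'⁻¹) ∧
        (a ^ i) e * ζ * ((a ^ i) e * ζ) = 1 := by
    intro g' w' e ζ hw' hw'c he hζ hconj i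
    set f := (a ^ i) e with hf
    have hfE : f ∈ E := hE.inv.apply_pow i he
    have hfix : (a ^ i) ζ = ζ := by
      clear hf hfE
      induction i with
      | zero => rfl
      | succ i ih => rw [pow_succ', MulAut.mul_apply, ih, mem_fixedBy.mp (M.center_le_fixed hζ)]
    have e1 : f * ζ = ((a ^ i) g')⁻¹ * w' * (a ^ i) g' := by
      rw [hf]
      conv_lhs => rw [← hfix]
      rw [← map_mul, ← hconj, map_mul, map_mul, map_inv, haw i hw']
    have hN1 : g' * (f * ζ) * g'⁻¹ ∈ D.N := by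
      have hz : ⁅f, e⁆ ∈ center G := hE.comm f hfE e he
      refine M.mem_N_of_conj D hw' hw'c hw' (z := ⁅f, e⁆) hz ?_
      have hzz := mem_center_iff.mp hz
      have cz := mem_center_iff.mp hζ
      calc g' * (f * ζ) * g'⁻¹ * w' * (g' * (f * ζ) * g'⁻¹)⁻¹
          = g' * (f * (ζ * (g'⁻¹ * w' * g') * ζ⁻¹) * f⁻¹) * g'⁻¹ := by group
        _ = g' * (f * (g'⁻¹ * w' * g') * f⁻¹) * g'⁻¹ := by rw [← cz (g'⁻¹ * w' * g'), mul_inv_cancel_right]
        _ = g' * (f * (e * ζ) * f⁻¹) * g'⁻¹ := by rw [hconj]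
        _ = g' * (f * e * (f⁻¹ * ζ)) * g'⁻¹ := by rw [cz f⁻¹]; group
        _ = g' * (⁅f, e⁆ * (e * ζ)) * g'⁻¹ := by rw [commutatorElement_def]; group
        _ = g' * (⁅f, e⁆ * (g'⁻¹ * w' * g')) * g'⁻¹ := by rw [hconj]
        _ = g' * (g'⁻¹ * w' * g' * ⁅f, e⁆) * g'⁻¹ := by rw [hzz]
        _ = w' * (g' * ⁅f, e⁆ * g'⁻¹) := by group
        _ = w' * ⁅f, e⁆ := by rw [hzz g', mul_inv_cancel_right]
    refine ⟨hN1, ?_, ?_⟩
    · have e2 : g' * (f * ζ) * g'⁻¹ = g' * ((a ^ i) g')⁻¹ * w' * (g' * ((a ^ i) g')⁻¹)⁻¹ := by rw [e1]; group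
      rw [e2] at hN1 ⊢
      exact M.two_pure_of_conj h hw' hN1
    · rw [e1, show ((a ^ i) g')⁻¹ * w' * (a ^ i) g' * (((a ^ i) g')⁻¹ * w' * (a ^ i) g') =
          ((a ^ i) g')⁻¹ * (w' * w') * (a ^ i) g' by group, hsp.fix_sq _ hw']
      group
  -- pure involutions with pure images lie in `X`
  have hclaim : ∀ n : G, D.Pure n → n * n = 1 → g * n * g⁻¹ ∈ D.N → D.Pure (g * n * g⁻¹) → n ∈ X := by
    intro n hn hn2 hgn hgnP
    obtain ⟨γ, hγ, hγC, u, hu, rfl⟩ := M.exists_of_pure hS hn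
    have hstep : ∀ i : ℕ, ⁅u, (a ^ i) e₁⁆ ∈ center G := by
      intro i
      obtain ⟨hfN, hfP, hf2⟩ := hmove g w₁ e₁ ζ₁ hw₁ hw₁c he₁ hζ₁ hv₁ i
      set f := (a ^ i) e₁ with hf
      have hfU : f ∈ D.U := hE.le_U (hE.inv.apply_pow i he₁)
      set v := f * ζ₁ with hv
      have e1 : γ * u * v * (γ * u * v) = ⁅u, f⁆ := by
        have cz := mem_center_iff.mp hζ₁
        calc γ * u * v * (γ * u * v) = γ * u * v * (γ * u)⁻¹ * v⁻¹ := by
              rw [inv_eq_of_mul_eq_one_left hn2, inv_eq_of_mul_eq_one_left hf2]; group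
          _ = γ * u * (f * (ζ₁ * (γ * u)⁻¹) * ζ₁⁻¹) * f⁻¹ := by rw [hv]; group
          _ = γ * (⁅u, f⁆ * f) * γ⁻¹ * f⁻¹ := by
            rw [← cz (γ * u)⁻¹, ← mul_assoc f, mul_inv_cancel_right, commutatorElement_def]; group
          _ = (⁅u, f⁆ * f) * γ * γ⁻¹ * f⁻¹ := by
            rw [mem_centralizer_iff.mp hγC _ (D.U.mul_mem (hsp.comm_mem u hu f hfU).1 hfU)]
          _ = _ := by group
      have hW : ⁅u, f⁆ ∈ D.W := hsp.comm_mem u hu f hfU
      by_contra hne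
      refine hg (M.mem_N_of_fused hA hW hne ?_ ?_)
      · rw [← e1, show g * (γ * u * v * (γ * u * v)) * g⁻¹ =
          (g * (γ * u) * g⁻¹) * (g * v * g⁻¹) * ((g * (γ * u) * g⁻¹) * (g * v * g⁻¹)) by group]
        exact mul_mem (mul_mem hgn hfN) (mul_mem hgn hfN)
      · rw [← e1, show g * (γ * u * v * (γ * u * v)) * g⁻¹ =
          (g * (γ * u) * g⁻¹) * (g * v * g⁻¹) * ((g * (γ * u) * g⁻¹) * (g * v * g⁻¹)) by group]
        set y := g * (γ * u) * g⁻¹ * (g * v * g⁻¹) with hy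
        have hyP : D.Pure y := ⟨mul_mem hgn hfN, fun x hx => by
          rw [hy, show ⁅g * (γ * u) * g⁻¹ * (g * v * g⁻¹), x⁆ =
            (g * (γ * u) * g⁻¹) * ⁅g * v * g⁻¹, x⁆ * (g * (γ * u) * g⁻¹)⁻¹ * ⁅g * (γ * u) * g⁻¹, x⁆ by
            simp [commutatorElement_def, mul_assoc]]
          exact mul_mem (M.conj_mem_W_of_mem_N hgn (hfP.2 x hx)) (hgnP.2 x hx)⟩
        obtain ⟨γ', -, hγ'C, u', hu', hy'⟩ := M.exists_of_pure hS hyP
        rw [hy', M.mul_self_of_pure hγ'C hu']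
        exact mul_mem (mul_mem (M.centralizer_U_le_fixed D hγ'C) (M.centralizer_U_le_fixed D hγ'C))
          (hsp.sq_mem u' hu').2
    let Y : Subgroup G :=
      { carrier := {x | x ∈ E ∧ ∀ i : ℕ, ⁅u, (a ^ i) x⁆ ∈ center G}
        one_mem' := ⟨one_mem _, fun i => by rw [map_one, commutatorElement_one_right]; exact one_mem _⟩
        mul_mem' := fun {x y} hx hy => ⟨mul_mem hx.1 hy.1, fun i => by
          rw [map_mul, show ⁅u, (a ^ i) x * (a ^ i) y⁆ =
            ⁅u, (a ^ i) x⁆ * ((a ^ i) x * ⁅u, (a ^ i) y⁆ * ((a ^ i) x)⁻¹) by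
            simp [commutatorElement_def, mul_assoc]]
          exact mul_mem (hx.2 i) ((inferInstance : (center G).Normal).conj_mem _ (hy.2 i) _)⟩
        inv_mem' := fun {x} hx => ⟨inv_mem hx.1, fun i => by
          rw [map_inv, show ⁅u, ((a ^ i) x)⁻¹⁆ = ((a ^ i) x)⁻¹ * ⁅u, (a ^ i) x⁆⁻¹ * ((a ^ i) x)⁻¹⁻¹ by
            simp [commutatorElement_def, mul_assoc]]
          exact (inferInstance : (center G).Normal).conj_mem _ (inv_mem (hx.2 i)) _⟩ }
    have hYa : Inv a Y := fun x hx => ⟨hE.inv x hx.1, fun i => by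
      rw [← MulAut.mul_apply, ← pow_succ]; exact hx.2 (i + 1)⟩
    have hWY : D.W ≤ Y := fun x hx => ⟨hE.W_le hx, fun i => by
      rw [haw i hx, commutatorElement_eq_one_iff_mul_comm.mpr (hsp.fix_central x hx u hu).symm]
      exact one_mem _⟩
    have hYE : Y = E := (M.two_line_eq h hE.le_U hE.card hYa hWY fun x hx => hx.1).resolve_left
      fun e => he₁W (e.le ⟨he₁, hstep⟩)
    have hcomm : ∀ x ∈ E, ⁅u, x⁆ ∈ center G := fun x hx => by
      simpa using (hYE.symm.le hx).2 0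
    suffices huE : u ∈ E from hγX hγC huE hn2
    let S : Subgroup D.U := E.subgroupOf D.U ⊔ zpowers ⟨u, hu⟩
    have hS2 : Nat.card (S.map D.U.subtype) ≤ 2 ^ (2 * m) * Nat.card D.W := by
      refine M.two_isotropic h (map_subtype_le _) fun x y hx hy => ?_
      obtain ⟨x, hxS, hxe⟩ := hx
      obtain ⟨y, hyS, hye⟩ := hy
      obtain rfl := Subtype.ext hxe
      obtain rfl := Subtype.ext hye
      let C : D.U → Subgroup D.U := fun s => Subgroup.comap (MonoidHom.mk' (fun t => commW hsp s t)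
        (fun t t' => commW_mul_right hsp s t t')) D.Zw
      have hCmem : ∀ {s t : D.U}, t ∈ C s ↔ commW hsp s t ∈ D.Zw := fun {s t} => Iff.rfl
      have hgen : ∀ s : D.U, (s : G) ∈ E ∨ s = ⟨u, hu⟩ → S ≤ C s := by
        intro s hs
        refine sup_le (fun t ht => ?_) (zpowers_le.mpr ?_)
        · refine hCmem.mpr (mem_subgroupOf.mpr ?_)
          rcases hs with hs | rfl
          · exact hE.comm _ hs _ (mem_subgroupOf.mp ht)
          · exact hcomm _ (mem_subgroupOf.mp ht)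
        · refine hCmem.mpr ?_
          rcases hs with hs | rfl
          · rw [← commW_symm]; exact mem_subgroupOf.mpr (hcomm _ hs)
          · rw [show commW hsp ⟨u, hu⟩ ⟨u, hu⟩ = 1 from Subtype.ext (commutatorElement_self u)]
            exact one_mem _
      have hle : S ≤ C y := sup_le
        (fun s hs => hCmem.mpr (by rw [← commW_symm]; exact hgen s (Or.inl (mem_subgroupOf.mp hs)) hyS))
        (zpowers_le.mpr (hCmem.mpr (by rw [← commW_symm]; exact hgen _ (Or.inr rfl) hyS)))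
      rw [← commW_symm]
      exact hle hxS
    have heq : E = S.map D.U.subtype := Subgroup.eq_of_le_of_card_ge (fun x hx =>
      ⟨⟨x, hE.le_U hx⟩, mem_sup_left (mem_subgroupOf.mpr hx), rfl⟩) (hE.card ▸ hS2)
    exact heq ▸ ⟨⟨u, hu⟩, mem_sup_right (mem_zpowers _), rfl⟩
  -- `g` normalises `X`
  have hX2 : ∀ i : ℕ, g⁻¹ * ((a ^ i) e₂) * g ∈ X := by
    intro i
    obtain ⟨hfN, hfP, hf2⟩ := hmove g⁻¹ w₂ e₂ ζ₂ hw₂ hw₂c he₂ hζ₂ (by rw [inv_inv]; exact hv₂) i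
    rw [inv_inv] at hfN hfP
    set f := (a ^ i) e₂ with hf
    have hn2 : g⁻¹ * (f * ζ₂) * g * (g⁻¹ * (f * ζ₂) * g) = 1 := by
      rw [show g⁻¹ * (f * ζ₂) * g * (g⁻¹ * (f * ζ₂) * g) = g⁻¹ * (f * ζ₂ * (f * ζ₂)) * g by group, hf2]
      group
    have hback : g * (g⁻¹ * (f * ζ₂) * g) * g⁻¹ = f * ζ₂ := by group
    have hfX : f * ζ₂ ∈ X := hXmem.mpr ⟨f, hE.inv.apply_pow i he₂, ζ₂, hζ₂, rfl⟩
    have h1 := hclaim _ hfP hn2 (by rw [hback]; exact hXN _ hfX) (by rw [hback]; exact hXpure _ hfX)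
    have h2 := X.mul_mem h1 (X.inv_mem (hXmem.mpr ⟨1, one_mem _, ζ₂, hζ₂, one_mul _⟩))
    have e : g⁻¹ * (f * ζ₂) * g * ζ₂⁻¹ = g⁻¹ * f * g := by
      have cz := mem_center_iff.mp hζ₂
      calc g⁻¹ * (f * ζ₂) * g * ζ₂⁻¹ = g⁻¹ * f * (ζ₂ * g) * ζ₂⁻¹ := by group
        _ = g⁻¹ * f * (g * ζ₂) * ζ₂⁻¹ := by rw [cz g]
        _ = _ := by group
    exact e ▸ h2
  have hv2P : D.Pure (g * w₂ * g⁻¹) := M.two_allPure h g w₂ hg hw₂ hw₂c hv2N
  have hXW : ∀ w' ∈ D.W, g⁻¹ * w' * g ∈ X := by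
    intro w' hw'
    have hn := M.w_mem_conj_N hS hw₂ hw₂c hv2P hw'
    have hnP : D.Pure (g⁻¹ * w' * g) := by
      have e : g⁻¹ * w' * g = g⁻¹ * w' * g⁻¹⁻¹ := by rw [inv_inv]
      rw [e] at hn ⊢
      exact M.two_pure_of_conj h hw' hn
    refine hclaim _ hnP ?_ ?_ ?_
    · rw [show g⁻¹ * w' * g * (g⁻¹ * w' * g) = g⁻¹ * (w' * w') * g by group, hsp.fix_sq _ hw']; group
    · rw [show g * (g⁻¹ * w' * g) * g⁻¹ = w' by group]; exact D.W_le_N hw'
    · rw [show g * (g⁻¹ * w' * g) * g⁻¹ = w' by group]; exact M.pure_of_mem_W hw'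
  let Y : Subgroup G :=
    { carrier := {x | x ∈ E ∧ ∀ i : ℕ, g⁻¹ * (a ^ i) x * g ∈ X}
      one_mem' := ⟨one_mem _, fun i => by rw [map_one, mul_one, inv_mul_cancel]; exact one_mem _⟩
      mul_mem' := fun {x y} hx hy => ⟨mul_mem hx.1 hy.1, fun i => by
        rw [map_mul, show g⁻¹ * ((a ^ i) x * (a ^ i) y) * g = g⁻¹ * (a ^ i) x * g * (g⁻¹ * (a ^ i) y * g) by group]
        exact mul_mem (hx.2 i) (hy.2 i)⟩
      inv_mem' := fun {x} hx => ⟨inv_mem hx.1, fun i => by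
        rw [map_inv, show g⁻¹ * ((a ^ i) x)⁻¹ * g = (g⁻¹ * (a ^ i) x * g)⁻¹ by group]
        exact inv_mem (hx.2 i)⟩ }
  have hYE : Y = E := (M.two_line_eq h hE.le_U hE.card (X := Y) (fun x hx => ⟨hE.inv x hx.1, fun i => by
      rw [← MulAut.mul_apply, ← pow_succ]; exact hx.2 (i + 1)⟩)
    (fun x hx => ⟨hE.W_le hx, fun i => by rw [haw i hx]; exact hXW x hx⟩) fun x hx => hx.1).resolve_left
    fun e => he₂W (e.le ⟨he₂, hX2⟩)
  have hgX : g⁻¹ ∈ normalizer (X : Set G) := by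
    have hle : X.map (MulAut.conj g⁻¹).toMonoidHom ≤ X := by
      rintro _ ⟨x, hx, rfl⟩
      obtain ⟨e, he, ζ, hζ, rfl⟩ := hXmem.mp hx
      have h1 : g⁻¹ * e * g ∈ X := by simpa using (hYE.symm.le he).2 0
      show g⁻¹ * (e * ζ) * g⁻¹⁻¹ ∈ X
      rw [inv_inv, ← mul_assoc, mul_assoc (g⁻¹ * e) ζ g, ← mem_center_iff.mp hζ g, ← mul_assoc]
      exact mul_mem h1 (mem_sup_right hζ)
    have heq := Subgroup.eq_of_le_of_card_ge hle (Coprime.card_map_conj g⁻¹ _).ge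
    refine mem_normalizer_iff.mpr fun y => ⟨fun hy => heq.le ⟨y, hy, rfl⟩, fun hy => ?_⟩
    obtain ⟨y', hy', he⟩ := heq.ge hy
    have : y' = y := mul_left_cancel (mul_right_cancel (he : g⁻¹ * y' * g⁻¹⁻¹ = g⁻¹ * y * g⁻¹⁻¹))
    exact this ▸ hy'
  have hXa : Inv a X := hE.inv.sup M.inv_center
  have hUX : D.U ≤ normalizer (X : Set G) := le_normalizer_iff.mpr fun u hu x hx => by
    obtain ⟨e, he, ζ, hζ, rfl⟩ := hXmem.mp hx
    refine hXmem.mpr ⟨u * e * u⁻¹,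
      (mem_normalizer_iff.mp (le_normalizer_of_W_le hsp hE.W_le hE.le_U hu) e).mp he, ζ, hζ, ?_⟩
    rw [mul_assoc (u * e) u⁻¹ ζ, mem_center_iff.mp hζ u⁻¹]
    group
  have hne : normalizer (X : Set G) ≠ ⊤ := fun e => by
    have hXne : X ≠ ⊤ := fun e' => M.N_ne_top D (top_le_iff.mp (e' ▸ hXN))
    exact hwc (M.normal_le_center (normalizer_eq_top_iff.mp e) hXa hXne (mem_sup_left (hE.W_le hw)))
  exact hg' (M.le_N D hXa.normalizer hne hUX hgX)

/-- All affine characters occurring and permuted transitively is impossible. -/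
theorem two_false_trans (h : Two ρ D r m z) (hall : ∀ μ : D.W →* ℤˣ, μ z = -1 → Occ ρ D μ)
    (htr : ∀ χ μ, Occ ρ D χ → Occ ρ D μ → ∃ c, D.act c χ = μ) : False := by
  classical
  have hS := h.shape
  have hsp := hS.sp
  obtain ⟨ht, hsub⟩ := M.two_translations h hall htr
  obtain ⟨E, hE⟩ := M.two_axis h hall ht
  have htsq : ∀ c, M.clsPerm c = 1 → (c : G) * c ∈ centralizer (D.U : Set G) := fun c hc => by
    obtain ⟨χ, -, hχ, -, -⟩ := M.two_exists_pair h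
    have hz := M.two_occ_z h hχ
    refine M.two_centralizes_of_cls h (c := c * c) (by rw [map_mul, hc, mul_one]) hz ?_
    rw [← UData.act_act, M.two_act_translation h hc hz (by rw [M.two_act_z h]; exact hz), mul_comm χ,
      ← mul_assoc, char_mul_self, one_mul]
  have I := M.isoData (M.two_allIso h hsub htsq hE)
  by_cases hq : D.Zw.index = 2
  · refine M.two_false_of_line h I hE.W_le hE.le_U hE.card.le fun c x hx => hE.image c (fun y => ?_) x hx
    refine (Subgroup.mul_mem_iff_of_index_two hq).mpr ?_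
    rw [inv_mem_iff]
    by_cases hy : y ∈ D.Zw
    · exact iff_of_true (by rw [M.conjW_of_mem_Zw c hy]; exact hy) hy
    · refine iff_of_false (fun hc => hy ?_) hy
      have h1 := M.conjW_of_mem_Zw c⁻¹ hc
      rw [← MulAut.mul_apply, ← map_mul, inv_mul_cancel, map_one, MulAut.one_apply] at h1
      exact h1.symm ▸ hc
  let π := QuotientGroup.mk' (center G)
  let X : Subgroup G := E ⊔ center G
  have hXmem : ∀ {x : G}, x ∈ X ↔ ∃ e ∈ E, ∃ ζ ∈ center G, e * ζ = x := fun {x} =>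
    Subgroup.mem_sup_of_normal_right
  have hEN : ∀ n ∈ D.N, ∀ e ∈ E, n * e * n⁻¹ ∈ E := by
    intro n hn e he
    obtain ⟨c, hc, u, hu, rfl⟩ := M.exists_fixed_mul D hn
    have h1 := (mem_normalizer_iff.mp (le_normalizer_of_W_le hsp hE.W_le hE.le_U hu) e).mp he
    have h2 := E.mul_mem (hE.W_le (hE.fix ⟨c, hc⟩ _ h1)) h1
    simpa [commutatorElement_def, mul_assoc] using h2
  have hXN : ∀ n ∈ D.N, ∀ x ∈ X, n * x * n⁻¹ ∈ X := fun n hn x hx => by
    obtain ⟨e, he, ζ, hζ, rfl⟩ := hXmem.mp hx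
    refine hXmem.mpr ⟨_, hEN n hn e he, ζ, hζ, ?_⟩
    rw [mul_assoc (n * e) n⁻¹ ζ, mem_center_iff.mp hζ n⁻¹]
    group
  let P : G ⧸ center G → Prop := fun t => t * t = 1 ∧ ∃ x, D.Pure x ∧ x ∉ X ∧ π x = t
  obtain ⟨w, hw, hw1⟩ := D.Wb.bot_or_exists_ne_one.resolve_left h.wb
  obtain ⟨u, hu, huE, hu2⟩ := M.two_exists_zero h (B := E) hE.card.le
  have huX : u ∉ X := fun hm => by
    obtain ⟨e, he, ζ, hζ, he'⟩ := hXmem.mp hm
    have e1 : e⁻¹ * u = ζ := by rw [← he']; group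
    refine huE ((E.mul_mem_cancel_left (E.inv_mem he)).mp (hE.W_le ⟨?_, ?_⟩))
    · exact D.U.mul_mem (D.U.inv_mem (hE.le_U he)) hu
    · rw [e1]; exact M.center_le_fixed hζ
  refine I.false_of_class (M.frame D).N_ne_top hw hw1 P (fun t ht' => ht'.1) ?_ ?_ ?_ ?_
    (δ := π u) (mem_map_of_mem π (D.U_le_N hu))
    ⟨by rw [← map_mul]; exact (QuotientGroup.eq_one_iff _).mpr hu2, u,
      ⟨D.U_le_N hu, fun x hx => hsp.comm_mem u hu x hx⟩, huX, rfl⟩
  · rintro t ⟨ht2, x, hx, hxX, rfl⟩ n hn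
    obtain ⟨n, hn', rfl⟩ := hn
    refine ⟨conj_mul_self ht2, n * x * n⁻¹, ⟨mul_mem (mul_mem hn' hx.1) (inv_mem hn'), fun y hy => ?_⟩,
      fun hm => hxX (by simpa [mul_assoc] using hXN n⁻¹ (inv_mem hn') _ hm), by simp [π]⟩
    have hy' : n⁻¹ * y * n ∈ D.U := by simpa using D.conj_mem_U (inv_mem hn') hy
    rw [show ⁅n * x * n⁻¹, y⁆ = n * ⁅x, n⁻¹ * y * n⁆ * n⁻¹ by simp [commutatorElement_def, mul_assoc]]
    exact M.conj_mem_W_of_mem_N hn' (hx.2 _ hy')
  · rintro t ⟨ht2, x, hx, hxX, rfl⟩ hm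
    obtain ⟨v, hv, ζ, hζ, rfl⟩ := M.exists_of_mem_Wb D hm
    exact hxX (hXmem.mpr ⟨v, hE.W_le hv, ζ, hζ, rfl⟩)
  · rintro t ⟨ht2, x, hx, hxX, rfl⟩ - g hg
    by_contra hgN
    obtain ⟨γ, -, hγC, u', hu', rfl⟩ := M.exists_of_pure hS hx
    have hx2 : γ * u' * (γ * u') ∈ center G := by
      rw [← map_mul] at ht2; exact (QuotientGroup.eq_one_iff _).mp ht2
    by_cases hu'E : u' ∈ E
    · have hγ2 : γ * γ ∈ center G := by
        rw [M.mul_self_of_pure hγC (hE.le_U hu'E)] at hx2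
        rw [show γ * γ = γ * γ * (u' * u') * (u' * u')⁻¹ by group]
        exact mul_mem hx2 (inv_mem (hE.sq u' hu'E))
      obtain ⟨v, hv, ζ, hζ, rfl⟩ := M.exists_of_mem_Wb D (M.invol_centralizer_mem_Wb M.two_hA h.notLe h.wb hγC hγ2)
      refine hxX (hXmem.mpr ⟨v * u', mul_mem (hE.W_le hv) hu'E, ζ, hζ, ?_⟩)
      rw [mul_assoc v ζ u', ← mem_center_iff.mp hζ u', mul_assoc]
    -- an element of the stabiliser moving a class centralises `U`
    have htr' := M.two_trans_of_moved h I hγC hu' hx2 hgN hg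
    obtain ⟨x₀, hx₀⟩ := M.two_exists_not_Zw h
    obtain ⟨y₀, hy₀, hy₀ne⟩ : ∃ y₀ : D.W, y₀ ∉ D.Zw ∧ x₀⁻¹ * y₀ ∉ D.Zw := by
      by_contra hno
      push Not at hno
      have hle : D.Zw.index ≤ 2 := by
        rw [Subgroup.index_eq_card]
        have hsub : ∀ q : D.W ⧸ D.Zw, q = 1 ∨ q = (x₀ : D.W ⧸ D.Zw) := fun q => by
          obtain ⟨y, rfl⟩ := QuotientGroup.mk_surjective q
          by_cases hy : y ∈ D.Zw
          · exact Or.inl ((QuotientGroup.eq_one_iff y).mpr hy)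
          · exact Or.inr (QuotientGroup.eq.mpr (hno y hy)).symm
        refine le_of_le_of_eq (Nat.card_le_card_of_surjective
          (fun b : Bool => if b then (1 : D.W ⧸ D.Zw) else (x₀ : D.W ⧸ D.Zw)) fun q => ?_) (by simp)
        rcases hsub q with rfl | rfl
        exacts [⟨true, rfl⟩, ⟨false, rfl⟩]
      have := M.two_index h
      omega
    obtain ⟨c, hcu, hc⟩ := htr' x₀ y₀ hx₀ hy₀
    have hmem : u' ∈ M.fixClass c := ⟨hu', UData.mem_stabCls.mp hcu⟩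
    have hEle : E ≤ M.fixClass c := fun y hy => ⟨hE.le_U hy, hE.fix c y hy⟩
    have hfull : M.fixClass c = D.U :=
      (M.two_line_max h hE.inv hE.W_le hE.card (M.inv_fixClass c) hEle (M.fixClass_le c)).resolve_left
        fun e => hu'E (e.le hmem)
    have hcl := M.clsPerm_eq_one_iff.mp (M.clsPerm_of_centralizes (M.centralizes_of_fixClass hS c hfull.ge)) x₀
    refine hy₀ne ?_
    have h1 := D.Zw.mul_mem (D.Zw.inv_mem hcl) hc
    rwa [mul_inv_rev, inv_inv, mul_assoc, mul_inv_cancel_left] at h1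
  · rintro w' hw' t ⟨ht2, x, hx, hxX, rfl⟩ hc
    refine ⟨by rw [hc.symm.mul_mul_mul_comm, I.W_sq w' hw', one_mul, ht2], ?_⟩
    obtain ⟨v, hv, rfl⟩ := hw'
    refine ⟨v * x, ⟨mul_mem (D.W_le_N hv) hx.1, fun y hy => ?_⟩,
      fun hm => hxX ((X.mul_mem_cancel_left (mem_sup_left (hE.W_le hv))).mp hm), map_mul π v x⟩
    rw [show ⁅v * x, y⁆ = v * ⁅x, y⁆ * v⁻¹ * ⁅v, y⁆ by simp [commutatorElement_def, mul_assoc]]
    exact mul_mem (mul_mem (mul_mem hv (hx.2 y hy)) (inv_mem hv)) (hsp.comm_mem v hv.1 y hy)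

end Cfg

end Cfsg.Agent.H24.Flav
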