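import Cfsg.Agent.H8.Shult.CnotLeN2
import Cfsg.Agent.H24.Flav.CnotLeN2Odd
import Cfsg.Agent.H24.Flav.CnotLeN2Trans

/-!
Two constituents with a fixed element outside `N` are impossible.

In the general configuration.
-/

set_option autoImplicit false
set_option linter.unusedSectionVars false

namespace Cfsg.Agent.H24.Flav

open Subgroup
open Cfsg.Agent.H8.Shult hiding Min
open scoped commutatorElement

universe u v w

variable {G : Type u} [Group G] [Finite G] {p r : ℕ} [hp : Fact p.Prime] {a : MulAut G}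
variable {k : Type w} [Field k] [CharP k p] {V : Type v} [AddCommGroup V] [Module k V]
variable [IsAlgClosed k] [FiniteDimensional k V]
variable {ρ : G →* Module.End k V} {T : Module.End k V}
variable {D : UData a}

namespace Cfg

variable (M : Cfg p r a ρ T) {m : ℕ} {z : D.W}
include M

/-- An orbit of about half of the affine characters is impossible. -/
theorem two_false_orbit (h : Two ρ D r m z) (P : (D.W →* ℤˣ) → Prop) (hP : ∀ c μ, P μ → P (D.act c μ))
    (hocc : ∀ μ, P μ → Occ ρ D μ) (htr : ∀ χ μ, P χ → P μ → ∃ c, D.act c χ = μ) {s : ℕ} (hs : 2 ≤ s)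
    (hq : D.Zw.index = 4 * s ^ 2)
    (hn : Nat.card {μ // P μ} + s = 2 * s ^ 2 ∨ Nat.card {μ // P μ} = 2 * s ^ 2 + s) : False := by
  classical
  let X := {μ : D.W →* ℤˣ // P μ}
  let θ := D.actPerm P hP
  let θ' := θ.rangeRestrict
  set n := Nat.card X with hnX
  have hss : 2 * s ≤ s ^ 2 := by rw [pow_two]; exact Nat.mul_le_mul_right _ hs
  have hn2 : 2 ≤ n := by rcases hn with e | e <;> omega
  have hnq : n < D.Zw.index - 1 := by rcases hn with e | e <;> omega
  obtain ⟨⟨χ, hχ⟩, ⟨μ₁, hμ₁⟩, hne⟩ := (Finite.one_lt_card_iff_nontrivial (α := X)).mp hn2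
  have hne' : χ ≠ μ₁ := fun e => hne (Subtype.ext e)
  have hθ : ∀ {c : D.Gam}, θ c = 1 ↔ (c : G) ∈ centralizer (D.U : Set G) := fun {c} =>
    M.two_actPerm_eq_one h hP hocc hχ hμ₁ hne'
  have htwo := M.two_two_point h hP hocc
  let x₀ : X := ⟨χ, hχ⟩
  have : MulAction.IsPretransitive θ.range X := ⟨fun x y => by
    obtain ⟨c, hc⟩ := htr x.1 y.1 x.2 y.2
    exact ⟨θ' c, Subtype.ext hc⟩⟩
  have hker : θ.ker ≤ M.clsPerm.ker := fun c hc =>
    MonoidHom.mem_ker.mpr (M.clsPerm_of_centralizes (hθ.mp (MonoidHom.mem_ker.mp hc)))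
  have hst : MulAction.stabilizer θ.range x₀ ≠ ⊥ := by
    intro e
    have h1 := MulAction.index_stabilizer_of_transitive (G := θ.range) x₀
    rw [e, Subgroup.index_bot] at h1
    have h2 := M.two_sub_one_dvd h θ hker
    rw [h1] at h2
    exact absurd (Nat.le_of_dvd (by omega) h2) (not_le.mpr hnq)
  have heven : Even n := by
    obtain ⟨d, hd0, hd⟩ := M.two_index_pow h
    have hsd : s ∣ 2 ^ d := ⟨4 * s, by rw [← hd, hq]; ring⟩
    obtain ⟨i, -, hi⟩ := (Nat.dvd_prime_pow Nat.prime_two).mp hsd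
    have h2s : 2 ∣ s := hi ▸ dvd_pow_self 2 (by intro e; rw [hi, e] at hs; omega)
    rw [even_iff_two_dvd]
    rcases hn with e | e
    · exact (Nat.dvd_add_left h2s).mp (e ▸ dvd_mul_right 2 _)
    · rw [e]; exact dvd_add (dvd_mul_right 2 _) h2s
  obtain ⟨K, hKn, hK2, hK0, -, -⟩ := exists_semiregular_two_kernel htwo x₀ hst heven
  have := hKn
  have hKt : ∀ c ∈ K.comap θ', M.clsPerm c = 1 := M.two_cls_of_normal h (K.comap θ') fun c hc => by
    obtain ⟨j, hj⟩ := hK2 ⟨θ' c, hc⟩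
    have e : θ' c ^ 2 ^ j = 1 := congrArg Subtype.val hj
    rw [← map_pow] at e
    exact ⟨j, hθ.mp (congrArg Subtype.val e)⟩
  have hχz := M.two_occ_z h (hocc χ hχ)
  obtain ⟨⟨g, hg⟩, hg1⟩ := K.ne_bot_iff_exists_ne_one.mp hK0
  obtain ⟨_, k₀, rfl⟩ := g
  have hk₀K : k₀ ∈ K.comap θ' := hg
  set ε₀ := χ * D.act k₀ χ with hε₀
  have hk₀χ : D.act k₀ χ = χ * ε₀ := by rw [hε₀, ← mul_assoc, char_mul_self, one_mul]
  have hε₀1 : ε₀ ≠ 1 := fun e => by
    rw [e, mul_one] at hk₀χ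
    exact hg1 (Subtype.ext (Subtype.ext (hθ.mpr (M.two_centralizes_of_cls h (hKt k₀ hk₀K) hχz hk₀χ))))
  have hε₀z : ε₀ z = 1 := by rw [hε₀, MonoidHom.mul_apply, M.two_act_z h, hχz, Int.units_mul_self]
  have hall : ∀ ν : D.W →* ℤˣ, ν z = -1 → P ν := by
    intro ν hν
    by_cases he : ν = χ
    · exact he ▸ hχ
    obtain ⟨c, hc⟩ := M.two_trans_top h hε₀z hε₀1
      (show (χ * ν) z = 1 by rw [MonoidHom.mul_apply, hχz, hν, Int.units_mul_self])
      (fun e => he (by rw [← one_mul ν, ← char_mul_self χ, mul_assoc, e, mul_one]))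
    set t := c * k₀ * c⁻¹ with ht
    have htK : t ∈ K.comap θ' := Subgroup.Normal.conj_mem inferInstance k₀ hk₀K c
    have h1 : D.act t (D.act c χ) = D.act c χ * (χ * ν) := by
      rw [ht, UData.act_act, inv_mul_cancel_right, ← D.act_act c k₀ χ, hk₀χ, UData.act_mul, hc]
    have h2 := M.two_act_translation h (hKt t htK) hχz (show D.act c χ z = -1 by rw [M.two_act_z h]; exact hχz)
    rw [h1] at h2
    rw [mul_left_cancel (mul_left_cancel h2)]
    exact hP t χ hχ
  have hle : D.Zw.index ≤ n := by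
    rw [← M.two_affine_card h]
    exact Nat.card_le_card_of_injective (fun ν => (⟨ν.1, hall ν.1 ν.2⟩ : X))
      fun ν ν' e => Subtype.ext (congrArg (fun x : X => x.1) e)
  omega

/-- Two constituents with a fixed element outside `N` are impossible. -/
theorem false_notLe_two (hS : Shape ρ D r m) (hC : ¬ fixedBy a ≤ D.N) (hWb : D.Wb ≠ ⊥)
    (hk2 : Nat.card D.U = 2 ^ (2 * (2 * m)) * Nat.card D.W) : False := by
  classical
  obtain ⟨z, hz, hz1⟩ := M.exists_central hS hC (by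
    rw [hk2]
    exact Nat.mul_lt_mul_of_pos_right (Nat.pow_lt_pow_right one_lt_two (by have := hS.pos; omega)) Nat.card_pos)
  have h : Two ρ D r m z := ⟨hS, hk2, hC, hWb, hz, hz1⟩
  obtain ⟨χ, -, hχ, -, -⟩ := M.two_exists_pair h
  by_cases hfix : ∃ μ, Occ ρ D μ ∧ ∀ c, D.act c μ = μ
  · obtain ⟨μ, hμ, hμf⟩ := hfix
    exact M.two_false_fixed_occ h hμ hμf
  have : Fintype (D.W →* ℤˣ) := Fintype.ofFinite _
  set P : Finset (D.W →* ℤˣ) := Finset.univ.filter fun μ => ∃ c, D.act c χ = μ with hPdef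
  have hmem : ∀ μ, μ ∈ P ↔ ∃ c, D.act c χ = μ := fun μ => by rw [hPdef, Finset.mem_filter]; simp
  have hχP : χ ∈ P := (hmem χ).mpr ⟨1, D.act_one χ⟩
  have hPocc : ∀ μ ∈ P, Occ ρ D μ := fun μ hμ => by
    obtain ⟨c, rfl⟩ := (hmem μ).mp hμ; exact M.occ_act hχ c
  have hPinv : ∀ c, ∀ μ ∈ P, D.act c μ ∈ P := fun c μ hμ => by
    obtain ⟨d, rfl⟩ := (hmem μ).mp hμ; exact (hmem _).mpr ⟨c * d, (D.act_act c d χ).symm⟩
  have hPtr : ∀ μ μ', μ ∈ P → μ' ∈ P → ∃ c, D.act c μ = μ' := fun μ μ' hμ hμ' => by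
    obtain ⟨c, rfl⟩ := (hmem μ).mp hμ
    obtain ⟨d, rfl⟩ := (hmem μ').mp hμ'
    exact ⟨d * c⁻¹, by rw [D.act_act, inv_mul_cancel_right]⟩
  set Aff : Finset (D.W →* ℤˣ) := Finset.univ.filter fun μ => μ z = -1 with hAdef
  have hAmem : ∀ μ, μ ∈ Aff ↔ μ z = -1 := fun μ => by rw [hAdef, Finset.mem_filter]; simp
  have hAcard : Aff.card = D.Zw.index := by
    rw [← M.two_affine_card h, Nat.card_eq_fintype_card, Fintype.card_subtype]
  have hPA : P ⊆ Aff := fun μ hμ => (hAmem μ).mpr (M.two_occ_z h (hPocc μ hμ))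
  have h1 : P.card ≠ 1 := fun e => hfix ⟨χ, hχ, fun c =>
    Finset.card_le_one.mp e.le _ (hPinv c χ hχP) χ hχP⟩
  have hminus : P.card = D.Zw.index - 1 → False := by
    intro e
    have hc1 : (Aff \ P).card = 1 := by
      rw [Finset.card_sdiff_of_subset hPA, hAcard, e]
      have := M.two_index h
      omega
    obtain ⟨ν, hν⟩ := Finset.card_eq_one.mp hc1
    have hνm : ν ∈ Aff \ P := hν ▸ Finset.mem_singleton_self ν
    obtain ⟨hνA, hνP⟩ := Finset.mem_sdiff.mp hνm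
    have hνz := (hAmem ν).mp hνA
    have hνfix : ∀ c, D.act c ν = ν := fun c => by
      refine Finset.mem_singleton.mp (hν ▸ Finset.mem_sdiff.mpr ⟨(hAmem _).mpr ?_, fun hm => hνP ?_⟩)
      · rw [M.two_act_z h]; exact hνz
      · have := hPinv c⁻¹ _ hm
        rwa [D.act_act, inv_mul_cancel, D.act_one] at this
    exact M.two_false_fixed_not_occ h hνz hνfix fun ho => hfix ⟨ν, ho, hνfix⟩
  rcases M.two_orbit_card h P hPocc hPinv with e | e | e | e | ⟨s, hs, hq, e⟩
  · rw [Finset.card_eq_zero.mp e] at hχP; exact Finset.notMem_empty _ hχP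
  · exact h1 e
  · exact hminus e
  · have hPeq : P = Aff := Finset.eq_of_subset_of_card_le hPA (by rw [hAcard, e])
    have hin : ∀ μ : D.W →* ℤˣ, μ z = -1 → μ ∈ P := fun μ hμ => hPeq ▸ (hAmem μ).mpr hμ
    exact M.two_false_trans h (fun μ hμ => hPocc μ (hin μ hμ))
      fun μ μ' hμ hμ' => hPtr μ μ' (hin μ (M.two_occ_z h hμ)) (hin μ' (M.two_occ_z h hμ'))
  · rcases Nat.lt_or_ge s 2 with hs2 | hs2
    · obtain rfl : s = 1 := by omega
      rcases e with e | e
      · exact h1 (by omega)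
      · exact hminus (by omega)
    · have hcard : Nat.card {μ // μ ∈ P} = P.card := by rw [Nat.card_eq_fintype_card, Fintype.card_coe]
      exact M.two_false_orbit h (fun μ => μ ∈ P) (fun c μ hμ => hPinv c μ hμ) hPocc hPtr hs2 hq
        (by rw [hcard]; exact e)

end Cfg

end Cfsg.Agent.H24.Flav
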