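import Cfsg.Agent.H24.Flav.CommonRadTheta

/-!
A commutative invariant space of maps between two modules with a common radical composes to zero.
-/

set_option autoImplicit false
set_option linter.unusedSectionVars false

namespace Cfsg.Agent.H24.Flav.Heis

open Cfsg.Agent.H8.Shult (sgn)

universe u w

variable {Q : Type u} [Group Q] [Fintype Q] {k : Type w} [Field k]
variable {E Z : Type*} [AddCommGroup E] [Module k E] [AddCommGroup Z] [Module k Z]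
  [FiniteDimensional k E] [FiniteDimensional k Z]
variable {β : Q →* Q →* ℤˣ} {σ : MulAut Q} {l : Q → ℤˣ} {r n : ℕ}
variable {π : Q →* Module.End k E} {πZ : Q →* Module.End k Z}

/-- Functionals on the maps to `E` are given by maps from `E`. -/
theorem IsHeis.exists_realise' (h : IsHeis β l n π) (e : Env k β σ r n) (hZ : Scal β l πZ)
    (c : eqv πZ π →ₗ[k] k) :
    ∃ i ∈ eqv π πZ, ∀ g : eqv πZ π, (g : Z →ₗ[k] E) ∘ₗ i = c g • LinearMap.id := by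
  obtain ⟨P, -, hr, hP⟩ := h.exists_pairing e hZ
  obtain ⟨i, hi⟩ := (LinearMap.injective_iff_surjective_of_finrank_eq_finrank
    ((h.finrank_eqv_symm e hZ).symm.trans Subspace.dual_finrank_eq.symm)).mp hr c
  exact ⟨i, i.2, fun g => by rw [hP g i, ← hi]; rfl⟩

theorem semi_powers_comm {τ : Module.End k E} {T : Module.End k Z} {f : E →ₗ[k] Z}
    (h : ∀ v, T (f v) = f (τ v)) : ∀ (i : ℕ) v, (T ^ i) (f v) = f ((τ ^ i) v) := by
  intro i
  induction i with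
  | zero => intro v; rfl
  | succ i ih => intro v; rw [pow_succ', Module.End.mul_apply, ih, h, pow_succ', Module.End.mul_apply]

/-- The sign function of the radical is invariant. -/
theorem Scal.l_map [Nontrivial Z] (e : Env k β σ r n) (hs : Scal β l πZ) {T : Module.End k Z}
    (ht : Semi σ πZ T) (htr : T ^ r = 1) {x : Q} (hx : x ∈ β.ker) : l (σ x) = l x := by
  obtain ⟨v, hv⟩ := exists_ne (0 : Z)
  refine sgn_inj e.two (smul_left_injective k hv ?_)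
  show sgn k (l (σ x)) • v = sgn k (l x) • v
  rw [← hs _ (e.mem_ker_map hx), ← (pow_pred_apply e.prime.pos htr v).2, ← ht, hs x hx, map_smul]

variable [IsAlgClosed k]

/-- A module whose commutant commutes with `T` is `E ⊗ A` with `T = τ ⊗ 1`. -/
theorem exists_base (e : Env k β σ r n) [Nontrivial Z] (hZ : Scal β l πZ) (hC : Comm β πZ) {T : Module.End k Z}
    (hT : Semi σ πZ T) (hTr : T ^ r = 1) (hcommutant : ∀ f ∈ eqv πZ πZ, ∀ v, T (f v) = f (T v)) :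
    ∃ (S : Submodule k Z) (hS : ∀ x, ∀ v ∈ S, πZ x v ∈ S),
      IsHeis β l n (restrictRep πZ S hS) ∧ ∃ τ : Module.End k S, Semi σ (restrictRep πZ S hS) τ ∧ τ ^ r = 1 ∧
        (∀ j ∈ eqv (restrictRep πZ S hS) πZ, ∀ v, T (j v) = j (τ v)) ∧
        ∀ g ∈ eqv πZ (restrictRep πZ S hS), ∀ v, τ (g v) = g (T v) := by
  obtain ⟨S, hS, hH⟩ := exists_heis e hZ hC
  have := hH.nontrivial e
  set π' := restrictRep πZ S hS
  have hι : S.subtype ∈ eqv π' πZ := fun x v => rfl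
  have hι0 : (⟨S.subtype, hι⟩ : eqv π' πZ) ≠ 0 := fun h => by
    obtain ⟨v, hv⟩ := exists_ne (0 : S)
    exact hv (Subtype.ext (LinearMap.congr_fun (congrArg Subtype.val h) v))
  obtain ⟨φ, hφ⟩ := Module.Projective.exists_dual_ne_zero k hι0
  obtain ⟨g₀, hg₀, hg₀'⟩ := hH.exists_realise e hZ ((φ ⟨S.subtype, hι⟩)⁻¹ • φ)
  have hproj : ∀ v : S, g₀ v = v := fun v => by
    have h := LinearMap.congr_fun (hg₀' ⟨S.subtype, hι⟩) v
    simpa [inv_mul_cancel₀ hφ] using h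
  have hTS : ∀ v ∈ S, T v ∈ S := fun v hv => by
    have h := hcommutant (S.subtype ∘ₗ g₀) (eqv_comp hg₀ hι) v
    rw [LinearMap.comp_apply, LinearMap.comp_apply, show g₀ v = ⟨v, hv⟩ from hproj ⟨v, hv⟩] at h
    rw [show T v = T (S.subtype ⟨v, hv⟩) from rfl, h]
    exact Submodule.coe_mem _
  refine ⟨S, hS, hH, T.restrict hTS, fun x v => Subtype.ext (hT x v), ?_, fun j hj v => ?_, fun g hg v => ?_⟩
  · refine LinearMap.ext fun v => Subtype.ext ?_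
    rw [Cfsg.Agent.H8.Shult.restrict_pow_coe, hTr]
    rfl
  · have h := hcommutant (j ∘ₗ g₀) (eqv_comp hg₀ hj) v
    rw [LinearMap.comp_apply, LinearMap.comp_apply, hproj] at h
    rw [h, show T (v : Z) = (T.restrict hTS v : S) from rfl, hproj]
  · exact Subtype.ext (hcommutant (S.subtype ∘ₗ g) (eqv_comp hg hι) v)

variable {βμ βχ βψ : Q →* Q →* ℤˣ} {lμ lχ lψ : Q → ℤˣ}
variable {X Y : Type*} [AddCommGroup X] [Module k X] [AddCommGroup Y] [Module k Y]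
  [FiniteDimensional k X] [FiniteDimensional k Y]
variable {Eμ Eχ Eψ : Type*} [AddCommGroup Eμ] [Module k Eμ] [AddCommGroup Eχ] [Module k Eχ]
  [AddCommGroup Eψ] [Module k Eψ] [FiniteDimensional k Eμ] [FiniteDimensional k Eχ] [FiniteDimensional k Eψ]
variable {πX : Q →* Module.End k X} {πY : Q →* Module.End k Y} {TX : Module.End k X} {TY : Module.End k Y}
variable {πμ : Q →* Module.End k Eμ} {πχ : Q →* Module.End k Eχ} {πψ : Q →* Module.End k Eψ}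
variable {τμ : Module.End k Eμ} {τχ : Module.End k Eχ} {τψ : Module.End k Eψ}

/-- An eigen family of maps from `Y` to `X` factors through one eigen family between the irreducibles. -/
theorem Triple.exists_factor_left (t : Triple k βμ βχ βψ σ r n) (hμ : IsHeis βμ lμ n πμ) (hχ : IsHeis βχ lχ n πχ)
    (hψ : IsHeis βψ lψ n πψ) (hl : ∀ x ∈ βμ.ker, lμ x = lψ x * lχ x) (sμ : Semi σ πμ τμ) (tμ : τμ ^ r = 1)
    (sχ : Semi σ πχ τχ) (tχ : τχ ^ r = 1) (sψ : Semi σ πψ τψ) (tψ : τψ ^ r = 1) (hY : Scal βψ lψ πY)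
    (hτY : ∀ i ∈ eqv πψ πY, ∀ v, TY (i v) = i (τψ v)) (hτX : ∀ g ∈ eqv πX πχ, ∀ v, τχ (g v) = g (TX v))
    {c : k} {j : Eμ →ₗ[k] Y →ₗ[k] X} (hj : j ∈ eqv πμ (homRep πY πX))
    (hjc : conjT r τμ (conjT r TY TX) j = c • j) :
    ∃ θ ∈ eqv πμ (homRep πψ πχ), famT r τμ τψ τχ θ = c • θ ∧
      ∀ g ∈ eqv πX πχ, ∃ P ∈ eqv πY πψ, ∀ f, g ∘ₗ j f = θ f ∘ₗ P := by
  classical
  let A : eqv πX πχ → eqv πψ πY → Eμ →ₗ[k] Eψ →ₗ[k] Eχ := fun g i =>
    LinearMap.llcomp k Eψ X Eχ (g : X →ₗ[k] Eχ) ∘ₗ LinearMap.lcomp k X (i : Eψ →ₗ[k] Y) ∘ₗ j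
  have hA : ∀ g i f z, A g i f z = (g : X →ₗ[k] Eχ) (j f ((i : Eψ →ₗ[k] Y) z)) := fun g i f z => rfl
  have hAm : ∀ g i, A g i ∈ eqv πμ (homRep πψ πχ) := fun g i x f => LinearMap.ext fun z => by
    rw [hA, hj, homRep_apply, g.2, homRep_apply, hA, i.2]
  have hAc : ∀ g i, famT r τμ τψ τχ (A g i) = c • A g i := fun g i => by
    refine LinearMap.ext fun f => LinearMap.ext fun z => ?_
    rw [famT_apply, hA, LinearMap.smul_apply, LinearMap.smul_apply, hA, ← semi_powers_comm (hτY i i.2), hτX g g.2]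
    have h := congrArg (fun J : Eμ →ₗ[k] Y →ₗ[k] X => (g : X →ₗ[k] Eχ) (J f ((i : Eψ →ₗ[k] Y) z))) hjc
    simpa only [conjT_apply, LinearMap.smul_apply, map_smul] using h
  have := hψ.nontrivial t.eψ
  by_cases hall : ∀ g i, A g i = 0
  · refine ⟨0, zero_mem _, by simp, fun g hg => ⟨0, zero_mem _, fun f => LinearMap.ext fun y => ?_⟩⟩
    have h0 : y ∈ LinearMap.ker (g ∘ₗ j f) := cospan t.eψ.symm t.eψ.card hψ.scal hψ.comm hY (fun i hi v => by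
      have h := LinearMap.congr_fun (LinearMap.congr_fun (hall ⟨g, hg⟩ ⟨i, hi⟩) f) v
      rw [hA] at h
      simpa using h) y
    simpa using h0
  push Not at hall
  obtain ⟨g₀, i₀, hθ⟩ := hall
  obtain ⟨δ, hδ⟩ := Module.Projective.exists_dual_ne_zero k hθ
  refine ⟨A g₀ i₀, hAm _ _, hAc _ _, fun g hg => ?_⟩
  let cf : eqv πψ πY →ₗ[k] k :=
    { toFun := fun i => (δ (A g₀ i₀))⁻¹ * δ (A ⟨g, hg⟩ i)
      map_add' := fun i i' => by
        rw [← mul_add, ← map_add]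
        congr 2
        exact LinearMap.ext fun f => LinearMap.ext fun z => by simp [hA]
      map_smul' := fun d i => by
        rw [show A ⟨g, hg⟩ (d • i) = d • A ⟨g, hg⟩ i from LinearMap.ext fun f => LinearMap.ext fun z => by simp [hA],
          map_smul, smul_eq_mul, RingHom.id_apply, smul_eq_mul]
        ring }
  have hcf : ∀ i, A ⟨g, hg⟩ i = cf i • A g₀ i₀ := fun i => by
    obtain ⟨d, hd⟩ := t.swap.eig_unique_fam hμ hψ hχ hl sμ tμ sψ tψ sχ tχ (hAm ⟨g, hg⟩ i) (hAm g₀ i₀)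
      (hAc ⟨g, hg⟩ i) (hAc g₀ i₀) hθ
    have hcd : cf i = d := by
      show (δ (A g₀ i₀))⁻¹ * δ (A ⟨g, hg⟩ i) = d
      rw [hd, map_smul, smul_eq_mul, mul_left_comm, inv_mul_cancel₀ hδ, mul_one]
    rw [hcd, hd]
  obtain ⟨P, hP, hP'⟩ := hψ.exists_realise t.eψ hY cf
  refine ⟨P, hP, fun f => LinearMap.ext fun y => ?_⟩
  have h0 : y ∈ LinearMap.ker (g ∘ₗ j f - A g₀ i₀ f ∘ₗ P) :=
    cospan t.eψ.symm t.eψ.card hψ.scal hψ.comm hY (fun i hi v => by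
      rw [LinearMap.mem_ker, LinearMap.sub_apply, sub_eq_zero, LinearMap.comp_apply, LinearMap.comp_apply,
        show P (i v) = (P ∘ₗ ((⟨i, hi⟩ : eqv πψ πY) : Eψ →ₗ[k] Y)) v from rfl, hP', LinearMap.smul_apply,
        LinearMap.id_apply, map_smul]
      have h := LinearMap.congr_fun (LinearMap.congr_fun (hcf ⟨i, hi⟩) f) v
      rw [hA] at h
      simpa using h) y
  rw [LinearMap.mem_ker, LinearMap.sub_apply, sub_eq_zero] at h0
  exact h0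

/-- An eigen family of maps from `X` to `Y` factors through one eigen family between the irreducibles. -/
theorem Triple.exists_factor_right (t : Triple k βμ βχ βψ σ r n) (hμ : IsHeis βμ lμ n πμ) (hχ : IsHeis βχ lχ n πχ)
    (hψ : IsHeis βψ lψ n πψ) (hl : ∀ x ∈ βμ.ker, lμ x = lχ x * lψ x) (sμ : Semi σ πμ τμ) (tμ : τμ ^ r = 1)
    (sχ : Semi σ πχ τχ) (tχ : τχ ^ r = 1) (sψ : Semi σ πψ τψ) (tψ : τψ ^ r = 1) (hY : Scal βψ lψ πY)
    (hτX : ∀ i ∈ eqv πχ πX, ∀ v, TX (i v) = i (τχ v)) (hτY : ∀ g ∈ eqv πY πψ, ∀ v, τψ (g v) = g (TY v))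
    {c : k} {j : Eμ →ₗ[k] X →ₗ[k] Y} (hj : j ∈ eqv πμ (homRep πX πY))
    (hjc : conjT r τμ (conjT r TX TY) j = c • j) :
    ∃ θ ∈ eqv πμ (homRep πχ πψ), famT r τμ τχ τψ θ = c • θ ∧
      ∀ i ∈ eqv πχ πX, ∃ I ∈ eqv πψ πY, ∀ f, j f ∘ₗ i = I ∘ₗ θ f := by
  classical
  let A : eqv πY πψ → eqv πχ πX → Eμ →ₗ[k] Eχ →ₗ[k] Eψ := fun g i =>
    LinearMap.llcomp k Eχ Y Eψ (g : Y →ₗ[k] Eψ) ∘ₗ LinearMap.lcomp k Y (i : Eχ →ₗ[k] X) ∘ₗ j
  have hA : ∀ g i f z, A g i f z = (g : Y →ₗ[k] Eψ) (j f ((i : Eχ →ₗ[k] X) z)) := fun g i f z => rfl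
  have hAm : ∀ g i, A g i ∈ eqv πμ (homRep πχ πψ) := fun g i x f => LinearMap.ext fun z => by
    rw [hA, hj, homRep_apply, g.2, homRep_apply, hA, i.2]
  have hAc : ∀ g i, famT r τμ τχ τψ (A g i) = c • A g i := fun g i => by
    refine LinearMap.ext fun f => LinearMap.ext fun z => ?_
    rw [famT_apply, hA, LinearMap.smul_apply, LinearMap.smul_apply, hA, ← semi_powers_comm (hτX i i.2), hτY g g.2]
    have h := congrArg (fun J : Eμ →ₗ[k] X →ₗ[k] Y => (g : Y →ₗ[k] Eψ) (J f ((i : Eχ →ₗ[k] X) z))) hjc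
    simpa only [conjT_apply, LinearMap.smul_apply, map_smul] using h
  have := hψ.nontrivial t.eψ
  by_cases hall : ∀ g i, A g i = 0
  · refine ⟨0, zero_mem _, by simp, fun i hi => ⟨0, zero_mem _, fun f => LinearMap.ext fun z => ?_⟩⟩
    rw [LinearMap.comp_apply, LinearMap.zero_comp, LinearMap.zero_apply]
    exact separate t.eψ.symm t.eψ.card hY hψ.scal hψ.comm fun g hg => by
      have h := LinearMap.congr_fun (LinearMap.congr_fun (hall ⟨g, hg⟩ ⟨i, hi⟩) f) z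
      rw [hA] at h
      simpa using h
  push Not at hall
  obtain ⟨g₀, i₀, hθ⟩ := hall
  obtain ⟨δ, hδ⟩ := Module.Projective.exists_dual_ne_zero k hθ
  refine ⟨A g₀ i₀, hAm _ _, hAc _ _, fun i hi => ?_⟩
  let cf : eqv πY πψ →ₗ[k] k :=
    { toFun := fun g => (δ (A g₀ i₀))⁻¹ * δ (A g ⟨i, hi⟩)
      map_add' := fun g g' => by
        rw [← mul_add, ← map_add]
        congr 2
      map_smul' := fun d g => by
        rw [show A (d • g) ⟨i, hi⟩ = d • A g ⟨i, hi⟩ from LinearMap.ext fun f => LinearMap.ext fun z => by simp [hA],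
          map_smul, smul_eq_mul, RingHom.id_apply, smul_eq_mul]
        ring }
  have hcf : ∀ g, A g ⟨i, hi⟩ = cf g • A g₀ i₀ := fun g => by
    obtain ⟨d, hd⟩ := t.eig_unique_fam hμ hχ hψ hl sμ tμ sχ tχ sψ tψ (hAm g ⟨i, hi⟩) (hAm g₀ i₀)
      (hAc g ⟨i, hi⟩) (hAc g₀ i₀) hθ
    have hcd : cf g = d := by
      show (δ (A g₀ i₀))⁻¹ * δ (A g ⟨i, hi⟩) = d
      rw [hd, map_smul, smul_eq_mul, mul_left_comm, inv_mul_cancel₀ hδ, mul_one]
    rw [hcd, hd]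
  obtain ⟨I, hI, hI'⟩ := hψ.exists_realise' t.eψ hY cf
  refine ⟨I, hI, fun f => LinearMap.ext fun z => ?_⟩
  rw [← sub_eq_zero]
  refine separate t.eψ.symm t.eψ.card hY hψ.scal hψ.comm fun g hg => ?_
  rw [map_sub, sub_eq_zero, LinearMap.comp_apply, LinearMap.comp_apply,
    show g (I (A g₀ i₀ f z)) = (((⟨g, hg⟩ : eqv πY πψ) : Y →ₗ[k] Eψ) ∘ₗ I) (A g₀ i₀ f z) from rfl, hI',
    LinearMap.smul_apply, LinearMap.id_apply]
  have h := LinearMap.congr_fun (LinearMap.congr_fun (hcf ⟨g, hg⟩) f) z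
  rw [hA] at h
  simpa using h

/-- Two eigen families of a commutative invariant space compose to zero. -/
theorem Triple.eigen_comp_eq_zero (t : Triple k βμ βχ βψ σ r n) (hμ : IsHeis βμ lμ n πμ) (hχ : IsHeis βχ lχ n πχ)
    (hψ : IsHeis βψ lψ n πψ) (hl : ∀ x ∈ βμ.ker, lμ x = lχ x * lψ x) (sμ : Semi σ πμ τμ) (tμ : τμ ^ r = 1)
    (sχ : Semi σ πχ τχ) (tχ : τχ ^ r = 1) (sψ : Semi σ πψ τψ) (tψ : τψ ^ r = 1)
    (hX : Scal βχ lχ πX) (hY : Scal βψ lψ πY)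
    (hXi : ∀ i ∈ eqv πχ πX, ∀ v, TX (i v) = i (τχ v)) (hXp : ∀ g ∈ eqv πX πχ, ∀ v, τχ (g v) = g (TX v))
    (hYi : ∀ i ∈ eqv πψ πY, ∀ v, TY (i v) = i (τψ v)) (hYp : ∀ g ∈ eqv πY πψ, ∀ v, τψ (g v) = g (TY v))
    {c c' : k} {j₁ j₁' : Eμ →ₗ[k] X →ₗ[k] Y} {j₂ j₂' : Eμ →ₗ[k] Y →ₗ[k] X}
    (hj₁ : j₁ ∈ eqv πμ (homRep πX πY)) (hj₁' : j₁' ∈ eqv πμ (homRep πX πY))
    (hj₂ : j₂ ∈ eqv πμ (homRep πY πX)) (hj₂' : j₂' ∈ eqv πμ (homRep πY πX))
    (hc1 : conjT r τμ (conjT r TX TY) j₁ = c • j₁) (hc1' : conjT r τμ (conjT r TX TY) j₁' = c' • j₁')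
    (hc2 : conjT r τμ (conjT r TY TX) j₂ = c • j₂) (hc2' : conjT r τμ (conjT r TY TX) j₂' = c' • j₂')
    (hcomm : ∀ e f, j₂ e ∘ₗ j₁' f = j₂' f ∘ₗ j₁ e) (e f : Eμ) : j₂ e ∘ₗ j₁' f = 0 := by
  have hl' : ∀ x ∈ βμ.ker, lμ x = lψ x * lχ x := fun x hx => (hl x hx).trans (mul_comm _ _)
  have := hψ.nontrivial t.eψ
  have := hχ.nontrivial t.eχ
  obtain ⟨a, ha, hac, haf⟩ := t.exists_factor_left hμ hχ hψ hl' sμ tμ sχ tχ sψ tψ hY hYi hXp hj₂ hc2
  obtain ⟨a', ha', hac', haf'⟩ := t.exists_factor_left hμ hχ hψ hl' sμ tμ sχ tχ sψ tψ hY hYi hXp hj₂'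
    hc2'
  obtain ⟨b, hb, -, hbf⟩ := t.exists_factor_right hμ hχ hψ hl sμ tμ sχ tχ sψ tψ hY hXi hYp hj₁ hc1
  obtain ⟨b', hb', -, hbf'⟩ := t.exists_factor_right hμ hχ hψ hl sμ tμ sχ tχ sψ tψ hY hXi hYp hj₁'
    hc1'
  set h : X →ₗ[k] X := j₂ e ∘ₗ j₁' f
  refine LinearMap.ext fun z => ?_
  suffices z ∈ LinearMap.ker h by simpa using this
  refine cospan t.eχ.symm t.eχ.card hχ.scal hχ.comm hX (fun i hi v => ?_) z
  rw [LinearMap.mem_ker]
  refine separate t.eχ.symm t.eχ.card hX hχ.scal hχ.comm fun g hg => ?_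
  obtain ⟨P, hP, hPf⟩ := haf g hg
  obtain ⟨P', hP', hPf'⟩ := haf' g hg
  obtain ⟨I, hI, hIf⟩ := hbf i hi
  obtain ⟨I', hI', hIf'⟩ := hbf' i hi
  obtain ⟨s, hs⟩ := hψ.exists_scalar t.eψ (eqv_comp hI' hP)
  obtain ⟨s', hs'⟩ := hψ.exists_scalar t.eψ (eqv_comp hI hP')
  have h1 : ∀ e f, g ∘ₗ (j₂ e ∘ₗ j₁' f) ∘ₗ i = (s • a) e ∘ₗ b' f := fun e f => LinearMap.ext fun v => by
    have e1 : g (j₂ e (j₁' f (i v))) = a e (P (j₁' f (i v))) := LinearMap.congr_fun (hPf e) _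
    have e2 : j₁' f (i v) = I' (b' f v) := LinearMap.congr_fun (hIf' f) v
    have e3 : P (I' (b' f v)) = s • b' f v := LinearMap.congr_fun hs _
    simp only [LinearMap.comp_apply, LinearMap.smul_apply]
    rw [e1, e2, e3, map_smul]
  have h2 : ∀ e f, g ∘ₗ (j₂' f ∘ₗ j₁ e) ∘ₗ i = (s' • a') f ∘ₗ b e := fun e f => LinearMap.ext fun v => by
    have e1 : g (j₂' f (j₁ e (i v))) = a' f (P' (j₁ e (i v))) := LinearMap.congr_fun (hPf' f) _
    have e2 : j₁ e (i v) = I (b e v) := LinearMap.congr_fun (hIf e) v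
    have e3 : P' (I (b e v)) = s' • b e v := LinearMap.congr_fun hs' _
    simp only [LinearMap.comp_apply, LinearMap.smul_apply]
    rw [e1, e2, e3, map_smul]
  have hid : ∀ e f, (s • a) e ∘ₗ b' f = (s' • a') f ∘ₗ b e := fun e f => by
    rw [← h1, ← h2, hcomm]
  have h0 := t.comp_eq_zero hμ hχ hψ hl sμ tμ sχ tχ sψ tψ (a₁ := s • a) (a₂ := s' • a') (Submodule.smul_mem _ s ha)
    (Submodule.smul_mem _ s' ha') hb' hb (c := c') (by rw [map_smul, hac', smul_comm]) hid e f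
  rw [← h1] at h0
  exact LinearMap.congr_fun h0 v

/-- The families with values in a module of pairs of maps compose to zero. -/
theorem Triple.module_comp_eq_zero (t : Triple k βμ βχ βψ σ r n) (hμ : IsHeis βμ lμ n πμ) (hχ : IsHeis βχ lχ n πχ)
    (hψ : IsHeis βψ lψ n πψ) (hl : ∀ x ∈ βμ.ker, lμ x = lχ x * lψ x) (sμ : Semi σ πμ τμ) (tμ : τμ ^ r = 1)
    (sχ : Semi σ πχ τχ) (tχ : τχ ^ r = 1) (sψ : Semi σ πψ τψ) (tψ : τψ ^ r = 1)
    (hX : Scal βχ lχ πX) (hY : Scal βψ lψ πY)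
    (hXi : ∀ i ∈ eqv πχ πX, ∀ v, TX (i v) = i (τχ v)) (hXp : ∀ g ∈ eqv πX πχ, ∀ v, τχ (g v) = g (TX v))
    (hYi : ∀ i ∈ eqv πψ πY, ∀ v, TY (i v) = i (τψ v)) (hYp : ∀ g ∈ eqv πY πψ, ∀ v, τψ (g v) = g (TY v))
    (hZ : Scal βμ lμ πZ) {TZ : Module.End k Z} (sZ : Semi σ πZ TZ) (tZ : TZ ^ r = 1)
    (p₁ : Z →ₗ[k] X →ₗ[k] Y) (p₂ : Z →ₗ[k] Y →ₗ[k] X)
    (hp₁ : p₁ ∈ eqv πZ (homRep πX πY)) (hp₂ : p₂ ∈ eqv πZ (homRep πY πX))
    (hT₁ : ∀ z, conjT r TX TY (p₁ z) = p₁ (TZ z)) (hT₂ : ∀ z, conjT r TY TX (p₂ z) = p₂ (TZ z))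
    (hcomm : ∀ P R, p₂ P ∘ₗ p₁ R = p₂ R ∘ₗ p₁ P) (P R : Z) : p₂ P ∘ₗ p₁ R = 0 := by
  classical
  have hr := t.eμ.prime.pos
  have := hμ.nontrivial t.eμ
  let Tj : Module.End k (eqv πμ πZ) := (conjT r τμ TZ).restrict fun j hj => conjT_mem_eqv hr sμ tμ sZ hj
  have tj : Tj ^ r = 1 := LinearMap.ext fun j => Subtype.ext (by
    rw [show Tj = (conjT r τμ TZ).restrict _ from rfl, Cfsg.Agent.H8.Shult.restrict_pow_coe, conjT_pow tμ tZ]
    rfl)
  have hjtop := iSup_eigen tj t.eμ.r_ne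
  have key : ∀ (c c' : k) (j j' : eqv πμ πZ), Tj j = c • j → Tj j' = c' • j' → ∀ e f,
      p₂ ((j : Eμ →ₗ[k] Z) e) ∘ₗ p₁ ((j' : Eμ →ₗ[k] Z) f) = 0 := by
    intro c c' j j' hjc hjc' e f
    have hc₁ : ∀ (j : eqv πμ πZ) (c : k), Tj j = c • j →
        conjT r τμ (conjT r TX TY) (p₁ ∘ₗ (j : Eμ →ₗ[k] Z)) = c • (p₁ ∘ₗ (j : Eμ →ₗ[k] Z)) := by
      intro j c h
      refine LinearMap.ext fun v => ?_
      rw [conjT_apply, LinearMap.comp_apply, hT₁, LinearMap.smul_apply, LinearMap.comp_apply, ← map_smul]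
      exact congrArg p₁ (LinearMap.congr_fun (congrArg Subtype.val h) v)
    have hc₂ : ∀ (j : eqv πμ πZ) (c : k), Tj j = c • j →
        conjT r τμ (conjT r TY TX) (p₂ ∘ₗ (j : Eμ →ₗ[k] Z)) = c • (p₂ ∘ₗ (j : Eμ →ₗ[k] Z)) := by
      intro j c h
      refine LinearMap.ext fun v => ?_
      rw [conjT_apply, LinearMap.comp_apply, hT₂, LinearMap.smul_apply, LinearMap.comp_apply, ← map_smul]
      exact congrArg p₂ (LinearMap.congr_fun (congrArg Subtype.val h) v)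
    exact t.eigen_comp_eq_zero hμ hχ hψ hl sμ tμ sχ tχ sψ tψ hX hY hXi hXp hYi hYp
      (eqv_comp j.2 hp₁) (eqv_comp j'.2 hp₁) (eqv_comp j.2 hp₂) (eqv_comp j'.2 hp₂)
      (hc₁ j c hjc) (hc₁ j' c' hjc') (hc₂ j c hjc) (hc₂ j' c' hjc') (fun e f => hcomm _ _) e f
  let B : Z →ₗ[k] Z →ₗ[k] X →ₗ[k] X := LinearMap.mk₂ k (fun P R => p₂ P ∘ₗ p₁ R)
    (fun P P' R => by simp [LinearMap.add_comp]) (fun c P R => by simp [LinearMap.smul_comp])
    (fun P R R' => by simp [LinearMap.comp_add]) (fun c P R => by simp [LinearMap.comp_smul])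
  let ev : Eμ → (eqv πμ πZ →ₗ[k] Z) := fun e =>
    (LinearMap.applyₗ : Eμ →ₗ[k] (Eμ →ₗ[k] Z) →ₗ[k] Z) e ∘ₗ (eqv πμ πZ).subtype
  have step : ∀ (c : k) (j : eqv πμ πZ), Tj j = c • j → ∀ (j' : eqv πμ πZ) (e f : Eμ),
      B (ev e j) (ev f j') = 0 := by
    intro c j hj j' e f
    have hle : ⨆ c, Module.End.eigenspace Tj c ≤ LinearMap.ker (B (ev e j) ∘ₗ ev f) :=
      iSup_le fun c' J hJ => LinearMap.mem_ker.mpr (key c c' j J hj (Module.End.mem_eigenspace_iff.mp hJ) e f)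
    rw [hjtop] at hle
    exact LinearMap.mem_ker.mp (hle (Submodule.mem_top (x := j')))
  have key2 : ∀ (j j' : eqv πμ πZ) (e f : Eμ), B (ev e j) (ev f j') = 0 := by
    intro j j' e f
    have hle : ⨆ c, Module.End.eigenspace Tj c ≤ LinearMap.ker (B.flip (ev f j') ∘ₗ ev e) :=
      iSup_le fun c J hJ => LinearMap.mem_ker.mpr (step c J (Module.End.mem_eigenspace_iff.mp hJ) j' e f)
    rw [hjtop] at hle
    exact LinearMap.mem_ker.mp (hle (Submodule.mem_top (x := j)))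
  have h1 : ∀ (j : eqv πμ πZ) (e : Eμ) (R : Z), B (ev e j) R = 0 := fun j e R =>
    LinearMap.mem_ker.mp (cospan (S := LinearMap.ker (B (ev e j))) t.eμ.symm t.eμ.card hμ.scal hμ.comm hZ
      (fun j' hj' f => LinearMap.mem_ker.mpr (key2 j ⟨j', hj'⟩ e f)) R)
  exact LinearMap.mem_ker.mp (cospan (S := LinearMap.ker (B.flip R)) t.eμ.symm t.eμ.card hμ.scal hμ.comm hZ
    (fun j hj e => LinearMap.mem_ker.mpr (h1 ⟨j, hj⟩ e R)) P)

omit [IsAlgClosed k] in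
/-- The action on pairs of maps. -/
def prodRep (πA : Q →* Module.End k (X →ₗ[k] Y)) (πB : Q →* Module.End k (Y →ₗ[k] X)) :
    Q →* Module.End k ((X →ₗ[k] Y) × (Y →ₗ[k] X)) where
  toFun x := LinearMap.prodMap (πA x) (πB x)
  map_one' := LinearMap.ext fun p => by simp
  map_mul' x y := LinearMap.ext fun p => by simp [map_mul]

/-- The main lemma: a commutative invariant space composes to zero. -/
theorem Triple.family_comp_eq_zero [Nontrivial X] [Nontrivial Y] (t : Triple k βμ βχ βψ σ r n)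
    (hX : Scal βχ lχ πX) (hXc : Comm βχ πX) (hY : Scal βψ lψ πY) (hYc : Comm βψ πY)
    (sX : Semi σ πX TX) (tX : TX ^ r = 1) (sY : Semi σ πY TY) (tY : TY ^ r = 1)
    (hXT : ∀ f ∈ eqv πX πX, ∀ v, TX (f v) = f (TX v)) (hYT : ∀ f ∈ eqv πY πY, ∀ v, TY (f v) = f (TY v))
    (L : Submodule k ((X →ₗ[k] Y) × (Y →ₗ[k] X)))
    (hLQ : ∀ x, ∀ P ∈ L, prodRep (homRep πX πY) (homRep πY πX) x P ∈ L)
    (hLT : ∀ P ∈ L, LinearMap.prodMap (conjT r TX TY) (conjT r TY TX) P ∈ L)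
    (hcomm : ∀ P ∈ L, ∀ R ∈ L, P.2 ∘ₗ R.1 = R.2 ∘ₗ P.1) :
    ∀ P ∈ L, ∀ R ∈ L, P.2 ∘ₗ R.1 = 0 := by
  classical
  have hr := t.eμ.prime.pos
  obtain ⟨Sχ, hSχ, hχ, τχ, sχ, tχ, hXi, hXp⟩ := exists_base t.eχ hX hXc sX tX hXT
  obtain ⟨Sψ, hSψ, hψ, τψ, sψ, tψ, hYi, hYp⟩ := exists_base t.eψ hY hYc sY tY hYT
  set πχ := restrictRep πX Sχ hSχ
  set πψ := restrictRep πY Sψ hSψ
  have := hχ.nontrivial t.eχ
  have := hψ.nontrivial t.eψ
  -- the middle module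
  let lμ : Q → ℤˣ := fun x => lχ x * lψ x
  have hH : Scal βμ lμ (homRep πχ πψ) :=
    ((hχ.scal.congr t.kχ.symm fun _ _ => rfl).hom (hψ.scal.congr t.kψ.symm fun _ _ => rfl))
  have hHc : Comm βμ (homRep πχ πψ) := by
    have h := Comm.hom t.eχ.symm hχ.comm hψ.comm
    rwa [show βχ * βψ = βμ from MonoidHom.ext fun x => MonoidHom.ext fun y => by
      simp only [t.mul, MonoidHom.mul_apply]; rw [mul_left_comm, Int.units_mul_self, mul_one]] at h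
  have : Nontrivial (↥Sχ →ₗ[k] ↥Sψ) := Module.nontrivial_of_finrank_pos (R := k) (by
    rw [Module.finrank_linearMap, hχ.dim, hψ.dim]; exact t.eμ.sq_pos)
  obtain ⟨Sμ, hSμ, hμ⟩ := exists_heis t.eμ hH hHc
  set πμ := restrictRep (homRep πχ πψ) Sμ hSμ
  have := hμ.nontrivial t.eμ
  have hσl : ∀ x ∈ βμ.ker, lμ (σ x) = lμ x := fun x hx => by
    show lχ (σ x) * lψ (σ x) = lχ x * lψ x
    rw [Scal.l_map t.eχ hX sX tX (t.kχ.symm ▸ hx), Scal.l_map t.eψ hY sY tY (t.kψ.symm ▸ hx)]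
  obtain ⟨τμ, sμ, tμ⟩ := hμ.exists_semi t.eμ hσl
  -- the space as a module
  set πL := restrictRep (prodRep (homRep πX πY) (homRep πY πX)) L hLQ
  have hLs : Scal βμ lμ πL := fun x hx P => Subtype.ext <| Prod.ext
    (((hX.congr t.kχ.symm fun _ _ => rfl).hom (hY.congr t.kψ.symm fun _ _ => rfl)) x hx P.1.1)
    ((((hY.congr t.kψ.symm fun _ _ => rfl).hom (hX.congr t.kχ.symm fun _ _ => rfl)).congr rfl
      fun y _ => mul_comm _ _) x hx P.1.2)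
  let TL : Module.End k L := (LinearMap.prodMap (conjT r TX TY) (conjT r TY TX)).restrict hLT
  have sL : Semi σ πL TL := fun x P => Subtype.ext <| Prod.ext (Semi.hom hr sX tX sY x P.1.1)
    (Semi.hom hr sY tY sX x P.1.2)
  have tL : TL ^ r = 1 := LinearMap.ext fun P => Subtype.ext (by
    rw [show TL = (LinearMap.prodMap (conjT r TX TY) (conjT r TY TX)).restrict hLT from rfl,
      Cfsg.Agent.H8.Shult.restrict_pow_coe]
    have hp : ∀ i, LinearMap.prodMap (conjT r TX TY) (conjT r TY TX) ^ i =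
        LinearMap.prodMap (conjT r TX TY ^ i) (conjT r TY TX ^ i) := fun i => by
      induction i with
      | zero => exact LinearMap.ext fun _ => rfl
      | succ i ih => rw [pow_succ, ih, pow_succ, pow_succ, ← LinearMap.prodMap_mul]
    rw [hp, conjT_pow tX tY, conjT_pow tY tX]
    rfl)
  intro P hP R hR
  exact t.module_comp_eq_zero (Z := L) (πZ := πL) hμ hχ hψ (fun x _ => rfl) sμ tμ sχ tχ sψ tψ hX hY hXi hXp hYi hYp
    hLs sL tL (LinearMap.fst k (X →ₗ[k] Y) (Y →ₗ[k] X) ∘ₗ L.subtype)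
    (LinearMap.snd k (X →ₗ[k] Y) (Y →ₗ[k] X) ∘ₗ L.subtype)
    (fun x v => rfl) (fun x v => rfl) (fun z => rfl) (fun z => rfl)
    (fun P R => hcomm _ P.2 _ R.2) ⟨P, hP⟩ ⟨R, hR⟩

end Cfsg.Agent.H24.Flav.Heis
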