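import Cfsg.Agent.H8.Shult.Forms

/-!
Modules of a finite group with sign commutators: averaging over the group, and the modules of dimension `n`
with `n ^ 2` the index of the radical.
-/

set_option autoImplicit false
set_option linter.unusedSectionVars false

namespace Cfsg.Agent.H24.Flav.Heis

open Cfsg.Agent.H8.Shult (sgn sum_sign_eq_zero)

universe u w

variable {Q : Type u} [Group Q] {k : Type w} [Field k]
variable {A B E Z : Type*} [AddCommGroup A] [Module k A] [AddCommGroup B] [Module k B]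
  [AddCommGroup E] [Module k E] [AddCommGroup Z] [Module k Z]

theorem sgn_mul (e e' : ℤˣ) : sgn k (e * e') = sgn k e * sgn k e' := by simp [sgn]

theorem sgn_one : sgn k 1 = 1 := by simp [sgn]

theorem sgn_neg_one : sgn k (-1) = -1 := by simp [sgn]

theorem sgn_mul_self (e : ℤˣ) : sgn k e * sgn k e = 1 := by rw [← sgn_mul, Int.units_mul_self, sgn_one]

theorem sgn_ne_zero (e : ℤˣ) : sgn k e ≠ 0 := left_ne_zero_of_mul_eq_one (sgn_mul_self e)

theorem sgn_inj (h2 : (2 : k) ≠ 0) {e e' : ℤˣ} (h : sgn k e = sgn k e') : e = e' := by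
  have hne : (1 : k) ≠ -1 := fun h1 => h2 (by
    rw [← one_add_one_eq_two]; nth_rw 2 [h1]; exact add_neg_cancel 1)
  rcases Int.units_eq_one_or e with rfl | rfl <;> rcases Int.units_eq_one_or e' with rfl | rfl
  · rfl
  · rw [sgn_one, sgn_neg_one] at h; exact absurd h hne
  · rw [sgn_one, sgn_neg_one] at h; exact absurd h.symm hne
  · rfl

/-- Two opposite actions cancel. -/
theorem act_inv_act (π : Q →* Module.End k E) (x : Q) (v : E) : π x⁻¹ (π x v) = v := by
  rw [← Module.End.mul_apply, ← map_mul, inv_mul_cancel, map_one, Module.End.one_apply]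

theorem act_act_inv (π : Q →* Module.End k E) (x : Q) (v : E) : π x (π x⁻¹ v) = v := by
  simpa only [inv_inv] using act_inv_act π x⁻¹ v

/-- The linear maps commuting with the actions. -/
def eqv (πA : Q →* Module.End k A) (πB : Q →* Module.End k B) : Submodule k (A →ₗ[k] B) where
  carrier := {g | ∀ x v, g (πA x v) = πB x (g v)}
  zero_mem' := fun x v => by simp
  add_mem' := fun hg hh x v => by simp [hg x v, hh x v]
  smul_mem' := fun c g hg x v => by simp [hg x v]

theorem mem_eqv {πA : Q →* Module.End k A} {πB : Q →* Module.End k B} {g : A →ₗ[k] B} :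
    g ∈ eqv πA πB ↔ ∀ x v, g (πA x v) = πB x (g v) := Iff.rfl

theorem eqv_comp {πA : Q →* Module.End k A} {πB : Q →* Module.End k B} {πZ : Q →* Module.End k Z}
    {g : A →ₗ[k] B} {h : B →ₗ[k] Z} (hg : g ∈ eqv πA πB) (hh : h ∈ eqv πB πZ) : h ∘ₗ g ∈ eqv πA πZ :=
  fun x v => by rw [LinearMap.comp_apply, LinearMap.comp_apply, hg x v, hh x]

/-- The action by conjugation on linear maps. -/
def homRep (πA : Q →* Module.End k A) (πB : Q →* Module.End k B) : Q →* Module.End k (A →ₗ[k] B) where
  toFun x := LinearMap.llcomp k A B B (πB x) ∘ₗ LinearMap.lcomp k B (πA x⁻¹)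
  map_one' := LinearMap.ext fun h => LinearMap.ext fun v => by simp
  map_mul' x y := LinearMap.ext fun h => LinearMap.ext fun v => by simp [map_mul]

theorem homRep_apply (πA : Q →* Module.End k A) (πB : Q →* Module.End k B) (x : Q) (h : A →ₗ[k] B) (v : A) :
    homRep πA πB x h v = πB x (h (πA x⁻¹ v)) := rfl

/-- The radical acts by the signs `l`. -/
def Scal (β : Q →* Q →* ℤˣ) (l : Q → ℤˣ) (π : Q →* Module.End k A) : Prop :=
  ∀ x ∈ β.ker, ∀ v, π x v = sgn k (l x) • v

/-- The commutators act by the signs `β`. -/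
def Comm (β : Q →* Q →* ℤˣ) (π : Q →* Module.End k A) : Prop :=
  ∀ x y v, π x (π y v) = sgn k (β x y) • π y (π x v)

variable {β : Q →* Q →* ℤˣ} {l lA lB : Q → ℤˣ}

theorem Scal.inv {π : Q →* Module.End k A} (h : Scal β l π) {x : Q} (hx : x ∈ β.ker) (v : A) :
    π x⁻¹ v = sgn k (l x) • v := by
  conv_lhs => rw [show v = π x (sgn k (l x) • v) by rw [map_smul, h x hx, smul_smul, sgn_mul_self, one_smul]]
  rw [act_inv_act]

theorem Scal.congr {π : Q →* Module.End k A} (h : Scal β lA π) {β' : Q →* Q →* ℤˣ} (hk : β'.ker = β.ker)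
    (hl : ∀ x ∈ β.ker, lA x = lB x) : Scal β' lB π := fun x hx v => by
  rw [hk] at hx
  rw [h x hx v, hl x hx]

theorem Scal.hom {πA : Q →* Module.End k A} {πB : Q →* Module.End k B} (hA : Scal β lA πA)
    (hB : Scal β lB πB) : Scal β (fun x => lA x * lB x) (homRep πA πB) := fun x hx h => LinearMap.ext fun v => by
  rw [homRep_apply, hA.inv hx, map_smul, map_smul, hB x hx, LinearMap.smul_apply, smul_smul, sgn_mul]

theorem Comm.conj {π : Q →* Module.End k A} (h : Comm β π) (x y : Q) (v : A) :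
    π x (π y (π x⁻¹ v)) = sgn k (β x y) • π y v := by rw [h, act_act_inv]

theorem Comm.hom {β' : Q →* Q →* ℤˣ} (hs : ∀ x y, β x y = β y x) {πA : Q →* Module.End k A}
    {πB : Q →* Module.End k B} (hA : Comm β πA) (hB : Comm β' πB) : Comm (β * β') (homRep πA πB) :=
  fun x y h => LinearMap.ext fun v => by
    simp only [homRep_apply, LinearMap.smul_apply]
    rw [hA y⁻¹ x⁻¹, map_smul, map_smul, map_smul, hB x y, smul_smul, ← sgn_mul]
    simp only [map_inv, MonoidHom.inv_apply, inv_inv, MonoidHom.mul_apply, hs y x]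

variable [Fintype Q]

/-- The average over the group. -/
def avg (πA : Q →* Module.End k A) (πB : Q →* Module.End k B) (h : A →ₗ[k] B) : A →ₗ[k] B :=
  ∑ x, homRep πA πB x h

theorem avg_apply (πA : Q →* Module.End k A) (πB : Q →* Module.End k B) (h : A →ₗ[k] B) (v : A) :
    avg πA πB h v = ∑ x, πB x (h (πA x⁻¹ v)) := by
  simp only [avg, LinearMap.sum_apply, homRep_apply]

theorem avg_mem (πA : Q →* Module.End k A) (πB : Q →* Module.End k B) (h : A →ₗ[k] B) :
    avg πA πB h ∈ eqv πA πB := fun y v => by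
  rw [avg_apply, avg_apply, map_sum]
  refine (Fintype.sum_equiv (Equiv.mulLeft y) _ _ fun x => ?_).symm
  rw [Equiv.coe_mulLeft, map_mul, Module.End.mul_apply, mul_inv_rev, map_mul, Module.End.mul_apply, act_inv_act]

open Classical in
theorem sum_beta (x : Q) : ∑ y, sgn k (β x y) = if x ∈ β.ker then (Nat.card Q : k) else 0 := by
  split_ifs with h
  · rw [MonoidHom.mem_ker] at h
    simp [h, Nat.card_eq_fintype_card, sgn]
  · obtain ⟨y, hy⟩ : ∃ y, β x y ≠ 1 := by
      by_contra hc
      push Not at hc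
      exact h (MonoidHom.mem_ker.mpr (MonoidHom.ext hc))
    rw [show ∑ y, sgn k (β x y) = ((∑ y, (β x y : ℤ) : ℤ) : k) by simp [sgn], sum_sign_eq_zero (β x) hy,
      Int.cast_zero]

theorem sum_beta' [DecidablePred (· ∈ β.ker)] (hs : ∀ x y, β x y = β y x) (x : Q) :
    ∑ y, sgn k (β y x) = if x ∈ β.ker then (Nat.card Q : k) else 0 := by
  simp only [hs _ x, sum_beta]
  split_ifs <;> rfl

section Span

variable {πA : Q →* Module.End k A} {πB : Q →* Module.End k B} (hs : ∀ x y, β x y = β y x)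
include hs

open Classical in
/-- Every map is recovered from the maps commuting with the actions. -/
theorem sum_act_avg (hA : Scal β l πA) (hB : Scal β l πB) (hC : Comm β πB) (h : A →ₗ[k] B) (v : A) :
    ∑ y, πB y (avg πA πB (πB y⁻¹ ∘ₗ h) v) = ((Nat.card Q : k) * Nat.card β.ker) • h v := by
  simp only [avg_apply, map_sum, LinearMap.comp_apply, hC.conj]
  rw [Finset.sum_comm]
  simp only [← Finset.sum_smul, sum_beta' hs, ite_smul, zero_smul, ← Finset.sum_filter]
  rw [Finset.sum_congr rfl fun x hx => ?_, Finset.sum_const, ← Nat.cast_smul_eq_nsmul k, smul_smul, mul_comm]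
  · rw [Nat.card_eq_fintype_card (α := β.ker), Fintype.card_subtype]
  · have hx' := (Finset.mem_filter.mp hx).2
    rw [hA.inv hx', map_smul, map_smul, hB x hx', smul_smul, smul_smul, mul_assoc, sgn_mul_self, mul_one]

open Classical in
/-- Every map is recovered from the maps commuting with the actions, with the actions on the source. -/
theorem sum_avg_act (hA : Scal β l πA) (hC : Comm β πA) (hB : Scal β l πB) (h : A →ₗ[k] B) (v : A) :
    ∑ y, avg πA πB (h ∘ₗ πA y) (πA y⁻¹ v) = ((Nat.card Q : k) * Nat.card β.ker) • h v := by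
  simp only [avg_apply, LinearMap.comp_apply, hC.conj, map_smul]
  rw [Finset.sum_comm]
  simp only [← Finset.sum_smul, sum_beta' hs, ite_smul, zero_smul, ← Finset.sum_filter,
    inv_mem_iff]
  rw [Finset.sum_congr rfl fun x hx => ?_, Finset.sum_const, ← Nat.cast_smul_eq_nsmul k, smul_smul, mul_comm]
  · rw [Nat.card_eq_fintype_card (α := β.ker), Fintype.card_subtype]
  · have hx' := (Finset.mem_filter.mp hx).2
    rw [hA.inv hx', map_smul, map_smul, hB x hx', smul_smul, smul_smul, mul_assoc, sgn_mul_self, mul_one]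

variable (hQ : (Nat.card Q : k) ≠ 0)
include hQ

omit hs in
theorem card_mul_ne_zero : (Nat.card Q : k) * Nat.card β.ker ≠ 0 := by
  refine mul_ne_zero hQ fun h => hQ ?_
  rw [← β.ker.card_mul_index, Nat.cast_mul, h, zero_mul]

/-- A subspace of maps containing all translates of the commuting maps contains everything. -/
theorem hom_induct (hA : Scal β l πA) (hB : Scal β l πB) (hC : Comm β πB) {S : Submodule k (A →ₗ[k] B)}
    (hS : ∀ g ∈ eqv πA πB, ∀ y, πB y ∘ₗ g ∈ S) (h : A →ₗ[k] B) : h ∈ S := by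
  rw [← S.smul_mem_iff (card_mul_ne_zero (β := β) hQ),
    show ((Nat.card Q : k) * Nat.card β.ker) • h = ∑ y, πB y ∘ₗ avg πA πB (πB y⁻¹ ∘ₗ h) from
      LinearMap.ext fun v => by simpa using (sum_act_avg hs hA hB hC h v).symm]
  exact S.sum_mem fun y _ => hS _ (avg_mem _ _ _) y

theorem hom_induct' (hA : Scal β l πA) (hC : Comm β πA) (hB : Scal β l πB) {S : Submodule k (A →ₗ[k] B)}
    (hS : ∀ g ∈ eqv πA πB, ∀ y, g ∘ₗ πA y ∈ S) (h : A →ₗ[k] B) : h ∈ S := by
  rw [← S.smul_mem_iff (card_mul_ne_zero (β := β) hQ),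
    show ((Nat.card Q : k) * Nat.card β.ker) • h = ∑ y, avg πA πB (h ∘ₗ πA y) ∘ₗ πA y⁻¹ from
      LinearMap.ext fun v => by simpa using (sum_avg_act hs hA hC hB h v).symm]
  exact S.sum_mem fun y _ => hS _ (avg_mem _ _ _) y⁻¹

/-- The commuting maps into a module with commutators separate points. -/
theorem separate [Nontrivial B] (hA : Scal β l πA) (hB : Scal β l πB) (hC : Comm β πB) {z : A}
    (hz : ∀ g ∈ eqv πA πB, g z = 0) : z = 0 := by
  obtain ⟨b, hb⟩ := exists_ne (0 : B)
  refine (Module.forall_dual_apply_eq_zero_iff k z).mp fun φ => ?_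
  have h := hom_induct hs hQ hA hB hC (S := LinearMap.ker ((LinearMap.applyₗ : A →ₗ[k] (A →ₗ[k] B) →ₗ[k] B) z))
    (fun g hg y => by simp [hz g hg]) (φ.smulRight b)
  simpa [hb] using h

/-- The images of the commuting maps from a module with commutators span. -/
theorem cospan [Nontrivial A] (hA : Scal β l πA) (hC : Comm β πA) (hB : Scal β l πB) {S : Submodule k B}
    (hS : ∀ g ∈ eqv πA πB, ∀ v, g v ∈ S) (z : B) : z ∈ S := by
  obtain ⟨v, hv⟩ := exists_ne (0 : A)
  obtain ⟨φ, hφ⟩ := Module.Projective.exists_dual_ne_zero k hv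
  have h := hom_induct' hs hQ hA hC hB
    (S := S.comap ((LinearMap.applyₗ : A →ₗ[k] (A →ₗ[k] B) →ₗ[k] B) v))
    (fun g hg y => by simpa using hS g hg (πA y v)) ((φ : A →ₗ[k] k).smulRight z)
  simp only [Submodule.mem_comap, LinearMap.applyₗ_apply_apply, LinearMap.smulRight_apply] at h
  exact (S.smul_mem_iff hφ).mp h

open Classical in
/-- The translates of the commuting maps are a direct decomposition of all maps. -/
theorem finrank_hom [FiniteDimensional k A] [FiniteDimensional k B] (hA : Scal β l πA) (hB : Scal β l πB)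
    (hC : Comm β πB) : Nat.card (Q ⧸ β.ker) * Module.finrank k (eqv πA πB) =
      Module.finrank k A * Module.finrank k B := by
  let _ := Fintype.ofFinite (Q ⧸ β.ker)
  let Φ : (Q ⧸ β.ker → eqv πA πB) →ₗ[k] (A →ₗ[k] B) := ∑ s : Q ⧸ β.ker,
    LinearMap.llcomp k A B B (πB s.out) ∘ₗ (eqv πA πB).subtype ∘ₗ LinearMap.proj s
  have happ : ∀ g v, Φ g v = ∑ s : Q ⧸ β.ker, πB s.out ((g s : A →ₗ[k] B) v) := fun g v => by simp [Φ]
  have hinj : Function.Injective Φ := by
    rw [← LinearMap.ker_eq_bot, LinearMap.ker_eq_bot']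
    intro g hg
    refine funext fun s₀ => Subtype.ext (LinearMap.ext fun v => ?_)
    have h1 : ∀ x : Q, ∑ s : Q ⧸ β.ker, sgn k (β x (s₀.out⁻¹ * s.out)) • πB s.out ((g s : A →ₗ[k] B) v)
        = 0 := by
      intro x
      have h2 := congrArg (fun f : A →ₗ[k] B => sgn k (β x s₀.out) • πB x (f (πA x⁻¹ v))) hg
      simp only [happ, LinearMap.zero_apply, map_zero, smul_zero, map_sum, Finset.smul_sum,
        fun s => (g s).2 x⁻¹ v, hC.conj, smul_smul] at h2
      simpa only [map_mul, map_inv, Int.units_inv_eq_self, sgn_mul] using h2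
    have h3 := Finset.sum_eq_zero (s := Finset.univ) fun x (_ : x ∈ Finset.univ) => h1 x
    rw [Finset.sum_comm] at h3
    simp only [← Finset.sum_smul, sum_beta' hs] at h3
    rw [Finset.sum_eq_single s₀ (fun s _ hne => ?_) (fun h => absurd (Finset.mem_univ _) h),
      inv_mul_cancel, if_pos (one_mem _), smul_eq_zero] at h3
    · have h4 := congrArg (πB s₀.out⁻¹) (h3.resolve_left hQ)
      rwa [act_inv_act, map_zero] at h4
    · rw [if_neg fun hmem => hne ?_, zero_smul]
      have h5 := QuotientGroup.eq.mpr hmem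
      rw [QuotientGroup.out_eq', QuotientGroup.out_eq'] at h5
      exact h5.symm
  have hsurj : Function.Surjective Φ := by
    rw [← LinearMap.range_eq_top, Submodule.eq_top_iff']
    refine hom_induct hs hQ hA hB hC fun g hg y => ?_
    set s₀ : Q ⧸ β.ker := ↑y
    have hkk : s₀.out⁻¹ * y ∈ β.ker := QuotientGroup.eq.mp (QuotientGroup.out_eq' s₀)
    refine ⟨Pi.single s₀ (sgn k (l (s₀.out⁻¹ * y)) • ⟨g, hg⟩), LinearMap.ext fun v => ?_⟩
    rw [happ, Finset.sum_eq_single s₀ (fun s _ hne => by rw [Pi.single_eq_of_ne hne]; simp)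
      (fun h => absurd (Finset.mem_univ _) h), Pi.single_eq_same, LinearMap.comp_apply]
    simp only [Submodule.coe_smul, LinearMap.smul_apply]
    rw [← hB _ hkk, ← Module.End.mul_apply, ← map_mul, mul_inv_cancel_left]
  have h := (LinearEquiv.ofBijective Φ ⟨hinj, hsurj⟩).finrank_eq
  rwa [Module.finrank_pi_fintype, Finset.sum_const, Finset.card_univ, smul_eq_mul, Module.finrank_linearMap,
    ← Nat.card_eq_fintype_card] at h

end Span

/-- The setting: a form with radical of index `n ^ 2`, and an automorphism of prime order `r = n + 1` acting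
without fixed points and irreducibly on the quotient by the radical. -/
structure Env (k : Type w) [Field k] (β : Q →* Q →* ℤˣ) (σ : MulAut Q) (r n : ℕ) : Prop where
  prime : r.Prime
  eq : r = n + 1
  two_le : 2 ≤ n
  symm : ∀ x y, β x y = β y x
  sq : ∀ x, x * x ∈ β.ker
  idx : Nat.card Q = n * n * Nat.card β.ker
  pow : σ ^ r = 1
  inv : ∀ x y, β (σ x) (σ y) = β x y
  fpf : ∀ x, x⁻¹ * σ x ∈ β.ker → x ∈ β.ker
  irr : ∀ H : Subgroup Q, β.ker ≤ H → (∀ x ∈ H, σ x ∈ H) → H = β.ker ∨ H = ⊤
  two : (2 : k) ≠ 0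
  r_ne : (r : k) ≠ 0
  card : (Nat.card Q : k) ≠ 0

variable {σ : MulAut Q} {r n : ℕ}

theorem Env.card_quot (e : Env k β σ r n) : Nat.card (Q ⧸ β.ker) = n * n :=
  Nat.eq_of_mul_eq_mul_right (Nat.card_pos (α := β.ker))
    ((Subgroup.card_eq_card_quotient_mul_card_subgroup β.ker).symm.trans e.idx)

theorem Env.sq_pos (e : Env k β σ r n) : 0 < n * n :=
  Nat.mul_pos (by have := e.two_le; omega) (by have := e.two_le; omega)

theorem Env.n_ne_zero (e : Env k β σ r n) : (n : k) ≠ 0 := fun h =>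
  e.card (by rw [e.idx, Nat.cast_mul, Nat.cast_mul, h, zero_mul, zero_mul])

/-- An irreducible module of the setting. -/
structure IsHeis (β : Q →* Q →* ℤˣ) (l : Q → ℤˣ) (n : ℕ) (π : Q →* Module.End k E) : Prop where
  scal : Scal β l π
  comm : Comm β π
  dim : Module.finrank k E = n

variable [FiniteDimensional k E] {π : Q →* Module.End k E}

theorem IsHeis.nontrivial (h : IsHeis β l n π) (e : Env k β σ r n) : Nontrivial E :=
  Module.nontrivial_of_finrank_pos (R := k) (by rw [h.dim]; have := e.two_le; omega)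

theorem IsHeis.exists_scalar (h : IsHeis β l n π) (e : Env k β σ r n) {f : E →ₗ[k] E} (hf : f ∈ eqv π π) :
    ∃ c : k, f = c • LinearMap.id := by
  have := h.nontrivial e
  have h1 := finrank_hom e.symm e.card h.scal h.scal h.comm
  rw [e.card_quot, h.dim] at h1
  have h2 : Module.finrank k (eqv π π) = 1 :=
    Nat.eq_of_mul_eq_mul_left e.sq_pos (h1.trans (mul_one _).symm)
  have hid : (LinearMap.id : E →ₗ[k] E) ∈ eqv π π := fun x v => rfl
  obtain ⟨c, hc⟩ := (finrank_eq_one_iff_of_nonzero' (⟨_, hid⟩ : eqv π π)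
    (fun h0 => one_ne_zero (α := Module.End k _) (congrArg Subtype.val h0))).mp h2 ⟨f, hf⟩
  exact ⟨c, (congrArg Subtype.val hc).symm⟩

/-- The group spans all endomorphisms. -/
theorem IsHeis.end_induct (h : IsHeis β l n π) (e : Env k β σ r n) {S : Submodule k (E →ₗ[k] E)}
    (hS : ∀ y, π y ∈ S) (f : E →ₗ[k] E) : f ∈ S := by
  refine hom_induct e.symm e.card h.scal h.scal h.comm (fun g hg y => ?_) f
  obtain ⟨c, rfl⟩ := h.exists_scalar e hg
  rw [LinearMap.comp_smul, LinearMap.comp_id]
  exact S.smul_mem _ (hS y)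

theorem IsHeis.irred (h : IsHeis β l n π) (e : Env k β σ r n) {S : Submodule k E}
    (hS : ∀ x, ∀ v ∈ S, π x v ∈ S) : S = ⊥ ∨ S = ⊤ := by
  refine or_iff_not_imp_left.mpr fun hne => Submodule.eq_top_iff'.mpr fun z => ?_
  obtain ⟨v, hv, hv0⟩ := (Submodule.ne_bot_iff _).mp hne
  obtain ⟨φ, hφ⟩ := Module.Projective.exists_dual_ne_zero k hv0
  have hall := h.end_induct e (S := S.comap ((LinearMap.applyₗ : E →ₗ[k] (E →ₗ[k] E) →ₗ[k] E) v))
    (fun y => hS y v hv) ((φ : E →ₗ[k] k).smulRight z)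
  simp only [Submodule.mem_comap, LinearMap.applyₗ_apply_apply, LinearMap.smulRight_apply] at hall
  exact (S.smul_mem_iff hφ).mp hall

theorem IsHeis.injective (h : IsHeis β l n π) (e : Env k β σ r n) {πZ : Q →* Module.End k Z}
    {g : E →ₗ[k] Z} (hg : g ∈ eqv π πZ) (h0 : g ≠ 0) : Function.Injective g := by
  rcases h.irred e (S := LinearMap.ker g) (fun x v hv => by
    rw [LinearMap.mem_ker] at hv ⊢; rw [hg x v, hv, map_zero]) with h' | h'
  · exact LinearMap.ker_eq_bot.mp h'
  · exact absurd (LinearMap.ker_eq_top.mp h') h0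

/-- A nonzero map between two such modules is an isomorphism. -/
theorem IsHeis.bijective {F : Type*} [AddCommGroup F] [Module k F] [FiniteDimensional k F]
    {πF : Q →* Module.End k F} (h : IsHeis β l n π) (hF : IsHeis β l n πF) (e : Env k β σ r n)
    {g : E →ₗ[k] F} (hg : g ∈ eqv π πF) (h0 : g ≠ 0) : Function.Bijective g :=
  ⟨h.injective e hg h0,
    (LinearMap.injective_iff_surjective_of_finrank_eq_finrank (h.dim.trans hF.dim.symm)).mp
      (h.injective e hg h0)⟩

theorem IsHeis.exists_iso {F : Type*} [AddCommGroup F] [Module k F] [FiniteDimensional k F]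
    {πF : Q →* Module.End k F} (h : IsHeis β l n π) (hF : IsHeis β l n πF) (e : Env k β σ r n) :
    ∃ g ∈ eqv π πF, Function.Bijective g := by
  have := h.nontrivial e
  have := hF.nontrivial e
  by_contra hne
  push Not at hne
  have h0 : ∀ g ∈ eqv π πF, g = 0 := fun g hg => by
    by_contra hg0
    exact hne g hg (h.bijective hF e hg hg0)
  obtain ⟨z, hz⟩ := exists_ne (0 : E)
  exact hz (separate e.symm e.card h.scal hF.scal hF.comm fun g hg => by rw [h0 g hg, LinearMap.zero_apply])

variable [FiniteDimensional k Z] {πZ : Q →* Module.End k Z}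

/-- The number of copies. -/
theorem IsHeis.finrank_eqv (h : IsHeis β l n π) (e : Env k β σ r n) (hZ : Scal β l πZ) :
    n * Module.finrank k (eqv πZ π) = Module.finrank k Z := by
  have h1 := finrank_hom e.symm e.card hZ h.scal h.comm
  rw [e.card_quot, h.dim] at h1
  refine Nat.eq_of_mul_eq_mul_left (show 0 < n by have := e.two_le; omega) ?_
  rw [← mul_assoc, h1, mul_comm]

/-- The pairing between the maps out of and into `E` is perfect. -/
theorem IsHeis.exists_pairing (h : IsHeis β l n π) (e : Env k β σ r n) (hZ : Scal β l πZ) :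
    ∃ P : eqv πZ π →ₗ[k] eqv π πZ →ₗ[k] k, Function.Injective P ∧ Function.Injective P.flip ∧
      ∀ (g : eqv πZ π) (i : eqv π πZ), (g : Z →ₗ[k] E) ∘ₗ (i : E →ₗ[k] Z) = P g i • LinearMap.id := by
  have := h.nontrivial e
  obtain ⟨v, hv⟩ := exists_ne (0 : E)
  obtain ⟨φ, hφ⟩ := Module.Projective.exists_dual_ne_zero k hv
  let P : eqv πZ π →ₗ[k] eqv π πZ →ₗ[k] k := (φ v)⁻¹ • LinearMap.mk₂ k
    (fun (g : eqv πZ π) (i : eqv π πZ) => φ ((g : Z →ₗ[k] E) ((i : E →ₗ[k] Z) v)))
    (fun g g' i => by simp) (fun c g i => by simp) (fun g i i' => by simp) (fun c g i => by simp)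
  have hP : ∀ (g : eqv πZ π) (i : eqv π πZ), (g : Z →ₗ[k] E) ∘ₗ (i : E →ₗ[k] Z) = P g i • LinearMap.id := by
    intro g i
    obtain ⟨c, hc⟩ := h.exists_scalar e (eqv_comp i.2 g.2)
    have h2 := congrArg (fun f : E →ₗ[k] E => φ (f v)) hc
    simp only [LinearMap.comp_apply, LinearMap.smul_apply, LinearMap.id_apply, map_smul, smul_eq_mul] at h2
    rw [hc]
    congr 1
    simp only [P, LinearMap.smul_apply, LinearMap.mk₂_apply, smul_eq_mul, h2]
    field_simp
  refine ⟨P, (injective_iff_map_eq_zero P).mpr fun g hg => Subtype.ext <|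
      LinearMap.ext fun z => LinearMap.mem_ker.mp <| cospan e.symm e.card h.scal h.comm hZ
        (fun i hi v => by
          have h1 := congrArg (fun f : E →ₗ[k] E => f v) (hP g ⟨i, hi⟩)
          rw [LinearMap.mem_ker]
          simpa [hg] using h1) z,
    (injective_iff_map_eq_zero P.flip).mpr fun i hi => Subtype.ext <|
      LinearMap.ext fun v => separate e.symm e.card hZ h.scal h.comm fun g hg => by
        have h1 := congrArg (fun f : E →ₗ[k] E => f v) (hP ⟨g, hg⟩ i)
        simpa [show P ⟨g, hg⟩ i = 0 from congrArg (fun f : eqv πZ π →ₗ[k] k => f ⟨g, hg⟩) hi] using h1,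
    hP⟩

theorem IsHeis.finrank_eqv_symm (h : IsHeis β l n π) (e : Env k β σ r n) (hZ : Scal β l πZ) :
    Module.finrank k (eqv πZ π) = Module.finrank k (eqv π πZ) := by
  obtain ⟨P, hl, hr, -⟩ := h.exists_pairing e hZ
  exact le_antisymm ((LinearMap.finrank_le_finrank_of_injective hl).trans_eq Subspace.dual_finrank_eq)
    ((LinearMap.finrank_le_finrank_of_injective hr).trans_eq Subspace.dual_finrank_eq)

theorem IsHeis.finrank_eqv' (h : IsHeis β l n π) (e : Env k β σ r n) (hZ : Scal β l πZ) :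
    n * Module.finrank k (eqv π πZ) = Module.finrank k Z := by
  rw [← h.finrank_eqv_symm e hZ, h.finrank_eqv e hZ]

/-- Functionals on the maps from `E` are given by maps to `E`. -/
theorem IsHeis.exists_realise (h : IsHeis β l n π) (e : Env k β σ r n) (hZ : Scal β l πZ)
    (c : eqv π πZ →ₗ[k] k) :
    ∃ g ∈ eqv πZ π, ∀ i : eqv π πZ, g ∘ₗ (i : E →ₗ[k] Z) = c i • LinearMap.id := by
  obtain ⟨P, hl, -, hP⟩ := h.exists_pairing e hZ
  obtain ⟨g, hg⟩ := (LinearMap.injective_iff_surjective_of_finrank_eq_finrank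
    ((h.finrank_eqv_symm e hZ).trans Subspace.dual_finrank_eq.symm)).mp hl c
  exact ⟨g, g.2, fun i => by rw [hP g i, hg]⟩

/-- The action on an invariant subspace. -/
def restrictRep (π : Q →* Module.End k Z) (S : Submodule k Z) (hS : ∀ x, ∀ v ∈ S, π x v ∈ S) :
    Q →* Module.End k S where
  toFun x := (π x).restrict (hS x)
  map_one' := LinearMap.ext fun v => Subtype.ext (by simp)
  map_mul' x y := LinearMap.ext fun v => Subtype.ext (by simp)

/-- Modules with scalar radical contain irreducible ones of dimension `n`. -/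
theorem exists_heis [IsAlgClosed k] (e : Env k β σ r n) [Nontrivial Z] (hZ : Scal β l πZ)
    (hC : Comm β πZ) :
    ∃ (S : Submodule k Z) (hS : ∀ x, ∀ v ∈ S, πZ x v ∈ S), IsHeis β l n (restrictRep πZ S hS) := by
  classical
  have hex : ∃ d, ∃ S : Submodule k Z, S ≠ ⊥ ∧ (∀ x, ∀ v ∈ S, πZ x v ∈ S) ∧ Module.finrank k S = d :=
    ⟨_, ⊤, top_ne_bot, fun _ _ _ => Submodule.mem_top, rfl⟩
  obtain ⟨S, hS0, hS, hd⟩ := Nat.find_spec hex
  have : Nontrivial S := Submodule.nontrivial_iff_ne_bot.mpr hS0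
  have hsc : Scal β l (restrictRep πZ S hS) := fun x hx v => Subtype.ext (hZ x hx v)
  have hco : Comm β (restrictRep πZ S hS) := fun x y v => Subtype.ext (hC x y v)
  refine ⟨S, hS, hsc, hco, ?_⟩
  set π' := restrictRep πZ S hS
  have hid : (LinearMap.id : S →ₗ[k] S) ∈ eqv π' π' := fun x v => rfl
  have h1 : Module.finrank k (eqv π' π') = 1 := by
    refine (finrank_eq_one_iff_of_nonzero' (⟨_, hid⟩ : eqv π' π')
      (fun h0 => one_ne_zero (α := Module.End k _) (congrArg Subtype.val h0))).mpr fun f => ?_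
    obtain ⟨c, hc⟩ := Module.End.exists_eigenvalue (f : Module.End k S)
    obtain ⟨v, hv, hv0⟩ := (Submodule.ne_bot_iff _).mp hc
    set K := Module.End.eigenspace (f : Module.End k S) c
    have hK : ∀ x, ∀ v ∈ K.map S.subtype, πZ x v ∈ K.map S.subtype := by
      rintro x _ ⟨v, hv, rfl⟩
      refine ⟨π' x v, ?_, rfl⟩
      rw [SetLike.mem_coe, Module.End.mem_eigenspace_iff] at hv ⊢
      rw [f.2 x v, hv, map_smul]
    have hKne : K.map S.subtype ≠ ⊥ := fun h => hv0 (Subtype.ext (by
      have h2 : (S.subtype v) ∈ K.map S.subtype := ⟨v, hv, rfl⟩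
      rw [h] at h2
      exact (Submodule.mem_bot k).mp h2))
    have hle := Nat.find_min' hex ⟨_, hKne, hK, rfl⟩
    rw [← hd, Submodule.finrank_map_subtype_eq] at hle
    have htop : K = ⊤ := Submodule.eq_top_of_finrank_eq (le_antisymm (Submodule.finrank_le _) hle)
    refine ⟨c, Subtype.ext (LinearMap.ext fun w => ?_)⟩
    have hw : w ∈ K := htop ▸ Submodule.mem_top
    rw [Module.End.mem_eigenspace_iff] at hw
    simp [hw]
  have h2 := finrank_hom e.symm e.card hsc hsc hco
  rw [e.card_quot, h1, mul_one] at h2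
  exact (Nat.mul_self_inj.mp h2).symm

end Cfsg.Agent.H24.Flav.Heis
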