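import Cfsg.Agent.H24.Flav.CommonRadTau

/-!
In an irreducible module with an invariant form, two products of matrix coefficients cannot differ by a
quadratic sign.
-/

set_option autoImplicit false
set_option linter.unusedSectionVars false

namespace Cfsg.Agent.H24.Flav.Heis

open Cfsg.Agent.H8.Shult (sgn)

universe u w

/-- Sets whose products correspond under a transvection are cosets. -/
theorem coset_of_product {A : Type*} [CommGroup A] [Finite A] (hsq : ∀ x : A, x * x = 1) (ν : A →* A)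
    (hν : Function.Injective ν) (hν' : Function.Injective fun x => x * ν x) (SA SB TA TB : Set A)
    (hSA : SA.Nonempty) (hSB : SB.Nonempty)
    (hiff : ∀ x y, x ∈ SA ∧ y ∈ SB ↔ x * ν (x * y) ∈ TA ∧ y * ν (x * y) ∈ TB) :
    ∃ a ∈ TA, ∃ H : Subgroup A, (∀ h, h ∈ H ↔ ∀ x ∈ TA, x * h ∈ TA) ∧ ∀ x, x ∈ TA ↔ a * x ∈ H := by
  classical
  have hcancel : ∀ x y : A, x * (x * y) = y := fun x y => by rw [← mul_assoc, hsq, one_mul]
  have hid : ∀ x y : A, x * ν (x * y) * (y * ν (x * y)) = x * y := fun x y => by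
    rw [mul_mul_mul_comm, hsq, mul_one]
  have hback : ∀ x y, x ∈ TA ∧ y ∈ TB ↔ x * ν (x * y) ∈ SA ∧ y * ν (x * y) ∈ SB := fun x y => by
    rw [hiff, hid, mul_assoc, hsq, mul_one, mul_assoc, hsq, mul_one]
  obtain ⟨x₀, hx₀⟩ := hSA
  obtain ⟨y₀, hy₀⟩ := hSB
  obtain ⟨ha, hb⟩ := (hiff x₀ y₀).mp ⟨hx₀, hy₀⟩
  -- the cardinals
  have hxinj : ∀ y, Function.Injective fun x : A => y * ν (x * y) := fun y x x' h => by
    simpa using hν (mul_left_cancel h)
  have hxinj' : ∀ y, Function.Injective fun x : A => x * ν (x * y) := fun y x x' h => by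
    simp only [map_mul, ← mul_assoc, mul_left_inj] at h
    exact hν' h
  have hyinj : ∀ x, Function.Injective fun y : A => x * ν (x * y) := fun x y y' h => by
    simpa using hν (mul_left_cancel h)
  have hyinj' : ∀ x, Function.Injective fun y : A => y * ν (x * y) := fun x y y' h => by
    simp only [map_mul, mul_left_comm _ (ν x)] at h
    exact hν' (mul_left_cancel h)
  have h1 : Nat.card SA ≤ Nat.card TA :=
    Nat.card_le_card_of_injective (fun x : SA => ⟨_, ((hiff x y₀).mp ⟨x.2, hy₀⟩).1⟩)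
      fun x x' h => Subtype.ext (hxinj' y₀ (congrArg Subtype.val h))
  have h2 : Nat.card SB ≤ Nat.card TA :=
    Nat.card_le_card_of_injective (fun y : SB => ⟨_, ((hiff x₀ y).mp ⟨hx₀, y.2⟩).1⟩)
      fun y y' h => Subtype.ext (hyinj x₀ (congrArg Subtype.val h))
  have h3 : Nat.card TA ≤ Nat.card SB :=
    Nat.card_le_card_of_injective (fun x : TA => ⟨_, ((hback x _).mp ⟨x.2, hb⟩).2⟩)
      fun x x' h => Subtype.ext (hxinj _ (congrArg Subtype.val h))
  have h4 : Nat.card TA ≤ Nat.card SA :=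
    Nat.card_le_card_of_injective (fun x : TA => ⟨_, ((hback x _).mp ⟨x.2, hb⟩).1⟩)
      fun x x' h => Subtype.ext (hxinj' _ (congrArg Subtype.val h))
  -- the stabiliser
  let H : Subgroup A :=
    { carrier := {h | ∀ x ∈ TA, x * h ∈ TA}
      one_mem' := fun x hx => by rwa [mul_one]
      mul_mem' := fun {g h} hg hh x hx => by rw [← mul_assoc]; exact hh _ (hg x hx)
      inv_mem' := fun {h} hh x hx => by rw [inv_eq_of_mul_eq_one_right (hsq h)]; exact hh x hx }
  have hstab : ∀ y ∈ SB, ν (y * y₀) ∈ H := by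
    intro y hy x hx
    have himg : ∀ z ∈ SB, (fun x => x * ν (x * z)) '' SA = TA := fun z hz => by
      refine Set.eq_of_subset_of_ncard_le ?_ ?_ (Set.toFinite _)
      · rintro _ ⟨x, hx, rfl⟩; exact ((hiff x z).mp ⟨hx, hz⟩).1
      · rw [Set.ncard_image_of_injective _ (hxinj' z), ← Nat.card_coe_set_eq, ← Nat.card_coe_set_eq]
        exact h4
    rw [← himg y₀ hy₀] at hx
    obtain ⟨z, hz, rfl⟩ := hx
    rw [← himg y hy]
    refine ⟨z, hz, ?_⟩
    show z * ν (z * y) = z * ν (z * y₀) * ν (y * y₀)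
    rw [mul_assoc, ← map_mul]
    congr 2
    rw [mul_assoc, mul_left_comm y₀, hsq, mul_one]
  set a := x₀ * ν (x₀ * y₀)
  have hHT : (fun h => a * h) '' (H : Set A) = TA := by
    refine Set.eq_of_subset_of_ncard_le ?_ ?_ (Set.toFinite _)
    · rintro _ ⟨h, hh, rfl⟩; exact hh a ha
    · rw [Set.ncard_image_of_injective _ (mul_right_injective a), ← Nat.card_coe_set_eq, ← Nat.card_coe_set_eq]
      refine h3.trans (Nat.card_le_card_of_injective (fun y : SB => (⟨_, hstab y y.2⟩ : (H : Set A))) ?_)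
      intro y y' h
      exact Subtype.ext (mul_right_cancel (hν (congrArg Subtype.val h)))
  refine ⟨a, ha, H, fun h => Iff.rfl, fun x => ⟨fun hx => ?_, fun hx => ?_⟩⟩
  · rw [← hHT] at hx
    obtain ⟨h, hh, rfl⟩ := hx
    show a * (a * h) ∈ H
    rwa [hcancel]
  · rw [← hHT]
    exact ⟨a * x, hx, hcancel a x⟩

variable {Q : Type u} [Group Q] [Fintype Q] {k : Type w} [Field k] [IsAlgClosed k]
variable {E : Type*} [AddCommGroup E] [Module k E] [FiniteDimensional k E]
variable {β : Q →* Q →* ℤˣ} {σ : MulAut Q} {l : Q → ℤˣ} {r n : ℕ} {π : Q →* Module.End k E}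

omit [IsAlgClosed k] in
/-- The completeness relation. -/
theorem Form.fierz (F : Form π) (h : IsHeis β l n π) (e : Env k β σ r n) (a b c d : E) :
    ∑ p, F.g a (π p b) * F.g c (π p⁻¹ d) = (Nat.card Q : k) * (n : k)⁻¹ * (F.g a d * F.g c b) := by
  let X : E →ₗ[k] E := (F.g c : E →ₗ[k] k).smulRight b
  obtain ⟨C, hC⟩ := h.exists_scalar e (avg_mem π π X)
  have htrX : LinearMap.trace k E X = F.g c b := by
    rw [show X = dualTensorHom k E E (TensorProduct.tmul k (F.g c) b) from
      LinearMap.ext fun v => by simp [X], LinearMap.trace_eq_contract_apply]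
    simp
  have htr : (n : k) * C = (Nat.card Q : k) * F.g c b := by
    have h1 := congrArg (LinearMap.trace k E) hC
    rw [map_smul, LinearMap.trace_id, h.dim, smul_eq_mul, mul_comm] at h1
    rw [← h1, avg, map_sum, ← htrX]
    have hconj : ∀ p : Q, LinearMap.trace k E (homRep π π p X) = LinearMap.trace k E X := fun p => by
      rw [show homRep π π p X = π p * X * π p⁻¹ from LinearMap.ext fun v => rfl, mul_assoc,
        LinearMap.trace_mul_comm, mul_assoc, ← map_mul, inv_mul_cancel, map_one, mul_one]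
    rw [Finset.sum_congr rfl fun p _ => hconj p, Finset.sum_const, Finset.card_univ, ← Nat.card_eq_fintype_card,
      nsmul_eq_mul]
  have h2 := congrArg (fun f : E →ₗ[k] E => F.g a (f d)) hC
  simp only [avg_apply, map_sum, LinearMap.smul_apply, LinearMap.id_apply, map_smul, smul_eq_mul, X,
    LinearMap.smulRight_apply] at h2
  rw [show ∑ p, F.g a (π p b) * F.g c (π p⁻¹ d) = C * F.g a d by
    rw [← h2]; exact Finset.sum_congr rfl fun p _ => mul_comm _ _]
  have hn := e.n_ne_zero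
  field_simp
  linear_combination (F.g a d) * htr

/-- The matrix coefficient of a vector with its translates. -/
def Form.phi (F : Form π) (v : E) (x : Q) : k := F.g v (π x v)

omit [IsAlgClosed k] in
theorem Form.phi_class (F : Form π) (h : IsHeis β l n π) (v : E) {x y : Q} (hxy : x⁻¹ * y ∈ β.ker) :
    F.phi v y = sgn k (l (x⁻¹ * y)) * F.phi v x := by
  rw [Form.phi, Form.phi, show y = x * (x⁻¹ * y) by group, map_mul, Module.End.mul_apply, h.scal _ hxy]
  simp

/-- Products of matrix coefficients do not differ by quadratic signs. -/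
theorem IsHeis.no_product (h : IsHeis β l n π) (e : Env k β σ r n) {τ : Module.End k E} (hτ : Semi σ π τ)
    (hτr : τ ^ r = 1) (F : Form π) (γ : Q →* Q →* ℤˣ) (hγs : ∀ x y, γ x y = γ y x)
    (hγk : ∀ x ∈ β.ker, ∀ y, γ x y = 1) (hγn : ∀ t, (∀ p, γ t p = 1) → t ∈ β.ker)
    (hγn' : ∀ t, (∀ p, β t p * γ t p = 1) → t ∈ β.ker) (q : Q → ℤˣ)
    (hq : ∀ t p, q (t * p) = q t * q p * γ t p) {s c : k} (hs : s * s = 1) {η₁ θ₁ η₂ θ₂ : E}
    (hη₁ : η₁ ≠ 0) (hθ₁ : θ₁ ≠ 0) (hη₂ : η₂ ≠ 0) (hc : τ η₂ = c • η₂)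
    (hrel : ∀ p, F.g η₁ (π p θ₁) = s * sgn k (q p) * F.g η₂ (π p θ₂)) : False := by
  classical
  have := h.nontrivial e
  let Vq := Q ⧸ β.ker
  let _ : CommGroup Vq :=
    { (inferInstance : Group Vq) with
      mul_comm := fun x y => QuotientGroup.kerLift_injective β (by rw [map_mul, map_mul, mul_comm]) }
  have hsq : ∀ x : Vq, x * x = 1 := fun x => by
    obtain ⟨x, rfl⟩ := QuotientGroup.mk_surjective x
    exact (QuotientGroup.eq_one_iff _).mpr (e.sq x)
  have hinv : ∀ x : Q, ((x⁻¹ : Q) : Vq) = (x : Vq) := fun x => by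
    rw [QuotientGroup.mk_inv]; exact inv_eq_of_mul_eq_one_right (hsq _)
  -- the transvection
  choose w hw using fun t => e.exists_rep (γ t) fun x hx => (hγs t x).trans (hγk x hx t)
  have hwu : ∀ u v : Q, β u = β v → (u : Vq) = v := fun u v huv =>
    QuotientGroup.eq.mpr (MonoidHom.mem_ker.mpr (by rw [map_mul, map_inv, huv, inv_mul_cancel]))
  let ν : Vq →* Vq := QuotientGroup.lift β.ker (MonoidHom.mk' (fun t => ((w t : Q) : Vq)) fun t t' => by
      rw [← QuotientGroup.mk_mul]
      exact hwu _ _ (by rw [map_mul, hw, hw, hw, map_mul]))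
    fun x hx => MonoidHom.mem_ker.mpr ((QuotientGroup.eq_one_iff _).mpr (MonoidHom.mem_ker.mpr (by
      rw [hw]; exact MonoidHom.ext fun y => hγk x hx y)))
  have hν : ∀ t : Q, ν (t : Vq) = ((w t : Q) : Vq) := fun t => rfl
  have hνinj : Function.Injective ν := (injective_iff_map_eq_one ν).mpr fun x hx => by
    obtain ⟨t, rfl⟩ := QuotientGroup.mk_surjective x
    rw [hν, QuotientGroup.eq_one_iff, MonoidHom.mem_ker, hw] at hx
    exact (QuotientGroup.eq_one_iff t).mpr (hγn t fun p => by rw [hx]; rfl)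
  have hνinj' : Function.Injective fun x => x * ν x := (injective_iff_map_eq_one (MonoidHom.id Vq * ν)).mpr
    fun x hx => by
      obtain ⟨t, rfl⟩ := QuotientGroup.mk_surjective x
      rw [MonoidHom.mul_apply, MonoidHom.id_apply, hν, ← QuotientGroup.mk_mul, QuotientGroup.eq_one_iff,
        MonoidHom.mem_ker, map_mul, hw] at hx
      exact (QuotientGroup.eq_one_iff t).mpr (hγn' t fun p => by rw [← MonoidHom.mul_apply, hx]; rfl)
  -- the supports
  let Sp : E → Set Vq := fun v => {x | F.phi v x.out ≠ 0}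
  have hSp : ∀ v (x : Q), F.phi v x ≠ 0 ↔ (x : Vq) ∈ Sp v := fun v x => by
    show _ ↔ F.phi v (x : Vq).out ≠ 0
    rw [F.phi_class h v (QuotientGroup.eq.mp (QuotientGroup.out_eq' (x : Vq))), mul_ne_zero_iff]
    exact and_iff_right (sgn_ne_zero _)
  have hne : ∀ v : E, v ≠ 0 → (Sp v).Nonempty := by
    intro v hv
    by_contra hemp
    rw [Set.not_nonempty_iff_eq_empty] at hemp
    refine hv (F.g.injective (LinearMap.ext fun z => ?_))
    rw [map_zero, LinearMap.zero_apply]
    obtain ⟨φ, hφ⟩ := Module.Projective.exists_dual_ne_zero k hv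
    have hall := h.end_induct e (S := LinearMap.ker ((F.g v : E →ₗ[k] k) ∘ₗ
      (LinearMap.applyₗ : E →ₗ[k] (E →ₗ[k] E) →ₗ[k] E) v))
      (fun y => by
        have : ¬ F.phi v y ≠ 0 := fun hc => by
          have := (hSp v y).mp hc; rw [hemp] at this; exact this
        simpa [Form.phi] using not_not.mp this) ((φ : E →ₗ[k] k).smulRight z)
    simpa [hφ] using hall
  let K : E → E → Q → Q → k := fun η θ u t =>
    ∑ p, sgn k (β u p) * F.g η (π p θ) * F.g η (π t (π p θ))
  have hC : (Nat.card Q : k) * (n : k)⁻¹ ≠ 0 := mul_ne_zero e.card (inv_ne_zero e.n_ne_zero)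
  have hξ : F.sign ≠ 0 := left_ne_zero_of_mul_eq_one F.sign_sq
  have hK : ∀ η θ u t, K η θ u t ≠ 0 ↔
      ((u * t⁻¹ : Q) : Vq) ∈ Sp η ∧ ((u⁻¹ : Q) : Vq) ∈ Sp θ := by
    intro η θ u t
    have h1 : K η θ u t = F.sign * ((Nat.card Q : k) * (n : k)⁻¹) * (F.phi η (u * t⁻¹) * F.phi θ u⁻¹) := by
      have hterm : ∀ p, sgn k (β u p) * F.g η (π p θ) * F.g η (π t (π p θ)) =
          F.sign * (F.g (π u⁻¹ η) (π p (π u⁻¹ θ)) * F.g θ (π p⁻¹ (π t⁻¹ η))) := fun p => by
        have e1 : sgn k (β u p) * F.g η (π p θ) = F.g (π u⁻¹ η) (π p (π u⁻¹ θ)) := by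
          rw [F.inv' u⁻¹, inv_inv, ← smul_eq_mul, ← map_smul, ← h.comm.conj]
        have e2 : F.g η (π t (π p θ)) = F.sign * F.g θ (π p⁻¹ (π t⁻¹ η)) := by
          rw [← F.inv' p θ, ← F.symm (π p θ), F.inv' t⁻¹, inv_inv]
        rw [e1, e2]
        ring
      rw [show K η θ u t = _ from Finset.sum_congr rfl fun p _ => hterm p, ← Finset.mul_sum, F.fierz h e,
        F.inv' u⁻¹, inv_inv, Form.phi, Form.phi, map_mul, Module.End.mul_apply]
      ring
    rw [h1, mul_ne_zero_iff, mul_ne_zero_iff (a := F.phi _ _), hSp, hSp]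
    exact and_iff_right (mul_ne_zero hξ hC)
  have hrelK : ∀ u t, K η₁ θ₁ u t = sgn k (q t) * K η₂ θ₂ (u * w t) t := by
    intro u t
    simp only [K, Finset.mul_sum]
    refine Finset.sum_congr rfl fun p _ => ?_
    rw [← Module.End.mul_apply, ← map_mul, ← Module.End.mul_apply (π t), ← map_mul, hrel, hrel, hq, map_mul β,
      MonoidHom.mul_apply, hw, sgn_mul, sgn_mul, sgn_mul]
    have hqq := sgn_mul_self (k := k) (q p)
    linear_combination (sgn k (β u p) * F.g η₂ (π p θ₂) * sgn k (q t) * sgn k (γ t p) *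
      F.g η₂ (π (t * p) θ₂)) * ((s * s) * hqq + hs)
  have hiff : ∀ x y : Vq, x ∈ Sp η₁ ∧ y ∈ Sp θ₁ ↔ x * ν (x * y) ∈ Sp η₂ ∧ y * ν (x * y) ∈ Sp θ₂ := by
    intro x y
    obtain ⟨x, rfl⟩ := QuotientGroup.mk_surjective x
    obtain ⟨y, rfl⟩ := QuotientGroup.mk_surjective y
    have h1 : K η₁ θ₁ y (x * y) ≠ 0 ↔ K η₂ θ₂ (y * w (x * y)) (x * y) ≠ 0 := by
      rw [hrelK, mul_ne_zero_iff, and_iff_right (sgn_ne_zero _)]
    have ex : ((y * (x * y)⁻¹ : Q) : Vq) = x := by
      rw [QuotientGroup.mk_mul, hinv, QuotientGroup.mk_mul, mul_left_comm, hsq, mul_one]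
    have ex' : ((y * w (x * y) * (x * y)⁻¹ : Q) : Vq) = (x : Vq) * ν ((x : Vq) * y) := by
      rw [QuotientGroup.mk_mul, hinv, QuotientGroup.mk_mul, ← hν, QuotientGroup.mk_mul, mul_right_comm,
        mul_left_comm (y : Vq), hsq, mul_one]
    have ey' : (((y * w (x * y))⁻¹ : Q) : Vq) = (y : Vq) * ν ((x : Vq) * y) := by
      rw [hinv, QuotientGroup.mk_mul, ← hν, QuotientGroup.mk_mul]
    rw [hK, hK, ex, hinv, ex', ey'] at h1
    exact h1
  obtain ⟨a, ha, H, hH, hTA⟩ := coset_of_product hsq ν hνinj hνinj' _ _ _ _ (hne _ hη₁) (hne _ hθ₁) hiff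
  -- invariance
  obtain ⟨cF, hcF, hF⟩ := F.semi h e hτ hτr
  have hc0 : c ≠ 0 := fun h0 => hη₂ (by
    rw [← (pow_pred_apply e.prime.pos hτr η₂).1, hc, h0, zero_smul, map_zero])
  have hσS : ∀ x : Vq, e.bar x ∈ Sp η₂ ↔ x ∈ Sp η₂ := by
    intro x
    obtain ⟨x, rfl⟩ := QuotientGroup.mk_surjective x
    rw [e.bar_mk, ← hSp, ← hSp]
    have h1 : c * c * F.phi η₂ (σ x) = cF * F.phi η₂ x := by
      rw [Form.phi, Form.phi, ← hF, hτ, hc, map_smul, LinearMap.smul_apply, map_smul, map_smul, smul_eq_mul,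
        smul_eq_mul, mul_assoc]
    constructor <;> intro h2 h0
    · exact h2 ((mul_eq_zero.mp (h1.trans (by rw [h0, mul_zero]))).resolve_left (mul_ne_zero hc0 hc0))
    · exact h2 ((mul_eq_zero.mp (h1.symm.trans (by rw [h0, mul_zero]))).resolve_left hcF)
  have hHa : ∀ g ∈ H, e.bar g ∈ H := fun g hg => (hH _).mpr fun x hx => by
    obtain ⟨x, rfl⟩ := e.bar.surjective x
    rw [← map_mul, hσS]
    exact (hH g).mp hg x ((hσS x).mp hx)
  rcases e.irr (H.comap (QuotientGroup.mk' β.ker))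
      (fun x hx => by
        rw [Subgroup.mem_comap, QuotientGroup.mk'_apply, (QuotientGroup.eq_one_iff x).mpr hx]
        exact one_mem H)
      (fun x hx => hHa _ hx) with hbot | htop
  · -- a single point
    have hone : ∀ x, x ∈ Sp η₂ → x = a := fun x hx => by
      obtain ⟨z, hz⟩ := QuotientGroup.mk_surjective (a * x)
      have h1 : (z : Vq) ∈ H := hz ▸ (hTA x).mp hx
      have h2 : z ∈ β.ker := hbot ▸ (Subgroup.mem_comap.mpr h1 : z ∈ H.comap (QuotientGroup.mk' β.ker))
      rw [← QuotientGroup.eq_one_iff, hz] at h2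
      exact (mul_left_cancel (a := a) (h2.trans (hsq a).symm))
    have ha1 : a = 1 := e.bar_fixed (hone _ ((hσS a).mpr ha))
    have hzero : ∀ p, p ∉ β.ker → F.phi η₂ p = 0 := fun p hp => by
      by_contra h0
      exact hp ((QuotientGroup.eq_one_iff p).mp ((hone _ ((hSp _ p).mp h0)).trans ha1))
    have hφ1 : F.g η₂ η₂ ≠ 0 := by
      have h1 := (hSp η₂ 1).mpr (by rw [QuotientGroup.mk_one, ← ha1]; exact ha)
      rwa [Form.phi, map_one, Module.End.one_apply] at h1
    -- a vector orthogonal to `η₂`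
    obtain ⟨c', hc', hc'0⟩ : ∃ c', F.g c' η₂ = 0 ∧ c' ≠ 0 := by
      by_contra hh
      push Not at hh
      have hinj : Function.Injective ((LinearMap.applyₗ η₂ : Module.Dual k E →ₗ[k] k) ∘ₗ F.g.toLinearMap) :=
        (injective_iff_map_eq_zero _).mpr hh
      have h1 := LinearMap.finrank_le_finrank_of_injective hinj
      rw [Module.finrank_self, h.dim] at h1
      have := e.two_le
      omega
    obtain ⟨d, hd⟩ : ∃ d, F.g c' d ≠ 0 := by
      by_contra hh
      push Not at hh
      exact hc'0 (F.g.injective (LinearMap.ext fun v => by rw [hh, map_zero, LinearMap.zero_apply]))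
    have h1 := F.fierz h e η₂ η₂ c' d
    rw [hc', mul_zero, mul_zero] at h1
    have h2 : ∀ p, F.g η₂ (π p η₂) * F.g c' (π p⁻¹ d) = if p ∈ β.ker then F.g η₂ η₂ * F.g c' d else 0 := by
      intro p
      split_ifs with hp
      · rw [h.scal p hp, h.scal.inv hp, map_smul, map_smul, smul_eq_mul, smul_eq_mul, mul_mul_mul_comm,
          sgn_mul_self, one_mul]
      · rw [show F.g η₂ (π p η₂) = 0 from hzero p hp, zero_mul]
    rw [Finset.sum_congr rfl fun p _ => h2 p, ← Finset.sum_filter, Finset.sum_const, nsmul_eq_mul,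
      ← Fintype.card_subtype, ← Nat.card_eq_fintype_card] at h1
    refine mul_ne_zero ?_ (mul_ne_zero hφ1 hd) h1
    intro h0
    exact e.card (by rw [e.idx, Nat.cast_mul, show (Nat.card β.ker : k) = 0 from h0, mul_zero])
  · -- full support
    have hall : ∀ p : Q, F.phi η₂ p ≠ 0 := fun p => (hSp _ p).mpr ((hTA _).mpr (by
      obtain ⟨z, hz⟩ := QuotientGroup.mk_surjective (a * (p : Vq))
      rw [← hz]
      exact (htop ▸ Subgroup.mem_top z : z ∈ H.comap (QuotientGroup.mk' β.ker))))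
    have hsgn : ∀ x : Q, F.sign * sgn k (l (x * x)) = 1 := fun x => by
      have h1 : F.phi η₂ x = F.sign * sgn k (l (x * x)) * F.phi η₂ x := by
        have hx : π x⁻¹ η₂ = sgn k (l (x * x)) • π x η₂ := by
          rw [← map_smul, ← h.scal.inv (e.sq x), ← Module.End.mul_apply, ← map_mul, mul_inv_rev,
            mul_inv_cancel_left]
        conv_lhs => rw [Form.phi, F.symm, F.inv', hx, map_smul, smul_eq_mul, ← mul_assoc]
        rfl
      exact (mul_right_cancel₀ (hall x) ((one_mul _).trans h1)).symm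
    have hl : ∀ x y : Q, β x y = 1 := fun x y => by
      have hconst : ∀ z, l (z * z) = l (1 * 1) := fun z =>
        sgn_inj e.two (mul_left_cancel₀ hξ ((hsgn z).trans (hsgn 1).symm))
      have h1 := h.l_sq e x y
      rw [hconst x, hconst y, hconst (x * y), Int.units_mul_self, one_mul] at h1
      have h2 : l (1 * 1) = 1 := by
        obtain ⟨v, hv⟩ := exists_ne (0 : E)
        refine sgn_inj e.two (smul_left_injective k hv ?_)
        show sgn k _ • v = sgn k 1 • v
        rw [← h.scal _ (by rw [one_mul]; exact one_mem _), one_mul, map_one, Module.End.one_apply, sgn_one,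
          one_smul]
      rw [one_mul] at h2
      rw [h2] at h1
      simpa using h1.symm
    have hker : β.ker = ⊤ := Subgroup.eq_top_iff' _ |>.mpr fun x => MonoidHom.mem_ker.mpr
      (MonoidHom.ext fun y => hl x y)
    have h1 := e.idx
    rw [hker, Subgroup.card_top] at h1
    have h2 : 1 < n * n := Nat.one_lt_mul_iff.mpr ⟨by have := e.two_le; omega, by have := e.two_le; omega,
      Or.inl (by have := e.two_le; omega)⟩
    have := Nat.card_pos (α := Q)
    nlinarith

end Cfsg.Agent.H24.Flav.Heis
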