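import Cfsg.Agent.H24.Flav.CommonRadHeis
import Mathlib.LinearAlgebra.Eigenspace.Semisimple
import Mathlib.FieldTheory.Separable

/-!
Semilinear operators and invariant forms on the irreducible modules of a setting: the operator of order `r`
has all its eigenspaces of dimension at most one.
-/

set_option autoImplicit false
set_option linter.unusedSectionVars false

namespace Cfsg.Agent.H24.Flav.Heis

open Cfsg.Agent.H8.Shult (sgn orth radR mem_radR mem_orth card_orth_mul)

universe u w

variable {Q : Type u} [Group Q] {k : Type w} [Field k]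
variable {A B E : Type*} [AddCommGroup A] [Module k A] [AddCommGroup B] [Module k B]
  [AddCommGroup E] [Module k E]

/-- `τ` transports the action along `σ`. -/
def Semi (σ : MulAut Q) (π : Q →* Module.End k E) (τ : Module.End k E) : Prop :=
  ∀ x v, τ (π x v) = π (σ x) (τ v)

variable {σ : MulAut Q}

theorem Semi.powers {π : Q →* Module.End k E} {τ : Module.End k E} (h : Semi σ π τ) :
    ∀ (i : ℕ) x v, (τ ^ i) (π x v) = π ((σ ^ i) x) ((τ ^ i) v) := by
  intro i
  induction i with
  | zero => intro x v; simp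
  | succ i ih =>
    intro x v
    rw [pow_succ', Module.End.mul_apply, ih, h, pow_succ' σ, MulAut.mul_apply, Module.End.mul_apply]

theorem pow_pred_apply {τ : Module.End k E} {r : ℕ} (hr : 0 < r) (hτ : τ ^ r = 1) (v : E) :
    (τ ^ (r - 1)) (τ v) = v ∧ τ ((τ ^ (r - 1)) v) = v := by
  constructor
  · rw [← Module.End.mul_apply, ← pow_succ, Nat.sub_add_cancel hr, hτ, Module.End.one_apply]
  · rw [← Module.End.mul_apply, ← pow_succ', Nat.sub_add_cancel hr, hτ, Module.End.one_apply]

theorem Semi.pred {π : Q →* Module.End k E} {τ : Module.End k E} (h : Semi σ π τ) {r : ℕ} (hr : 0 < r)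
    (hτ : τ ^ r = 1) (x : Q) (v : E) : (τ ^ (r - 1)) (π (σ x) v) = π x ((τ ^ (r - 1)) v) := by
  conv_lhs => rw [← (pow_pred_apply hr hτ v).2, ← h]
  rw [(pow_pred_apply hr hτ _).1]

/-- Conjugation by the operators on linear maps. -/
def conjT (r : ℕ) (τA : Module.End k A) (τB : Module.End k B) : Module.End k (A →ₗ[k] B) :=
  LinearMap.llcomp k A B B τB ∘ₗ LinearMap.lcomp k B (τA ^ (r - 1))

theorem conjT_apply (r : ℕ) (τA : Module.End k A) (τB : Module.End k B) (h : A →ₗ[k] B) (v : A) :
    conjT r τA τB h v = τB (h ((τA ^ (r - 1)) v)) := rfl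

theorem conjT_pow {r : ℕ} {τA : Module.End k A} {τB : Module.End k B} (hA : τA ^ r = 1) (hB : τB ^ r = 1) :
    conjT r τA τB ^ r = 1 := by
  have h : ∀ (i : ℕ) h v, ((conjT r τA τB ^ i) h) v = (τB ^ i) (h (((τA ^ (r - 1)) ^ i) v)) := by
    intro i
    induction i with
    | zero => intro h v; simp
    | succ i ih =>
      intro h v
      rw [pow_succ', Module.End.mul_apply, conjT_apply, ih, pow_succ', Module.End.mul_apply,
        ← Module.End.mul_apply ((τA ^ (r - 1)) ^ i), ← pow_succ]
  refine LinearMap.ext fun f => LinearMap.ext fun v => ?_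
  rw [h, hB, ← pow_mul, mul_comm, pow_mul, hA, one_pow]
  rfl

theorem Semi.hom {r : ℕ} (hr : 0 < r) {πA : Q →* Module.End k A} {πB : Q →* Module.End k B}
    {τA : Module.End k A} {τB : Module.End k B} (hA : Semi σ πA τA) (hτA : τA ^ r = 1) (hB : Semi σ πB τB) :
    Semi σ (homRep πA πB) (conjT r τA τB) := fun x h => LinearMap.ext fun v => by
  simp only [conjT_apply, homRep_apply]
  rw [hB, ← map_inv σ x, hA.pred hr hτA]

theorem conjT_mem_eqv {r : ℕ} (hr : 0 < r) {πA : Q →* Module.End k A} {πB : Q →* Module.End k B}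
    {τA : Module.End k A} {τB : Module.End k B} (hA : Semi σ πA τA) (hτA : τA ^ r = 1) (hB : Semi σ πB τB)
    {g : A →ₗ[k] B} (hg : g ∈ eqv πA πB) : conjT r τA τB g ∈ eqv πA πB := fun x v => by
  obtain ⟨x, rfl⟩ := σ.surjective x
  rw [conjT_apply, conjT_apply, hA.pred hr hτA, hg, hB]

/-- An operator of order prime to the characteristic is diagonalisable. -/
theorem iSup_eigen [IsAlgClosed k] [FiniteDimensional k E] {T : Module.End k E} {r : ℕ} (hT : T ^ r = 1)
    (hr : (r : k) ≠ 0) : ⨆ c, Module.End.eigenspace T c = ⊤ := by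
  refine Module.End.IsSemisimple.iSup_eigenspace_eq_top
    (Module.End.isSemisimple_of_squarefree_aeval_eq_zero
      (Polynomial.separable_X_pow_sub_C (1 : k) hr one_ne_zero).squarefree ?_)
  simp [hT]

variable {β : Q →* Q →* ℤˣ} {l : Q → ℤˣ} {r n : ℕ} [Fintype Q]

theorem Env.mem_ker_map (e : Env k β σ r n) {x : Q} (hx : x ∈ β.ker) : σ x ∈ β.ker := by
  rw [MonoidHom.mem_ker] at hx ⊢
  refine MonoidHom.ext fun y => ?_
  obtain ⟨y, rfl⟩ := σ.surjective y
  rw [e.inv, hx, MonoidHom.one_apply, MonoidHom.one_apply]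

theorem Env.map_ker (e : Env k β σ r n) : β.ker.map σ.toMonoidHom = β.ker :=
  Subgroup.eq_of_le_of_card_ge (by rintro _ ⟨x, hx, rfl⟩; exact e.mem_ker_map hx)
    (Subgroup.card_map_of_injective σ.injective).ge

/-- The automorphism of the quotient by the radical. -/
noncomputable def Env.bar (e : Env k β σ r n) : MulAut (Q ⧸ β.ker) :=
  QuotientGroup.congr β.ker β.ker σ e.map_ker

theorem Env.bar_mk (e : Env k β σ r n) (x : Q) : e.bar (x : Q ⧸ β.ker) = ((σ x : Q) : Q ⧸ β.ker) := rfl

theorem Env.bar_pow (e : Env k β σ r n) : e.bar ^ r = 1 := by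
  refine MulEquiv.ext fun s => ?_
  obtain ⟨x, rfl⟩ := QuotientGroup.mk_surjective s
  have h : ∀ i : ℕ, (e.bar ^ i) (x : Q ⧸ β.ker) = (((σ ^ i) x : Q) : Q ⧸ β.ker) := by
    intro i
    induction i with
    | zero => rfl
    | succ i ih => rw [pow_succ', MulAut.mul_apply, ih, e.bar_mk, pow_succ', MulAut.mul_apply]
  rw [h, e.pow]
  rfl

theorem Env.bar_fixed (e : Env k β σ r n) {s : Q ⧸ β.ker} (h : e.bar s = s) : s = 1 := by
  obtain ⟨x, rfl⟩ := QuotientGroup.mk_surjective s
  rw [e.bar_mk, eq_comm, QuotientGroup.eq] at h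
  exact (QuotientGroup.eq_one_iff x).mpr (e.fpf x h)

/-- A map constant up to scalars on free orbits of size `r` spans little. -/
theorem mul_finrank_span_le {X W : Type*} [DecidableEq X] [AddCommGroup W] [Module k W] [FiniteDimensional k W]
    {r : ℕ} (s : Equiv.Perm X) (hs : s ^ r = 1) (F : X → W) (hF : ∀ x, F (s x) ∈ Submodule.span k {F x})
    (S : Finset X) (hS : ∀ x ∈ S, s x ∈ S)
    (hfree : ∀ x ∈ S, ∀ i < r, ∀ j < r, (s ^ i) x = (s ^ j) x → i = j) :
    r * Module.finrank k (Submodule.span k (F '' S)) ≤ S.card := by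
  rcases Nat.eq_zero_or_pos r with rfl | hr
  · simp
  induction S using Finset.strongInduction with
  | _ S ih =>
    rcases S.eq_empty_or_nonempty with rfl | ⟨x, hx⟩
    · simp
    set O := (Finset.range r).image fun i => (s ^ i) x
    have hpow : ∀ i, (s ^ i) x ∈ S := fun i => by
      induction i with
      | zero => exact hx
      | succ i hi => rw [pow_succ', Equiv.Perm.mul_apply]; exact hS _ hi
    have hOS : O ⊆ S := fun y hy => by
      obtain ⟨i, -, rfl⟩ := Finset.mem_image.mp hy
      exact hpow i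
    have hOc : O.card = r := by
      rw [Finset.card_image_of_injOn fun i hi j hj h =>
        hfree x hx i (Finset.mem_range.mp hi) j (Finset.mem_range.mp hj) h, Finset.card_range]
    have hOinv : ∀ y, s y ∈ O → y ∈ O := fun y hy => by
      obtain ⟨i, hi, he⟩ := Finset.mem_image.mp hy
      refine Finset.mem_image.mpr ⟨(i + (r - 1)) % r, Finset.mem_range.mpr (Nat.mod_lt _ hr), ?_⟩
      rw [← pow_eq_pow_mod _ hs, add_comm, pow_add, Equiv.Perm.mul_apply, he, ← Equiv.Perm.mul_apply, ← pow_succ,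
        Nat.sub_add_cancel hr, hs, Equiv.Perm.one_apply]
    have hx' : x ∈ O := Finset.mem_image.mpr ⟨0, Finset.mem_range.mpr hr, rfl⟩
    have h1 := ih (S \ O) (Finset.sdiff_ssubset hOS ⟨x, hx'⟩) (fun y hy => by
        rw [Finset.mem_sdiff] at hy ⊢
        exact ⟨hS y hy.1, fun h => hy.2 (hOinv y h)⟩)
      (fun y hy => hfree y (Finset.mem_sdiff.mp hy).1)
    have hsp : Submodule.span k (F '' S) ≤ Submodule.span k (F '' ↑(S \ O)) ⊔ Submodule.span k {F x} := by
      refine Submodule.span_le.mpr ?_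
      rintro _ ⟨y, hy, rfl⟩
      by_cases hyO : y ∈ O
      · obtain ⟨i, -, rfl⟩ := Finset.mem_image.mp hyO
        refine Submodule.mem_sup_right ?_
        clear hy hyO
        induction i with
        | zero => exact Submodule.subset_span rfl
        | succ i hi =>
          rw [pow_succ', Equiv.Perm.mul_apply]
          exact (Submodule.span_le.mpr (Set.singleton_subset_iff.mpr hi)) (hF _)
      · exact Submodule.mem_sup_left (Submodule.subset_span ⟨y, by simp [hy, hyO], rfl⟩)
    have h2 := ((Submodule.finrank_mono hsp).trans (Submodule.finrank_add_le_finrank_add_finrank _ _)).trans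
      (Nat.add_le_add_left (finrank_span_le_card ({F x} : Set W)) _)
    rw [Set.toFinset_singleton, Finset.card_singleton] at h2
    calc r * _ ≤ r * (Module.finrank k (Submodule.span k (F '' ↑(S \ O))) + 1) := Nat.mul_le_mul_left _ h2
      _ ≤ (S \ O).card + r := by rw [mul_add, mul_one]; exact Nat.add_le_add_right h1 _
      _ = S.card := by rw [← hOc, Finset.card_sdiff_add_card_eq_card hOS]

variable [FiniteDimensional k E] {π : Q →* Module.End k E}

/-- The commutant of the operator is small. -/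
theorem IsHeis.finrank_commutant (h : IsHeis β l n π) (e : Env k β σ r n) {τ : Module.End k E}
    (hτ : Semi σ π τ) (hτr : τ ^ r = 1) (C : Submodule k (Module.End k E)) (hC : ∀ f ∈ C, τ * f = f * τ) :
    Module.finrank k C ≤ n := by
  classical
  have hr := e.prime.pos
  let _ := Fintype.ofFinite (Q ⧸ β.ker)
  let L : Module.End k E →ₗ[k] Module.End k E := ∑ i ∈ Finset.range r,
    LinearMap.mulLeft k (τ ^ i) ∘ₗ LinearMap.mulRight k (τ ^ ((r - 1) * i))
  have hL : ∀ f, L f = ∑ i ∈ Finset.range r, τ ^ i * f * τ ^ ((r - 1) * i) := fun f => by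
    simp [L, mul_assoc]
  let F : Q ⧸ β.ker → Module.End k E := fun s => L (π s.out)
  have hFmk : ∀ y : Q, L (π y) ∈ Submodule.span k {F (y : Q ⧸ β.ker)} := fun y => by
    have hk : (y : Q ⧸ β.ker).out⁻¹ * y ∈ β.ker := QuotientGroup.eq.mp (QuotientGroup.out_eq' _)
    refine Submodule.mem_span_singleton.mpr ⟨sgn k (l ((y : Q ⧸ β.ker).out⁻¹ * y)), ?_⟩
    show _ • L (π _) = _
    rw [← map_smul]
    refine congrArg L (LinearMap.ext fun v => ?_)
    rw [LinearMap.smul_apply, ← map_smul, ← h.scal _ hk, ← Module.End.mul_apply, ← map_mul, mul_inv_cancel_left]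
  have hLσ : ∀ y, L (π (σ y)) = L (π y) := fun y => by
    have hstep : π (σ y) = τ * π y * τ ^ (r - 1) := LinearMap.ext fun v => by
      rw [Module.End.mul_apply, Module.End.mul_apply, hτ, (pow_pred_apply hr hτr v).2]
    rw [hL, hL]
    set g : ℕ → Module.End k E := fun i => τ ^ i * π y * τ ^ ((r - 1) * i)
    have h1 : ∀ i, τ ^ i * π (σ y) * τ ^ ((r - 1) * i) = g (i + 1) := fun i => by
      simp only [g, hstep, mul_add, mul_one, pow_add, ← mul_assoc, pow_one]
      rw [mul_assoc, mul_assoc (τ ^ i * τ * π y), ← pow_add, ← pow_add, add_comm]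
    rw [Finset.sum_congr rfl fun i _ => h1 i]
    refine (add_left_inj (g 0)).mp ?_
    rw [← Finset.sum_range_succ' g, Finset.sum_range_succ]
    simp [g, hτr, pow_mul]
    rw [← pow_mul, mul_comm, pow_mul, hτr, one_pow, mul_one]
  have hFs : ∀ s, F (e.bar s) ∈ Submodule.span k {F s} := fun s => by
    obtain ⟨y, rfl⟩ := QuotientGroup.mk_surjective s
    have hy : (y : Q ⧸ β.ker).out⁻¹ * y ∈ β.ker := QuotientGroup.eq.mp (QuotientGroup.out_eq' _)
    have hb : e.bar (y : Q ⧸ β.ker) = ((σ (y : Q ⧸ β.ker).out : Q) : Q ⧸ β.ker) := by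
      conv_lhs => rw [← QuotientGroup.out_eq' (y : Q ⧸ β.ker)]
      rfl
    rw [hb]
    set y₀ := (y : Q ⧸ β.ker).out
    have hk : ((σ y₀ : Q) : Q ⧸ β.ker).out⁻¹ * σ y₀ ∈ β.ker := QuotientGroup.eq.mp (QuotientGroup.out_eq' _)
    refine Submodule.mem_span_singleton.mpr ⟨sgn k (l (((σ y₀ : Q) : Q ⧸ β.ker).out⁻¹ * σ y₀)), ?_⟩
    show _ • L (π y₀) = L (π _)
    rw [← hLσ y₀, ← map_smul]
    refine congrArg L (LinearMap.ext fun v => ?_)
    rw [LinearMap.smul_apply]
    have e2 : π (σ y₀) v = sgn k (l (((σ y₀ : Q) : Q ⧸ β.ker).out⁻¹ * σ y₀)) •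
        π ((σ y₀ : Q) : Q ⧸ β.ker).out v := by
      rw [← map_smul, ← h.scal _ hk, ← Module.End.mul_apply, ← map_mul, mul_inv_cancel_left]
    rw [e2, smul_smul, sgn_mul_self, one_smul]
  have hfree : ∀ s ∈ (Finset.univ : Finset (Q ⧸ β.ker)).erase 1, ∀ i < r, ∀ j < r,
      (e.bar.toEquiv ^ i) s = (e.bar.toEquiv ^ j) s → i = j := by
    intro s hs i hi j hj hij
    wlog hle : i ≤ j generalizing i j
    · exact (this j hj i hi hij.symm (le_of_not_ge hle)).symm
    by_contra hne
    rw [← Nat.add_sub_cancel' hle, pow_add, Equiv.Perm.mul_apply] at hij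
    have hfix := ((e.bar.toEquiv ^ i).injective hij).symm
    have hbp : e.bar.toEquiv ^ r = 1 := by
      refine Equiv.ext fun t => ?_
      have hcoe : ∀ n : ℕ, (e.bar.toEquiv ^ n) t = (e.bar ^ n) t := fun n => by
        induction n with
        | zero => rfl
        | succ n ihn => rw [pow_succ', Equiv.Perm.mul_apply, ihn, pow_succ', MulAut.mul_apply]; rfl
      rw [hcoe, e.bar_pow]; rfl
    obtain ⟨m, hm⟩ := exists_pow_eq_self_of_coprime (x := e.bar.toEquiv) (n := j - i)
      ((((e.prime.coprime_iff_not_dvd.mpr (Nat.not_dvd_of_pos_of_lt (by omega) (by omega)))).coprime_dvd_left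
        (orderOf_dvd_of_pow_eq_one hbp)).symm)
    refine Finset.ne_of_mem_erase hs (e.bar_fixed ?_)
    have h3 := Equiv.Perm.pow_apply_eq_self_of_apply_eq_self hfix m
    rwa [hm] at h3
  have hbp : e.bar.toEquiv ^ r = 1 := by
    refine Equiv.ext fun t => ?_
    have hcoe : ∀ n : ℕ, (e.bar.toEquiv ^ n) t = (e.bar ^ n) t := fun n => by
      induction n with
      | zero => rfl
      | succ n ihn => rw [pow_succ', Equiv.Perm.mul_apply, ihn, pow_succ', MulAut.mul_apply]; rfl
    rw [hcoe, e.bar_pow]; rfl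
  have h1 := mul_finrank_span_le (k := k) e.bar.toEquiv hbp F hFs _ (fun s hs => by
    rw [Finset.mem_erase] at hs ⊢
    exact ⟨fun h0 => hs.1 (e.bar.injective (h0.trans (map_one _).symm)), Finset.mem_univ _⟩) hfree
  rw [Finset.card_erase_of_mem (Finset.mem_univ _), Finset.card_univ, ← Nat.card_eq_fintype_card,
    e.card_quot] at h1
  set S₁ := Submodule.span k (F '' ↑((Finset.univ : Finset (Q ⧸ β.ker)).erase 1))
  have hle : C ≤ S₁ ⊔ Submodule.span k {F 1} := by
    intro f hf
    have hmem : L f ∈ S₁ ⊔ Submodule.span k {F 1} := by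
      refine h.end_induct e (S := (S₁ ⊔ Submodule.span k {F 1}).comap L) (fun y => ?_) f
      show L (π y) ∈ S₁ ⊔ Submodule.span k {F 1}
      refine Submodule.span_le.mpr (Set.singleton_subset_iff.mpr ?_) (hFmk y)
      by_cases hy : (y : Q ⧸ β.ker) = 1
      · rw [hy]; exact Submodule.mem_sup_right (Submodule.subset_span rfl)
      · exact Submodule.mem_sup_left (Submodule.subset_span ⟨_, by simp [hy], rfl⟩)
    have hcomm : Commute τ f := hC f hf
    rw [hL, Finset.sum_congr rfl fun i _ => show τ ^ i * f * τ ^ ((r - 1) * i) = f by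
      rw [(hcomm.pow_left i).eq, mul_assoc, ← pow_add]
      rw [show i + (r - 1) * i = r * i by rw [add_comm, ← Nat.succ_mul, Nat.succ_eq_add_one, Nat.sub_add_cancel hr],
        pow_mul, hτr, one_pow, mul_one], Finset.sum_const, Finset.card_range, ← Nat.cast_smul_eq_nsmul k,
      Submodule.smul_mem_iff _ e.r_ne] at hmem
    exact hmem
  have h2 := ((Submodule.finrank_mono hle).trans (Submodule.finrank_add_le_finrank_add_finrank _ _)).trans
    (Nat.add_le_add_left (finrank_span_le_card ({F 1} : Set (Module.End k E))) _)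
  rw [Set.toFinset_singleton, Finset.card_singleton] at h2
  refine h2.trans ?_
  have h3 : r * Module.finrank k S₁ ≤ r * (n - 1) := h1.trans (le_of_eq (by
    rw [e.eq]
    obtain ⟨o, rfl⟩ : ∃ o, n = o + 1 := ⟨n - 1, by have := e.two_le; omega⟩
    rw [Nat.add_sub_cancel, show (o + 1) * (o + 1) = (o + 1 + 1) * o + 1 by ring, Nat.add_sub_cancel]))
  have := Nat.le_of_mul_le_mul_left h3 hr
  have := e.two_le
  omega

variable [IsAlgClosed k]

/-- The operator has simple spectrum. -/
theorem IsHeis.eig_le_one (h : IsHeis β l n π) (e : Env k β σ r n) {τ : Module.End k E}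
    (hτ : Semi σ π τ) (hτr : τ ^ r = 1) (c : k) : Module.finrank k (Module.End.eigenspace τ c) ≤ 1 := by
  classical
  by_contra hne
  have hint : DirectSum.IsInternal fun c => Module.End.eigenspace τ c :=
    DirectSum.isInternal_submodule_of_iSupIndep_of_iSup_eq_top (Module.End.eigenspaces_iSupIndep τ)
      (iSup_eigen hτr e.r_ne)
  let b := hint.collectedBasis fun c => Module.finBasis k (Module.End.eigenspace τ c)
  let ι := Σ c : k, Fin (Module.finrank k (Module.End.eigenspace τ c))
  have : Finite ι := Module.Finite.finite_basis b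
  let _ := Fintype.ofFinite ι
  have hb : ∀ i : ι, τ (b i) = i.1 • b i := fun i =>
    Module.End.mem_eigenspace_iff.mp (hint.collectedBasis_mem _ i)
  let i₀ : ι := ⟨c, ⟨0, by omega⟩⟩
  let i₁ : ι := ⟨c, ⟨1, by omega⟩⟩
  let f : Option ι → ι × ι := fun o => o.elim (i₀, i₁) fun i => (i, i)
  have hf : ∀ o, (f o).1.1 = (f o).2.1 := fun o => by cases o <;> rfl
  have hfinj : Function.Injective f := by
    have h01 : i₀ ≠ i₁ := fun he => by
      simpa [i₀, i₁, Fin.ext_iff] using (eq_of_heq (Sigma.mk.inj_iff.mp he).2)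
    intro o o' ho
    rcases o with _ | i <;> rcases o' with _ | i' <;> simp [f, Prod.ext_iff] at ho ⊢
    · exact h01 (ho.1.trans ho.2.symm)
    · exact h01 (ho.1.symm.trans ho.2)
    · exact ho
  let C : Submodule k (Module.End k E) := Submodule.span k (Set.range (b.end ∘ f))
  have hC : ∀ g ∈ C, τ * g = g * τ := by
    intro g hg
    induction hg using Submodule.span_induction with
    | mem g hg =>
      obtain ⟨o, rfl⟩ := hg
      refine b.ext fun i => ?_
      rw [Module.End.mul_apply, Module.End.mul_apply, hb, map_smul, Function.comp_apply,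
        Module.Basis.end_apply_apply]
      split_ifs with hi
      · rw [hb, hf, hi]
      · rw [map_zero, smul_zero]
    | zero => simp
    | add g g' _ _ ha hb => rw [mul_add, add_mul, ha, hb]
    | smul c g _ hg => rw [mul_smul_comm, smul_mul_assoc, hg]
  have h1 := h.finrank_commutant e hτ hτr C hC
  rw [finrank_span_eq_card (b.end.linearIndependent.comp f hfinj), Fintype.card_option,
    ← Module.finrank_eq_card_basis b, h.dim] at h1
  omega

/-- Two eigenvectors with the same eigenvalue are proportional. -/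
theorem IsHeis.eig_unique (h : IsHeis β l n π) (e : Env k β σ r n) {τ : Module.End k E}
    (hτ : Semi σ π τ) (hτr : τ ^ r = 1) {c : k} {v w : E} (hv : τ v = c • v) (hw : τ w = c • w) (hw0 : w ≠ 0) :
    ∃ d : k, v = d • w := by
  have hwm : w ∈ Module.End.eigenspace τ c := Module.End.mem_eigenspace_iff.mpr hw
  have h1 : Module.End.eigenspace τ c = Submodule.span k {w} :=
    (Submodule.eq_of_le_of_finrank_le ((Submodule.span_singleton_le_iff_mem w _).mpr hwm)
      ((h.eig_le_one e hτ hτr c).trans (finrank_span_singleton hw0).ge)).symm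
  have hvm : v ∈ Submodule.span k {w} := h1 ▸ Module.End.mem_eigenspace_iff.mpr hv
  obtain ⟨d, hd⟩ := Submodule.mem_span_singleton.mp hvm
  exact ⟨d, hd.symm⟩

/-- The contragredient action. -/
def dualRep (π : Q →* Module.End k E) : Q →* Module.End k (Module.Dual k E) where
  toFun x := (π x⁻¹).dualMap
  map_one' := LinearMap.ext fun φ => LinearMap.ext fun v => by simp
  map_mul' x y := LinearMap.ext fun φ => LinearMap.ext fun v => by simp [map_mul]

omit [IsAlgClosed k] in
theorem IsHeis.dual (h : IsHeis β l n π) (e : Env k β σ r n) : IsHeis β l n (dualRep π) := by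
  refine ⟨fun x hx φ => LinearMap.ext fun v => ?_, fun x y φ => LinearMap.ext fun v => ?_,
    Subspace.dual_finrank_eq.trans h.dim⟩
  · show φ (π x⁻¹ v) = _
    rw [h.scal.inv hx, map_smul, LinearMap.smul_apply]
  · show φ (π y⁻¹ (π x⁻¹ v)) = sgn k (β x y) * φ (π x⁻¹ (π y⁻¹ v))
    rw [h.comm, map_smul, smul_eq_mul]
    simp only [map_inv, MonoidHom.inv_apply, inv_inv, e.symm y x]

/-- An invariant nondegenerate form with a symmetry sign. -/
structure Form (π : Q →* Module.End k E) where
  g : E ≃ₗ[k] Module.Dual k E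
  inv : ∀ x u v, g (π x u) (π x v) = g u v
  sign : k
  sign_sq : sign * sign = 1
  symm : ∀ u v, g v u = sign * g u v

omit [IsAlgClosed k] in
theorem Form.inv' (F : Form π) (x : Q) (u v : E) : F.g (π x u) v = F.g u (π x⁻¹ v) := by
  conv_lhs => rw [← act_act_inv π x v, F.inv]

omit [IsAlgClosed k] in
theorem Form.unique (F : Form π) (h : IsHeis β l n π) (e : Env k β σ r n) (b : E →ₗ[k] Module.Dual k E)
    (hb : ∀ x u v, b (π x u) (π x v) = b u v) : ∃ c : k, ∀ u v, b u v = c * F.g u v := by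
  obtain ⟨c, hc⟩ := h.exists_scalar e (f := F.g.symm.toLinearMap ∘ₗ b) fun x u => F.g.injective
    (LinearMap.ext fun v => by
      rw [LinearMap.comp_apply, LinearMap.comp_apply, LinearEquiv.coe_coe, LinearEquiv.apply_symm_apply, F.inv',
        LinearEquiv.apply_symm_apply, ← hb x u (π x⁻¹ v), act_act_inv])
  refine ⟨c, fun u v => ?_⟩
  have h1 := congrArg (fun f : E →ₗ[k] E => F.g (f u) v) hc
  simpa using h1

omit [IsAlgClosed k] in
theorem IsHeis.exists_form (h : IsHeis β l n π) (e : Env k β σ r n) : Nonempty (Form π) := by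
  have := h.nontrivial e
  obtain ⟨g, hg, hgb⟩ := h.exists_iso (h.dual e) e
  let G : E ≃ₗ[k] Module.Dual k E := LinearEquiv.ofBijective g hgb
  have hinv : ∀ x u v, G (π x u) (π x v) = G u v := fun x u v => by
    show g (π x u) (π x v) = g u v
    rw [hg x u]
    show g u (π x⁻¹ (π x v)) = g u v
    rw [act_inv_act]
  let F₀ : E →ₗ[k] Module.Dual k E := G.toLinearMap.flip
  obtain ⟨c, hc⟩ := h.exists_scalar e (f := G.symm.toLinearMap ∘ₗ F₀) fun x u => G.injective
    (LinearMap.ext fun v => by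
      rw [LinearMap.comp_apply, LinearMap.comp_apply, LinearEquiv.coe_coe, LinearEquiv.apply_symm_apply]
      conv_rhs => rw [← act_act_inv π x v, hinv, LinearEquiv.apply_symm_apply]
      simp only [F₀, LinearMap.flip_apply, LinearEquiv.coe_coe]
      conv_lhs => rw [← act_act_inv π x v, hinv])
  have hflip : ∀ u v, G v u = c * G u v := fun u v => by
    have h1 := congrArg (fun f : E →ₗ[k] E => G (f u) v) hc
    simpa [F₀] using h1
  refine ⟨⟨G, hinv, c, ?_, hflip⟩⟩
  obtain ⟨u, hu⟩ := exists_ne (0 : E)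
  obtain ⟨v, hv⟩ : ∃ v, G u v ≠ 0 := by
    by_contra h0
    push Not at h0
    exact hu (G.injective (LinearMap.ext fun v => by rw [h0, map_zero, LinearMap.zero_apply]))
  have h2 : c * c * G u v = 1 * G u v := by rw [one_mul, mul_assoc, ← hflip, ← hflip]
  exact mul_right_cancel₀ hv h2

omit [IsAlgClosed k] in
theorem Form.semi (F : Form π) (h : IsHeis β l n π) (e : Env k β σ r n) {τ : Module.End k E}
    (hτ : Semi σ π τ) (hτr : τ ^ r = 1) : ∃ c : k, c ≠ 0 ∧ ∀ u v, F.g (τ u) (τ v) = c * F.g u v := by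
  have := h.nontrivial e
  obtain ⟨c, hc⟩ := F.unique h e (τ.dualMap ∘ₗ F.g.toLinearMap ∘ₗ τ) fun x u v => by
    show F.g (τ (π x u)) (τ (π x v)) = F.g (τ u) (τ v)
    rw [hτ, hτ, F.inv]
  have hc' : ∀ u v, F.g (τ u) (τ v) = c * F.g u v := hc
  refine ⟨c, fun h0 => ?_, hc'⟩
  obtain ⟨u, hu⟩ := exists_ne (0 : E)
  refine hu (F.g.injective (LinearMap.ext fun v => ?_))
  have h1 := hc' ((τ ^ (r - 1)) u) ((τ ^ (r - 1)) v)
  rw [(pow_pred_apply e.prime.pos hτr u).2, (pow_pred_apply e.prime.pos hτr v).2, h0, zero_mul] at h1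
  rw [h1, map_zero, LinearMap.zero_apply]

theorem IsHeis.exists_semi (h : IsHeis β l n π) (e : Env k β σ r n) (hl : ∀ x ∈ β.ker, l (σ x) = l x) :
    ∃ τ : Module.End k E, Semi σ π τ ∧ τ ^ r = 1 := by
  have := h.nontrivial e
  have hσ : IsHeis β l n (π.comp σ.toMonoidHom) := ⟨fun x hx v => by
      show π (σ x) v = _
      rw [h.scal _ (e.mem_ker_map hx), hl x hx],
    fun x y v => by
      show π (σ x) (π (σ y) v) = _
      rw [h.comm, e.inv]; rfl, h.dim⟩
  obtain ⟨τ₀, hτ₀, hb⟩ := h.exists_iso hσ e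
  have hs : Semi σ π τ₀ := hτ₀
  obtain ⟨c, hc⟩ := h.exists_scalar e (f := τ₀ ^ r) fun x v => by rw [hs.powers, e.pow]; rfl
  have hc0 : c ≠ 0 := by
    rintro rfl
    rw [zero_smul] at hc
    obtain ⟨v, hv⟩ := exists_ne (0 : E)
    refine hv ?_
    have hinj : Function.Injective ⇑(τ₀ ^ r : Module.End k E) := by
      rw [Module.End.coe_pow]; exact hb.injective.iterate r
    exact hinj (by rw [hc]; rfl)
  obtain ⟨d, hd⟩ := IsAlgClosed.exists_pow_nat_eq c e.prime.pos
  have hd0 : d ≠ 0 := fun h0 => hc0 (by rw [← hd, h0, zero_pow e.prime.ne_zero])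
  refine ⟨d⁻¹ • τ₀, fun x v => by simp [hs x v], ?_⟩
  rw [smul_pow, hc, inv_pow, hd, smul_smul, inv_mul_cancel₀ hc0, one_smul]
  rfl

omit [IsAlgClosed k] in
/-- Every sign character killing the radical is given by an element. -/
theorem Env.exists_rep (e : Env k β σ r n) (c : Q →* ℤˣ) (hc : ∀ x ∈ β.ker, c x = 1) : ∃ w, β w = c := by
  classical
  by_cases h1 : c = 1
  · exact ⟨1, by rw [map_one, h1]⟩
  obtain ⟨y₀, hy₀⟩ : ∃ y, c y ≠ 1 := by
    by_contra hh
    push Not at hh
    exact h1 (MonoidHom.ext hh)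
  have hy₀' : c y₀ = -1 := (Int.units_eq_one_or _).resolve_left hy₀
  have hrad : radR β = β.ker := by
    ext x
    rw [mem_radR, MonoidHom.mem_ker]
    exact ⟨fun h => MonoidHom.ext fun y => by rw [e.symm]; exact h y, fun h y => by rw [e.symm, h]; rfl⟩
  have h := card_orth_mul (β := β) c.ker
  rw [hrad, inf_eq_right.mpr (fun x hx => MonoidHom.mem_ker.mpr (hc x hx) : β.ker ≤ c.ker)] at h
  obtain ⟨w, hw, hwk⟩ : ∃ w ∈ orth β c.ker, w ∉ β.ker := by
    by_contra hh
    push Not at hh
    have hle := Nat.le_of_dvd Nat.card_pos (Subgroup.card_dvd_of_le hh)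
    have h2 : Nat.card Q * Nat.card β.ker ≤ Nat.card β.ker * Nat.card c.ker :=
      h ▸ Nat.mul_le_mul_right _ hle
    rw [mul_comm] at h2
    have h3 : c.ker = ⊤ := Subgroup.eq_top_of_le_card _ (Nat.le_of_mul_le_mul_left h2 Nat.card_pos)
    exact hy₀ (MonoidHom.mem_ker.mp (h3 ▸ Subgroup.mem_top y₀))
  refine ⟨w, MonoidHom.ext fun y => ?_⟩
  have hy₁ : β w y₀ = -1 := by
    refine (Int.units_eq_one_or _).resolve_left fun h2 => hwk (MonoidHom.mem_ker.mpr (MonoidHom.ext fun z => ?_))
    rcases Int.units_eq_one_or (c z) with hz | hz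
    · exact mem_orth.mp hw z hz
    · have h3 := mem_orth.mp hw (z * y₀) (MonoidHom.mem_ker.mpr (by rw [map_mul, hz, hy₀']; rfl))
      rw [map_mul, h2, mul_one] at h3
      exact h3
  rcases Int.units_eq_one_or (c y) with hy | hy
  · rw [hy]; exact mem_orth.mp hw y hy
  · have h3 := mem_orth.mp hw (y * y₀) (MonoidHom.mem_ker.mpr (by rw [map_mul, hy, hy₀']; rfl))
    rw [map_mul, hy₁, mul_neg, mul_one, neg_eq_iff_eq_neg] at h3
    rw [h3, hy]

omit [IsAlgClosed k] in
/-- The quadratic function of the module. -/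
theorem IsHeis.l_sq (h : IsHeis β l n π) (e : Env k β σ r n) (x y : Q) :
    l ((x * y) * (x * y)) = l (x * x) * l (y * y) * β x y := by
  have := h.nontrivial e
  obtain ⟨v, hv⟩ := exists_ne (0 : E)
  refine sgn_inj e.two (smul_left_injective k hv ?_)
  show sgn k _ • v = sgn k _ • v
  rw [← h.scal _ (e.sq _)]
  simp only [map_mul, Module.End.mul_apply]
  rw [h.comm y x, map_smul, ← Module.End.mul_apply (π x) (π x), ← Module.End.mul_apply (π y) (π y), ← map_mul,
    ← map_mul, h.scal _ (e.sq y), map_smul, h.scal _ (e.sq x), smul_smul, smul_smul, e.symm y x, sgn_mul, sgn_mul]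
  congr 1
  ring

end Cfsg.Agent.H24.Flav.Heis
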