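import Cfsg.Agent.H24.Flav.CommonRadProduct

/-!
Three forms with a common radical, one the product of the other two: equivariant families of maps composing
symmetrically compose to zero.
-/

set_option autoImplicit false
set_option linter.unusedSectionVars false

namespace Cfsg.Agent.H24.Flav.Heis

open Cfsg.Agent.H8.Shult (sgn)

universe u w

variable {Q : Type u} [Group Q] [Fintype Q] {k : Type w} [Field k]
variable {βμ βχ βψ : Q →* Q →* ℤˣ} {σ : MulAut Q} {r n : ℕ}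

/-- The forms of two characters and of their product. -/
structure Triple (k : Type w) [Field k] (βμ βχ βψ : Q →* Q →* ℤˣ) (σ : MulAut Q) (r n : ℕ) : Prop where
  eμ : Env k βμ σ r n
  eχ : Env k βχ σ r n
  eψ : Env k βψ σ r n
  kχ : βχ.ker = βμ.ker
  kψ : βψ.ker = βμ.ker
  mul : βψ = βμ * βχ

theorem Triple.mul_self_eq (β : Q →* Q →* ℤˣ) (x y : Q) : β x y * β x y = 1 := Int.units_mul_self _

theorem Triple.swap (t : Triple k βμ βχ βψ σ r n) : Triple k βμ βψ βχ σ r n :=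
  ⟨t.eμ, t.eψ, t.eχ, t.kψ, t.kχ, MonoidHom.ext fun x => MonoidHom.ext fun y => by
    simp only [t.mul, MonoidHom.mul_apply, ← mul_assoc, Int.units_mul_self, one_mul]⟩

/-- The pairs acting compatibly on two modules. -/
def pairs (βμ βχ : Q →* Q →* ℤˣ) : Subgroup (Q × Q) :=
  (βμ.comp (MonoidHom.fst Q Q) * βχ.comp (MonoidHom.snd Q Q)).ker

theorem mem_pairs {p : Q × Q} : p ∈ pairs βμ βχ ↔ ∀ x, βμ p.1 x * βχ p.2 x = 1 := by
  rw [pairs, MonoidHom.mem_ker, MonoidHom.ext_iff]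
  rfl

noncomputable instance : Fintype (pairs βμ βχ) := Fintype.ofFinite _

/-- The first component. -/
def pairFst : pairs βμ βχ →* Q := (MonoidHom.fst Q Q).comp (pairs βμ βχ).subtype

/-- The second component. -/
def pairSnd : pairs βμ βχ →* Q := (MonoidHom.snd Q Q).comp (pairs βμ βχ).subtype

theorem pairs_rel (p : pairs βμ βχ) (x : Q) : βμ (pairFst p) x * βχ (pairSnd p) x = 1 := mem_pairs.mp p.2 x

/-- The form on the pairs. -/
def pairForm (βμ βχ : Q →* Q →* ℤˣ) : pairs βμ βχ →* pairs βμ βχ →* ℤˣ :=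
  MonoidHom.mk' (fun p => (βμ (pairFst p)).comp pairFst * (βχ (pairSnd p)).comp pairSnd) fun p q =>
    MonoidHom.ext fun x => by simp [mul_mul_mul_comm]

theorem pairForm_apply (p q : pairs βμ βχ) :
    pairForm βμ βχ p q = βμ (pairFst p) (pairFst q) * βχ (pairSnd p) (pairSnd q) := rfl

theorem Triple.pairs_fst_surjective (t : Triple k βμ βχ βψ σ r n) :
    Function.Surjective (pairFst : pairs βμ βχ →* Q) := fun v => by
  obtain ⟨y, hy⟩ := t.eχ.exists_rep (βμ v) fun x hx => by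
    rw [t.kχ, MonoidHom.mem_ker] at hx
    rw [t.eμ.symm, hx, MonoidHom.one_apply]
  exact ⟨⟨(v, y), mem_pairs.mpr fun x => by rw [hy, Int.units_mul_self]⟩, rfl⟩

theorem Triple.snd_mem (t : Triple k βμ βχ βψ σ r n) {p : pairs βμ βχ} (hp : pairFst p ∈ βμ.ker) :
    pairSnd p ∈ βμ.ker := by
  rw [← t.kχ, MonoidHom.mem_ker]
  refine MonoidHom.ext fun x => ?_
  have h := pairs_rel p x
  rwa [MonoidHom.mem_ker.mp hp, MonoidHom.one_apply, one_mul] at h

theorem Triple.mem_pairForm_ker (t : Triple k βμ βχ βψ σ r n) {p : pairs βμ βχ} :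
    p ∈ (pairForm βμ βχ).ker ↔ pairFst p ∈ βμ.ker := by
  constructor
  · intro hp
    have hvy : pairFst p * pairSnd p ∈ βμ.ker := by
      rw [MonoidHom.mem_ker]
      refine MonoidHom.ext fun v' => ?_
      obtain ⟨q, rfl⟩ := t.pairs_fst_surjective v'
      have h1 := congrArg (fun f : pairs βμ βχ →* ℤˣ => f q) (MonoidHom.mem_ker.mp hp)
      simp only [pairForm_apply, MonoidHom.one_apply] at h1
      have h2 : βχ (pairSnd q) (pairSnd p) = βμ (pairFst q) (pairSnd p) := by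
        rw [← mul_one (βμ (pairFst q) (pairSnd p)), ← pairs_rel q (pairSnd p), ← mul_assoc, Int.units_mul_self,
          one_mul]
      rw [map_mul, MonoidHom.mul_apply, MonoidHom.one_apply]
      rw [t.eχ.symm (pairSnd p), h2, t.eμ.symm (pairFst q)] at h1
      exact h1
    have hv : pairFst p ∈ βψ.ker := by
      rw [MonoidHom.mem_ker]
      refine MonoidHom.ext fun x => ?_
      have h3 : βμ (pairFst p) x * βμ (pairSnd p) x = 1 := by
        rw [← MonoidHom.mul_apply, ← map_mul, MonoidHom.mem_ker.mp hvy, MonoidHom.one_apply]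
      have h4 : βχ (pairFst p) x * βχ (pairSnd p) x = 1 := by
        rw [← t.kχ] at hvy
        rw [← MonoidHom.mul_apply, ← map_mul, MonoidHom.mem_ker.mp hvy, MonoidHom.one_apply]
      have h5 := pairs_rel p x
      rw [t.mul, MonoidHom.mul_apply, MonoidHom.mul_apply, MonoidHom.one_apply]
      rw [mul_eq_one_iff_eq_inv, Int.units_inv_eq_self] at h4 h5
      rw [h4, h5, Int.units_mul_self]
    exact t.kψ ▸ hv
  · intro hp
    rw [MonoidHom.mem_ker]
    refine MonoidHom.ext fun q => ?_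
    have hy := t.snd_mem hp
    rw [← t.kχ] at hy
    rw [pairForm_apply, MonoidHom.mem_ker.mp hp, MonoidHom.mem_ker.mp hy]
    rfl

theorem Triple.map_mem_pairs (t : Triple k βμ βχ βψ σ r n) (p : pairs βμ βχ) :
    (σ (pairFst p), σ (pairSnd p)) ∈ pairs βμ βχ := mem_pairs.mpr fun x => by
  obtain ⟨x, rfl⟩ := σ.surjective x
  rw [t.eμ.inv, t.eχ.inv]
  exact pairs_rel p x

/-- The automorphism of the pairs. -/
noncomputable def Triple.pairAut (t : Triple k βμ βχ βψ σ r n) : MulAut (pairs βμ βχ) :=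
  MulEquiv.ofBijective
    (MonoidHom.mk' (fun p => (⟨(σ (pairFst p), σ (pairSnd p)), t.map_mem_pairs p⟩ : pairs βμ βχ)) fun p q =>
      Subtype.ext (Prod.ext (by simp) (by simp)))
    (Finite.injective_iff_bijective.mp fun p q h => Subtype.ext (Prod.ext
      (σ.injective (congrArg (fun z : pairs βμ βχ => z.1.1) h))
      (σ.injective (congrArg (fun z : pairs βμ βχ => z.1.2) h))))

theorem Triple.pairFst_aut (t : Triple k βμ βχ βψ σ r n) (p : pairs βμ βχ) :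
    pairFst (t.pairAut p) = σ (pairFst p) := rfl

theorem Triple.pairSnd_aut (t : Triple k βμ βχ βψ σ r n) (p : pairs βμ βχ) :
    pairSnd (t.pairAut p) = σ (pairSnd p) := rfl

/-- The setting of the pairs. -/
theorem Triple.pairEnv (t : Triple k βμ βχ βψ σ r n) :
    Env k (pairForm βμ βχ) t.pairAut r n := by
  have hcard : Nat.card (pairs βμ βχ) = Nat.card Q * Nat.card βμ.ker ∧
      Nat.card (pairForm βμ βχ).ker = Nat.card βμ.ker * Nat.card βμ.ker := by
    let f : pairs βμ βχ →* Q := pairFst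
    have hkf : Nat.card f.ker = Nat.card βμ.ker := by
      refine Nat.card_congr
        { toFun := fun p => ⟨pairSnd p.1, t.snd_mem (by rw [show pairFst p.1 = 1 from p.2]; exact one_mem _)⟩
          invFun := fun y => ⟨⟨(1, y), mem_pairs.mpr fun x => by
            rw [map_one, MonoidHom.one_apply, one_mul, MonoidHom.mem_ker.mp (t.kχ.symm ▸ y.2 : (y : Q) ∈ βχ.ker)]
            rfl⟩, rfl⟩
          left_inv := fun p => Subtype.ext (Subtype.ext (Prod.ext (show pairFst p.1 = 1 from p.2).symm rfl))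
          right_inv := fun y => rfl }
    refine ⟨?_, ?_⟩
    · rw [← hkf, Subgroup.card_eq_card_quotient_mul_card_subgroup f.ker,
        Nat.card_congr (QuotientGroup.quotientKerEquivOfSurjective f t.pairs_fst_surjective).toEquiv]
    · rw [← Nat.card_prod]
      refine Nat.card_congr
        { toFun := fun p => (⟨pairFst p.1, t.mem_pairForm_ker.mp p.2⟩,
            ⟨pairSnd p.1, t.snd_mem (t.mem_pairForm_ker.mp p.2)⟩)
          invFun := fun y => ⟨⟨(y.1, y.2), mem_pairs.mpr fun x => by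
            rw [MonoidHom.mem_ker.mp y.1.2, MonoidHom.mem_ker.mp (t.kχ.symm ▸ y.2.2 : (y.2 : Q) ∈ βχ.ker)]
            rfl⟩, t.mem_pairForm_ker.mpr y.1.2⟩
          left_inv := fun p => rfl
          right_inv := fun y => rfl }
  refine
    { prime := t.eμ.prime
      eq := t.eμ.eq
      two_le := t.eμ.two_le
      symm := fun p q => by rw [pairForm_apply, pairForm_apply, t.eμ.symm, t.eχ.symm]
      sq := fun p => t.mem_pairForm_ker.mpr (by rw [map_mul]; exact t.eμ.sq _)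
      idx := by rw [hcard.1, hcard.2, t.eμ.idx]; ring
      pow := ?_
      inv := fun p q => by
        rw [pairForm_apply, pairForm_apply, t.pairFst_aut, t.pairFst_aut, t.pairSnd_aut, t.pairSnd_aut,
          t.eμ.inv, t.eχ.inv]
      fpf := fun p hp => t.mem_pairForm_ker.mpr (t.eμ.fpf _ (by
        have h := t.mem_pairForm_ker.mp hp
        rwa [map_mul, map_inv, t.pairFst_aut] at h))
      irr := ?_
      two := t.eμ.two
      r_ne := t.eμ.r_ne
      card := ?_ }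
  · refine MulEquiv.ext fun p => ?_
    have h : ∀ i : ℕ, pairFst ((t.pairAut ^ i) p) = (σ ^ i) (pairFst p) ∧
        pairSnd ((t.pairAut ^ i) p) = (σ ^ i) (pairSnd p) := by
      intro i
      induction i with
      | zero => exact ⟨rfl, rfl⟩
      | succ i ih =>
        rw [pow_succ', MulAut.mul_apply, t.pairFst_aut, t.pairSnd_aut, ih.1, ih.2, pow_succ', MulAut.mul_apply,
          MulAut.mul_apply]
        exact ⟨rfl, rfl⟩
    exact Subtype.ext (Prod.ext ((h r).1.trans (by rw [t.eμ.pow]; rfl)) ((h r).2.trans (by rw [t.eμ.pow]; rfl)))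
  · intro H hle hH
    rcases t.eμ.irr (H.map pairFst)
        (fun x hx => by
          obtain ⟨p, rfl⟩ := t.pairs_fst_surjective x
          exact ⟨p, hle (t.mem_pairForm_ker.mpr hx), rfl⟩)
        (by rintro _ ⟨p, hp, rfl⟩; exact ⟨t.pairAut p, hH p hp, rfl⟩) with h | h
    · exact Or.inl (le_antisymm (fun p hp => t.mem_pairForm_ker.mpr (h ▸ Subgroup.mem_map_of_mem _ hp)) hle)
    · refine Or.inr ((Subgroup.eq_top_iff' H).mpr fun p => ?_)
      obtain ⟨q, hq, hqp⟩ := (h ▸ Subgroup.mem_top (pairFst p) : pairFst p ∈ H.map pairFst)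
      have hk : q⁻¹ * p ∈ (pairForm βμ βχ).ker := t.mem_pairForm_ker.mpr (by
        rw [map_mul, map_inv, hqp, inv_mul_cancel]; exact one_mem _)
      simpa using mul_mem hq (hle hk)
  · rw [hcard.1, Nat.cast_mul]
    exact card_mul_ne_zero t.eμ.card

section Modules

variable {Eμ Eχ Eψ : Type*} [AddCommGroup Eμ] [Module k Eμ] [AddCommGroup Eχ] [Module k Eχ]
  [AddCommGroup Eψ] [Module k Eψ] [FiniteDimensional k Eμ] [FiniteDimensional k Eχ] [FiniteDimensional k Eψ]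
variable {lμ lχ lψ : Q → ℤˣ} {πμ : Q →* Module.End k Eμ} {πχ : Q →* Module.End k Eχ}
  {πψ : Q →* Module.End k Eψ}

/-- The pairs act on all families. -/
def pairRep (βμ βχ : Q →* Q →* ℤˣ) (πμ : Q →* Module.End k Eμ) (πχ : Q →* Module.End k Eχ) :
    pairs βμ βχ →* Module.End k (Eμ →ₗ[k] Eχ →ₗ[k] Eψ) :=
  homRep (πμ.comp pairFst) (homRep (πχ.comp pairSnd) 1)

theorem pairRep_apply (p : pairs βμ βχ) (b : Eμ →ₗ[k] Eχ →ₗ[k] Eψ) (f : Eμ) (z : Eχ) :
    pairRep βμ βχ πμ πχ p b f z = b (πμ (pairFst p)⁻¹ f) (πχ (pairSnd p)⁻¹ z) := by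
  simp only [pairRep, homRep_apply, MonoidHom.comp_apply, map_inv, MonoidHom.one_apply,
    Module.End.one_apply]

theorem Triple.pairRep_mem (t : Triple k βμ βχ βψ σ r n) (hμ : IsHeis βμ lμ n πμ) (hχ : IsHeis βχ lχ n πχ)
    (p : pairs βμ βχ) {b : Eμ →ₗ[k] Eχ →ₗ[k] Eψ} (hb : b ∈ eqv πμ (homRep πχ πψ)) :
    pairRep βμ βχ πμ πχ p b ∈ eqv πμ (homRep πχ πψ) := fun x f => LinearMap.ext fun z => by
  simp only [pairRep_apply, homRep_apply]
  rw [hμ.comm, map_smul, LinearMap.smul_apply, hb, homRep_apply, hχ.comm x⁻¹, map_smul, map_smul, smul_smul,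
    ← sgn_mul]
  simp only [map_inv, MonoidHom.inv_apply, Int.units_inv_eq_self]
  rw [t.eχ.symm x, pairs_rel, sgn_one, one_smul]

/-- The action on equivariant families. -/
def Triple.thetaRep (t : Triple k βμ βχ βψ σ r n) (hμ : IsHeis βμ lμ n πμ) (hχ : IsHeis βχ lχ n πχ)
    (πψ : Q →* Module.End k Eψ) : pairs βμ βχ →* Module.End k (eqv πμ (homRep πχ πψ)) :=
  restrictRep (pairRep βμ βχ πμ πχ) (eqv πμ (homRep πχ πψ)) fun p _ hb => t.pairRep_mem hμ hχ p hb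

theorem Triple.scal_hom (t : Triple k βμ βχ βψ σ r n) (hχ : IsHeis βχ lχ n πχ) (hψ : IsHeis βψ lψ n πψ)
    (hl : ∀ x ∈ βμ.ker, lμ x = lχ x * lψ x) : Scal βμ lμ (homRep πχ πψ) :=
  ((hχ.scal.congr t.kχ.symm fun _ _ => rfl).hom (hψ.scal.congr t.kψ.symm fun _ _ => rfl)).congr rfl
    fun x hx => (hl x hx).symm

theorem Triple.thetaRep_coe (t : Triple k βμ βχ βψ σ r n) (hμ : IsHeis βμ lμ n πμ) (hχ : IsHeis βχ lχ n πχ)
    (p : pairs βμ βχ) (b : eqv πμ (homRep πχ πψ)) :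
    ((t.thetaRep hμ hχ πψ p b : eqv πμ (homRep πχ πψ)) : Eμ →ₗ[k] Eχ →ₗ[k] Eψ) =
      pairRep βμ βχ πμ πχ p b := rfl

/-- The equivariant families form an irreducible module for the pairs. -/
theorem Triple.heisTheta (t : Triple k βμ βχ βψ σ r n) (hμ : IsHeis βμ lμ n πμ) (hχ : IsHeis βχ lχ n πχ)
    (hψ : IsHeis βψ lψ n πψ) (hl : ∀ x ∈ βμ.ker, lμ x = lχ x * lψ x) :
    IsHeis (E := eqv πμ (homRep πχ πψ)) (pairForm βμ βχ) (fun p => lμ (pairFst p) * lχ (pairSnd p)) n (t.thetaRep hμ hχ πψ) := by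
  refine ⟨fun p hp b => Subtype.ext (LinearMap.ext fun f => LinearMap.ext fun z => ?_),
    fun p q b => Subtype.ext (LinearMap.ext fun f => LinearMap.ext fun z => ?_), ?_⟩
  · have hv := t.mem_pairForm_ker.mp hp
    have hy := t.snd_mem hv
    rw [← t.kχ] at hy
    show pairRep βμ βχ πμ πχ p (b : Eμ →ₗ[k] Eχ →ₗ[k] Eψ) f z = _
    rw [pairRep_apply, hμ.scal.inv hv, hχ.scal.inv hy, map_smul, map_smul, LinearMap.smul_apply, smul_smul,
      sgn_mul, mul_comm]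
    rfl
  · show pairRep βμ βχ πμ πχ p (pairRep βμ βχ πμ πχ q (b : Eμ →ₗ[k] Eχ →ₗ[k] Eψ)) f z =
      sgn k (pairForm βμ βχ p q) • pairRep βμ βχ πμ πχ q (pairRep βμ βχ πμ πχ p (b : Eμ →ₗ[k] Eχ →ₗ[k] Eψ)) f z
    simp only [pairRep_apply]
    rw [hμ.comm, hχ.comm, map_smul, map_smul, LinearMap.smul_apply, smul_smul, ← sgn_mul]
    congr 2
    simp only [pairForm_apply, map_inv, MonoidHom.inv_apply, Int.units_inv_eq_self]
    rw [t.eμ.symm (pairFst q), t.eχ.symm (pairSnd q), mul_comm]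
  · have h := hμ.finrank_eqv' t.eμ (t.scal_hom hχ hψ hl)
    rw [Module.finrank_linearMap, hχ.dim, hψ.dim] at h
    exact Nat.eq_of_mul_eq_mul_left (by have := t.eμ.two_le; omega) h

variable {τμ : Module.End k Eμ} {τχ : Module.End k Eχ} {τψ : Module.End k Eψ}

/-- The operator on all families. -/
def famT (r : ℕ) (τμ : Module.End k Eμ) (τχ : Module.End k Eχ) (τψ : Module.End k Eψ) :
    Module.End k (Eμ →ₗ[k] Eχ →ₗ[k] Eψ) := conjT r τμ (conjT r τχ τψ)

theorem famT_apply (b : Eμ →ₗ[k] Eχ →ₗ[k] Eψ) (f : Eμ) (z : Eχ) :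
    famT r τμ τχ τψ b f z = τψ (b ((τμ ^ (r - 1)) f) ((τχ ^ (r - 1)) z)) := rfl

theorem famT_mem (hr : 0 < r) (sμ : Semi σ πμ τμ) (tμ : τμ ^ r = 1) (sχ : Semi σ πχ τχ) (tχ : τχ ^ r = 1)
    (sψ : Semi σ πψ τψ) {b : Eμ →ₗ[k] Eχ →ₗ[k] Eψ} (hb : b ∈ eqv πμ (homRep πχ πψ)) :
    famT r τμ τχ τψ b ∈ eqv πμ (homRep πχ πψ) :=
  conjT_mem_eqv hr sμ tμ (Semi.hom hr sχ tχ sψ) hb

/-- The operator on equivariant families. -/
def thetaT (hr : 0 < r) (sμ : Semi σ πμ τμ) (tμ : τμ ^ r = 1) (sχ : Semi σ πχ τχ) (tχ : τχ ^ r = 1)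
    (sψ : Semi σ πψ τψ) : Module.End k (eqv πμ (homRep πχ πψ)) :=
  (famT r τμ τχ τψ).restrict fun b hb => famT_mem hr sμ tμ sχ tχ sψ hb

theorem thetaT_coe (hr : 0 < r) (sμ : Semi σ πμ τμ) (tμ : τμ ^ r = 1) (sχ : Semi σ πχ τχ) (tχ : τχ ^ r = 1)
    (sψ : Semi σ πψ τψ) (b : eqv πμ (homRep πχ πψ)) :
    ((thetaT hr sμ tμ sχ tχ sψ b : eqv πμ (homRep πχ πψ)) : Eμ →ₗ[k] Eχ →ₗ[k] Eψ) =
      famT r τμ τχ τψ b := rfl

theorem thetaT_pow (hr : 0 < r) (sμ : Semi σ πμ τμ) (tμ : τμ ^ r = 1) (sχ : Semi σ πχ τχ) (tχ : τχ ^ r = 1)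
    (sψ : Semi σ πψ τψ) (tψ : τψ ^ r = 1) : thetaT hr sμ tμ sχ tχ sψ ^ r = 1 := by
  refine LinearMap.ext fun b => Subtype.ext ?_
  rw [thetaT, Cfsg.Agent.H8.Shult.restrict_pow_coe, famT, conjT_pow tμ (conjT_pow tχ tψ)]
  rfl

theorem Triple.thetaT_semi (t : Triple k βμ βχ βψ σ r n) (hμ : IsHeis βμ lμ n πμ) (hχ : IsHeis βχ lχ n πχ)
    (sμ : Semi σ πμ τμ) (tμ : τμ ^ r = 1) (sχ : Semi σ πχ τχ) (tχ : τχ ^ r = 1) (sψ : Semi σ πψ τψ) :
    Semi (E := eqv πμ (homRep πχ πψ)) t.pairAut (t.thetaRep hμ hχ πψ)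
      (thetaT t.eμ.prime.pos sμ tμ sχ tχ sψ) := fun p b => Subtype.ext <| by
  have h := Semi.hom t.eμ.prime.pos (σ := t.pairAut) (πA := πμ.comp pairFst) (fun p v => sμ (pairFst p) v) tμ
    (Semi.hom t.eμ.prime.pos (σ := t.pairAut) (πA := πχ.comp pairSnd)
      (πB := (1 : pairs βμ βχ →* Module.End k Eψ)) (τB := τψ)
      (fun p v => sχ (pairSnd p) v) tχ (fun p v => rfl)) p (b : Eμ →ₗ[k] Eχ →ₗ[k] Eψ)
  exact h

variable [IsAlgClosed k]

/-- Eigen families with the same eigenvalue are proportional. -/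
theorem Triple.eig_unique_fam (t : Triple k βμ βχ βψ σ r n) (hμ : IsHeis βμ lμ n πμ) (hχ : IsHeis βχ lχ n πχ)
    (hψ : IsHeis βψ lψ n πψ) (hl : ∀ x ∈ βμ.ker, lμ x = lχ x * lψ x) (sμ : Semi σ πμ τμ) (tμ : τμ ^ r = 1)
    (sχ : Semi σ πχ τχ) (tχ : τχ ^ r = 1) (sψ : Semi σ πψ τψ) (tψ : τψ ^ r = 1) {c : k}
    {b b' : Eμ →ₗ[k] Eχ →ₗ[k] Eψ} (hb : b ∈ eqv πμ (homRep πχ πψ)) (hb' : b' ∈ eqv πμ (homRep πχ πψ))
    (hc : famT r τμ τχ τψ b = c • b) (hc' : famT r τμ τχ τψ b' = c • b') (h0 : b' ≠ 0) :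
    ∃ d : k, b = d • b' := by
  obtain ⟨d, hd⟩ := (t.heisTheta hμ hχ hψ hl).eig_unique t.pairEnv (t.thetaT_semi hμ hχ sμ tμ sχ tχ sψ)
    (thetaT_pow t.eμ.prime.pos sμ tμ sχ tχ sψ tψ) (c := c) (v := ⟨b, hb⟩) (w := ⟨b', hb'⟩)
    (Subtype.ext hc) (Subtype.ext hc') (fun h => h0 (congrArg Subtype.val h))
  exact ⟨d, congrArg Subtype.val hd⟩

section Gop

omit [IsAlgClosed k]

/-- The operator of the trilinear form. -/
noncomputable def gop (F : Form πμ) (a : Eμ →ₗ[k] Eψ →ₗ[k] Eχ) (b : Eμ →ₗ[k] Eχ →ₗ[k] Eψ)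
    (Y : Module.End k Eχ) : Module.End k Eμ :=
  F.g.symm.toLinearMap ∘ₗ LinearMap.mk₂ k (fun f g => LinearMap.trace k Eχ (Y * (a g ∘ₗ b f)))
    (fun f f' g => by rw [map_add b, LinearMap.comp_add, mul_add, map_add])
    (fun c f g => by rw [map_smul b, LinearMap.comp_smul, mul_smul_comm, map_smul])
    (fun f g g' => by rw [map_add a, LinearMap.add_comp, mul_add, map_add])
    (fun c f g => by rw [map_smul a, LinearMap.smul_comp, mul_smul_comm, map_smul])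

variable (F : Form πμ)

theorem gop_apply (a : Eμ →ₗ[k] Eψ →ₗ[k] Eχ) (b : Eμ →ₗ[k] Eχ →ₗ[k] Eψ) (Y : Module.End k Eχ) (f g : Eμ) :
    F.g (gop F a b Y f) g = LinearMap.trace k Eχ (Y * (a g ∘ₗ b f)) := by
  rw [gop, LinearMap.comp_apply, LinearEquiv.coe_coe, LinearEquiv.apply_symm_apply, LinearMap.mk₂_apply]

theorem Form.end_ext {G₁ G₂ : Module.End k Eμ} (h : ∀ f g, F.g (G₁ f) g = F.g (G₂ f) g) : G₁ = G₂ :=
  LinearMap.ext fun f => F.g.injective (LinearMap.ext (h f))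

theorem gop_conj {a : Eμ →ₗ[k] Eψ →ₗ[k] Eχ} (ha : a ∈ eqv πμ (homRep πψ πχ))
    {b : Eμ →ₗ[k] Eχ →ₗ[k] Eψ} (hb : b ∈ eqv πμ (homRep πχ πψ)) (x : Q) (Y : Module.End k Eχ) :
    gop F a b (πχ x * Y * πχ x⁻¹) = πμ x * gop F a b Y * πμ x⁻¹ := F.end_ext fun f g => by
  rw [gop_apply, Module.End.mul_apply, Module.End.mul_apply, F.inv', gop_apply, ha, hb]
  have e : homRep πψ πχ x⁻¹ (a g) ∘ₗ homRep πχ πψ x⁻¹ (b f) = πχ x⁻¹ * ((a g ∘ₗ b f) * πχ x) := by
    refine LinearMap.ext fun z => ?_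
    simp only [LinearMap.comp_apply, homRep_apply, Module.End.mul_apply, inv_inv, act_act_inv]
  rw [e, mul_assoc, mul_assoc, LinearMap.trace_mul_comm k (πχ x)]
  simp only [mul_assoc]

theorem gop_pair (a : Eμ →ₗ[k] Eψ →ₗ[k] Eχ) (b : Eμ →ₗ[k] Eχ →ₗ[k] Eψ) (p : pairs βμ βχ) :
    gop F a (pairRep βμ βχ πμ πχ p b) 1 = gop F a b (πχ (pairSnd p)⁻¹) * πμ (pairFst p)⁻¹ := by
  refine F.end_ext fun f g => ?_
  rw [gop_apply, Module.End.mul_apply, gop_apply, one_mul,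
    show pairRep βμ βχ πμ πχ p b f = b (πμ (pairFst p)⁻¹ f) ∘ₗ πχ (pairSnd p)⁻¹ from
      LinearMap.ext fun z => pairRep_apply p b f z,
    LinearMap.trace_mul_comm, ← LinearMap.comp_assoc]
  rfl

theorem gop_smul_arg (a : Eμ →ₗ[k] Eψ →ₗ[k] Eχ) (b : Eμ →ₗ[k] Eχ →ₗ[k] Eψ) (c : k) (Y : Module.End k Eχ) :
    gop F a b (c • Y) = c • gop F a b Y := F.end_ext fun f g => by
  rw [gop_apply, LinearMap.smul_apply, map_smul, LinearMap.smul_apply, gop_apply, smul_mul_assoc, map_smul]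

/-- The pairing does not vanish on a whole orbit. -/
theorem Triple.exists_pair_ne_zero (t : Triple k βμ βχ βψ σ r n) (hμ : IsHeis βμ lμ n πμ)
    (hχ : IsHeis βχ lχ n πχ) (hψ : IsHeis βψ lψ n πψ) {a : Eμ →ₗ[k] Eψ →ₗ[k] Eχ}
    (ha : a ∈ eqv πμ (homRep πψ πχ)) {b : Eμ →ₗ[k] Eχ →ₗ[k] Eψ} (hb : b ∈ eqv πμ (homRep πχ πψ))
    (ha0 : a ≠ 0) (hb0 : b ≠ 0) :
    ∃ p, LinearMap.trace k Eμ (gop F a (pairRep βμ βχ πμ πχ p b) 1) ≠ 0 := by
  by_contra hall
  push Not at hall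
  have hzero : ∀ v y, LinearMap.trace k Eμ (gop F a b (πχ y) * πμ v) = 0 := by
    intro v y
    by_cases hp : (v, y) ∈ pairs βμ βχ
    · have h := hall ⟨(v, y), hp⟩⁻¹
      rw [gop_pair] at h
      simpa [pairFst, pairSnd] using h
    · obtain ⟨x, hx⟩ : ∃ x, βμ v x * βχ y x ≠ 1 := by
        by_contra hh
        push Not at hh
        exact hp (mem_pairs.mpr hh)
      have h1 : πχ x * πχ y * πχ x⁻¹ = sgn k (βχ x y) • πχ y := LinearMap.ext fun z => hχ.comm.conj x y z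
      have h2 : πμ x * πμ v * πμ x⁻¹ = sgn k (βμ x v) • πμ v := LinearMap.ext fun z => hμ.comm.conj x v z
      have h3 := gop_conj F ha hb x (πχ y)
      rw [h1, gop_smul_arg] at h3
      have h4 : πμ x * (gop F a b (πχ y) * πμ v) * πμ x⁻¹ =
          (πμ x * gop F a b (πχ y) * πμ x⁻¹) * (πμ x * πμ v * πμ x⁻¹) :=
        LinearMap.ext fun z => by simp only [Module.End.mul_apply, act_inv_act]
      have h5 : LinearMap.trace k Eμ (πμ x * (gop F a b (πχ y) * πμ v) * πμ x⁻¹) =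
          LinearMap.trace k Eμ (gop F a b (πχ y) * πμ v) := by
        rw [LinearMap.trace_mul_comm, ← mul_assoc, ← map_mul, inv_mul_cancel, map_one, one_mul]
      rw [h4, ← h3, h2, mul_smul_comm, smul_mul_assoc, smul_smul, map_smul, smul_eq_mul, ← sgn_mul,
        t.eμ.symm, t.eχ.symm, (Int.units_eq_one_or _).resolve_left hx, sgn_neg_one, neg_one_mul] at h5
      have h6 : (2 : k) * LinearMap.trace k Eμ (gop F a b (πχ y) * πμ v) = 0 := by linear_combination -h5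
      exact (mul_eq_zero.mp h6).resolve_left t.eμ.two
  have hG0 : ∀ y, gop F a b (πχ y) = 0 := fun y => F.end_ext fun f g => by
    let X : Eμ →ₗ[k] Eμ := ((F.g.toLinearMap.flip g) : Eμ →ₗ[k] k).smulRight f
    have h := hμ.end_induct t.eμ
      (S := LinearMap.ker (LinearMap.trace k Eμ ∘ₗ LinearMap.mulLeft k (gop F a b (πχ y))))
      (fun v => by simpa using hzero v y) X
    have h' : LinearMap.trace k Eμ (gop F a b (πχ y) * X) = F.g (gop F a b (πχ y) f) g := by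
      rw [show gop F a b (πχ y) * X = dualTensorHom k Eμ Eμ (TensorProduct.tmul k
          ((F.g.toLinearMap.flip g) : Eμ →ₗ[k] k) (gop F a b (πχ y) f)) from LinearMap.ext fun z => by simp [X],
        LinearMap.trace_eq_contract_apply]
      simp
    rw [LinearMap.zero_apply, map_zero, LinearMap.zero_apply, ← h']
    simpa using h
  have hprod : ∀ g f, a g ∘ₗ b f = 0 := by
    intro g f
    refine LinearMap.ext fun z => (Module.forall_dual_apply_eq_zero_iff k _).mp fun φ => ?_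
    have h := hχ.end_induct t.eχ (S := LinearMap.ker (LinearMap.trace k Eχ ∘ₗ LinearMap.mulRight k
      (a g ∘ₗ b f : Module.End k Eχ)))
      (fun y => by
        have h1 := gop_apply F a b (πχ y) f g
        rw [hG0] at h1
        simpa using h1.symm) ((φ : Eχ →ₗ[k] k).smulRight z)
    have h' : LinearMap.trace k Eχ (((φ : Eχ →ₗ[k] k).smulRight z : Module.End k Eχ) * (a g ∘ₗ b f)) =
        φ (a g (b f z)) := by
      rw [LinearMap.trace_mul_comm,
        show (a g ∘ₗ b f : Module.End k Eχ) * (φ : Eχ →ₗ[k] k).smulRight z = dualTensorHom k Eχ Eχ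
          (TensorProduct.tmul k φ (a g (b f z))) from LinearMap.ext fun w => by simp,
        LinearMap.trace_eq_contract_apply]
      simp
    rw [LinearMap.comp_apply, ← h']
    simpa using h
  refine ha0 (LinearMap.ext fun g => LinearMap.ext fun z => ?_)
  rcases hψ.irred t.eψ (S := ⨆ f, LinearMap.range (b f)) (fun x v hv => by
      induction hv using Submodule.iSup_induction' with
      | mem f v hv =>
        obtain ⟨z, rfl⟩ := hv
        refine Submodule.mem_iSup_of_mem (πμ x f) ⟨πχ x z, ?_⟩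
        rw [hb, homRep_apply, act_inv_act]
      | zero => rw [map_zero]; exact zero_mem _
      | add u v _ _ hu hv => rw [map_add]; exact add_mem hu hv) with h | h
  · exact absurd (LinearMap.ext fun f => LinearMap.range_eq_bot.mp
      (eq_bot_iff.mpr ((le_iSup (fun f => LinearMap.range (b f)) f).trans h.le))) hb0
  · have hz : z ∈ ⨆ f, LinearMap.range (b f) := h ▸ Submodule.mem_top
    induction hz using Submodule.iSup_induction' with
    | mem f v hv =>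
      obtain ⟨z, rfl⟩ := hv
      simpa using congrArg (fun L : Eχ →ₗ[k] Eχ => L z) (hprod g f)
    | zero => simp
    | add u v _ _ hu hv => rw [map_add, hu, hv]; simp

/-- The operator on the pairing of an eigen family. -/
theorem gop_eigen (hr : 0 < r) {cμ c : k} (hFτ : ∀ u v, F.g (τμ u) (τμ v) = cμ * F.g u v) (tμ : τμ ^ r = 1)
    (tχ : τχ ^ r = 1) (tψ : τψ ^ r = 1) {a : Eμ →ₗ[k] Eψ →ₗ[k] Eχ} (hc : famT r τμ τψ τχ a = c • a)
    (b : Eμ →ₗ[k] Eχ →ₗ[k] Eψ) :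
    LinearMap.trace k Eμ (gop F a b 1) = cμ * c * LinearMap.trace k Eμ (gop F a (famT r τμ τχ τψ b) 1) := by
  have hcomp : τμ * gop F a b 1 * τμ ^ (r - 1) = (cμ * c) • gop F a (famT r τμ τχ τψ b) 1 := by
    refine F.end_ext fun f g => ?_
    rw [Module.End.mul_apply, Module.End.mul_apply]
    conv_lhs => rw [← (pow_pred_apply hr tμ g).2, hFτ, gop_apply, one_mul]
    rw [LinearMap.smul_apply, map_smul, LinearMap.smul_apply, gop_apply, one_mul, smul_eq_mul, mul_assoc]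
    congr 1
    have e : τχ * (a ((τμ ^ (r - 1)) g) ∘ₗ b ((τμ ^ (r - 1)) f)) * τχ ^ (r - 1) =
        c • (a g ∘ₗ famT r τμ τχ τψ b f) := by
      refine LinearMap.ext fun z => ?_
      have h1 := congrArg (fun A : Eμ →ₗ[k] Eψ →ₗ[k] Eχ => A g (famT r τμ τχ τψ b f z)) hc
      simp only [famT_apply, LinearMap.smul_apply] at h1
      simp only [LinearMap.comp_apply, LinearMap.smul_apply, Module.End.mul_apply, famT_apply, ← h1,
        (pow_pred_apply hr tψ _).1]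
    rw [← smul_eq_mul c, ← map_smul, ← e, LinearMap.trace_mul_comm, ← mul_assoc, ← pow_succ,
      Nat.sub_add_cancel hr, tχ, one_mul]
  have h := congrArg (LinearMap.trace k Eμ) hcomp
  rw [map_smul, smul_eq_mul] at h
  rw [← h, LinearMap.trace_mul_comm, ← mul_assoc, ← pow_succ, Nat.sub_add_cancel hr, tμ, one_mul]

/-- Transposition turns symmetric families into a quadratic sign. -/
theorem Triple.pair_swap (t : Triple k βμ βχ βψ σ r n) (hμ : IsHeis βμ lμ n πμ)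
    {a₁ a₂ : Eμ →ₗ[k] Eψ →ₗ[k] Eχ} {b₁ b₂ : Eμ →ₗ[k] Eχ →ₗ[k] Eψ}
    (hid : ∀ g f, a₁ g ∘ₗ b₁ f = a₂ f ∘ₗ b₂ g) (p : pairs βμ βχ) :
    LinearMap.trace k Eμ (gop F a₁ (pairRep βμ βχ πμ πχ p b₁) 1) =
      F.sign * sgn k (lμ (pairFst p * pairFst p)) *
        LinearMap.trace k Eμ (gop F a₂ (pairRep βμ βχ πμ πχ p b₂) 1) := by
  let adj : Module.End k Eμ → Module.End k Eμ := fun X => F.g.symm.conj X.dualMap
  have hadj : ∀ X f h, F.g (adj X f) h = F.g f (X h) := fun X f h => by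
    simp [adj, LinearEquiv.conj_apply_apply]
  have hadjtr : ∀ X, LinearMap.trace k Eμ (adj X) = LinearMap.trace k Eμ X := fun X => by
    show LinearMap.trace k Eμ (F.g.symm.conj _) = _
    rw [LinearMap.trace_conj']
    exact LinearMap.trace_transpose' X
  rw [gop_pair, gop_pair]
  set Y := πχ (pairSnd p)⁻¹
  set v := pairFst p
  have hswap : gop F a₁ b₁ Y = F.sign • adj (gop F a₂ b₂ Y) := F.end_ext fun f g => by
    rw [gop_apply, hid, ← gop_apply F, LinearMap.smul_apply, map_smul, LinearMap.smul_apply, hadj, smul_eq_mul,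
      F.symm]
  have hv : adj (πμ v) = πμ v⁻¹ := F.end_ext fun f g => by rw [hadj, F.inv', inv_inv]
  have hmul : adj (πμ v * gop F a₂ b₂ Y) = adj (gop F a₂ b₂ Y) * adj (πμ v) := F.end_ext fun f g => by
    rw [hadj, Module.End.mul_apply, Module.End.mul_apply, hadj, hadj]
  have hvv : πμ v = sgn k (lμ (v * v)) • πμ v⁻¹ := LinearMap.ext fun z => by
    rw [LinearMap.smul_apply, ← hμ.scal _ (t.eμ.sq v), ← Module.End.mul_apply, ← map_mul, mul_inv_cancel_right]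
  rw [hswap, smul_mul_assoc, map_smul, smul_eq_mul, ← hv, ← hmul, hadjtr, hv, LinearMap.trace_mul_comm]
  conv_lhs => rw [hvv]
  rw [mul_smul_comm, map_smul, smul_eq_mul, mul_assoc]

/-- The pairing functional. -/
noncomputable def pairFun (πχ : Q →* Module.End k Eχ) (πψ : Q →* Module.End k Eψ) (a : Eμ →ₗ[k] Eψ →ₗ[k] Eχ) :
    Module.Dual k (eqv πμ (homRep πχ πψ)) where
  toFun b := LinearMap.trace k Eμ (gop F a b 1)
  map_add' b b' := by
    rw [← map_add]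
    refine congrArg _ (F.end_ext fun f g => ?_)
    rw [LinearMap.add_apply, map_add, LinearMap.add_apply, gop_apply, gop_apply, gop_apply, ← map_add, ← mul_add,
      ← LinearMap.comp_add, ← LinearMap.add_apply]
    rfl
  map_smul' d b := by
    rw [RingHom.id_apply, ← map_smul]
    refine congrArg _ (F.end_ext fun f g => ?_)
    rw [LinearMap.smul_apply, map_smul, LinearMap.smul_apply, gop_apply, gop_apply, ← map_smul, ← mul_smul_comm,
      ← LinearMap.comp_smul, ← LinearMap.smul_apply]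
    rfl

theorem pairFun_apply (a : Eμ →ₗ[k] Eψ →ₗ[k] Eχ) (b : eqv πμ (homRep πχ πψ)) :
    pairFun F πχ πψ a b = LinearMap.trace k Eμ (gop F a b 1) := rfl

end Gop

set_option maxHeartbeats 1600000 in
/-- Symmetric compositions of eigen families vanish. -/
theorem Triple.comp_eq_zero (t : Triple k βμ βχ βψ σ r n) (hμ : IsHeis βμ lμ n πμ) (hχ : IsHeis βχ lχ n πχ)
    (hψ : IsHeis βψ lψ n πψ) (hl : ∀ x ∈ βμ.ker, lμ x = lχ x * lψ x) (sμ : Semi σ πμ τμ) (tμ : τμ ^ r = 1)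
    (sχ : Semi σ πχ τχ) (tχ : τχ ^ r = 1) (sψ : Semi σ πψ τψ) (tψ : τψ ^ r = 1)
    {a₁ a₂ : Eμ →ₗ[k] Eψ →ₗ[k] Eχ} (ha₁ : a₁ ∈ eqv πμ (homRep πψ πχ)) (ha₂ : a₂ ∈ eqv πμ (homRep πψ πχ))
    {b₁ b₂ : Eμ →ₗ[k] Eχ →ₗ[k] Eψ} (hb₁ : b₁ ∈ eqv πμ (homRep πχ πψ)) (hb₂ : b₂ ∈ eqv πμ (homRep πχ πψ))
    {c : k} (hc : famT r τμ τψ τχ a₂ = c • a₂) (hid : ∀ g f, a₁ g ∘ₗ b₁ f = a₂ f ∘ₗ b₂ g) :
    ∀ g f, a₁ g ∘ₗ b₁ f = 0 := by
  by_contra hne
  push Not at hne
  obtain ⟨g₀, f₀, hne⟩ := hne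
  have ha₁0 : a₁ ≠ 0 := fun h => hne (by rw [h]; simp)
  have hb₁0 : b₁ ≠ 0 := fun h => hne (by rw [h]; simp)
  have ha₂0 : a₂ ≠ 0 := fun h => hne (by rw [hid, h]; simp)
  have hr := t.eμ.prime.pos
  obtain ⟨F⟩ := hμ.exists_form t.eμ
  have hΘ := t.heisTheta hμ hχ hψ hl
  obtain ⟨Φ⟩ := hΘ.exists_form t.pairEnv
  set τ := thetaT hr sμ tμ sχ tχ sψ
  have hτ := t.thetaT_semi hμ hχ sμ tμ sχ tχ sψ
  have hτr := thetaT_pow hr sμ tμ sχ tχ sψ tψ
  let η : (Eμ →ₗ[k] Eψ →ₗ[k] Eχ) → eqv πμ (homRep πχ πψ) := fun a => Φ.g.symm (pairFun F πχ πψ a)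
  have hη : ∀ a (b : eqv πμ (homRep πχ πψ)),
      Φ.g (η a) b = LinearMap.trace k Eμ (gop F a (b : Eμ →ₗ[k] Eχ →ₗ[k] Eψ) 1) := fun a b => by
    simp only [η, LinearEquiv.apply_symm_apply]
    rfl
  have hη0 : ∀ a ∈ eqv πμ (homRep πψ πχ), a ≠ 0 → η a ≠ 0 := fun a ha ha0 h0 => by
    obtain ⟨p, hp⟩ := t.exists_pair_ne_zero F hμ hχ hψ ha hb₁ ha0 hb₁0
    refine hp ?_
    have h := hη a (t.thetaRep hμ hχ πψ p ⟨b₁, hb₁⟩)
    rw [h0, map_zero, LinearMap.zero_apply, t.thetaRep_coe] at h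
    exact h.symm
  obtain ⟨cμ, -, hFτ⟩ := F.semi hμ t.eμ sμ tμ
  obtain ⟨cΦ, -, hΦτ⟩ := Φ.semi hΘ t.pairEnv hτ hτr
  have hcol : ∀ θ, Φ.g (η a₂) θ = cμ * c * Φ.g (η a₂) (τ θ) := fun θ => by
    rw [hη, hη, thetaT_coe]
    exact gop_eigen F hr hFτ tμ tχ tψ hc _
  have hceig : τ (η a₂) = (cΦ * (cμ * c)) • η a₂ := by
    refine Φ.g.injective (LinearMap.ext fun z => ?_)
    conv_lhs => rw [← (pow_pred_apply hr hτr z).2, hΦτ, hcol, (pow_pred_apply hr hτr z).2]
    rw [map_smul, LinearMap.smul_apply, smul_eq_mul]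
    ring
  have hrel : ∀ p : pairs βμ βχ, Φ.g (η a₁) (t.thetaRep hμ hχ πψ p ⟨b₁, hb₁⟩) =
      F.sign * sgn k (lμ (pairFst p * pairFst p)) * Φ.g (η a₂) (t.thetaRep hμ hχ πψ p ⟨b₂, hb₂⟩) := by
    intro p
    rw [hη, hη, t.thetaRep_coe, t.thetaRep_coe]
    exact t.pair_swap F hμ hid p
  refine hΘ.no_product t.pairEnv hτ hτr Φ ((MonoidHom.compl₂ (βμ.comp pairFst) pairFst))
    (fun x y => t.eμ.symm _ _) ?_ ?_ ?_ (fun p => lμ (pairFst p * pairFst p)) ?_
    F.sign_sq (hη0 a₁ ha₁ ha₁0) (fun h => hb₁0 (congrArg Subtype.val h)) (hη0 a₂ ha₂ ha₂0) hceig hrel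
  · intro x hx y
    show βμ (pairFst x) (pairFst y) = 1
    rw [MonoidHom.mem_ker.mp (t.mem_pairForm_ker.mp hx)]; rfl
  · intro x hx
    refine t.mem_pairForm_ker.mpr (MonoidHom.mem_ker.mpr (MonoidHom.ext fun v => ?_))
    obtain ⟨y, rfl⟩ := t.pairs_fst_surjective v
    exact hx y
  · intro x hx
    refine t.mem_pairForm_ker.mpr ?_
    have hy : pairSnd x ∈ βμ.ker := by
      rw [MonoidHom.mem_ker]
      refine MonoidHom.ext fun v => ?_
      obtain ⟨y, rfl⟩ := t.pairs_fst_surjective v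
      have h := hx y
      change βμ (pairFst x) (pairFst y) * βχ (pairSnd x) (pairSnd y) * βμ (pairFst x) (pairFst y) = 1 at h
      have h2 : βχ (pairSnd y) (pairSnd x) = βμ (pairFst y) (pairSnd x) := by
        rw [← mul_one (βμ (pairFst y) (pairSnd x)), ← pairs_rel y (pairSnd x), ← mul_assoc, Int.units_mul_self,
          one_mul]
      rw [mul_right_comm, Int.units_mul_self, one_mul, t.eχ.symm, h2, t.eμ.symm] at h
      exact h
    rw [← t.kχ] at hy
    rw [MonoidHom.mem_ker]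
    refine MonoidHom.ext fun v => ?_
    have h5 := pairs_rel x v
    rwa [MonoidHom.mem_ker.mp hy, MonoidHom.one_apply, mul_one] at h5
  · intro x y
    show lμ (pairFst (x * y) * pairFst (x * y)) = _
    rw [map_mul, hμ.l_sq t.eμ]; rfl

end Modules

end Cfsg.Agent.H24.Flav.Heis
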