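import Cfsg.Agent.Coprime.EndCount

/-!
An element of order `r` without fixed vectors commutes with the commutant of a group with scalar commutators
whose radical has index `(r - 1) ^ 2`.
-/

set_option autoImplicit false
set_option linter.unusedSectionVars false

namespace Cfsg.Agent.H24.Flav

open Cfsg.Agent.Coprime.EndCount Cfsg.Agent.Coprime.Weights
open scoped commutatorElement

variable {k V Q : Type*} [Field k] [IsAlgClosed k] [AddCommGroup V] [Module k V] [FiniteDimensional k V]
  [Nontrivial V] [Group Q] [Finite Q] {ρ : Q →* Module.End k V} {N : Subgroup Q}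

/-- The commutant is centralised when the radical has the largest possible index. -/
theorem commute_of_commutant (S : Setting ρ N) [N.Normal] (hU : (N.index : k) ≠ 0) {p : ℕ} [Fact p.Prime]
    (hpk : (p : k) ≠ 0) (σ : MulAut Q) (T : Module.End k V) (hT : T ^ p = 1)
    (hsum : ∑ i ∈ Finset.range p, T ^ i = 0) (hcompat : ∀ x, T * ρ x = ρ (σ x) * T)
    (hfpf : ∀ x, x⁻¹ * σ x ∈ N → x ∈ N) (hidx' : N.index = (p - 1) * (p - 1)) (f : Module.End k V)
    (hf : ∀ x, Commute (ρ x) f) : Commute T f := by
  classical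
  let _ := S.quotComm
  have hp : p.Prime := Fact.out
  have hU' : (Nat.card (Q ⧸ N) : k) ≠ 0 := hU
  obtain ⟨w, hker, hw⟩ := S.exists_wtHom
  obtain ⟨huni, hsq, hall⟩ := S.weights_uniform hU
  let Tu : (Module.End k V)ˣ := Units.ofPowEqOne T p hT hp.ne_zero
  let T' : Module.End k V := ((Tu⁻¹ : (Module.End k V)ˣ) : Module.End k V)
  have hTT : T * T' = 1 := Tu.mul_inv
  have hT'T : T' * T = 1 := Tu.inv_mul
  have hcompat' : ∀ x, ρ (σ x) = T * ρ x * T' := fun x => by
    rw [hcompat x, mul_assoc, hTT, mul_one]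
  have hσN : N.map σ.toMonoidHom = N := by
    refine Subgroup.eq_of_le_of_card_ge ?_ (le_of_eq (Subgroup.card_map_of_injective σ.injective).symm)
    rintro _ ⟨x, hx, rfl⟩
    obtain ⟨c, hc⟩ := S.scal x hx
    refine S.nondeg _ fun y => ?_
    show Commute (ρ (σ x)) (ρ y)
    rw [hcompat', hc, mul_smul_comm, mul_one, smul_mul_assoc, hTT]
    exact (Commute.one_left _).smul_left c
  let σU : Q ⧸ N ≃* Q ⧸ N := QuotientGroup.congr N N σ hσN
  let g : Module.End k (Module.End k V) := LinearMap.mulLeft k T ∘ₗ LinearMap.mulRight k T'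
  have hg_apply : ∀ f, g f = T * f * T' := fun f => by simp [g, mul_assoc]
  have hg : ∀ u, g * S.conjHom u = S.conjHom (σU u) * g := by
    intro u
    obtain ⟨x, rfl⟩ := QuotientGroup.mk_surjective u
    refine LinearMap.ext fun f => ?_
    show g (S.conjHom _ f) = S.conjHom ((σ x : Q) : Q ⧸ N) (g f)
    rw [S.conjHom_apply, S.conjHom_apply, hg_apply, hg_apply, hcompat', ← map_inv σ, hcompat']
    simp only [mul_assoc]
    rw [← mul_assoc T' T, hT'T, one_mul, ← mul_assoc T' T, hT'T, one_mul]
  let s : Equiv.Perm (Q ⧸ N →* kˣ) :=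
    { toFun := fun φ => φ.comp σU.symm.toMonoidHom
      invFun := fun φ => φ.comp σU.toMonoidHom
      left_inv := fun φ => MonoidHom.ext fun u => by simp
      right_inv := fun φ => MonoidHom.ext fun u => by simp }
  have hgs : ∀ φ, g * proj S.conjHom φ = proj S.conjHom (s φ) * g := fun φ => mul_proj_of_conj hg φ
  have hsw : ∀ y, s (w y) = w (σ y) := by
    intro y
    refine MonoidHom.ext fun u => Units.ext (smul_cancel ρ (σ y) ?_)
    show (w y (σU.symm u) : k) • ρ (σ y) = (w (σ y) u : k) • ρ (σ y)
    have h := congrArg (fun G : Module.End k (Module.End k V) => G (ρ y)) (hg (σU.symm u))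
    simp only [Module.End.mul_apply, hw, hg_apply, mul_smul_comm, smul_mul_assoc, ← hcompat', MulEquiv.apply_symm_apply] at h
    exact h
  have hspow : ∀ n y, (s ^ n) (w y) = w ((σ ^ n) y) := by
    intro n
    induction n with
    | zero => simp
    | succ n ih => intro y; rw [pow_succ', Equiv.Perm.mul_apply, ih, hsw, pow_succ', MulAut.mul_apply]
  have hpow : ∀ n x, T ^ n * ρ x = ρ ((σ ^ n) x) * T ^ n := by
    intro n
    induction n with
    | zero => simp
    | succ n ih =>
      intro x
      rw [pow_succ', mul_assoc, ih, ← mul_assoc, hcompat, mul_assoc, pow_succ', MulAut.mul_apply]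
  have hsp : s ^ p = 1 := by
    refine Equiv.ext fun φ => ?_
    obtain ⟨y, hy⟩ := hall φ
    have : φ = w y := MonoidHom.ext fun u => Units.ext (smul_cancel ρ y (by rw [← hy, ← hw]))
    rw [this, hspow, Equiv.Perm.one_apply]
    have hρ : ρ ((σ ^ p) y) = ρ y := by
      have := hpow p y
      rw [hT, one_mul, mul_one] at this
      exact this.symm
    refine MonoidHom.ext fun u => Units.ext (smul_cancel ρ y ?_)
    rw [← hw y u, ← hρ, ← hw]
  have := finite_chars (U := Q ⧸ N) hU'
  let H := Subgroup.zpowers s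
  let Ω := MulAction.orbitRel.Quotient H (Q ⧸ N →* kˣ)
  let _ := Fintype.ofFinite Ω
  let _ := Fintype.ofFinite (Q ⧸ N →* kˣ)
  have hHcard : Nat.card H ∣ p := by
    rw [Nat.card_zpowers]
    exact orderOf_dvd_of_pow_eq_one hsp
  have horbit : ∀ φ : Q ⧸ N →* kˣ, φ ≠ 1 → Nat.card (MulAction.orbit H φ) = p := by
    intro φ hφ
    have hd : Nat.card (MulAction.orbit H φ) ∣ p := by
      rw [Nat.card_coe_set_eq, ← MulAction.index_stabilizer]
      exact (Subgroup.index_dvd_card _).trans hHcard
    rcases (Nat.dvd_prime hp).mp hd with h | h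
    · exfalso
      refine hφ ?_
      rw [Nat.card_eq_one_iff_unique] at h
      have hfix : s φ = φ := congrArg Subtype.val (h.1.elim
        ⟨_, MulAction.mem_orbit φ (⟨s, Subgroup.mem_zpowers s⟩ : H)⟩ ⟨φ, MulAction.mem_orbit_self φ⟩)
      obtain ⟨y, hy⟩ := hall φ
      have hφy : φ = w y := MonoidHom.ext fun u => Units.ext (smul_cancel ρ y (by rw [← hy, ← hw]))
      rw [hφy, hsw] at hfix
      have hyN : y ∈ N := hfpf y (by rw [← hker, MonoidHom.mem_ker, map_mul, map_inv, hfix, inv_mul_cancel])
      rw [hφy]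
      exact MonoidHom.mem_ker.mp (hker.symm ▸ hyN)
    · exact h
  have hone : MulAction.orbit H (1 : Q ⧸ N →* kˣ) = {1} := by
    refine Set.eq_singleton_iff_unique_mem.mpr ⟨MulAction.mem_orbit_self _, ?_⟩
    rintro _ ⟨⟨h, hh⟩, rfl⟩
    obtain ⟨n, rfl⟩ := Subgroup.mem_zpowers_iff.mp hh
    show (s ^ n) 1 = 1
    exact Equiv.Perm.zpow_apply_eq_self_of_apply_eq_self (MonoidHom.ext fun u => rfl) n
  let ω₀ : Ω := Quotient.mk'' 1
  have hcount : Nat.card (Q ⧸ N →* kˣ) = (Fintype.card Ω - 1) * p + 1 := by
    rw [Nat.card_congr (MulAction.selfEquivSigmaOrbits' H (Q ⧸ N →* kˣ)), Nat.card_sigma,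
      ← Finset.sum_erase_add _ _ (Finset.mem_univ ω₀)]
    have h0 : Nat.card (MulAction.orbitRel.Quotient.orbit ω₀) = 1 := by
      rw [show MulAction.orbitRel.Quotient.orbit ω₀ = MulAction.orbit H (1 : Q ⧸ N →* kˣ) from
        MulAction.orbitRel.Quotient.orbit_mk _, hone]
      simp
    rw [h0, Finset.sum_congr rfl fun ω hω => ?_, Finset.sum_const,
      Finset.card_erase_of_mem (Finset.mem_univ _), Finset.card_univ, smul_eq_mul]
    obtain ⟨φ, rfl⟩ := Quotient.mk''_surjective ω
    rw [MulAction.orbitRel.Quotient.orbit_mk]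
    refine horbit φ fun h => Finset.ne_of_mem_erase hω ?_
    rw [h]
  have hidx : N.index = (Fintype.card Ω - 1) * p + 1 := by rw [← hcount, card_chars hU']; rfl
  let F : Submodule k (Module.End k V) := LinearMap.ker (g - 1)
  have hF : ∀ f, Commute T f → f ∈ F := fun f hf => by
    rw [LinearMap.mem_ker, LinearMap.sub_apply, Module.End.one_apply, hg_apply, hf.eq, mul_assoc, hTT,
      mul_one, sub_self]
  let C : Submodule k (Module.End k V) := LinearMap.range (proj S.conjHom 1)
  have hgC : ∀ f : Module.End k V, f ∈ F → proj S.conjHom 1 f ∈ F := by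
    intro f hf
    rw [LinearMap.mem_ker, LinearMap.sub_apply, Module.End.one_apply, sub_eq_zero] at hf ⊢
    have h1 := congrArg (fun G : Module.End k (Module.End k V) => G f) (hgs 1)
    simp only [Module.End.mul_apply] at h1
    rw [h1, hf]
    exact congrArg (fun φ => proj S.conjHom φ f) (MonoidHom.ext fun u => rfl)
  let Ω' := {ω : Ω // ω ≠ ω₀}
  have hupper : Module.finrank k F ≤ Module.finrank k ↥(C ⊓ F) + (Fintype.card Ω - 1) * Module.finrank k C := by
    calc Module.finrank k F ≤ Module.finrank k (↥(C ⊓ F) × ((ω : Ω') → LinearMap.range (proj S.conjHom ω.1.out))) := by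
          refine LinearMap.finrank_le_finrank_of_injective
            (f := ((proj S.conjHom 1 ∘ₗ F.subtype).codRestrict (C ⊓ F) fun f => ⟨⟨f, rfl⟩, hgC f f.2⟩).prod
              (LinearMap.pi fun ω : Ω' => (proj S.conjHom ω.1.out).rangeRestrict ∘ₗ F.subtype)) ?_
          rw [← LinearMap.ker_eq_bot, Submodule.eq_bot_iff]
          intro f hf
          refine Subtype.ext (eq_zero_of_forall_proj hU' S.conjHom fun φ => ?_)
          have hgf : g (f : Module.End k V) = f := by
            have := f.2
            rwa [LinearMap.mem_ker, LinearMap.sub_apply, Module.End.one_apply, sub_eq_zero] at this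
          let P : (Q ⧸ N →* kˣ) → Prop := fun ψ => proj S.conjHom ψ (f : Module.End k V) = 0
          have hP : ∀ ψ, P ψ → ∀ n : ℕ, P ((s ^ n) ψ) := by
            intro ψ hψ n
            induction n with
            | zero => simpa using hψ
            | succ n ih =>
              show proj S.conjHom ((s ^ (n + 1)) ψ) (f : Module.End k V) = 0
              rw [pow_succ', Equiv.Perm.mul_apply, ← hgf]
              have := congrArg (fun G : Module.End k (Module.End k V) => G (f : Module.End k V))
                (hgs ((s ^ n) ψ))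
              simp only [Module.End.mul_apply] at this
              rw [← this, ih, map_zero]
          rw [LinearMap.mem_ker, LinearMap.prod_apply, Prod.ext_iff] at hf
          by_cases hω : (Quotient.mk'' φ : Ω) = ω₀
          · have h1 : φ ∈ MulAction.orbit H (1 : Q ⧸ N →* kˣ) :=
              MulAction.orbitRel_apply.mp (Quotient.eq''.mp hω)
            rw [hone, Set.mem_singleton_iff] at h1
            rw [h1]
            exact congrArg Subtype.val hf.1
          have hout : P (Quotient.mk'' φ : Ω).out :=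
            congrArg Subtype.val (congrFun hf.2 (⟨Quotient.mk'' φ, hω⟩ : Ω'))
          obtain ⟨⟨h, hh⟩, hhφ⟩ : φ ∈ MulAction.orbit H (Quotient.mk'' φ : Ω).out :=
            (MulAction.orbit_eq_iff.mpr
              (MulAction.orbitRel_apply.mp (Quotient.mk_out (s := MulAction.orbitRel H _) φ))).symm ▸
              MulAction.mem_orbit_self φ
          obtain ⟨n, rfl⟩ := (IsOfFinOrder.mem_powers_iff_mem_zpowers
            (isOfFinOrder_iff_pow_eq_one.mpr ⟨p, hp.pos, hsp⟩)).mpr hh
          rw [← hhφ]
          exact hP _ hout n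
      _ = _ := by
          rw [Module.finrank_prod, Module.finrank_pi_fintype, Finset.sum_congr rfl fun ω _ => huni _,
            Finset.sum_const, Finset.card_univ, smul_eq_mul, Fintype.card_subtype_compl,
            Fintype.card_subtype_eq]
  have hlow := sq_le_commutant hpk T hT hsum F hF
  rw [hsq] at hlow
  set d := Module.finrank k C with hd
  have hΩ : Fintype.card Ω - 1 = p - 2 := by
    rw [hidx'] at hidx
    obtain ⟨q, hq⟩ : ∃ q, p = q + 2 := ⟨p - 2, by have := hp.two_le; omega⟩
    subst hq
    have e : (q + 1) * (q + 1) = q * (q + 2) + 1 := by ring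
    rw [show q + 2 - 1 = q + 1 from rfl, e] at hidx
    rw [Nat.add_sub_cancel]
    exact (Nat.eq_of_mul_eq_mul_right (by omega) (Nat.add_right_cancel hidx)).symm
  have h3 : d ≤ Module.finrank k ↥(C ⊓ F) := by
    rw [hidx', mul_assoc] at hlow
    have h4 := (Nat.le_of_mul_le_mul_left hlow (by have := hp.two_le; omega)).trans hupper
    rw [hΩ, show p - 1 = (p - 2) + 1 by have := hp.two_le; omega, add_one_mul] at h4
    omega
  have hCF : C ≤ F := by
    have := Submodule.eq_of_le_of_finrank_le (inf_le_left : C ⊓ F ≤ C) h3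
    exact this ▸ inf_le_right
  have hfC : f ∈ C := (mem_range_iff hU').mpr fun u => by
    obtain ⟨x, rfl⟩ := QuotientGroup.mk_surjective u
    rw [S.conjHom_apply, MonoidHom.one_apply, Units.val_one, one_smul, (hf x).eq, mul_assoc, ← map_mul,
      mul_inv_cancel, map_one, mul_one]
  have hgf := hCF hfC
  rw [LinearMap.mem_ker, LinearMap.sub_apply, Module.End.one_apply, hg_apply, sub_eq_zero] at hgf
  show T * f = f * T
  conv_rhs => rw [← hgf, mul_assoc, hT'T, mul_one]

omit [Nontrivial V] in
/-- The same without assuming that the radical is scalar. -/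
theorem commute_of_commutant' [N.Normal] (hcomm : ∀ x y : Q, ∃ c : k, ρ ⁅x, y⁆ = c • 1)
    (hrad : ∀ x : Q, (∀ y, Commute (ρ x) (ρ y)) ↔ x ∈ N) (hQ : (Nat.card Q : k) ≠ 0) {p : ℕ} [Fact p.Prime]
    (hpk : (p : k) ≠ 0) (σ : MulAut Q) (T : Module.End k V) (hT : T ^ p = 1)
    (hsum : ∑ i ∈ Finset.range p, T ^ i = 0) (hcompat : ∀ x, T * ρ x = ρ (σ x) * T)
    (hTN : ∀ x ∈ N, Commute T (ρ x))
    (hfpf : ∀ x, x⁻¹ * σ x ∈ N → x ∈ N) (hidx' : N.index = (p - 1) * (p - 1)) (f : Module.End k V)
    (hf : ∀ x, Commute (ρ x) f) : Commute T f := by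
  classical
  have hU : (N.index : k) ≠ 0 := fun h => hQ (by rw [← N.card_mul_index, Nat.cast_mul, h, mul_zero])
  let ι : N →* (Module.End k V)ˣ := ρ.toHomUnits.comp N.subtype
  let _ : CommGroup ι.range :=
    { (inferInstance : Group ι.range) with
      mul_comm := by
        rintro ⟨_, a, rfl⟩ ⟨_, b, rfl⟩
        exact Subtype.ext (Units.ext (((hrad a).mpr a.2) b).eq) }
  have : Finite ι.range := Finite.of_surjective _ ι.rangeRestrict_surjective
  let τ : ι.range →* Module.End k V := (Units.coeHom _).comp ι.range.subtype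
  have hA : (Nat.card ι.range : k) ≠ 0 := fun h => hQ (by
    obtain ⟨c, hc⟩ := (Subgroup.card_range_dvd ι).trans N.card_subgroup_dvd_card
    rw [hc, Nat.cast_mul, h, zero_mul])
  have := finite_chars (U := ι.range) hA
  let _ := Fintype.ofFinite (ι.range →* kˣ)
  let _ := Fintype.ofFinite ι.range
  suffices h : ∀ φ, T * f * proj τ φ = f * T * proj τ φ by
    show T * f = f * T
    rw [← mul_one (T * f), ← mul_one (f * T), ← sum_proj hA τ, Finset.mul_sum, Finset.mul_sum]
    exact Finset.sum_congr rfl fun φ _ => h φ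
  intro φ
  have hcen : ∀ g : Module.End k V, (∀ x ∈ N, Commute g (ρ x)) → Commute g (proj τ φ) := fun g hg => by
    refine Commute.smul_right (Commute.sum_right _ _ _ fun u _ => Commute.smul_right ?_ _) _
    obtain ⟨_, a, rfl⟩ := u
    exact hg a a.2
  set W := LinearMap.range (proj τ φ)
  have hinv : ∀ g : Module.End k V, (∀ x ∈ N, Commute g (ρ x)) → ∀ v ∈ W, g v ∈ W := by
    rintro g hg _ ⟨v, rfl⟩
    exact ⟨g v, (congrArg (fun h : Module.End k V => h v) (hcen g hg).eq).symm⟩
  rcases subsingleton_or_nontrivial W with hW | hW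
  · have h0 : proj τ φ = 0 := LinearMap.ext fun v =>
      congrArg Subtype.val (Subsingleton.elim (⟨_, v, rfl⟩ : W) 0)
    rw [h0, mul_zero, mul_zero]
  have hρN : ∀ y, ∀ x ∈ N, Commute (ρ y) (ρ x) := fun y x hx => ((hrad x).mpr hx y).symm
  have hfN : ∀ x ∈ N, Commute f (ρ x) := fun x _ => (hf x).symm
  let ρW : Q →* Module.End k W :=
    { toFun := fun y => (ρ y).restrict (hinv _ (hρN y))
      map_one' := LinearMap.ext fun v => Subtype.ext (by simp)
      map_mul' := fun x y => LinearMap.ext fun v => Subtype.ext (by simp) }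
  have hscal : ∀ x y : Q, ∀ c : k, ρ ⁅x, y⁆ = c • 1 → ρW ⁅x, y⁆ = c • 1 := fun x y c hc =>
    LinearMap.ext fun v => Subtype.ext (congrArg (fun g : Module.End k V => g v) hc)
  have S : Setting ρW N := by
    refine ⟨fun x y => (hcomm x y).imp fun c hc => hscal x y c hc, fun x hx => ?_, fun x hx => ?_⟩
    · exact ⟨(φ ⟨_, ⟨x, hx⟩, rfl⟩ : k), LinearMap.ext fun v => Subtype.ext
        ((mem_range_iff hA).mp v.2 ⟨_, ⟨x, hx⟩, rfl⟩)⟩
    · refine (hrad x).mp fun y => ?_
      obtain ⟨c, hc⟩ := hcomm x y
      have hcW := hscal x y c hc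
      have h1 : ρW ⁅x, y⁆ = 1 := by
        rw [commutatorElement_def, map_mul, map_mul, map_mul, (hx y).eq, mul_assoc (ρW y),
          ← map_mul ρW x, mul_inv_cancel, map_one, mul_one, ← map_mul, mul_inv_cancel, map_one]
      rw [hcW] at h1
      have hc1 : c = 1 := smul_left_injective k (one_ne_zero (α := Module.End k W))
        (by simpa only [one_smul] using h1)
      rw [hc1, one_smul] at hc
      show ρ x * ρ y = ρ y * ρ x
      rw [← map_mul, show x * y = ⁅x, y⁆ * (y * x) by rw [commutatorElement_def]; group, map_mul, hc, one_mul,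
        map_mul]
  have hpow : ∀ n (v : W), (((T.restrict (hinv T hTN)) ^ n) v : V) = (T ^ n) v := fun n v => by
    induction n with
    | zero => rfl
    | succ n ih =>
      rw [pow_succ', pow_succ', Module.End.mul_apply, Module.End.mul_apply, ← ih]
      rfl
  have h := commute_of_commutant S hU hpk σ (T.restrict (hinv T hTN))
    (LinearMap.ext fun v => Subtype.ext (by rw [hpow, hT]; rfl))
    (LinearMap.ext fun v => Subtype.ext (by
      simp only [LinearMap.sum_apply, Submodule.coe_sum, hpow, LinearMap.zero_apply, Submodule.coe_zero]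
      simpa [LinearMap.sum_apply] using congrArg (fun g : Module.End k V => g v) hsum))
    (fun x => LinearMap.ext fun v => Subtype.ext (congrArg (fun g : Module.End k V => g v) (hcompat x)))
    hfpf hidx' (f.restrict (hinv f hfN))
    (fun x => LinearMap.ext fun v => Subtype.ext (congrArg (fun g : Module.End k V => g v) (hf x).eq))
  exact LinearMap.ext fun v => congrArg Subtype.val
    (congrArg (fun g : Module.End k W => g ⟨_, v, rfl⟩) h.eq)

end Cfsg.Agent.H24.Flav
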