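import Cfsg.Agent.H24.Flav.Forms3

/-!
The `p`-part of the displacements of a proper invariant subgroup over `U`.
-/

set_option autoImplicit false
set_option linter.unusedSectionVars false

namespace Cfsg.Agent.H24.Flav

open Subgroup
open Cfsg.Agent.H8.Shult hiding Min
open scoped commutatorElement

universe u v w

variable {G : Type u} [Group G] [Finite G] {p r : ℕ} [hp : Fact p.Prime] {a : MulAut G}
variable {k : Type w} [Field k] [CharP k p] {V : Type v} [AddCommGroup V] [Module k V]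
variable [IsAlgClosed k] [FiniteDimensional k V]
variable {ρ : G →* Module.End k V} {T : Module.End k V}
variable {D : UData a}

/-- `S` consists of all `p`-elements of `disp a H`. -/
structure DispPart (p : ℕ) (a : MulAut G) (H S : Subgroup G) : Prop where
  le : S ≤ disp a H
  isPGroup : IsPGroup p S
  inv : Inv a S
  normal : H ≤ normalizer (S : Set G)
  mem : ∀ x ∈ disp a H, ∀ n : ℕ, x ^ p ^ n = 1 → x ∈ S
  two : ∀ x ∈ disp a H, ∃ j : ℕ, x ^ 2 ^ j ∈ S

/-- `P` is a largest `p`-subgroup of `H`. -/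
def MaxP (p : ℕ) (H P : Subgroup G) : Prop :=
  P ≤ H ∧ IsPGroup p P ∧ ∀ P' ≤ H, IsPGroup p P' → Nat.card P' ≤ Nat.card P

/-- The data of a counterexample with largest `p`-part. -/
structure Bad (p : ℕ) (D : UData a) (H S Q : Subgroup G) : Prop where
  inv : Inv a H
  ne_top : H ≠ ⊤
  U_le : D.U ≤ H
  part : DispPart p a H S
  ne_bot : S ≠ ⊥
  maxP : MaxP p H Q
  inv_Q : Inv a Q
  S_le : S ≤ Q
  largest : ∀ K : Subgroup G, Inv a K → K ≠ ⊤ → D.U ≤ K →
    (∃ x ∈ disp a K, x ≠ 1 ∧ ∃ n : ℕ, x ^ p ^ n = 1) → ∀ P' ≤ K, IsPGroup p P' → Nat.card P' ≤ Nat.card Q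

namespace Cfg

variable (M : Cfg p r a ρ T)
include M

theorem exists_dispPart {H : Subgroup G} (hHa : Inv a H) (hne : H ≠ ⊤) : ∃ S, DispPart p a H S := by
  obtain ⟨P, -, hP, hPa, hn, htwo⟩ := M.proper H hHa hne
  refine ⟨P ⊓ disp a H, inf_le_right, hP.to_le inf_le_left, hPa.inf (inv_disp hHa), ?_, fun x hx n hn' => ?_,
    fun x hx => ?_⟩
  · refine le_normalizer_iff.mpr fun g hg x hx => ⟨(mem_normalizer_iff.mp (hn hg) x).mp hx.1, ?_⟩
    exact (mem_normalizer_iff.mp (le_normalizer_disp hg) x).mp hx.2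
  · obtain ⟨j, hj⟩ := htwo x hx
    exact ⟨mem_of_two_pow_mem M.odd hj hn', hx⟩
  · obtain ⟨j, hj⟩ := htwo x hx
    exact ⟨j, hj, pow_mem hx _⟩

/-- The displacements are the `p`-part times `U`. -/
theorem disp_eq_sup {H S : Subgroup G} (hHa : Inv a H) (hU : D.U ≤ H) (hS : DispPart p a H S) :
    disp a H = S ⊔ D.U := by
  have h2F : Fact (Nat.Prime 2) := ⟨Nat.prime_two⟩
  set E := disp a H with hE
  have hEa : Inv a E := inv_disp hHa
  have hUE : D.U ≤ E := (D.disp_U M.coprimely).ge.trans (disp_mono hU)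
  refine le_antisymm ?_ (sup_le hS.le hUE)
  obtain ⟨T₂, hUT, hTa⟩ := (M.coprimely.sub E hEa).exists_inv_sylow_ge 2
    (U := D.U.subgroupOf E) (D.isPGroup_U.comap_of_injective E.subtype E.subtype_injective)
    (fun x hx => D.inv_U _ hx)
  set T' := (T₂ : Subgroup E).map E.subtype with hT'
  have hTE : T' ≤ E := map_subtype_le _
  have hT'a : Inv a T' := by
    rintro _ ⟨x, hx, rfl⟩; exact ⟨_, hTa x hx, rfl⟩
  have hT'2 : IsPGroup 2 T' := T₂.2.map _
  have hUT' : D.U ≤ T' := fun x hx => ⟨⟨x, hUE hx⟩, hUT hx, rfl⟩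
  have hTn : T' ≤ normalizer (S : Set G) := hTE.trans ((disp_le hHa).trans hS.normal)
  -- `E = S T'`
  have hbot : S ⊓ T' = ⊥ := two_pgroup_inf_eq_bot M.odd hS.isPGroup hT'2
  have hcard : Nat.card ↥(T' ⊔ S) = Nat.card T' * Nat.card S := by
    rw [sup_comm, Coprime.card_sup hTn hbot]; ring
  have hsup : E = T' ⊔ S := by
    refine (Subgroup.eq_of_le_of_card_ge (sup_le hTE hS.le) ?_).symm
    rw [hcard]
    set S' := S.subgroupOf E with hS'
    have hS'n : S'.Normal := normal_subgroupOf_of_le_normalizer ((disp_le hHa).trans hS.normal)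
    have hq : IsPGroup 2 (E ⧸ S') := fun q => by
      obtain ⟨q, rfl⟩ := QuotientGroup.mk_surjective q
      obtain ⟨j, hj⟩ := hS.two q q.2
      exact ⟨j, by rw [← QuotientGroup.mk_pow, QuotientGroup.eq_one_iff, mem_subgroupOf]; simpa using hj⟩
    obtain ⟨i, hi⟩ := IsPGroup.iff_card.mp hq
    rw [hT', Subgroup.card_map_of_injective E.subtype_injective, ← S'.card_mul_index, index_eq_card, hi,
      Nat.card_congr (subgroupOfEquivOfLe hS.le).toEquiv, mul_comm]
    refine Nat.mul_le_mul_right _ ?_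
    refine Nat.le_of_dvd Nat.card_pos (T₂.pow_dvd_card_of_pow_dvd_card ?_)
    exact hi ▸ Subgroup.card_quotient_dvd_card S'
  obtain ⟨R, hTR, hRa⟩ := M.coprimely.exists_inv_sylow_ge 2 hT'2 hT'a
  have hdT : disp a T' ≤ D.U := (disp_mono hTR).trans (D.disp_sylow_eq M.coprimely R hRa (hUT'.trans hTR)).le
  refine ((M.coprimely.disp_disp hHa).ge : E ≤ disp a E).trans ?_
  clear_value E
  refine (closure_le _).mpr ?_
  rintro _ ⟨x, hx, rfl⟩
  rw [SetLike.mem_coe, ← hE, hsup, ← SetLike.mem_coe, Subgroup.coe_mul_of_left_le_normalizer_right _ _ hTn] at hx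
  obtain ⟨t, ht, s, hs, rfl⟩ := hx
  show (t * s)⁻¹ * a (t * s) ∈ S ⊔ D.U
  rw [map_mul, mul_inv_rev, mul_assoc, ← mul_assoc t⁻¹]
  exact mul_mem (mem_sup_left (inv_mem hs)) (mul_mem (mem_sup_right (hdT (mem_disp ht)))
    (mem_sup_left (hS.inv s hs)))

/-- A counterexample with largest `p`-part. -/
theorem exists_bad {H : Subgroup G} (hHa : Inv a H) (hne : H ≠ ⊤) (hU : D.U ≤ H) (h : disp a H ≠ D.U) :
    ∃ H' S Q, Bad p D H' S Q := by
  classical
  let 𝔉 : Set (Subgroup G) := {K | Inv a K ∧ K ≠ ⊤ ∧ D.U ≤ K ∧ ∃ x ∈ disp a K, x ≠ 1 ∧ ∃ n : ℕ, x ^ p ^ n = 1}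
  have hH : H ∈ 𝔉 := by
    obtain ⟨S, hS⟩ := M.exists_dispPart hHa hne
    refine ⟨hHa, hne, hU, ?_⟩
    by_contra hno
    push Not at hno
    refine h ?_
    rw [M.disp_eq_sup hHa hU hS, show S = ⊥ from (Subgroup.eq_bot_iff_forall _).mpr fun x hx => by
      by_contra hx1
      obtain ⟨n, hn⟩ := hS.isPGroup ⟨x, hx⟩
      exact hno x (hS.le hx) hx1 n (congrArg Subtype.val hn), bot_sup_eq]
  obtain ⟨K, hK, hmax⟩ := Set.exists_max_image 𝔉 (fun K => (Nat.card K).factorization p) (Set.toFinite _) ⟨H, hH⟩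
  obtain ⟨hKa, hKne, hKU, x, hx, hx1, n, hn⟩ := hK
  obtain ⟨S, hS⟩ := M.exists_dispPart hKa hKne
  obtain ⟨P, hSP, hPa⟩ := (M.coprimely.sub K hKa).exists_inv_sylow_ge p (U := S.subgroupOf K)
    (hS.isPGroup.comap_of_injective K.subtype K.subtype_injective) (fun y hy => hS.inv _ hy)
  refine ⟨K, S, (P : Subgroup K).map K.subtype, hKa, hKne, hKU, hS, fun e => hx1 ?_,
    ⟨map_subtype_le _, P.2.map _, fun P' hP' hP'p => ?_⟩, ?_, fun y hy => ?_, fun L hLa hLne hLU hL P' hP' hP'p => ?_⟩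
  · simpa [e] using hS.mem x hx n hn
  · rw [Subgroup.card_map_of_injective K.subtype_injective, P.card_eq_multiplicity]
    obtain ⟨j, hj⟩ := IsPGroup.iff_card.mp hP'p
    rw [hj]
    exact Nat.pow_le_pow_right hp.out.pos
      ((hp.out.pow_dvd_iff_le_factorization Nat.card_pos.ne').mp (hj ▸ card_dvd_of_le hP'))
  · rintro _ ⟨y, hy, rfl⟩
    exact ⟨_, hPa y hy, rfl⟩
  · exact ⟨⟨y, disp_le hKa (hS.le hy)⟩, hSP hy, rfl⟩
  · rw [Subgroup.card_map_of_injective K.subtype_injective, P.card_eq_multiplicity]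
    obtain ⟨j, hj⟩ := IsPGroup.iff_card.mp hP'p
    rw [hj]
    exact Nat.pow_le_pow_right hp.out.pos (((hp.out.pow_dvd_iff_le_factorization Nat.card_pos.ne').mp
      (hj ▸ card_dvd_of_le hP')).trans (hmax L ⟨hLa, hLne, hLU, hL⟩))

theorem Bad.disp_eq {H S Q : Subgroup G} (B : Bad p D H S Q) : disp a H = S ⊔ D.U :=
  M.disp_eq_sup B.inv B.U_le B.part

/-- The key property: nontrivial subgroups normal in `Q` and normalised by `U` have normaliser `Q` in a
`p`-group over `Q`. -/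
theorem bad_key {H S Q : Subgroup G} (B : Bad p D H S Q) {X P : Subgroup G} (hP : IsPGroup p P) (hQP : Q ≤ P)
    (hX : X ≠ ⊥) (hXp : IsPGroup p X) (hXa : Inv a X) (hQX : Q ≤ normalizer (X : Set G))
    (hUX : D.U ≤ normalizer (X : Set G)) : P ⊓ normalizer (X : Set G) = Q := by
  have hne : normalizer (X : Set G) ≠ ⊤ := fun h =>
    hX (M.eq_bot_of_normal_pGroup (normalizer_eq_top_iff.mp h) hXp hXa)
  have hsup : S ⊔ D.U ≤ normalizer (X : Set G) := sup_le (B.S_le.trans hQX) hUX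
  have hdisp : disp a H ≤ disp a (normalizer (X : Set G)) := by
    rw [← M.coprimely.disp_disp B.inv]
    exact disp_mono ((M.disp_eq_sup B.inv B.U_le B.part).le.trans hsup)
  obtain ⟨x, hx, hx1⟩ := S.bot_or_exists_ne_one.resolve_left B.ne_bot
  obtain ⟨n, hn⟩ := B.part.isPGroup ⟨x, hx⟩
  refine (Subgroup.eq_of_le_of_card_ge (le_inf hQP hQX) ?_).symm
  exact B.largest _ hXa.normalizer hne hUX ⟨x, hdisp (B.part.le hx), hx1, n, congrArg Subtype.val hn⟩ _
    inf_le_right (hP.to_le inf_le_left)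

/-- `Q` is not a Sylow subgroup. -/
theorem bad_not_sylow {H S Q : Subgroup G} (B : Bad p D H S Q) (P : Sylow p G) (hQP : Q = (P : Subgroup G)) :
    False := by
  refine M.not_prod B.ne_top (M.coprimely.disp_top_le B.inv fun l hl L hLK hLp hLa hmax Q' hLQ hQ'a => ?_)
  have : Fact l.Prime := ⟨hl⟩
  by_cases hl2 : l = 2
  · subst hl2
    obtain ⟨L', hUL', hL'a⟩ := (M.coprimely.sub H B.inv).exists_inv_sylow_ge 2
      (U := D.U.subgroupOf H) (D.isPGroup_U.comap_of_injective H.subtype H.subtype_injective)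
      (fun x hx => D.inv_U _ hx)
    have hLK' : IsPGroup 2 (L.subgroupOf H) := hLp.comap_of_injective H.subtype H.subtype_injective
    obtain ⟨L2, hL2⟩ := hLK'.exists_le_sylow
    have hL2' : (L2 : Subgroup H) = L.subgroupOf H := by
      refine (Subgroup.eq_of_le_of_card_ge hL2 ?_).symm
      rw [Nat.card_congr (Subgroup.subgroupOfEquivOfLe hLK).toEquiv,
        ← Subgroup.card_map_of_injective (K := (L2 : Subgroup H)) H.subtype_injective]
      exact hmax _ (map_subtype_le _) (L2.2.map _)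
    obtain ⟨g, hg⟩ := MulAction.exists_smul_eq H L' L2
    obtain ⟨c, hc, he⟩ := (M.coprimely.sub H B.inv).exists_fixed_conj hL'a
      (by rw [hL2']; exact fun x hx => hLa _ hx) (g := g) (congrArg Sylow.toSubgroup hg)
    have hc' : (c : G) ∈ fixedBy a := congrArg Subtype.val hc
    have hUL : D.U.map (MulAut.conj (c : G)).toMonoidHom ≤ L := by
      rintro _ ⟨x, hx, rfl⟩
      have h1 : c * (⟨x, B.U_le hx⟩ : H) * c⁻¹ ∈ (L' : Subgroup H).map (MulAut.conj c).toMonoidHom :=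
        ⟨_, hUL' (show (⟨x, B.U_le hx⟩ : H) ∈ D.U.subgroupOf H from hx), rfl⟩
      rw [he, hL2'] at h1
      exact h1
    let Q0 : Sylow 2 G := (c : G)⁻¹ • Q'
    have hQ0 : (Q0 : Subgroup G) = (Q' : Subgroup G).map (MulAut.conj (c : G)⁻¹).toMonoidHom := rfl
    have hQ0a : Inv a (Q0 : Subgroup G) := hQ0 ▸ hQ'a.map_conj (inv_mem hc')
    have hUQ0 : D.U ≤ (Q0 : Subgroup G) := fun x hx => by
      rw [hQ0, Coprime.mem_map_conj, inv_inv]
      exact hLQ (hUL ⟨x, hx, rfl⟩)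
    have h3 := D.disp_sylow_eq M.coprimely Q0 hQ0a hUQ0
    rw [hQ0, disp_map_conj (inv_mem hc')] at h3
    intro x hx
    have h4 : (c : G)⁻¹ * x * c ∈ D.U := h3 ▸ ⟨x, hx, by simp⟩
    have := mul_mem (mul_mem c.2 (B.U_le h4)) (inv_mem c.2)
    simpa [mul_assoc] using this
  · by_cases hlp : l = p
    · subst hlp
      have hQL : (Q' : Subgroup G) = L := by
        refine (Subgroup.eq_of_le_of_card_ge hLQ ?_).symm
        rw [Q'.card_eq_multiplicity, ← P.card_eq_multiplicity]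
        exact hQP ▸ hmax _ B.maxP.1 B.maxP.2.1
      exact (disp_le hQ'a).trans (hQL.le.trans hLK)
    · rw [disp_eq_bot_iff.mpr (M.odd_le_fixed hl hl2 hlp Q'.2 hQ'a)]
      exact bot_le

/-- A `p`-subgroup strictly over `Q` normalising it. -/
theorem bad_exists_over {H S Q : Subgroup G} (B : Bad p D H S Q) :
    ∃ R : Subgroup G, IsPGroup p R ∧ Inv a R ∧ Q < R ∧ R ≤ normalizer (Q : Set G) := by
  obtain ⟨P, hQP, hPa⟩ := M.coprimely.exists_inv_sylow_ge p B.maxP.2.1 B.inv_Q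
  have hne : Q ≠ (P : Subgroup G) := fun h => M.bad_not_sylow B P h
  have : Group.IsNilpotent (P : Subgroup G) := P.2.isNilpotent
  have hlt : Q.subgroupOf (P : Subgroup G) < ⊤ :=
    lt_top_iff_ne_top.mpr fun h => hne (le_antisymm hQP (subgroupOf_eq_top.mp h))
  obtain ⟨x, hx, hxQ⟩ := SetLike.exists_of_lt (Group.normalizerCondition_of_isNilpotent _ hlt)
  refine ⟨(P : Subgroup G) ⊓ normalizer (Q : Set G), P.2.to_le inf_le_left, hPa.inf B.inv_Q.normalizer,
    lt_of_le_of_ne (le_inf hQP le_normalizer) fun h => hxQ ?_, inf_le_right⟩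
  rw [mem_subgroupOf, h]
  refine ⟨x.2, mem_normalizer_iff.mpr fun y => ?_⟩
  constructor
  · intro hy
    exact (mem_normalizer_iff.mp hx ⟨y, hQP hy⟩).mp hy
  · intro hy
    have hyP : y ∈ (P : Subgroup G) := by
      have := mul_mem (mul_mem (inv_mem x.2) (hQP hy)) x.2
      simpa [mul_assoc] using this
    exact (mem_normalizer_iff.mp hx ⟨y, hyP⟩).mpr hy

/-- The displacements of `Q` lie in `S` and are not trivial. -/
theorem bad_disp_Q {H S Q : Subgroup G} (B : Bad p D H S Q) : disp a Q ≤ S ∧ disp a Q ≠ ⊥ := by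
  refine ⟨fun x hx => ?_, fun h => ?_⟩
  · obtain ⟨n, hn⟩ := B.maxP.2.1 ⟨x, disp_le B.inv_Q hx⟩
    exact B.part.mem x (disp_mono B.maxP.1 hx) n (congrArg Subtype.val hn)
  have hSfix : S ≤ fixedBy a := disp_eq_bot_iff.mp (le_bot_iff.mp (h ▸ disp_mono B.S_le))
  have hn : D.U ≤ normalizer (S : Set G) := B.U_le.trans B.part.normal
  refine B.ne_bot ((Subgroup.eq_bot_iff_forall _).mpr fun s hs => ?_)
  have hle : disp a (D.U ⊔ S) ≤ D.U := by
    refine (closure_le _).mpr ?_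
    rintro _ ⟨x, hx, rfl⟩
    rw [SetLike.mem_coe, ← SetLike.mem_coe, Subgroup.coe_mul_of_left_le_normalizer_right _ _ hn] at hx
    obtain ⟨t, ht, c, hc, rfl⟩ := hx
    show (t * c)⁻¹ * a (t * c) ∈ D.U
    rw [map_mul, mem_fixedBy.mp (hSfix hc)]
    have hd : t⁻¹ * a t ∈ disp a D.U := mem_disp ht
    have e := commute_disp_of_le_fixed hSfix hn (x := t⁻¹ * a t) (y := c)
      (by rw [D.disp_U M.coprimely]; exact mul_mem (inv_mem ht) (D.inv_U t ht)) hc
    have e2 : (t * c)⁻¹ * (a t * c) = t⁻¹ * a t := by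
      calc (t * c)⁻¹ * (a t * c) = c⁻¹ * ((t⁻¹ * a t) * c) := by group
        _ = t⁻¹ * a t := by rw [e, inv_mul_cancel_left]
    rw [e2]
    exact D.disp_U M.coprimely ▸ hd
  have hsU : s ∈ D.U := by
    refine hle ?_
    have h1 : disp a H ≤ disp a (D.U ⊔ S) := by
      rw [← M.coprimely.disp_disp B.inv, M.disp_eq_sup B.inv B.U_le B.part, sup_comm]
    exact h1 (B.part.le hs)
  exact Subgroup.mem_bot.mp (two_pgroup_inf_eq_bot M.odd B.part.isPGroup D.isPGroup_U ▸ ⟨hs, hsU⟩)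

end Cfg

end Cfsg.Agent.H24.Flav
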