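import Cfsg.Agent.H24.Flav.CoreBase
import Cfsg.Agent.PGroups.Basic

/-!
An irreducible elementary abelian section of the moved part of an abelian `p`-group.
-/

set_option autoImplicit false
set_option linter.unusedSectionVars false

namespace Cfsg.Agent.H24.Flav

open Subgroup
open Cfsg.Agent.H8.Shult hiding Min
open scoped commutatorElement

universe u v w

variable {G : Type u} [Group G] [Finite G] {p r : ℕ} [hp : Fact p.Prime] {a : MulAut G}
variable {k : Type w} [Field k] [CharP k p] {V : Type v} [AddCommGroup V] [Module k V]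
variable [IsAlgClosed k] [FiniteDimensional k V]
variable {ρ : G →* Module.End k V} {T : Module.End k V}
variable {D : UData a}

/-- The module of an irreducible moved piece. -/
structure Piece (p : ℕ) (D : UData a) (E : Subgroup G) : Prop where
  ne_bot : E ≠ ⊥
  comm : ∀ x ∈ E, ∀ y ∈ E, x * y = y * x
  exp : ∀ x ∈ E, x ^ p = 1
  inv : Inv a E
  normal : D.U ≤ normalizer (E : Set G)
  moved : E ⊓ centralizer (D.U : Set G) = ⊥
  irr : ∀ X : Subgroup G, X ≤ E → Inv a X → D.U ≤ normalizer (X : Set G) → X = ⊥ ∨ X = E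

namespace Cfg

variable (M : Cfg p r a ρ T)
include M

theorem exists_piece {Z0 : Subgroup G} (hZp : IsPGroup p Z0) (hZc : ∀ x ∈ Z0, ∀ y ∈ Z0, x * y = y * x)
    (hZa : Inv a Z0) (hUZ : D.U ≤ normalizer (Z0 : Set G)) (hne : ¬ Z0 ≤ centralizer (D.U : Set G)) :
    ∃ E, E ≤ Z0 ∧ Piece p D E := by
  classical
  let _ : CommGroup Z0 := { (inferInstance : Group Z0) with mul_comm := fun x y => Subtype.ext (hZc x x.2 y y.2) }
  let _ := Fintype.ofFinite D.U
  have hmem : ∀ u ∈ D.U, ∀ x ∈ Z0, u * x * u⁻¹ ∈ Z0 := fun u hu x hx =>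
    (mem_normalizer_iff.mp (hUZ hu) x).mp hx
  let c : D.U → Z0 →* Z0 := fun u =>
    { toFun := fun x => ⟨(u : G) * x * (u : G)⁻¹, hmem u u.2 x x.2⟩
      map_one' := Subtype.ext (by simp)
      map_mul' := fun x y => Subtype.ext (by simp [mul_assoc]) }
  let π : Z0 →* Z0 := ∏ u, c u
  have hπ : ∀ x, π x = ∏ u, c u x := fun x => MonoidHom.finset_prod_apply _ _ _
  have hπc : ∀ (v : D.U) (x : Z0), π (c v x) = π x := fun v x => by
    rw [hπ, hπ]
    refine Fintype.prod_equiv (Equiv.mulRight v) _ _ fun u => Subtype.ext ?_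
    show (u : G) * ((v : G) * x * (v : G)⁻¹) * (u : G)⁻¹ = ((u * v : D.U) : G) * x * ((u * v : D.U) : G)⁻¹
    rw [Subgroup.coe_mul]; group
  set K := π.ker.map Z0.subtype with hK
  have hKZ : K ≤ Z0 := map_subtype_le _
  have hmemK : ∀ x (hx : x ∈ Z0), x ∈ K ↔ π ⟨x, hx⟩ = 1 := fun x hx => by
    constructor
    · rintro ⟨y, hy, he⟩
      have : y = ⟨x, hx⟩ := Subtype.ext he
      exact this ▸ hy
    · exact fun h => ⟨⟨x, hx⟩, h, rfl⟩
  have hKc : K ⊓ centralizer (D.U : Set G) = ⊥ := by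
    refine (Subgroup.eq_bot_iff_forall _).mpr fun x hx => ?_
    have h := (hmemK x (hKZ hx.1)).mp hx.1
    rw [hπ, Finset.prod_congr rfl (g := fun _ => (⟨x, hKZ hx.1⟩ : Z0)) fun u _ => Subtype.ext (by
      show (u : G) * x * (u : G)⁻¹ = x
      rw [mem_centralizer_iff.mp hx.2 u u.2, mul_inv_cancel_right]), Finset.prod_const, Finset.card_univ] at h
    have h1 : x ^ Fintype.card D.U = 1 := congrArg Subtype.val h
    obtain ⟨j, hj⟩ := (have := Fact.mk Nat.prime_two; IsPGroup.iff_card.mp D.isPGroup_U)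
    rw [← Nat.card_eq_fintype_card, hj] at h1
    obtain ⟨n, hn⟩ := hZp ⟨x, hKZ hx.1⟩
    exact Subgroup.mem_bot.mp (mem_of_two_pow_mem M.odd (P := ⊥) (Subgroup.mem_bot.mpr h1)
      (congrArg Subtype.val hn))
  obtain ⟨x₀, hx₀, u₀, hu₀, hne₀⟩ : ∃ x ∈ Z0, ∃ u ∈ D.U, u * x * u⁻¹ ≠ x := by
    by_contra hno
    push Not at hno
    exact hne fun x hx => mem_centralizer_iff.mpr fun u hu => by
      conv_rhs => rw [← hno x hx u hu, inv_mul_cancel_right]
  have hK0 : u₀ * x₀ * u₀⁻¹ * x₀⁻¹ ∈ K := by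
    refine (hmemK _ (mul_mem (hmem u₀ hu₀ x₀ hx₀) (inv_mem hx₀))).mpr ?_
    show π (c ⟨u₀, hu₀⟩ ⟨x₀, hx₀⟩ * (⟨x₀, hx₀⟩ : Z0)⁻¹) = 1
    rw [map_mul, map_inv, hπc, mul_inv_cancel]
  have hKa : Inv a K := by
    intro x hx
    have hxZ := hKZ hx
    refine (hmemK _ (hZa x hxZ)).mpr ?_
    let aZ : Z0 →* Z0 :=
      { toFun := fun y => ⟨a y, hZa y y.2⟩
        map_one' := Subtype.ext (map_one a)
        map_mul' := fun y z => Subtype.ext (map_mul a _ _) }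
    have hcomm : π (aZ ⟨x, hxZ⟩) = aZ (π ⟨x, hxZ⟩) := by
      rw [hπ, hπ, map_prod]
      refine (Fintype.prod_equiv (subAut D.U D.inv_U).toEquiv _ _ fun u => Subtype.ext ?_).symm
      show a ((u : G) * x * (u : G)⁻¹) = a (u : G) * a x * (a (u : G))⁻¹
      simp
    show π (aZ ⟨x, hxZ⟩) = 1
    rw [hcomm, (hmemK x hxZ).mp hx, map_one]
  have hKU : D.U ≤ normalizer (K : Set G) := le_normalizer_iff.mpr fun u hu x hx => by
    refine (hmemK _ (hmem u hu x (hKZ hx))).mpr ?_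
    show π (c ⟨u, hu⟩ ⟨x, hKZ hx⟩) = 1
    rw [hπc]
    exact (hmemK x (hKZ hx)).mp hx
  let Ω : Subgroup G :=
    { carrier := {x | x ∈ K ∧ x ^ p = 1}
      one_mem' := ⟨one_mem _, one_pow _⟩
      mul_mem' := fun {x y} hx hy => ⟨mul_mem hx.1 hy.1, by
        rw [(show Commute x y from hZc x (hKZ hx.1) y (hKZ hy.1)).mul_pow, hx.2, hy.2, one_mul]⟩
      inv_mem' := fun {x} hx => ⟨inv_mem hx.1, by rw [inv_pow, hx.2, inv_one]⟩ }
  let 𝔉 : Set (Subgroup G) := {X | X ≤ Ω ∧ X ≠ ⊥ ∧ Inv a X ∧ D.U ≤ normalizer (X : Set G)}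
  have hΩ : Ω ∈ 𝔉 := by
    refine ⟨le_rfl, fun h => ?_, fun x hx => ⟨hKa x hx.1, by rw [← map_pow, hx.2, map_one]⟩,
      le_normalizer_iff.mpr fun u hu x hx => ⟨(mem_normalizer_iff.mp (hKU hu) x).mp hx.1, by
        rw [conj_pow, hx.2, mul_one, mul_inv_cancel]⟩⟩
    obtain ⟨y, hy, hyo⟩ := PGroups.exists_orderOf_eq (hG := hZp) (H := K.subgroupOf Z0) fun e => hne₀ (by
      have h1 : (⟨_, hKZ hK0⟩ : Z0) ∈ K.subgroupOf Z0 := hK0
      rw [e, Subgroup.mem_bot] at h1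
      exact mul_inv_eq_one.mp (congrArg Subtype.val h1))
    have hy1 : (y : G) ∈ Ω := ⟨hy, by rw [← SubmonoidClass.coe_pow, ← hyo, pow_orderOf_eq_one]; rfl⟩
    rw [h, Subgroup.mem_bot] at hy1
    rw [show y = 1 from Subtype.ext hy1, orderOf_one] at hyo
    exact hp.out.ne_one hyo.symm
  obtain ⟨E, hEF, hmin⟩ := Set.exists_min_image 𝔉 (fun X => Nat.card X) (Set.toFinite _) ⟨Ω, hΩ⟩
  obtain ⟨hEΩ, hE0, hEa, hEU⟩ := hEF
  have hEK : E ≤ K := fun x hx => (hEΩ hx).1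
  refine ⟨E, hEK.trans hKZ, hE0, fun x hx y hy => hZc x (hKZ (hEK hx)) y (hKZ (hEK hy)),
    fun x hx => (hEΩ hx).2, hEa, hEU, le_bot_iff.mp ((inf_le_inf_right _ hEK).trans hKc.le), ?_⟩
  intro X hXE hXa hXU
  rcases eq_or_ne X ⊥ with h | h
  · exact Or.inl h
  · exact Or.inr (Subgroup.eq_of_le_of_card_ge hXE (hmin X ⟨hXE.trans hEΩ, h, hXa, hXU⟩))

end Cfg

end Cfsg.Agent.H24.Flav
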