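import Cfsg.Agent.H24.Flav.CoreQuad

/-!
The quadratic elements of a bad subgroup cannot exist.
-/

set_option autoImplicit false
set_option linter.unusedSectionVars false

namespace Cfsg.Agent.H24.Flav

open Subgroup
open Cfsg.Agent.H8.Shult hiding Min
open scoped commutatorElement

universe u v w

variable {G : Type u} [Group G] [Finite G] {p r : ℕ} [hp : Fact p.Prime] {a : MulAut G}
variable {k : Type w} [Field k] [CharP k p] {V : Type v} [AddCommGroup V] [Module k V]
variable [IsAlgClosed k] [FiniteDimensional k V]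
variable {ρ : G →* Module.End k V} {T : Module.End k V}
variable {D : UData a}

namespace Cfg

variable (M : Cfg p r a ρ T)
include M

/-- A `p`-element of `N` inside `H` centralises `U` as soon as it has a quadratic translate by `S`. -/
theorem centralizes_of_quadratic {m : ℕ} (hSh : Shape ρ D r m) {H S : Subgroup G} (hS : DispPart p a H S)
    (hU : D.U ≤ H) {q s : G} {n : ℕ} (hq : q ∈ D.Gam) (hqH : q ∈ H) (hqn : q ^ p ^ n = 1) (hs : s ∈ S)
    (hSle : S ≤ H) (hquad : (ρ (q * s) - 1) * (ρ (q * s) - 1) = 0) : q ∈ centralizer (D.U : Set G) := by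
  classical
  refine M.centralizes_of_act hSh ⟨q, hq⟩ fun χ hχ => ?_
  by_contra hne
  set g : D.Gam := ⟨q, hq⟩
  have hne2 : D.act (g * g) χ ≠ χ := by
    intro h2
    let St : Subgroup D.Gam :=
      { carrier := {x | D.act x χ = χ}
        one_mem' := D.act_one χ
        mul_mem' := fun {x y} (hx : D.act x χ = χ) (hy : D.act y χ = χ) => by
          show D.act (x * y) χ = χ
          rw [← UData.act_act, hy, hx]
        inv_mem' := fun {x} (hx : D.act x χ = χ) => by
          show D.act x⁻¹ χ = χ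
          conv_lhs => rw [← hx, UData.act_act, inv_mul_cancel, UData.act_one] }
    have h3 : g ^ 2 ^ 1 ∈ St := by rw [pow_one, sq]; exact h2
    exact hne (mem_of_two_pow_mem M.odd (P := St) h3 (n := n) (Subtype.ext (by
      rw [SubmonoidClass.coe_pow]; exact hqn)))
  -- a largest `H`-stable subspace missing the weight space
  let 𝒲 : Set (Submodule k V) := {F | (∀ h ∈ H, ∀ v ∈ F, ρ h v ∈ F) ∧ ¬ weight ρ D χ ≤ F}
  have h0 : (⊥ : Submodule k V) ∈ 𝒲 := ⟨fun h _ v hv => by
    rw [Submodule.mem_bot] at hv ⊢; rw [hv, map_zero], fun h => hχ.2 (le_bot_iff.mp h)⟩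
  obtain ⟨F, hF⟩ : ∃ F, Maximal (· ∈ 𝒲) F := exists_maximal_of_wellFoundedGT _ ⟨⊥, h0⟩
  obtain ⟨hFH, hFχ⟩ := hF.1
  -- the vectors fixed by `S` modulo `F`
  let F' : Submodule k V :=
    { carrier := {v | ∀ y ∈ S, ρ y v - v ∈ F}
      zero_mem' := fun y _ => by simp
      add_mem' := fun {u v} hu hv y hy => by
        rw [map_add, add_sub_add_comm]; exact add_mem (hu y hy) (hv y hy)
      smul_mem' := fun c v hv y hy => by
        rw [map_smul, ← smul_sub]; exact Submodule.smul_mem _ c (hv y hy) }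
  have hF'H : ∀ h ∈ H, ∀ v ∈ F', ρ h v ∈ F' := fun h hh v hv y hy => by
    have hy' : h⁻¹ * y * h ∈ S := by
      simpa using (mem_normalizer_iff.mp (inv_mem (hS.normal hh)) y).mp hy
    have e : ρ y (ρ h v) - ρ h v = ρ h (ρ (h⁻¹ * y * h) v - v) := by
      rw [map_sub, ← Module.End.mul_apply, ← Module.End.mul_apply, ← map_mul, ← map_mul,
        show h * (h⁻¹ * y * h) = y * h by group]
    rw [e]
    exact hFH h hh _ (hv _ hy')
  have hFF' : F ≤ F' := fun v hv y hy => sub_mem (hFH y (hSle hy) v hv) hv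
  have hlt : F < F' := by
    refine lt_of_le_not_ge hFF' fun hle => ?_
    let ρq : S →* Module.End k (V ⧸ F) :=
      { toFun := fun y => F.mapQ F (ρ (y : G)) (hFH _ (hSle y.2))
        map_one' := Submodule.linearMap_qext _ (LinearMap.ext fun v => by simp)
        map_mul' := fun x y => Submodule.linearMap_qext _ (LinearMap.ext fun v => by simp) }
    obtain ⟨v, hv, hvF⟩ := SetLike.not_le_iff_exists.mp hFχ
    obtain ⟨w, hw0, hw⟩ := exists_fixed_of_pGroup hS.isPGroup ρq
      (v := Submodule.Quotient.mk v) (fun h => hvF ((Submodule.Quotient.mk_eq_zero F).mp h))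
    obtain ⟨w, rfl⟩ := Submodule.Quotient.mk_surjective F w
    refine hw0 ((Submodule.Quotient.mk_eq_zero F).mpr (hle fun y hy => ?_))
    exact (Submodule.Quotient.eq F).mp (hw ⟨y, hy⟩)
  have hχF : weight ρ D χ ≤ F' := by
    by_contra h
    exact hlt.not_ge (hF.2 ⟨hF'H, h⟩ hFF')
  obtain ⟨e, -, he1, he0, -, -, heF⟩ := M.exists_wproj χ
  refine hFχ fun v hv => ?_
  have ht : ∀ w ∈ F', ρ (q * s) w - ρ q w ∈ F := fun w hw => by
    rw [map_mul, Module.End.mul_apply, ← map_sub]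
    exact hFH q hqH _ (hw s hs)
  have h1 := ht v (hχF hv)
  have h2 := ht (ρ q v) (hF'H q hqH v (hχF hv))
  have h3 : ρ (q * s) (ρ (q * s) v - ρ q v) ∈ F := hFH _ (mul_mem hqH (hSle hs)) _ h1
  have h4 : ρ (q * s) (ρ (q * s) v) - ρ (q * s) v - ρ (q * s) v + v = 0 := by
    have h := congrArg (fun f : Module.End k V => f v) hquad
    simp only [Module.End.mul_apply, LinearMap.sub_apply, Module.End.one_apply, map_sub,
      LinearMap.zero_apply] at h
    rw [← h]; abel
  have h5 : ρ q (ρ q v) - ρ q v - ρ q v + v ∈ F := by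
    have h6 := sub_mem (add_mem h1 h1) (add_mem h2 h3)
    rw [map_sub] at h6
    have e5 : ρ q (ρ q v) - ρ q v - ρ q v + v = (ρ (q * s) v - ρ q v + (ρ (q * s) v - ρ q v)) -
        (ρ (q * s) (ρ q v) - ρ q (ρ q v) + (ρ (q * s) (ρ (q * s) v) - ρ (q * s) (ρ q v))) +
        (ρ (q * s) (ρ (q * s) v) - ρ (q * s) v - ρ (q * s) v + v) := by abel
    rw [e5, h4, add_zero]
    exact h6
  have h7 := heF F (fun x hx w hw => hFH x (hU (D.W_le_U hx)) w hw) _ h5
  have z1 : e (ρ q v) = 0 := he0 _ hne _ (map_mem_weight_act g hv)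
  have z2 : e (ρ q (ρ q v)) = 0 := by
    rw [show ρ q (ρ q v) = ρ (q * q) v by rw [map_mul]; rfl]
    exact he0 _ hne2 _ (map_mem_weight_act (g * g) hv)
  simpa [map_add, map_sub, z1, z2, he1 v hv] using h7

/-- `U` cannot move the centre of the `p`-part of a bad subgroup. -/
theorem bad_not_moved (hbad : BadVanish ρ T D r) {H S Q : Subgroup G} (B : Bad p D H S Q)
    (hmov : ¬ S ⊓ centralizer (S : Set G) ≤ centralizer (D.U : Set G)) : False := by
  classical
  obtain ⟨m, hSh⟩ := M.exists_shape (D := D)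
  obtain ⟨R, hR, hRa, hQR, hRQ⟩ := M.bad_exists_over B
  have hQp := B.maxP.2.1
  have hSle : S ≤ H := B.S_le.trans B.maxP.1
  have hUN : D.U ≤ normalizer (S : Set G) := B.U_le.trans B.part.normal
  have hZU : D.U ≤ normalizer ((S ⊓ centralizer (S : Set G) : Subgroup G) : Set G) := by
    refine le_normalizer_iff.mpr fun u hu x hx =>
      ⟨(mem_normalizer_iff.mp (hUN hu) x).mp hx.1, mem_centralizer_iff.mpr fun y hy => ?_⟩
    have h1 : u⁻¹ * y * u ∈ S := by simpa using (mem_normalizer_iff.mp (inv_mem (hUN hu)) y).mp hy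
    calc y * (u * x * u⁻¹) = u * ((u⁻¹ * y * u) * x) * u⁻¹ := by group
      _ = u * (x * (u⁻¹ * y * u)) * u⁻¹ := by rw [mem_centralizer_iff.mp hx.2 _ h1]
      _ = u * x * u⁻¹ * y := by group
  obtain ⟨E, hE, P⟩ := M.exists_piece (B.part.isPGroup.to_le inf_le_left)
    (fun x hx y hy => mem_centralizer_iff.mp hy.2 x hx.1) (B.part.inv.inf B.part.inv.centralizer) hZU hmov
  obtain ⟨t, ht, ht1, htq⟩ := M.exists_quadratic hSh hbad P
  -- the group generated by the quadratic elements of `Q`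
  set s₀ : Set G := {x | x ∈ Q ∧ (ρ x - 1) * (ρ x - 1) = 0}
  set X := closure s₀ with hX
  have hXQ : X ≤ Q := (closure_le _).mpr fun x hx => hx.1
  have hquadconj : ∀ g x : G, (ρ x - 1) * (ρ x - 1) = 0 → (ρ (g * x * g⁻¹) - 1) * (ρ (g * x * g⁻¹) - 1) = 0 := by
    intro g x h
    have h1 : ρ g⁻¹ * ρ g = 1 := by rw [← map_mul, inv_mul_cancel, map_one]
    have e : ρ (g * x * g⁻¹) - 1 = ρ g * (ρ x - 1) * ρ g⁻¹ := by
      rw [mul_sub, sub_mul, mul_one, ← map_mul, ← map_mul, ← map_mul, mul_inv_cancel, map_one]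
    calc (ρ (g * x * g⁻¹) - 1) * (ρ (g * x * g⁻¹) - 1)
        = ρ g * (ρ x - 1) * (ρ g⁻¹ * ρ g) * (ρ x - 1) * ρ g⁻¹ := by rw [e]; simp only [mul_assoc]
      _ = 0 := by rw [h1, mul_one, mul_assoc (ρ g), h, mul_zero, zero_mul]
  have hXn : ∀ L : Subgroup G, (∀ g ∈ L, ∀ x ∈ s₀, g * x * g⁻¹ ∈ Q) → L ≤ normalizer (X : Set G) :=
    fun L hL => le_normalizer_iff.mpr fun g hg x hx => by
      induction hx using Subgroup.closure_induction with
      | mem y hy => exact subset_closure ⟨hL g hg y hy, hquadconj g y hy.2⟩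
      | one => simp
      | mul y z _ _ ihy ihz => simpa [mul_assoc] using mul_mem ihy ihz
      | inv y _ ih => simpa [mul_assoc] using inv_mem ih
  have hRX : R ≤ normalizer (X : Set G) :=
    hXn R fun g hg x hx => (mem_normalizer_iff.mp (hRQ hg) x).mp hx.1
  have hXa : Inv a X := inv_closure fun x hx => subset_closure ⟨B.inv_Q x hx.1, by
    have h := M.rep.compat x
    have hc : T * (ρ x - 1) = (ρ (a x) - 1) * T := by rw [mul_sub, sub_mul, h, mul_one, one_mul]
    have hTT : T * T ^ (r - 1) = 1 := by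
      rw [← pow_succ', show r - 1 + 1 = r from Nat.succ_pred_eq_of_pos M.coprimely.prime.pos, M.rep.pow_eq_one]
    calc (ρ (a x) - 1) * (ρ (a x) - 1)
        = (ρ (a x) - 1) * ((ρ (a x) - 1) * T) * T ^ (r - 1) := by rw [mul_assoc, mul_assoc, hTT, mul_one]
      _ = ((ρ (a x) - 1) * T) * (ρ x - 1) * T ^ (r - 1) := by
        conv_lhs => rw [← hc]
        simp only [mul_assoc]
      _ = T * ((ρ x - 1) * (ρ x - 1)) * T ^ (r - 1) := by rw [← hc]; simp only [mul_assoc]
      _ = 0 := by rw [hx.2, mul_zero, zero_mul]⟩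
  have hUX : D.U ≤ normalizer (X : Set G) := by
    refine hXn D.U fun u hu x hx => ?_
    obtain ⟨d, hd, c, hc, hxcd⟩ := M.coprimely.exists_disp_mul B.inv_Q hx.1
    -- a translate of `c` normalising `U`
    have hcH : c ∈ H := B.maxP.1 hc.1
    have hUa : Inv a (D.U.map (MulAut.conj c).toMonoidHom) := D.inv_U.map_conj hc.2
    set K := disp a H with hK
    have hUK : D.U ≤ K := le_sup_right.trans (M.disp_eq_sup B.inv B.U_le B.part).ge
    have hcUK : D.U.map (MulAut.conj c).toMonoidHom ≤ K := by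
      rintro _ ⟨y, hy, rfl⟩
      exact (mem_normalizer_iff.mp (le_normalizer_disp hcH) y).mp (hUK hy)
    have hUp := D.isPGroup_U
    have h2F : Fact (Nat.Prime 2) := ⟨Nat.prime_two⟩
    obtain ⟨P2, hP2⟩ := (hUp.comap_of_injective K.subtype K.subtype_injective).exists_le_sylow
    obtain ⟨P2', hP2'⟩ := ((hUp.map (MulAut.conj c).toMonoidHom).comap_of_injective K.subtype
      K.subtype_injective).exists_le_sylow
    have hcardU : ∀ P : Sylow 2 K, Nat.card (P : Subgroup K) ≤ Nat.card D.U := by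
      intro P
      have hbot : S ⊓ D.U = ⊥ := two_pgroup_inf_eq_bot M.odd B.part.isPGroup D.isPGroup_U
      have hcd := Coprime.card_sup hUN hbot
      rw [← M.disp_eq_sup B.inv B.U_le B.part, ← hK] at hcd
      have hdvd : Nat.card (P : Subgroup K) ∣ Nat.card S * Nat.card D.U := hcd ▸ card_subgroup_dvd_card _
      obtain ⟨i, hi⟩ := IsPGroup.iff_card.mp P.2
      obtain ⟨j, hj⟩ := IsPGroup.iff_card.mp B.part.isPGroup
      rw [hi] at hdvd ⊢
      rw [hj] at hdvd
      exact Nat.le_of_dvd Nat.card_pos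
        ((((Nat.coprime_primes Nat.prime_two hp.out).mpr (Ne.symm M.odd)).pow i j).dvd_of_dvd_mul_left hdvd)
    have hPU : (P2 : Subgroup K) = D.U.subgroupOf K := (Subgroup.eq_of_le_of_card_ge hP2
      ((hcardU P2).trans (Nat.card_congr (subgroupOfEquivOfLe hUK).toEquiv).ge)).symm
    have hPU' : (P2' : Subgroup K) = (D.U.map (MulAut.conj c).toMonoidHom).subgroupOf K :=
      (Subgroup.eq_of_le_of_card_ge hP2' ((hcardU P2').trans
        ((Nat.card_congr (subgroupOfEquivOfLe hcUK).toEquiv).trans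
          (Subgroup.card_map_of_injective (MulAut.conj c).injective)).ge)).symm
    obtain ⟨g, hg⟩ := MulAction.exists_smul_eq K P2 P2'
    have hgK : (g : G) ∈ S ⊔ D.U := M.disp_eq_sup B.inv B.U_le B.part ▸ g.2
    rw [sup_comm, ← SetLike.mem_coe, Subgroup.coe_mul_of_left_le_normalizer_right _ _ hUN] at hgK
    obtain ⟨v, hv, s, hs, hvs⟩ := hgK
    simp only at hvs
    -- `g = v s = s' v`
    set s' := v * s * v⁻¹
    have hs' : s' ∈ S := (mem_normalizer_iff.mp (hUN hv) s).mp hs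
    set q := s'⁻¹ * c with hqdef
    have hqmap : ∀ y ∈ D.U, q * y * q⁻¹ ∈ D.U := by
      intro y hy
      have hmem : c * y * c⁻¹ ∈ D.U.map (MulAut.conj c).toMonoidHom := ⟨y, hy, rfl⟩
      have h1 : (⟨_, hcUK hmem⟩ : K) ∈ (P2' : Subgroup K) := by rw [hPU']; exact hmem
      rw [← hg, Sylow.coe_subgroup_smul, Subgroup.mem_pointwise_smul_iff_inv_smul_mem, hPU, mem_subgroupOf] at h1
      have h2 : (g : G)⁻¹ * (c * y * c⁻¹) * g ∈ D.U := by
        simpa [MulAut.smul_def, mul_assoc] using h1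
      have h3 := mul_mem (mul_mem hv h2) (inv_mem hv)
      have e : v * ((g : G)⁻¹ * (c * y * c⁻¹) * g) * v⁻¹ = q * y * q⁻¹ := by
        rw [hqdef, ← hvs]
        show _ = (v * s * v⁻¹)⁻¹ * c * y * ((v * s * v⁻¹)⁻¹ * c)⁻¹
        group
      rwa [e] at h3
    have hqQ : q ∈ Q := mul_mem (inv_mem (B.S_le hs')) hc.1
    have hqN : q ∈ D.N := by
      refine mem_normalizer_iff.mpr fun y => ⟨hqmap y, fun hy => ?_⟩
      obtain ⟨i, hi⟩ := hQp ⟨q, hqQ⟩
      have hi' : q ^ p ^ i = 1 := congrArg Subtype.val hi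
      have key : ∀ n : ℕ, q ^ (n + 1) * y * (q ^ (n + 1))⁻¹ ∈ D.U := by
        intro n
        induction n with
        | zero => simpa using hy
        | succ n ih =>
          have h3 := hqmap _ ih
          convert h3 using 1
          rw [pow_succ' q (n + 1)]
          group
      have h3 := key (p ^ i - 1)
      rwa [Nat.sub_add_cancel (Nat.one_le_pow _ _ hp.out.pos), hi', one_mul, inv_one, mul_one] at h3
    -- the fixed part of `q`
    obtain ⟨d₂, hd₂, c₂, hc₂, hqc⟩ := M.coprimely.exists_disp_mul (B.inv_Q.inf D.inv_N) ⟨hqQ, hqN⟩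
    have hd₂S : d₂ ∈ S := (M.bad_disp_Q B).1 (disp_mono inf_le_left hd₂)
    obtain ⟨i, hi⟩ := hQp ⟨c₂, hc₂.1.1⟩
    -- `x = c₂ * (element of S)`
    have hxeq : c₂⁻¹ * x ∈ S := by
      have h1 : c₂⁻¹ * s' * c₂ ∈ S := by
        simpa using (mem_normalizer_iff.mp (inv_mem (B.part.normal (B.maxP.1 hc₂.1.1))) s').mp hs'
      have e : c₂⁻¹ * x = (c₂⁻¹ * s' * c₂) * (d₂ * d) := by
        calc c₂⁻¹ * x = c₂⁻¹ * s' * (s'⁻¹ * c) * d := by rw [hxcd]; group
          _ = c₂⁻¹ * s' * (c₂ * d₂) * d := by rw [← hqdef, hqc]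
          _ = _ := by group
      rw [e]
      exact mul_mem h1 (mul_mem hd₂S ((M.bad_disp_Q B).1 hd))
    have hcU := M.centralizes_of_quadratic hSh B.part B.U_le (q := c₂) (s := c₂⁻¹ * x)
      (⟨hc₂.1.2, hc₂.2⟩ : c₂ ∈ D.Gam) (B.maxP.1 hc₂.1.1) (congrArg Subtype.val hi) hxeq hSle
      (by rw [mul_inv_cancel_left]; exact hx.2)
    have e : u * x * u⁻¹ = c₂ * (u * (c₂⁻¹ * x) * u⁻¹) := by
      calc u * x * u⁻¹ = (u * c₂) * (c₂⁻¹ * x) * u⁻¹ := by group
        _ = (c₂ * u) * (c₂⁻¹ * x) * u⁻¹ := by rw [mem_centralizer_iff.mp hcU u hu]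
        _ = _ := by group
    rw [e]
    exact mul_mem hc₂.1.1 (B.S_le ((mem_normalizer_iff.mp (hUN hu) _).mp hxeq))
  have hXne : X ≠ ⊥ := fun h => ht1 (Subgroup.mem_bot.mp (h ▸ subset_closure ⟨B.S_le (hE ht).1, htq⟩))
  refine hQR.ne ?_
  rw [← M.bad_key B hR hQR.le hXne (hQp.to_le hXQ) hXa (hQR.le.trans hRX) hUX, inf_eq_left.mpr hRX]

end Cfg

end Cfsg.Agent.H24.Flav
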