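import Cfsg.Agent.H24.Flav.CoreWeights
import Cfsg.Agent.H24.Flav.WeightCommutant

/-!
The action of the radicals on the weight spaces.
-/

set_option autoImplicit false
set_option linter.unusedSectionVars false

namespace Cfsg.Agent.H24.Flav

open Subgroup
open Cfsg.Agent.H8.Shult hiding Min
open scoped commutatorElement

universe u v w

variable {G : Type u} [Group G] [Finite G] {p r : ℕ} [hp : Fact p.Prime] {a : MulAut G}
variable {k : Type w} [Field k] [CharP k p] {V : Type v} [AddCommGroup V] [Module k V]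
variable [IsAlgClosed k] [FiniteDimensional k V]
variable {ρ : G →* Module.End k V} {T : Module.End k V}
variable {D : UData a}

/-- A nontrivial sign homomorphism trivial on the radical is given by the form. -/
theorem exists_beta_eq {Q : Type*} [Group Q] [Finite Q] {β : Q →* Q →* ℤˣ}
    (hsymm : ∀ x y, β x y = β y x) (f : Q →* ℤˣ) (hf : f ≠ 1) (hrad : ∀ s ∈ radR β, f s = 1) :
    ∃ x, x ∉ radR β ∧ ∀ y, β x y = f y := by
  obtain ⟨y0, hy0⟩ : ∃ y0, f y0 = -1 := by
    by_contra hno
    push Not at hno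
    exact hf (MonoidHom.ext fun y => (Int.units_eq_one_or (f y)).resolve_right (hno y))
  have h := card_orth_mul (β := β) f.ker
  rw [show f.ker ⊓ radR β = radR β from inf_eq_right.mpr fun s hs => hrad s hs] at h
  have hlt : Nat.card f.ker < Nat.card Q := by
    refine lt_of_le_of_ne (card_le_card_group f.ker) fun e => ?_
    have h1 : y0 ∈ f.ker := (Subgroup.eq_top_of_card_eq _ e).symm ▸ mem_top y0
    rw [MonoidHom.mem_ker, hy0] at h1
    exact absurd h1 (by decide)
  obtain ⟨x, hx, hxR⟩ : ∃ x ∈ orth β f.ker, x ∉ radR β := by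
    by_contra hno
    push Not at hno
    have h1 : Nat.card (orth β f.ker) ≤ Nat.card (radR β) :=
      Nat.le_of_dvd Nat.card_pos (card_dvd_of_le hno)
    have h2 := Nat.mul_le_mul_right (Nat.card f.ker) h1
    rw [h, mul_comm] at h2
    exact absurd (Nat.le_of_mul_le_mul_left h2 Nat.card_pos) (not_le.mpr hlt)
  refine ⟨x, hxR, fun y => ?_⟩
  have hK : ∀ z, f z = 1 → β x z = 1 := fun z hz => hx z (MonoidHom.mem_ker.mpr hz)
  rcases Int.units_eq_one_or (f y) with hy | hy
  · rw [hy, hK y hy]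
  rw [hy]
  refine (Int.units_eq_one_or _).resolve_left fun hxy => hxR fun z => ?_
  rw [← hsymm x z]
  rcases Int.units_eq_one_or (f z) with hz | hz
  · exact hK z hz
  · have h1 : β x (z * y) = 1 := hK _ (by rw [map_mul, hz, hy, Int.units_mul_self])
    rwa [map_mul, hxy, mul_one] at h1

theorem rad_one (hsp : Special2 a D.U) : rad hsp (1 : D.W →* ℤˣ) = D.U :=
  le_antisymm (rad_le _ _) fun _ hx => mem_rad.mpr ⟨hx, fun _ => rfl⟩

namespace Cfg

variable (M : Cfg p r a ρ T) {m : ℕ}
include M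

/-- An operator vanishing on every weight space vanishes. -/
theorem ext_weight {f : Module.End k V} (h : ∀ χ : D.W →* ℤˣ, ∀ v ∈ weight ρ D χ, f v = 0) : f = 0 := by
  classical
  let _ : CommGroup D.W :=
    { (inferInstance : Group D.W) with
      mul_comm := fun u v => Subtype.ext ((M.special2_U D).fix_central u u.2 v v.2.1) }
  let τ : D.W →* Module.End k V := ρ.comp D.W.subtype
  have := Coprime.Weights.finite_chars (U := D.W) (k := k) M.natCard_W_ne_zero
  let _ := Fintype.ofFinite (D.W →* kˣ)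
  rw [← mul_one f, ← Coprime.Weights.sum_proj M.natCard_W_ne_zero τ, Finset.mul_sum]
  refine Finset.sum_eq_zero fun ψ _ => LinearMap.ext fun v => ?_
  rw [Module.End.mul_apply, LinearMap.zero_apply]
  have hne : (1 : k) ≠ -1 := fun h =>
    M.two_ne_zero (by rw [← one_add_one_eq_two]; nth_rw 2 [h]; exact add_neg_cancel 1)
  have hval : ∀ u : D.W, (ψ u : k) = 1 ∨ (ψ u : k) = -1 := fun u => by
    have h : (ψ u : k) * ψ u = 1 := by
      rw [← Units.val_mul, ← map_mul,
        show u * u = 1 from Subtype.ext ((M.special2_U D).fix_sq u u.2), map_one, Units.val_one]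
    exact mul_self_eq_one_iff.mp h
  let e : D.W → ℤˣ := fun u => if (ψ u : k) = 1 then 1 else -1
  have he : ∀ u, sgn k (e u) = ψ u := fun u => by
    rcases hval u with h | h
    · show sgn k (if (ψ u : k) = 1 then 1 else -1) = _
      rw [if_pos h, h, sgn_one]
    · show sgn k (if (ψ u : k) = 1 then 1 else -1) = _
      rw [if_neg (fun h' => hne (h'.symm.trans h)), h, sgn_neg_one]
  have hinj : ∀ e₁ e₂ : ℤˣ, sgn k e₁ = sgn k e₂ → e₁ = e₂ := fun e₁ e₂ h => by
    rcases Int.units_eq_one_or e₁ with rfl | rfl <;> rcases Int.units_eq_one_or e₂ with rfl | rfl <;>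
      first | rfl | (simp [sgn] at h; first | exact absurd h hne | exact absurd h.symm hne)
  let χ : D.W →* ℤˣ :=
    { toFun := e
      map_one' := by simp [e]
      map_mul' := fun u v => hinj _ _ (by rw [sgn_mul, he, he, he, map_mul, Units.val_mul]) }
  refine h χ _ (mem_weight.mpr fun u => ?_)
  rw [show sgn k (χ u) = ψ u from he u]
  exact (Coprime.Weights.mem_range_iff (τ := τ) (χ := ψ) M.natCard_W_ne_zero).mp ⟨v, rfl⟩ u

/-- The radical acts by signs on an occurring weight space. -/
theorem rad_scalar (hS : Shape ρ D r m) {χ : D.W →* ℤˣ} (hχ : Occ ρ D χ) {x : G} (hx : x ∈ rad hS.sp χ) :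
    ∃ ε : k, ε * ε = 1 ∧ ∀ v ∈ weight ρ D χ, ρ x v = ε • v := by
  obtain ⟨d, hd, c, hc, rfl⟩ := M.coprimely.exists_disp_mul (inv_rad hS.sp χ) hx
  rw [M.inf_fixed_eq_W (W_le_rad hS.sp χ) (rad_le hS.sp χ)] at hc
  have hT : ∀ w, T ((T ^ (r - 1) : Module.End k V) w) = w := fun w => by
    rw [← Module.End.mul_apply, ← pow_succ', show r - 1 + 1 = r from
      Nat.succ_pred_eq_of_pos M.coprimely.prime.pos, M.rep.pow_eq_one, Module.End.one_apply]
  have hTw : ∀ (n : ℕ) v, v ∈ weight ρ D χ → (T ^ n) v ∈ weight ρ D χ := fun n v hv => by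
    induction n with
    | zero => exact hv
    | succ n ih => rw [pow_succ', Module.End.mul_apply]; exact M.weight_inv_T ih
  have hfix : ∀ y ∈ rad hS.sp χ, ∀ v ∈ weight ρ D χ, ρ (a y) v = ρ y v := by
    intro y hy v hv
    obtain ⟨hyU, hyr⟩ := mem_rad.mp hy
    have h1 := M.commute_T_of_weight hS hχ (ρ y) (fun w hw => M.weight_inv_U hyU hw) (fun u hu w hw => by
      have e : u * y = ⁅u, y⁆ * (y * u) := by rw [commutatorElement_def]; group
      rw [← Module.End.mul_apply, ← map_mul, e, map_mul, Module.End.mul_apply,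
        show ⁅u, y⁆ = ((commW hS.sp ⟨u, hu⟩ ⟨y, hyU⟩ : D.W) : G) from rfl,
        mem_weight.mp (M.weight_inv_U (mul_mem hyU hu) hw), ← commW_symm, hyr, sgn_one, one_smul, map_mul,
        Module.End.mul_apply])
    have h2 := h1 _ (hTw (r - 1) v hv)
    rw [hT, ← Module.End.mul_apply, M.rep.compat, Module.End.mul_apply, hT] at h2
    exact h2
  have hd1 : d ∈ rad hS.sp χ ∧ ∀ v ∈ weight ρ D χ, ρ d v = v := by
    clear hx
    induction hd using Subgroup.closure_induction with
    | mem y hy =>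
      obtain ⟨z, hz, rfl⟩ := hy
      refine ⟨mul_mem (inv_mem hz) (inv_rad hS.sp χ z hz), fun v hv => ?_⟩
      rw [map_mul, Module.End.mul_apply, hfix z hz v hv, ← Module.End.mul_apply, ← map_mul, inv_mul_cancel,
        map_one, Module.End.one_apply]
    | one => exact ⟨one_mem _, fun v _ => by rw [map_one, Module.End.one_apply]⟩
    | mul y z _ _ ihy ihz =>
      exact ⟨mul_mem ihy.1 ihz.1, fun v hv => by rw [map_mul, Module.End.mul_apply, ihz.2 v hv, ihy.2 v hv]⟩
    | inv y _ ih =>
      refine ⟨inv_mem ih.1, fun v hv => ?_⟩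
      conv_lhs => rw [← ih.2 v hv]
      rw [← Module.End.mul_apply, ← map_mul, inv_mul_cancel, map_one, Module.End.one_apply]
  refine ⟨sgn k (χ ⟨c, hc⟩), by rw [← sgn_mul, Int.units_mul_self, sgn_one], fun v hv => ?_⟩
  rw [map_mul, Module.End.mul_apply, hd1.2 v hv]
  exact mem_weight.mp hv ⟨c, hc⟩

/-- `U` acts trivially where `W` does. -/
theorem map_U_weight_one (hsp : Special2 a D.U) {u : G} (hu : u ∈ D.U) :
    ∀ v ∈ weight ρ D (1 : D.W →* ℤˣ), ρ u v = v := by
  set V1 := weight ρ D (1 : D.W →* ℤˣ)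
  let ρU : D.U →* Module.End k V1 :=
    { toFun := fun x => (ρ x).restrict fun v hv => M.weight_inv_U x.2 hv
      map_one' := LinearMap.ext fun v => Subtype.ext (by simp)
      map_mul' := fun x y => LinearMap.ext fun v => Subtype.ext (by simp) }
  let T' : Module.End k V1 := T.restrict fun v hv => M.weight_inv_T hv
  have hR : RepData (subAut D.U D.inv_U) r ρU T' :=
    ⟨fun x => LinearMap.ext fun v => Subtype.ext
      (congrArg (fun f : Module.End k V => f v) (M.rep.compat x)), subRep_sum M.rep.sum _ _⟩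
  set K := D.W.subgroupOf D.U
  have hKn : K.Normal := normal_subgroupOf_of_le_normalizer
    (le_normalizer_of_W_le hsp le_rfl D.W_le_U)
  have hKa : Inv (subAut D.U D.inv_U) K := fun y hy => D.inv_W _ hy
  have hker : K ≤ ρU.ker := fun x hx => LinearMap.ext fun v => Subtype.ext (by
    show ρ (x : G) v = v
    exact (mem_weight.mp v.2 ⟨x, hx⟩).trans (by rw [MonoidHom.one_apply, sgn_one, one_smul]))
  let ρq : D.U ⧸ K →* Module.End k V1 := QuotientGroup.lift K ρU hker
  have hRq : RepData (quotAut K hKa) r ρq T' := ⟨fun q => by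
    obtain ⟨q, rfl⟩ := QuotientGroup.mk_surjective q
    exact hR.compat q, hR.sum⟩
  have hq := (M.coprimely.sub D.U D.inv_U).quot K hKa
  have hfix : (⊤ : Subgroup (D.U ⧸ K)) ⊓ fixedBy (quotAut K hKa) = ⊥ := by
    refine (Subgroup.eq_bot_iff_forall _).mpr ?_
    rintro q ⟨-, hq'⟩
    obtain ⟨x, rfl⟩ := QuotientGroup.mk_surjective q
    have h2 := mem_fixedBy.mp hq'
    rw [quotAut_mk, QuotientGroup.eq] at h2
    obtain ⟨c, hc, hcK⟩ := (M.coprimely.sub D.U D.inv_U).exists_fixed_coset hKa
      (g := x) (by simpa [mul_assoc] using inv_mem h2)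
    have hc' : c ∈ K := mem_subgroupOf.mpr ⟨c.2, congrArg Subtype.val hc⟩
    exact (QuotientGroup.eq_one_iff x).mpr (by simpa using mul_mem hc' (inv_mem hcK))
  intro v hv
  have h := hRq.eq_one_of_fpf hq inv_top hfix (by
    rw [Subgroup.card_top]
    obtain ⟨j, hj⟩ := (have := Fact.mk Nat.prime_two; IsPGroup.iff_card.mp (D.isPGroup_U.to_quotient K))
    rw [hj, Nat.cast_pow, Nat.cast_ofNat]
    exact pow_ne_zero _ M.two_ne_zero) (mem_top ((⟨u, hu⟩ : D.U) : D.U ⧸ K))
  exact congrArg Subtype.val (congrArg (fun f : Module.End k V1 => f ⟨v, hv⟩) h)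

end Cfg

end Cfsg.Agent.H24.Flav
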