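import Cfsg.Agent.H8.Shult.Setup

/-!
An equivariant additive map congruent to `m ↦ ρ m - 1` on an elementary abelian subgroup.
-/

set_option autoImplicit false
set_option linter.unusedSectionVars false

namespace Cfsg.Agent.H24.Flav

open Subgroup
open Cfsg.Agent.H8.Shult hiding Min

universe u v w

variable {G : Type u} [Group G] [Finite G] {p r : ℕ} [hp : Fact p.Prime] {a : MulAut G}
variable {k : Type w} [Field k] [CharP k p] {V : Type v} [AddCommGroup V] [Module k V]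
variable {ρ : G →* Module.End k V} {T : Module.End k V}

/-- The span of the `ρ x - 1`. -/
def augSpan (ρ : G →* Module.End k V) (E : Subgroup G) : Submodule k (Module.End k V) :=
  Submodule.span k ((fun x => ρ x - 1) '' (E : Set G))

theorem sub_one_mem_augSpan {E : Subgroup G} {x : G} (hx : x ∈ E) : ρ x - 1 ∈ augSpan ρ E :=
  Submodule.subset_span ⟨x, hx, rfl⟩

theorem augSpan_mul_le (E : Subgroup G) : augSpan ρ E * augSpan ρ E ≤ augSpan ρ E := by
  rw [augSpan, Submodule.span_mul_span, Submodule.span_le]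
  rintro _ ⟨_, ⟨x, hx, rfl⟩, _, ⟨y, hy, rfl⟩, rfl⟩
  show (ρ x - 1) * (ρ y - 1) ∈ augSpan ρ E
  have e : (ρ x - 1) * (ρ y - 1) = (ρ (x * y) - 1) - (ρ x - 1) - (ρ y - 1) := by rw [map_mul]; noncomm_ring
  rw [e]
  exact sub_mem (sub_mem (sub_one_mem_augSpan (mul_mem hx hy)) (sub_one_mem_augSpan hx)) (sub_one_mem_augSpan hy)

theorem commute_of_mem_augSpan {E : Subgroup G} (hc : ∀ x ∈ E, ∀ y ∈ E, x * y = y * x) {f g : Module.End k V}
    (hf : f ∈ augSpan ρ E) (hg : g ∈ augSpan ρ E) : Commute f g := by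
  refine Submodule.span_induction (p := fun f _ => Commute f g) ?_ (Commute.zero_left g)
    (fun _ _ _ _ h h' => h.add_left h') (fun c _ _ h => h.smul_left c) hf
  rintro _ ⟨x, hx, rfl⟩
  refine Submodule.span_induction (p := fun g _ => Commute (ρ x - 1) g) ?_ (Commute.zero_right _)
    (fun _ _ _ _ h h' => h.add_right h') (fun c _ _ h => h.smul_right c) hg
  rintro _ ⟨y, hy, rfl⟩
  have h : Commute (ρ x) (ρ y) := by
    show ρ x * ρ y = ρ y * ρ x
    rw [← map_mul, ← map_mul, hc x hx y hy]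
  exact ((h.sub_left (Commute.one_left _)).sub_right (Commute.one_right _))

/-- The augmentation span of a `p`-group is nilpotent: it cannot fix a layer. -/
theorem augSpan_layer_eq_bot {E : Subgroup G} (hE : IsPGroup p E) {J : Submodule k (Module.End k V)}
    (h : J ≤ augSpan ρ E * J) (h' : augSpan ρ E * J ≤ J) : J = ⊥ := by
  classical
  let W : Submodule k V := Submodule.span k {v | ∃ f ∈ J, ∃ x, f x = v}
  let N : Submodule k V := Submodule.span k {v | ∃ x ∈ E, ∃ w ∈ W, ρ x w - w = v}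
  have hWN : W ≤ N := by
    refine Submodule.span_le.mpr ?_
    rintro _ ⟨f, hf, x, rfl⟩
    have hgen : ∀ g ∈ augSpan ρ E, ∀ w ∈ W, g w ∈ N := by
      intro g hg w hw
      refine Submodule.span_induction (p := fun g _ => g w ∈ N) ?_ (by simp)
        (fun _ _ _ _ h h' => by rw [LinearMap.add_apply]; exact add_mem h h')
        (fun c _ _ h => by rw [LinearMap.smul_apply]; exact Submodule.smul_mem _ c h) hg
      rintro _ ⟨y, hy, rfl⟩
      exact Submodule.subset_span ⟨y, hy, w, hw, by simp⟩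
    refine Submodule.mul_induction_on (C := fun g => g x ∈ N) (h hf) (fun g hg j hj => ?_)
      (fun _ _ h h' => by rw [LinearMap.add_apply]; exact add_mem h h')
    rw [Module.End.mul_apply]
    exact hgen g hg _ (Submodule.subset_span ⟨j, hj, x, rfl⟩)
  by_contra hJ
  obtain ⟨f, hf, hf0⟩ := (Submodule.ne_bot_iff _).mp hJ
  obtain ⟨x, hx⟩ : ∃ x, f x ≠ 0 := by
    by_contra hno
    push Not at hno
    exact hf0 (LinearMap.ext fun x => by simp [hno x])
  have hNW : N ≤ W := by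
    refine Submodule.span_le.mpr ?_
    rintro _ ⟨z, hz, w', hw', rfl⟩
    refine Submodule.span_induction (p := fun w' _ => ρ z w' - w' ∈ W) ?_ (by simp)
      (fun u u' _ _ h h' => by rw [map_add, add_sub_add_comm]; exact add_mem h h')
      (fun c u _ h => by rw [map_smul, ← smul_sub]; exact Submodule.smul_mem _ c h) hw'
    rintro _ ⟨g, hg, u, rfl⟩
    exact Submodule.subset_span
      ⟨(ρ z - 1) * g, h' (Submodule.mul_mem_mul (sub_one_mem_augSpan hz) hg), u, by simp⟩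
  have hWE : ∀ y ∈ E, ∀ w ∈ W, ρ y w ∈ W := fun y hy w hw => by
    simpa using add_mem (hNW (Submodule.subset_span ⟨y, hy, w, hw, rfl⟩)) hw
  let ρ0 : E →* Module.End k W :=
    { toFun := fun y => (ρ (y : G)).restrict (hWE y y.2)
      map_one' := LinearMap.ext fun v => Subtype.ext (by simp)
      map_mul' := fun y z => LinearMap.ext fun v => Subtype.ext (by simp) }
  let ρd : E →* Module.End k (Module.Dual k W) :=
    { toFun := fun y => (ρ0 y⁻¹).dualMap
      map_one' := by rw [inv_one, map_one]; rfl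
      map_mul' := fun y z => by rw [mul_inv_rev, map_mul]; rfl }
  obtain ⟨φ₀, hφ₀⟩ : ∃ φ₀ : Module.Dual k W, φ₀ ≠ 0 := by
    by_contra hno
    push Not at hno
    have hfx : f x ∈ W := Submodule.subset_span ⟨f, hf, x, rfl⟩
    refine hx (congrArg Subtype.val ((Module.forall_dual_apply_eq_zero_iff k (⟨f x, hfx⟩ : W)).mp fun φ => ?_))
    rw [hno φ, LinearMap.zero_apply]
  obtain ⟨φ, hφ0, hφ⟩ := exists_fixed_of_pGroup hE ρd hφ₀
  have hN : ∀ v (hv : v ∈ W), v ∈ N → φ ⟨v, hv⟩ = 0 := by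
    intro v hv hvN
    suffices hs : ∃ hv : v ∈ W, φ ⟨v, hv⟩ = 0 from hs.choose_spec
    refine Submodule.span_induction (p := fun v _ => ∃ hv : v ∈ W, φ ⟨v, hv⟩ = 0) ?_ ⟨zero_mem _, map_zero φ⟩
      ?_ ?_ hvN
    · rintro _ ⟨y, hy, w, hw, rfl⟩
      refine ⟨sub_mem (hWE y hy w hw) hw, ?_⟩
      have h1 := congrArg (fun ψ : Module.Dual k W => ψ ⟨w, hw⟩) (hφ (⟨y, hy⟩ : E)⁻¹)
      change φ (ρ0 ((⟨y, hy⟩ : E)⁻¹)⁻¹ ⟨w, hw⟩) = φ ⟨w, hw⟩ at h1
      rw [inv_inv] at h1
      show φ ((ρ0 ⟨y, hy⟩ ⟨w, hw⟩) - ⟨w, hw⟩) = 0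
      rw [map_sub, h1, sub_self]
    · rintro u u' _ _ ⟨hu, h1⟩ ⟨hu', h2⟩
      exact ⟨add_mem hu hu', (map_add φ ⟨u, hu⟩ ⟨u', hu'⟩).trans (by rw [h1, h2, add_zero])⟩
    · rintro c u _ ⟨hu, h1⟩
      exact ⟨Submodule.smul_mem _ c hu, (map_smul φ c ⟨u, hu⟩).trans (by rw [h1, smul_zero])⟩
  exact hφ0 (LinearMap.ext fun v => hN v v.2 (hWN v.2))

omit hp in
/-- An additive lift of a map additive modulo a subgroup. -/
theorem exists_additive_lift {p : ℕ} [Fact p.Prime] {A B : Type*} [AddCommGroup A] [AddCommGroup B]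
    [Module (ZMod p) A] [Module (ZMod p) B] (K : AddSubgroup B) (g : A → B)
    (hg : ∀ x y, g (x + y) - (g x + g y) ∈ K) : ∃ f : A →+ B, ∀ x, f x - g x ∈ K := by
  let b := Module.Basis.ofVectorSpace (ZMod p) A
  let f := b.constr ℕ fun j => g (b j)
  refine ⟨f.toAddMonoidHom, fun x => ?_⟩
  have h0 : g 0 ∈ K := by simpa using neg_mem (hg 0 0)
  let S0 : AddSubgroup A :=
    { carrier := {x | f x - g x ∈ K}
      zero_mem' := by simpa using h0
      add_mem' := fun {x y} hx hy => by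
        show f (x + y) - g (x + y) ∈ K
        have := sub_mem (add_mem hx hy) (hg x y)
        rw [map_add]
        convert this using 1
        abel
      neg_mem' := fun {x} hx => by
        show f (-x) - g (-x) ∈ K
        have := sub_mem (sub_mem (hg x (-x)) h0) hx
        rw [add_neg_cancel] at this
        rw [map_neg]
        convert this using 1
        abel }
  have hle : Submodule.span (ZMod p) (Set.range b) ≤ AddSubgroup.toZModSubmodule p S0 := by
    refine Submodule.span_le.mpr ?_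
    rintro _ ⟨j, rfl⟩
    show f (b j) - _ ∈ K
    rw [Module.Basis.constr_basis, sub_self]
    exact zero_mem _
  exact hle (b.span_eq ▸ Submodule.mem_top)

/-- An equivariant linearisation. -/
theorem exists_linearization (hR : RepData a r ρ T) (hrk : (r : k) ≠ 0) (hap : a ^ r = 1) {U E : Subgroup G}
    (hUk : (Nat.card U : k) ≠ 0) (hUa : Inv a U) (hEc : ∀ x ∈ E, ∀ y ∈ E, x * y = y * x)
    (hEp : ∀ x ∈ E, x ^ p = 1) (hEa : Inv a E) (hUE : U ≤ normalizer (E : Set G)) :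
    ∃ ℓ : G → Module.End k V, (∀ x ∈ E, ∀ y ∈ E, ℓ (x * y) = ℓ x + ℓ y) ∧
      (∀ u ∈ U, ∀ x ∈ E, ρ u * ℓ x * ρ u⁻¹ = ℓ (u * x * u⁻¹)) ∧
      (∀ x ∈ E, T * ℓ x * T ^ (r - 1) = ℓ (a x)) ∧
      (∀ x ∈ E, ∀ y ∈ E, Commute (ℓ x) (ℓ y)) ∧
      ((∀ x ∈ E, ∀ y ∈ E, ∀ z ∈ E, ℓ x * ℓ y * ℓ z = 0) →
        ∀ x ∈ E, (ρ x - 1) * (ρ x - 1) = ℓ x * ℓ x) := by
  classical
  set I := augSpan ρ E
  have hE : IsPGroup p E := fun x => ⟨1, Subtype.ext (by rw [pow_one, SubmonoidClass.coe_pow]; exact hEp x x.2)⟩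
  -- an additive lift
  let _ : CommGroup E := { (inferInstance : Group E) with mul_comm := fun x y => Subtype.ext (hEc x x.2 y y.2) }
  have hA0 : ∀ x : Additive E, p • x = 0 := fun x => by
    apply Additive.toMul.injective
    rw [toMul_nsmul, toMul_zero]
    exact Subtype.ext (hEp _ (Additive.toMul x).2)
  have hB0 : ∀ f : Module.End k V, p • f = 0 := fun f => by
    rw [← Nat.cast_smul_eq_nsmul k, CharP.cast_eq_zero, zero_smul]
  let _ : Module (ZMod p) (Additive E) := AddCommGroup.zmodModule hA0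
  let _ : Module (ZMod p) (Module.End k V) := AddCommGroup.zmodModule hB0
  obtain ⟨ℓ0, hℓ0⟩ := exists_additive_lift (p := p) (I * I).toAddSubgroup
    (fun x : Additive E => ρ ((Additive.toMul x : E) : G) - 1) fun x y => by
      show _ ∈ I * I
      have e : ρ ((Additive.toMul (x + y) : E) : G) - 1 - ((ρ ((Additive.toMul x : E) : G) - 1) +
          (ρ ((Additive.toMul y : E) : G) - 1)) =
          (ρ ((Additive.toMul x : E) : G) - 1) * (ρ ((Additive.toMul y : E) : G) - 1) := by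
        rw [toMul_add, Subgroup.coe_mul, map_mul]; noncomm_ring
      rw [e]
      exact Submodule.mul_mem_mul (sub_one_mem_augSpan (Additive.toMul x).2)
        (sub_one_mem_augSpan (Additive.toMul y).2)
  have hcong : ∀ x : Additive E, ℓ0 x - (ρ ((Additive.toMul x : E) : G) - 1) ∈ I * I := hℓ0
  let L : G → Module.End k V := fun x => if h : x ∈ E then ℓ0 (Additive.ofMul ⟨x, h⟩) else 0
  have hLadd : ∀ x ∈ E, ∀ y ∈ E, L (x * y) = L x + L y := by
    intro x hx y hy
    simp only [L, dif_pos hx, dif_pos hy, dif_pos (mul_mem hx hy)]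
    rw [← map_add]
    rfl
  have hLc : ∀ x ∈ E, L x - (ρ x - 1) ∈ I * I := fun x hx => by
    simp only [L, dif_pos hx]
    exact hcong (Additive.ofMul ⟨x, hx⟩)
  have hII : I * I ≤ I := augSpan_mul_le E
  -- conjugations
  have hconj : ∀ (A B : Module.End k V) (σ : G → G), B * A = 1 → (∀ x ∈ E, σ x ∈ E) →
      (∀ x ∈ E, A * ρ x * B = ρ (σ x)) → A * B = 1 → ∀ f ∈ I * I, A * f * B ∈ I * I := by
    intro A B σ hBA hσ hσρ hAB f hf
    have h1 : ∀ g ∈ I, A * g * B ∈ I := by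
      intro g hg
      refine Submodule.span_induction (p := fun g _ => A * g * B ∈ I) ?_ (by simp)
        (fun _ _ _ _ h h' => by rw [mul_add, add_mul]; exact add_mem h h')
        (fun c _ _ h => by rw [mul_smul_comm, smul_mul_assoc]; exact Submodule.smul_mem _ c h) hg
      rintro _ ⟨y, hy, rfl⟩
      rw [mul_sub, sub_mul, hσρ y hy, mul_one, hAB]
      exact sub_one_mem_augSpan (hσ y hy)
    refine Submodule.mul_induction_on (C := fun f => A * f * B ∈ I * I) hf (fun g hg g' hg' => ?_)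
      (fun _ _ h h' => by rw [mul_add, add_mul]; exact add_mem h h')
    have e : A * (g * g') * B = (A * g * B) * (A * g' * B) := by
      simp only [mul_assoc]; rw [← mul_assoc B A, hBA, one_mul]
    rw [e]
    exact Submodule.mul_mem_mul (h1 g hg) (h1 g' hg')
  -- average over `U`
  let _ := Fintype.ofFinite U
  let L1 : G → Module.End k V := fun x => (Nat.card U : k)⁻¹ • ∑ u : U, ρ u * L ((u : G)⁻¹ * x * u) * ρ (u : G)⁻¹
  have hUx : ∀ u ∈ U, ∀ x ∈ E, u * x * u⁻¹ ∈ E := fun u hu x hx => (mem_normalizer_iff.mp (hUE hu) x).mp hx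
  have hUx' : ∀ u ∈ U, ∀ x ∈ E, u⁻¹ * x * u ∈ E := fun u hu x hx => by
    simpa using hUx _ (inv_mem hu) x hx
  have h1add : ∀ x ∈ E, ∀ y ∈ E, L1 (x * y) = L1 x + L1 y := by
    intro x hx y hy
    simp only [L1, ← smul_add, ← Finset.sum_add_distrib]
    refine congrArg _ (Finset.sum_congr rfl fun u _ => ?_)
    rw [show (u : G)⁻¹ * (x * y) * u = ((u : G)⁻¹ * x * u) * ((u : G)⁻¹ * y * u) by group,
      hLadd _ (hUx' u u.2 x hx) _ (hUx' u u.2 y hy), mul_add, add_mul]
  have h1eq : ∀ v ∈ U, ∀ x ∈ E, ρ v * L1 x * ρ v⁻¹ = L1 (v * x * v⁻¹) := by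
    intro v hv x _
    simp only [L1, mul_smul_comm, smul_mul_assoc, Finset.mul_sum, Finset.sum_mul]
    refine congrArg _ (Fintype.sum_equiv (Equiv.mulLeft (⟨v, hv⟩ : U)) _ _ fun u => ?_)
    simp only [Equiv.coe_mulLeft, Subgroup.coe_mul, mul_inv_rev, map_mul]
    rw [show (u : G)⁻¹ * v⁻¹ * (v * x * v⁻¹) * (v * u) = (u : G)⁻¹ * x * u by group]
    simp only [mul_assoc]
  have hmean : ∀ (n : ℕ) (c : k) (f : Module.End k V), c = n → c ≠ 0 → c⁻¹ • (n • f) = f := fun n c f hc h => by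
    rw [← Nat.cast_smul_eq_nsmul k, ← hc, smul_smul, inv_mul_cancel₀ h, one_smul]
  have h1c : ∀ x ∈ E, L1 x - (ρ x - 1) ∈ I * I := by
    intro x hx
    have e : L1 x - (ρ x - 1) = (Nat.card U : k)⁻¹ •
        ∑ u : U, ρ u * (L ((u : G)⁻¹ * x * u) - (ρ ((u : G)⁻¹ * x * u) - 1)) * ρ (u : G)⁻¹ := by
      conv_lhs => rw [← hmean _ _ (ρ x - 1) rfl hUk]
      simp only [L1, ← smul_sub]
      rw [Nat.card_eq_fintype_card, ← Finset.card_univ, ← Finset.sum_const, ← Finset.sum_sub_distrib]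
      refine congrArg _ (Finset.sum_congr rfl fun u _ => ?_)
      have e1 : ρ u * ρ ((u : G)⁻¹ * x * u) * ρ (u : G)⁻¹ = ρ x := by rw [← map_mul, ← map_mul]; congr 1; group
      rw [mul_sub, sub_mul, mul_sub, sub_mul, e1, mul_one, ← map_mul, mul_inv_cancel, map_one]
    rw [e]
    refine Submodule.smul_mem _ _ (Submodule.sum_mem _ fun u _ => ?_)
    refine hconj _ _ (fun y => u * y * (u : G)⁻¹) ?_ (hUx u u.2) (fun y _ => ?_) ?_ _ (hLc _ (hUx' u u.2 x hx))
    · rw [← map_mul, inv_mul_cancel, map_one]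
    · rw [← map_mul, ← map_mul]
    · rw [← map_mul, mul_inv_cancel, map_one]
  -- average over the powers of `a`
  let L2 : G → Module.End k V := fun x =>
    (r : k)⁻¹ • ∑ i ∈ Finset.range r, T ^ i * L1 ((a ^ (r - i)) x) * T ^ (r - i)
  have hTr : T ^ r = 1 := hR.pow_eq_one
  have hap' : ∀ x : G, (a ^ r) x = x := fun x => by rw [hap]; rfl
  have h2add : ∀ x ∈ E, ∀ y ∈ E, L2 (x * y) = L2 x + L2 y := by
    intro x hx y hy
    simp only [L2, ← smul_add, ← Finset.sum_add_distrib]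
    refine congrArg _ (Finset.sum_congr rfl fun i _ => ?_)
    rw [map_mul, h1add _ (hEa.apply_pow _ hx) _ (hEa.apply_pow _ hy), mul_add, add_mul]
  have hTU : ∀ (i : ℕ) (u : G), T ^ i * ρ u = ρ ((a ^ i) u) * T ^ i := fun i u => hR.pow_compat i u
  have h2eq : ∀ v ∈ U, ∀ x ∈ E, ρ v * L2 x * ρ v⁻¹ = L2 (v * x * v⁻¹) := by
    intro v hv x hx
    simp only [L2, mul_smul_comm, smul_mul_assoc, Finset.mul_sum, Finset.sum_mul]
    refine congrArg _ (Finset.sum_congr rfl fun i hi => ?_)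
    have hir := Finset.mem_range.mp hi
    set v' := (a ^ (r - i)) v
    have hv' : (a ^ i) v' = v := by
      rw [← MulAut.mul_apply, ← pow_add, Nat.add_sub_cancel' hir.le, hap']
    have e1 : ρ v * T ^ i = T ^ i * ρ v' := by rw [hTU, hv']
    have e2 : T ^ (r - i) * ρ v⁻¹ = ρ v'⁻¹ * T ^ (r - i) := by rw [hTU, map_inv]
    calc ρ v * (T ^ i * L1 ((a ^ (r - i)) x) * T ^ (r - i)) * ρ v⁻¹
        = (ρ v * T ^ i) * L1 ((a ^ (r - i)) x) * (T ^ (r - i) * ρ v⁻¹) := by simp only [mul_assoc]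
      _ = T ^ i * (ρ v' * L1 ((a ^ (r - i)) x) * ρ v'⁻¹) * T ^ (r - i) := by rw [e1, e2]; simp only [mul_assoc]
      _ = _ := by
        rw [h1eq v' (hUa.apply_pow _ hv) _ (hEa.apply_pow _ hx), map_mul, map_mul, map_inv]
  have h2T : ∀ x ∈ E, T * L2 x * T ^ (r - 1) = L2 (a x) := by
    intro x _
    obtain ⟨q, hq⟩ : ∃ q, r = q + 1 := ⟨r - 1, by
      rcases Nat.eq_zero_or_pos r with h | h
      · exact absurd (by rw [h]; simp) hrk
      · omega⟩
    subst hq
    simp only [L2, mul_smul_comm, smul_mul_assoc, Finset.mul_sum, Finset.sum_mul, Nat.add_sub_cancel]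
    refine congrArg _ ?_
    let F : ℕ → Module.End k V := fun i => T ^ i * L1 ((a ^ (q + 1 - i)) (a x)) * T ^ (q + 1 - i)
    rw [show ∑ i ∈ Finset.range (q + 1), T ^ i * L1 ((a ^ (q + 1 - i)) (a x)) * T ^ (q + 1 - i) =
      ∑ i ∈ Finset.range (q + 1), F i from rfl, Finset.sum_range_succ' F, Finset.sum_range_succ]
    refine congrArg₂ (· + ·) (Finset.sum_congr rfl fun i hi => ?_) ?_
    · have hir := Finset.mem_range.mp hi
      have e1 : T ^ (q + 1 - i) * T ^ q = T ^ (q + 1 - (i + 1)) := by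
        rw [← pow_add, show q + 1 - i + q = (q + 1 - (i + 1)) + (q + 1) by omega, pow_add, hTr, mul_one]
      have e2 : (a ^ (q + 1 - (i + 1))) (a x) = (a ^ (q + 1 - i)) x := by
        rw [← MulAut.mul_apply, ← pow_succ, show q + 1 - (i + 1) + 1 = q + 1 - i by omega]
      show T * (T ^ i * L1 _ * T ^ (q + 1 - i)) * T ^ q = T ^ (i + 1) * L1 _ * T ^ (q + 1 - (i + 1))
      rw [e2, ← e1, pow_succ']
      simp only [mul_assoc]
    · show T * (T ^ q * L1 _ * T ^ (q + 1 - q)) * T ^ q = T ^ 0 * L1 ((a ^ (q + 1 - 0)) (a x)) * T ^ (q + 1 - 0)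
      rw [Nat.sub_zero, hap', hTr, pow_zero, show q + 1 - q = 1 by omega, pow_one, pow_one, mul_one, one_mul,
        ← mul_assoc, ← mul_assoc, ← pow_succ', hTr, one_mul, mul_assoc, ← pow_succ', hTr, mul_one]
  have h2c : ∀ x ∈ E, L2 x - (ρ x - 1) ∈ I * I := by
    intro x hx
    have e : L2 x - (ρ x - 1) = (r : k)⁻¹ • ∑ i ∈ Finset.range r,
        T ^ i * (L1 ((a ^ (r - i)) x) - (ρ ((a ^ (r - i)) x) - 1)) * T ^ (r - i) := by
      conv_lhs => rw [← hmean r (r : k) (ρ x - 1) rfl hrk]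
      simp only [L2, ← smul_sub]
      rw [show r • (ρ x - 1) = ∑ i ∈ Finset.range r, (ρ x - 1) by rw [Finset.sum_const, Finset.card_range],
        ← Finset.sum_sub_distrib]
      refine congrArg _ (Finset.sum_congr rfl fun i hi => ?_)
      have hir := Finset.mem_range.mp hi
      have e1 : T ^ i * ρ ((a ^ (r - i)) x) * T ^ (r - i) = ρ x := by
        rw [hTU, ← MulAut.mul_apply, ← pow_add, Nat.add_sub_cancel' hir.le, hap', mul_assoc, ← pow_add,
          Nat.add_sub_cancel' hir.le, hTr, mul_one]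
      rw [mul_sub, sub_mul, mul_sub, sub_mul, e1, mul_one, ← pow_add, Nat.add_sub_cancel' hir.le, hTr]
    rw [e]
    refine Submodule.smul_mem _ _ (Submodule.sum_mem _ fun i hi => ?_)
    have hir := (Finset.mem_range.mp hi).le
    refine hconj _ _ (fun y => (a ^ i) y) ?_ (fun y hy => hEa.apply_pow i hy) (fun y _ => ?_) ?_ _
      (h1c _ (hEa.apply_pow _ hx))
    · rw [← pow_add, Nat.sub_add_cancel hir, hTr]
    · rw [hTU, mul_assoc, ← pow_add, Nat.add_sub_cancel' hir, hTr, mul_one]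
    · rw [← pow_add, Nat.add_sub_cancel' hir, hTr]
  have hI : ∀ x ∈ E, L2 x ∈ I := fun x hx => by
    simpa using add_mem (hII (h2c x hx)) (sub_one_mem_augSpan (ρ := ρ) hx)
  refine ⟨L2, h2add, h2eq, h2T, fun x hx y hy => commute_of_mem_augSpan hEc (hI x hx) (hI y hy),
    fun htri x hx => ?_⟩
  -- `I ^ 3 = 0`
  let Lsp : Submodule k (Module.End k V) := Submodule.span k (L2 '' (E : Set G))
  have hIL : I ≤ Lsp ⊔ I * I := by
    refine Submodule.span_le.mpr ?_
    rintro _ ⟨y, hy, rfl⟩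
    show ρ y - 1 ∈ Lsp ⊔ I * I
    rw [show ρ y - 1 = L2 y - (L2 y - (ρ y - 1)) by abel]
    exact sub_mem (Submodule.mem_sup_left (Submodule.subset_span ⟨y, hy, rfl⟩)) (Submodule.mem_sup_right (h2c y hy))
  have hLI : Lsp ≤ I := Submodule.span_le.mpr (by rintro _ ⟨y, hy, rfl⟩; exact hI y hy)
  have hLLL : Lsp * Lsp * Lsp = ⊥ := by
    simp only [Lsp, Submodule.span_mul_span, Submodule.span_eq_bot]
    rintro _ ⟨_, ⟨_, ⟨y, hy, rfl⟩, _, ⟨z, hz, rfl⟩, rfl⟩, _, ⟨w, hw, rfl⟩, rfl⟩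
    exact htri y hy z hz w hw
  have hdist : ∀ A B : Submodule k (Module.End k V), A ≤ I → B ≤ I → A * I * B ≤ A * Lsp * B ⊔ I * I * I * I := by
    intro A B hA hB
    refine (mul_le_mul_left (mul_le_mul_right hIL A) B).trans ?_
    rw [Submodule.mul_sup, Submodule.sup_mul]
    refine sup_le_sup le_rfl ?_
    calc A * (I * I) * B ≤ I * (I * I) * I := mul_le_mul' (mul_le_mul' hA le_rfl) hB
      _ = _ := by simp only [mul_assoc]
  have hI3 : I * I * I ≤ I * I * I * I := by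
    refine (hdist I I le_rfl le_rfl).trans (sup_le ?_ le_rfl)
    have h1 : I * Lsp * I ≤ Lsp * Lsp * I ⊔ I * I * I * I := by
      refine (mul_le_mul_left (mul_le_mul_left hIL Lsp) I).trans ?_
      rw [Submodule.sup_mul, Submodule.sup_mul]
      refine sup_le_sup le_rfl ?_
      calc I * I * Lsp * I ≤ I * I * I * I := mul_le_mul' (mul_le_mul' le_rfl hLI) le_rfl
        _ = _ := rfl
    refine h1.trans (sup_le ?_ le_rfl)
    refine (mul_le_mul_right hIL (Lsp * Lsp)).trans ?_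
    rw [Submodule.mul_sup, hLLL, bot_sup_eq]
    calc Lsp * Lsp * (I * I) ≤ I * I * (I * I) := mul_le_mul' (mul_le_mul' hLI hLI) le_rfl
      _ = _ := by simp only [mul_assoc]
  have hbot : I * I * I = ⊥ := by
    refine augSpan_layer_eq_bot (ρ := ρ) hE ?_ ?_
    · refine hI3.trans (le_of_eq ?_)
      simp only [mul_assoc]; rfl
    · calc I * (I * I * I) = (I * I) * I * I := by simp only [mul_assoc]
        _ ≤ I * I * I := mul_le_mul' (mul_le_mul' hII le_rfl) le_rfl
  set d := L2 x - (ρ x - 1) with hd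
  have hdI : d ∈ I * I := h2c x hx
  have hNx : ρ x - 1 = L2 x - d := by rw [hd]; abel
  have h3 : ∀ f ∈ I * I * I, f = 0 := fun f hf => by rw [hbot, Submodule.mem_bot] at hf; exact hf
  have z1 : L2 x * d = 0 := h3 _ (by
    rw [mul_assoc]; exact Submodule.mul_mem_mul (hI x hx) hdI)
  have z2 : d * L2 x = 0 := h3 _ (Submodule.mul_mem_mul hdI (hI x hx))
  have z3 : d * d = 0 := h3 _ (Submodule.mul_mem_mul hdI (hII hdI))
  clear_value d
  rw [hNx, sub_mul, mul_sub, mul_sub, z1, z2, z3]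
  abel

end Cfsg.Agent.H24.Flav
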