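import Cfsg.Agent.H24.Flav.CoreModule
import Cfsg.Agent.H24.Flav.CoreScalar
import Cfsg.Agent.H24.Flav.Linearize

/-!
An irreducible moved piece contains an element acting quadratically.
-/

set_option autoImplicit false
set_option linter.unusedSectionVars false

namespace Cfsg.Agent.H24.Flav

open Subgroup
open Cfsg.Agent.H8.Shult hiding Min
open scoped commutatorElement

universe u v w

variable {G : Type u} [Group G] [Finite G] {p r : ℕ} [hp : Fact p.Prime] {a : MulAut G}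
variable {k : Type w} [Field k] [CharP k p] {V : Type v} [AddCommGroup V] [Module k V]
variable [IsAlgClosed k] [FiniteDimensional k V]
variable {ρ : G →* Module.End k V} {T : Module.End k V}
variable {D : UData a}

/-- Products through two characters with a common radical vanish. -/
def BadVanish (ρ : G →* Module.End k V) (T : Module.End k V) (D : UData a) (r : ℕ) : Prop :=
  ∀ m, ∀ hS : Shape ρ D r m, ∀ χ ψ : D.W →* ℤˣ, Occ ρ D χ → Occ ρ D ψ → χ ≠ ψ →
    rad hS.sp χ = rad hS.sp ψ → ∀ L : Submodule k (Module.End k V),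
    (∀ u ∈ D.U, ∀ f ∈ L, ρ u * f * ρ u⁻¹ ∈ L) → (∀ f ∈ L, T * f * T ^ (r - 1) ∈ L) →
    (∀ f ∈ L, ∀ g ∈ L, f * g = g * f) → (∀ f ∈ L, ∀ v ∈ weight ρ D χ, f v ∈ weight ρ D ψ) →
    (∀ f ∈ L, ∀ v ∈ weight ρ D ψ, f v ∈ weight ρ D χ) →
    ∀ f ∈ L, ∀ g ∈ L, ∀ v ∈ weight ρ D χ, f (g v) = 0

theorem sgn_units (e : ℤˣ) : sgn k e * sgn k e = 1 := by
  rw [← sgn_mul, Int.units_mul_self, sgn_one]

namespace Cfg

variable (M : Cfg p r a ρ T)
include M

/-- The sign character through which `W` acts on an irreducible piece. -/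
theorem exists_piece_char (hsp : Special2 a D.U) {E : Subgroup G} (P : Piece p D E) :
    ∃ μ : D.W →* ℤˣ, ∀ w : D.W, ∀ x ∈ E, (w : G) * x * (w : G)⁻¹ = x ^ ((μ w : ℤ)) := by
  classical
  have hdich : ∀ w : D.W, (∀ x ∈ E, (w : G) * x * (w : G)⁻¹ = x) ∨ ∀ x ∈ E, (w : G) * x * (w : G)⁻¹ = x⁻¹ := by
    intro w
    let X : Subgroup G :=
      { carrier := {x | x ∈ E ∧ (w : G) * x * (w : G)⁻¹ = x}
        one_mem' := ⟨one_mem _, by simp⟩
        mul_mem' := fun {x y} hx hy => ⟨mul_mem hx.1 hy.1, by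
          calc (w : G) * (x * y) * (w : G)⁻¹ = ((w : G) * x * (w : G)⁻¹) * ((w : G) * y * (w : G)⁻¹) := by group
            _ = x * y := by rw [hx.2, hy.2]⟩
        inv_mem' := fun {x} hx => ⟨inv_mem hx.1, by
          calc (w : G) * x⁻¹ * (w : G)⁻¹ = ((w : G) * x * (w : G)⁻¹)⁻¹ := by group
            _ = x⁻¹ := by rw [hx.2]⟩ }
    have hXa : Inv a X := fun x hx => ⟨P.inv x hx.1, by
      have h := congrArg a hx.2
      rwa [map_mul, map_mul, map_inv, mem_fixedBy.mp w.2.2] at h⟩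
    have hwU : ∀ u ∈ D.U, (w : G) * u = u * w := fun u hu => hsp.fix_central w w.2 u hu
    have hXU : D.U ≤ normalizer (X : Set G) := le_normalizer_iff.mpr fun u hu x hx =>
      ⟨(mem_normalizer_iff.mp (P.normal hu) x).mp hx.1, by
        calc (w : G) * (u * x * u⁻¹) * (w : G)⁻¹ = ((w : G) * u) * x * ((w : G) * u)⁻¹ := by group
          _ = u * ((w : G) * x * (w : G)⁻¹) * u⁻¹ := by rw [hwU u hu]; group
          _ = u * x * u⁻¹ := by rw [hx.2]⟩
    rcases P.irr X (fun x hx => hx.1) hXa hXU with h | h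
    · refine Or.inr fun x hx => ?_
      have hwx : (w : G) * x * (w : G)⁻¹ ∈ E := (mem_normalizer_iff.mp (P.normal w.2.1) x).mp hx
      have h1 : x * ((w : G) * x * (w : G)⁻¹) ∈ X := ⟨mul_mem hx hwx, by
        have hw2 : (w : G) * w = 1 := hsp.fix_sq w w.2
        have hwi : (w : G)⁻¹ = w := inv_eq_of_mul_eq_one_right hw2
        calc (w : G) * (x * ((w : G) * x * (w : G)⁻¹)) * (w : G)⁻¹
            = ((w : G) * x * (w : G)⁻¹) * (((w : G) * w) * x * ((w : G) * w)⁻¹) := by group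
          _ = ((w : G) * x * (w : G)⁻¹) * x := by rw [hw2]; simp
          _ = _ := P.comm _ hwx _ hx⟩
      rw [h, Subgroup.mem_bot] at h1
      exact eq_inv_of_mul_eq_one_right h1
    · exact Or.inl fun x hx => (h.symm ▸ hx : x ∈ X).2
  obtain ⟨x0, hx0, hx01⟩ := E.bot_or_exists_ne_one.resolve_left P.ne_bot
  have hinj : x0 ≠ x0⁻¹ := fun h => hx01 (Subgroup.mem_bot.mp (mem_of_two_pow_mem M.odd (P := ⊥) (j := 1)
    (Subgroup.mem_bot.mpr (by rw [pow_one, sq]; nth_rw 1 [h]; exact inv_mul_cancel x0))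
    (n := 1) (by rw [pow_one]; exact P.exp x0 hx0)))
  let e : D.W → ℤˣ := fun w => if ∀ x ∈ E, (w : G) * x * (w : G)⁻¹ = x then 1 else -1
  have he : ∀ w : D.W, ∀ x ∈ E, (w : G) * x * (w : G)⁻¹ = x ^ ((e w : ℤ)) := by
    intro w x hx
    by_cases h : ∀ x ∈ E, (w : G) * x * (w : G)⁻¹ = x
    · rw [show e w = 1 from if_pos h]; simpa using h x hx
    · rw [show e w = -1 from if_neg h]; simpa using (hdich w).resolve_left h x hx
  have hu : ∀ e₁ e₂ : ℤˣ, x0 ^ (e₁ : ℤ) = x0 ^ (e₂ : ℤ) → e₁ = e₂ := fun e₁ e₂ h => by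
    rcases Int.units_eq_one_or e₁ with rfl | rfl <;> rcases Int.units_eq_one_or e₂ with rfl | rfl <;>
      simp at h ⊢ <;> first | exact hinj h | exact hinj h.symm
  refine ⟨{ toFun := e, map_one' := hu _ _ ?_, map_mul' := fun v w => hu _ _ ?_ }, he⟩
  · rw [← he 1 x0 hx0]; simp
  · rw [← he _ x0 hx0, Units.val_mul, Int.mul_comm (e v : ℤ), zpow_mul, ← he w x0 hx0,
      ← he v _ ((mem_normalizer_iff.mp (P.normal w.2.1) x0).mp hx0), Subgroup.coe_mul]
    group

/-- A quadratic element in an irreducible moved piece. -/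
theorem exists_quadratic {m : ℕ} (hS : Shape ρ D r m) (hbad : BadVanish ρ T D r) {E : Subgroup G}
    (P : Piece p D E) : ∃ t ∈ E, t ≠ 1 ∧ (ρ t - 1) * (ρ t - 1) = 0 := by
  classical
  have hsp := hS.sp
  obtain ⟨μ, hμ⟩ := M.exists_piece_char hsp P
  obtain ⟨ℓ, hadd, heqU, heqT, hcomm, htri⟩ := exists_linearization M.rep M.r_ne_zero M.coprimely.pow
    (M.natCard_two_ne_zero D.isPGroup_U) D.inv_U P.comm P.exp P.inv P.normal
  have hUE : ∀ u ∈ D.U, ∀ x ∈ E, u * x * u⁻¹ ∈ E := fun u hu x hx =>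
    (mem_normalizer_iff.mp (P.normal hu) x).mp hx
  have hl1 : ℓ 1 = 0 := by
    have h := hadd 1 (one_mem _) 1 (one_mem _)
    rwa [one_mul, left_eq_add] at h
  have hlinv : ∀ x ∈ E, ℓ x⁻¹ = -ℓ x := fun x hx => by
    have h := hadd _ (inv_mem hx) x hx
    rw [inv_mul_cancel, hl1] at h
    exact eq_neg_of_add_eq_zero_left h.symm
  have hlpow : ∀ x ∈ E, ∀ n : ℕ, ℓ (x ^ n) = n • ℓ x := fun x hx n => by
    induction n with
    | zero => simp [hl1]
    | succ n ih => rw [pow_succ, hadd _ (pow_mem hx n) _ hx, ih, succ_nsmul]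
  have hlsgn : ∀ x ∈ E, ∀ e : ℤˣ, ℓ (x ^ (e : ℤ)) = sgn k e • ℓ x := fun x hx e => by
    rcases Int.units_eq_one_or e with rfl | rfl
    · simp [sgn_one]
    · simp [sgn_neg_one, hlinv x hx]
  have hcancel : ∀ g : G, ρ g⁻¹ * ρ g = 1 := fun g => by rw [← map_mul, inv_mul_cancel, map_one]
  have hUl : ∀ u ∈ D.U, ∀ x ∈ E, ρ u * ℓ x = ℓ (u * x * u⁻¹) * ρ u := fun u hu x hx => by
    rw [← heqU u hu x hx, mul_assoc, hcancel, mul_one]
  have hTl : ∀ x ∈ E, ∀ v, ℓ (a x) v = T (ℓ x ((T ^ (r - 1) : Module.End k V) v)) := fun x hx v => by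
    rw [← heqT x hx]; rfl
  have hTpow : ∀ (n : ℕ) (χ : D.W →* ℤˣ) v, v ∈ weight ρ D χ → (T ^ n) v ∈ weight ρ D χ := fun n χ v hv => by
    induction n with
    | zero => exact hv
    | succ n ih => rw [pow_succ', Module.End.mul_apply]; exact M.weight_inv_T ih
  have hTT : ∀ w, (T ^ (r - 1) : Module.End k V) (T w) = w := fun w => by
    rw [← Module.End.mul_apply, ← pow_succ, show r - 1 + 1 = r from
      Nat.succ_pred_eq_of_pos M.coprimely.prime.pos, M.rep.pow_eq_one, Module.End.one_apply]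
  have hTT' : ∀ w, T ((T ^ (r - 1) : Module.End k V) w) = w := fun w => by
    rw [← Module.End.mul_apply, ← pow_succ', show r - 1 + 1 = r from
      Nat.succ_pred_eq_of_pos M.coprimely.prime.pos, M.rep.pow_eq_one, Module.End.one_apply]
  have hmap : ∀ χ : D.W →* ℤˣ, ∀ x ∈ E, ∀ v ∈ weight ρ D χ, ℓ x v ∈ weight ρ D (χ * μ) := by
    intro χ x hx v hv
    rw [mem_weight]
    intro w
    rw [← Module.End.mul_apply, hUl w w.2.1 x hx, hμ w x hx, hlsgn x hx, Module.End.mul_apply,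
      mem_weight.mp hv w, map_smul, LinearMap.smul_apply, smul_smul, MonoidHom.mul_apply, sgn_mul]
  have hμ2 : ∀ χ : D.W →* ℤˣ, χ * μ * μ = χ := fun χ => MonoidHom.ext fun x => by
    simp only [MonoidHom.mul_apply, mul_assoc, Int.units_mul_self, mul_one]
  -- invariant normalised subsets closed under the group laws fill `E`
  have hfill : ∀ X : Subgroup G, X ≤ E → Inv a X → D.U ≤ normalizer (X : Set G) →
      (∃ x ∈ X, x ≠ 1) → X = E := fun X h1 h2 h3 ⟨x, hx, hx1⟩ =>
    (P.irr X h1 h2 h3).resolve_left fun h => hx1 (Subgroup.mem_bot.mp (h ▸ hx))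
  obtain ⟨x₁, hx₁, u₁, hu₁, hne₁⟩ : ∃ x ∈ E, ∃ u ∈ D.U, u * x * u⁻¹ ≠ x := by
    by_contra hno
    push Not at hno
    refine P.ne_bot ((Subgroup.eq_bot_iff_forall _).mpr fun x hx => Subgroup.mem_bot.mp (P.moved ▸ ⟨hx, ?_⟩))
    exact mem_centralizer_iff.mpr fun u hu => by
      conv_rhs => rw [← hno x hx u hu, inv_mul_cancel_right]
  -- pairs starting at a nontrivial weight vanish
  have hpair : ∀ χ : D.W →* ℤˣ, χ ≠ 1 → ∀ x ∈ E, ∀ y ∈ E, ∀ v ∈ weight ρ D χ, ℓ x (ℓ y v) = 0 := by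
    intro χ hχ1
    by_cases hχ0 : weight ρ D χ = ⊥
    · intro x _ y _ v hv
      rw [hχ0, Submodule.mem_bot] at hv
      rw [hv, map_zero, map_zero]
    have hχ : Occ ρ D χ := ⟨hχ1, hχ0⟩
    by_cases hψ0 : weight ρ D (χ * μ) = ⊥
    · intro x _ y hy v hv
      have h := hmap χ y hy v hv
      rw [hψ0, Submodule.mem_bot] at h
      rw [h, map_zero]
    by_cases hμ1 : μ = 1
    · subst hμ1
      simp only [mul_one] at hmap
      -- a common eigenvector of `U`
      let 𝔉 : Set (Subgroup G) := {X | X ≤ E ∧ X ≠ ⊥ ∧ D.U ≤ normalizer (X : Set G)}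
      obtain ⟨X₀, hX₀, hmin⟩ := Set.exists_min_image 𝔉 (fun X => Nat.card X) (Set.toFinite _)
        ⟨E, le_rfl, P.ne_bot, P.normal⟩
      obtain ⟨hX₀E, hX₀b, hX₀U⟩ := hX₀
      obtain ⟨e, he, he1⟩ := X₀.bot_or_exists_ne_one.resolve_left hX₀b
      have heE := hX₀E he
      have hWfix : ∀ w ∈ D.W, ∀ x ∈ E, w * x * w⁻¹ = x := fun w hw x hx => by
        simpa using hμ ⟨w, hw⟩ x hx
      have hsign : ∀ u ∈ D.U, u * e * u⁻¹ = e ∨ u * e * u⁻¹ = e⁻¹ := by
        intro u hu
        let X : Subgroup G :=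
          { carrier := {x | x ∈ X₀ ∧ u * x * u⁻¹ = x}
            one_mem' := ⟨one_mem _, by simp⟩
            mul_mem' := fun {x y} hx hy => ⟨mul_mem hx.1 hy.1, by
              calc u * (x * y) * u⁻¹ = (u * x * u⁻¹) * (u * y * u⁻¹) := by group
                _ = x * y := by rw [hx.2, hy.2]⟩
            inv_mem' := fun {x} hx => ⟨inv_mem hx.1, by
              calc u * x⁻¹ * u⁻¹ = (u * x * u⁻¹)⁻¹ := by group
                _ = x⁻¹ := by rw [hx.2]⟩ }
        have hXU : D.U ≤ normalizer (X : Set G) := le_normalizer_iff.mpr fun v hv x hx => by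
          have hvx : v * x * v⁻¹ ∈ X₀ := (mem_normalizer_iff.mp (hX₀U hv) x).mp hx.1
          refine ⟨hvx, ?_⟩
          calc u * (v * x * v⁻¹) * u⁻¹ = ⁅u, v⁆ * (v * (u * x * u⁻¹) * v⁻¹) * ⁅u, v⁆⁻¹ := by
                rw [commutatorElement_def]; group
            _ = v * x * v⁻¹ := by rw [hx.2, hWfix _ (hsp.comm_mem u hu v hv) _ (hX₀E hvx)]
        rcases eq_or_ne X ⊥ with h | h
        · have huy : u * e * u⁻¹ ∈ X₀ := (mem_normalizer_iff.mp (hX₀U hu) e).mp he
          have h1 : e * (u * e * u⁻¹) ∈ X := ⟨mul_mem he huy, by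
            calc u * (e * (u * e * u⁻¹)) * u⁻¹ = (u * e * u⁻¹) * ((u * u) * e * (u * u)⁻¹) := by group
              _ = (u * e * u⁻¹) * e := by rw [hWfix _ (hsp.sq_mem u hu) e heE]
              _ = _ := P.comm _ (hX₀E huy) _ heE⟩
          rw [h, Subgroup.mem_bot] at h1
          exact Or.inr (eq_inv_of_mul_eq_one_right h1)
        · have h2 := Subgroup.eq_of_le_of_card_ge (fun x (hx : x ∈ X) => hx.1)
            (hmin X ⟨fun x hx => hX₀E hx.1, h, hXU⟩)
          exact Or.inl (h2.symm ▸ he : e ∈ X).2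
      have hne : e ≠ e⁻¹ := fun h => he1 (Subgroup.mem_bot.mp (mem_of_two_pow_mem M.odd (P := ⊥) (j := 1)
        (Subgroup.mem_bot.mpr (by rw [pow_one, sq]; nth_rw 1 [h]; exact inv_mul_cancel e))
        (n := 1) (by rw [pow_one]; exact P.exp e heE)))
      let lam : D.U → ℤˣ := fun u => if (u : G) * e * (u : G)⁻¹ = e then 1 else -1
      have hlam : ∀ u : D.U, (u : G) * e * (u : G)⁻¹ = e ^ ((lam u : ℤ)) := fun u => by
        by_cases h : (u : G) * e * (u : G)⁻¹ = e
        · rw [show lam u = 1 from if_pos h]; simpa using h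
        · rw [show lam u = -1 from if_neg h]; simpa using (hsign u u.2).resolve_left h
      have hinj : ∀ e₁ e₂ : ℤˣ, e ^ (e₁ : ℤ) = e ^ (e₂ : ℤ) → e₁ = e₂ := fun e₁ e₂ h => by
        rcases Int.units_eq_one_or e₁ with rfl | rfl <;> rcases Int.units_eq_one_or e₂ with rfl | rfl <;>
          simp at h ⊢ <;> first | exact hne h | exact hne h.symm
      let f : D.U →* ℤˣ :=
        { toFun := lam
          map_one' := hinj _ _ (by rw [← hlam]; simp)
          map_mul' := fun u v => hinj _ _ (by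
            rw [← hlam, Units.val_mul, zpow_mul, ← hlam u, conj_zpow, ← hlam v, Subgroup.coe_mul]
            group) }
      have hle : ∀ u : D.U, ρ u * ℓ e = sgn k (f u) • (ℓ e * ρ u) := fun u => by
        rw [hUl u u.2 e heE, hlam u, hlsgn e heE, smul_mul_assoc]; rfl
      -- subgroups cut out by vanishing
      have hvanish : (∀ v ∈ weight ρ D χ, ℓ e v = 0) → ∀ x ∈ E, ∀ v ∈ weight ρ D χ, ℓ x v = 0 := by
        intro h0
        let X : Subgroup G :=
          { carrier := {x | x ∈ E ∧ ∀ v ∈ weight ρ D χ, ℓ x v = 0}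
            one_mem' := ⟨one_mem _, fun v _ => by rw [hl1, LinearMap.zero_apply]⟩
            mul_mem' := fun {x y} hx hy => ⟨mul_mem hx.1 hy.1, fun v hv => by
              rw [hadd x hx.1 y hy.1, LinearMap.add_apply, hx.2 v hv, hy.2 v hv, add_zero]⟩
            inv_mem' := fun {x} hx => ⟨inv_mem hx.1, fun v hv => by
              rw [hlinv x hx.1, LinearMap.neg_apply, hx.2 v hv, neg_zero]⟩ }
        have hXa : Inv a X := fun x hx => ⟨P.inv x hx.1, fun v hv => by
          rw [hTl x hx.1, hx.2 _ (hTpow _ χ v hv), map_zero]⟩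
        have hXU : D.U ≤ normalizer (X : Set G) := le_normalizer_iff.mpr fun u hu x hx =>
          ⟨hUE u hu x hx.1, fun v hv => by
            rw [← heqU u hu x hx.1, Module.End.mul_apply, Module.End.mul_apply,
              hx.2 _ (M.weight_inv_U (inv_mem hu) hv), map_zero]⟩
        intro x hx
        exact ((hfill X (fun x hx => hx.1) hXa hXU ⟨e, ⟨heE, h0⟩, he1⟩).symm ▸ hx : x ∈ X).2
      by_cases hrad : ∃ x : D.U, (x : G) ∈ rad hsp χ ∧ f x = -1
      · obtain ⟨x, hxr, hfx⟩ := hrad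
        obtain ⟨ε, hε, hεv⟩ := M.rad_scalar hS hχ hxr
        have hz : ∀ v ∈ weight ρ D χ, ℓ e v = 0 := fun v hv => by
          have h := congrArg (fun g : Module.End k V => g v) (hle x)
          simp only [Module.End.mul_apply, LinearMap.smul_apply, hfx, sgn_neg_one] at h
          rw [hεv _ (hmap χ e heE v hv), hεv v hv, map_smul, smul_smul, neg_one_mul, neg_smul] at h
          have h2 : (2 * ε) • ℓ e v = 0 := by rw [two_mul, add_smul]; exact eq_neg_iff_add_eq_zero.mp h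
          exact (smul_eq_zero.mp h2).resolve_left (mul_ne_zero M.two_ne_zero fun h0 => by simp [h0] at hε)
        intro x _ y hy v hv
        rw [hvanish hz y hy v hv, map_zero]
      push Not at hrad
      have hf1 : f ≠ 1 := fun h => by
        have hc : e ∈ E ⊓ centralizer (D.U : Set G) := ⟨heE, mem_centralizer_iff.mpr fun u hu => by
          have h2 := hlam ⟨u, hu⟩
          rw [show lam ⟨u, hu⟩ = 1 from congrArg (fun g : D.U →* ℤˣ => g ⟨u, hu⟩) h] at h2
          simp only [Units.val_one, zpow_one] at h2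
          conv_rhs => rw [← h2, inv_mul_cancel_right]⟩
        rw [P.moved, Subgroup.mem_bot] at hc
        exact he1 hc
      obtain ⟨x, hxR, hx⟩ := exists_beta_eq (β := beta hsp χ) (fun u v => (beta_symm hsp χ u v).symm) f hf1
        fun s hs => (Int.units_eq_one_or _).resolve_right (hrad s (mem_radR_iff.mp hs))
      have hxrad : (x : G) ∉ rad hsp χ := fun h => hxR (mem_radR_iff.mpr h)
      set Pop : Module.End k V := ρ (x : G)⁻¹ * ℓ e with hPop
      have hPw : ∀ v ∈ weight ρ D χ, Pop v ∈ weight ρ D χ := fun v hv =>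
        M.weight_inv_U (inv_mem x.2) (hmap χ e heE v hv)
      have hPU : ∀ u ∈ D.U, ∀ v ∈ weight ρ D χ, ρ u (Pop v) = Pop (ρ u v) := by
        intro u hu v hv
        have h1 : ρ u (ℓ e v) = sgn k (f ⟨u, hu⟩) • ℓ e (ρ u v) :=
          congrArg (fun g : Module.End k V => g v) (hle ⟨u, hu⟩)
        have e2 : u * (x : G)⁻¹ = ⁅u, (x : G)⁻¹⁆ * ((x : G)⁻¹ * u) := by rw [commutatorElement_def]; group
        rw [hPop, Module.End.mul_apply, Module.End.mul_apply, ← Module.End.mul_apply, ← map_mul, e2, map_mul,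
          Module.End.mul_apply, show ⁅u, (x : G)⁻¹⁆ = ((commW hsp ⟨u, hu⟩ x⁻¹ : D.W) : G) from rfl,
          mem_weight.mp (M.weight_inv_U (mul_mem (inv_mem x.2) hu) (hmap χ e heE v hv)), map_mul,
          Module.End.mul_apply, h1, map_smul, smul_smul,
          show χ (commW hsp ⟨u, hu⟩ x⁻¹) = f ⟨u, hu⟩ by
            rw [← beta_apply, map_inv, ← beta_symm hsp χ ⟨u, hu⟩ x, hx, Int.units_inv_eq_self],
          sgn_units, one_smul]
      have hPT := M.commute_T_of_weight hS hχ Pop hPw hPU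
      have hei : ∀ i : ℕ, (a ^ i) e ∈ E := fun i => P.inv.apply_pow i heE
      have hexp : ∀ (i : ℕ), ∀ v ∈ weight ρ D χ, ℓ ((a ^ i) e) v = ρ ((a ^ i) (x : G)) (Pop v) := by
        intro i
        induction i with
        | zero =>
          intro v _
          simp [hPop, ← Module.End.mul_apply, ← mul_assoc, ← map_mul]
        | succ i ih =>
          intro v hv
          rw [pow_succ', MulAut.mul_apply, MulAut.mul_apply, hTl _ (hei i), ih _ (hTpow _ χ v hv),
            ← Module.End.mul_apply, M.rep.compat, Module.End.mul_apply, hPT _ (hTpow _ χ v hv), hTT']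
      have hxi : ∀ i : ℕ, (a ^ i) (x : G) ∈ D.U := fun i => D.inv_U.apply_pow i x.2
      have hprod : ∀ i : ℕ, ∀ v ∈ weight ρ D χ, ℓ e (ℓ ((a ^ i) e) v) =
          ρ (x : G) (ρ ((a ^ i) (x : G)) (Pop (Pop v))) := by
        intro i v hv
        have h0 := hexp 0 _ (M.weight_inv_U (hxi i) (hPw v hv))
        simp only [pow_zero, MulAut.one_apply] at h0
        rw [hexp i v hv, h0, ← hPU _ (hxi i) _ (hPw v hv)]
      obtain ⟨i₀, hi₀⟩ : ∃ i : ℕ, beta hsp χ x ⟨_, hxi i⟩ = -1 := by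
        by_contra hno
        push Not at hno
        let X : Subgroup G := closure ((rad hsp χ : Set G) ∪ Set.range fun i : ℕ => (a ^ i) (x : G))
        have hXU : X ≤ D.U := (closure_le _).mpr fun y hy => hy.elim (fun h => rad_le hsp χ h)
          (fun ⟨i, hi⟩ => hi ▸ hxi i)
        have hXa : Inv a X := inv_closure fun y hy => subset_closure <| hy.elim
          (fun h => Or.inl (inv_rad hsp χ y h))
          (fun ⟨i, hi⟩ => Or.inr ⟨i + 1, by rw [← hi]; show (a ^ (i + 1)) _ = _; rw [pow_succ']; rfl⟩)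
        have hle : rad hsp χ ≤ X := fun y hy => subset_closure (Or.inl hy)
        rcases M.eq_or_eq hS.pos hS.eq hsp (hS.idx χ hχ) hXa hle hXU with h | h
        · exact hxrad (h ▸ subset_closure (Or.inr ⟨0, by simp⟩))
        · refine hxrad (mem_rad.mpr ⟨x.2, fun y => ?_⟩)
          suffices ∀ z ∈ X, ∀ hz : z ∈ D.U, beta hsp χ x ⟨z, hz⟩ = 1 from this y (h.symm ▸ y.2 : (y : G) ∈ X) y.2
          intro z hzX
          induction hzX using Subgroup.closure_induction with
          | mem z hz =>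
            intro hzU
            rcases hz with hz | ⟨i, rfl⟩
            · rw [← beta_symm]
              exact (mem_rad.mp hz).choose_spec x
            · exact (Int.units_eq_one_or _).resolve_right (hno i)
          | one => intro hzU; exact map_one (beta hsp χ x)
          | mul y z hy hz ihy ihz =>
            intro hzU
            rw [show (⟨y * z, hzU⟩ : D.U) = ⟨y, hXU hy⟩ * ⟨z, hXU hz⟩ from rfl, map_mul, ihy, ihz, one_mul]
          | inv y hy ih =>
            intro hzU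
            rw [show (⟨y⁻¹, hzU⟩ : D.U) = ⟨y, hXU hy⟩⁻¹ from rfl, map_inv, ih, inv_one]
      have hP2 : ∀ v ∈ weight ρ D χ, Pop (Pop v) = 0 := by
        intro v hv
        set xi := (a ^ i₀) (x : G)
        set w := Pop (Pop v)
        have hw : w ∈ weight ρ D χ := hPw _ (hPw v hv)
        have h0 : ∀ v ∈ weight ρ D χ, ℓ e v = ρ (x : G) (Pop v) := fun v hv => by
          simpa using hexp 0 v hv
        have h1 : ℓ ((a ^ i₀) e) (ℓ e v) = ρ xi (ρ (x : G) w) := by
          rw [h0 v hv, hexp i₀ _ (M.weight_inv_U x.2 (hPw v hv)), ← hPU _ x.2 _ (hPw v hv)]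
        have h2 : ℓ e (ℓ ((a ^ i₀) e) v) = ℓ ((a ^ i₀) e) (ℓ e v) :=
          congrArg (fun g : Module.End k V => g v) (hcomm e heE _ (hei i₀)).eq
        rw [hprod i₀ v hv, h1, ← Module.End.mul_apply, ← map_mul,
          show (x : G) * xi = ⁅(x : G), xi⁆ * (xi * x) by rw [commutatorElement_def]; group, map_mul,
          Module.End.mul_apply, show ⁅(x : G), xi⁆ = ((commW hsp x ⟨xi, hxi i₀⟩ : D.W) : G) from rfl,
          mem_weight.mp (M.weight_inv_U (mul_mem (hxi i₀) x.2) hw), ← beta_apply, hi₀, sgn_neg_one,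
          neg_one_smul, map_mul, Module.End.mul_apply] at h2
        have h3 : (2 : k) • ρ xi (ρ (x : G) w) = 0 := by
          rw [two_smul]; exact neg_eq_iff_add_eq_zero.mp h2
        have h4 := congrArg (fun z => ρ (x : G)⁻¹ (ρ xi⁻¹ z)) ((smul_eq_zero.mp h3).resolve_left M.two_ne_zero)
        simpa [← Module.End.mul_apply, ← map_mul, mul_assoc] using h4
      -- the first factor `e`, then every first factor
      have hey : ∀ y ∈ E, ∀ v ∈ weight ρ D χ, ℓ e (ℓ y v) = 0 := by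
        let X : Subgroup G := closure (Set.range fun i : ℕ => (a ^ i) e)
        have hXE : X ≤ E := (closure_le _).mpr (by rintro _ ⟨i, rfl⟩; exact hei i)
        have hXa : Inv a X := inv_closure (by
          rintro _ ⟨i, rfl⟩
          exact subset_closure ⟨i + 1, by show (a ^ (i + 1)) e = _; rw [pow_succ']; rfl⟩)
        have hXU : D.U ≤ normalizer (X : Set G) := le_normalizer_iff.mpr fun u hu z hz => by
          induction hz using Subgroup.closure_induction with
          | mem z hz =>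
            obtain ⟨i, rfl⟩ := hz
            obtain ⟨u', rfl⟩ := (a ^ i).surjective u
            have hu' : u' ∈ D.U := by
              have hb : ∀ n : ℕ, ∀ z : G, (a ^ n) z ∈ D.U → z ∈ D.U := by
                intro n
                induction n with
                | zero => intro z h; simpa using h
                | succ n ih => intro z h; rw [pow_succ', MulAut.mul_apply] at h; exact ih z (D.inv_U.mem_iff.mp h)
              exact hb i u' hu
            show (a ^ i) u' * (a ^ i) e * ((a ^ i) u')⁻¹ ∈ X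
            rw [← map_inv, ← map_mul, ← map_mul, hlam ⟨u', hu'⟩, map_zpow]
            exact zpow_mem (show (a ^ i) e ∈ X from subset_closure ⟨i, rfl⟩) _
          | one => simp
          | mul y z _ _ ihy ihz => simpa [mul_assoc] using mul_mem ihy ihz
          | inv y _ ih => simpa [mul_assoc] using inv_mem ih
        intro y hy
        have hyX : y ∈ X := (hfill X hXE hXa hXU ⟨e, subset_closure ⟨0, by simp⟩, he1⟩).symm ▸ hy
        clear hy
        induction hyX using Subgroup.closure_induction with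
        | mem z hz =>
          obtain ⟨i, rfl⟩ := hz
          intro v hv
          rw [hprod i v hv, hP2 v hv, map_zero, map_zero]
        | one => intro v _; rw [hl1, LinearMap.zero_apply, map_zero]
        | mul y z hy hz ihy ihz =>
          intro v hv
          rw [hadd y (hXE hy) z (hXE hz), LinearMap.add_apply, map_add, ihy v hv, ihz v hv, add_zero]
        | inv y hy ih => intro v hv; rw [hlinv y (hXE hy), LinearMap.neg_apply, map_neg, ih v hv, neg_zero]
      let X : Subgroup G :=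
        { carrier := {x | x ∈ E ∧ ∀ y ∈ E, ∀ v ∈ weight ρ D χ, ℓ x (ℓ y v) = 0}
          one_mem' := ⟨one_mem _, fun y _ v _ => by rw [hl1, LinearMap.zero_apply]⟩
          mul_mem' := fun {x z} hx hz => ⟨mul_mem hx.1 hz.1, fun y hy v hv => by
            rw [hadd x hx.1 z hz.1, LinearMap.add_apply, hx.2 y hy v hv, hz.2 y hy v hv, add_zero]⟩
          inv_mem' := fun {x} hx => ⟨inv_mem hx.1, fun y hy v hv => by
            rw [hlinv x hx.1, LinearMap.neg_apply, hx.2 y hy v hv, neg_zero]⟩ }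
      have hXa : Inv a X := fun z hz => ⟨P.inv z hz.1, fun y hy v hv => by
        obtain ⟨y, rfl⟩ := a.surjective y
        have hy' := P.inv.mem_iff.mp hy
        rw [hTl y hy', hTl z hz.1, hTT, hz.2 y hy' _ (hTpow _ χ v hv), map_zero]⟩
      have hXU : D.U ≤ normalizer (X : Set G) := le_normalizer_iff.mpr fun u hu z hz =>
        ⟨hUE u hu z hz.1, fun y hy v hv => by
          have hy' : u⁻¹ * y * u ∈ E := by simpa using hUE u⁻¹ (inv_mem hu) y hy
          have e1 : ℓ (u * z * u⁻¹) * ℓ y = ρ u * (ℓ z * ℓ (u⁻¹ * y * u)) * ρ u⁻¹ := by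
            conv_lhs => rw [show y = u * (u⁻¹ * y * u) * u⁻¹ by group, ← heqU u hu _ hy', ← heqU u hu z hz.1]
            simp only [mul_assoc]
            rw [← mul_assoc (ρ u⁻¹) (ρ u), hcancel, one_mul]
          rw [← Module.End.mul_apply, e1, Module.End.mul_apply, Module.End.mul_apply, Module.End.mul_apply,
            hz.2 _ hy' _ (M.weight_inv_U (inv_mem hu) hv), map_zero]⟩
      intro z hz
      exact ((hfill X (fun x hx => hx.1) hXa hXU ⟨e, (show e ∈ X from ⟨heE, hey⟩), he1⟩).symm ▸ hz : z ∈ X).2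
    have hne : χ ≠ χ * μ := fun h => hμ1 (mul_left_cancel (a := χ) (by rw [mul_one]; exact h.symm))
    have hsc : ∀ u ∈ rad hsp (χ * μ), ∃ ε : k, ε * ε = 1 ∧ ∀ v ∈ weight ρ D (χ * μ), ρ u v = ε • v := by
      intro u hu
      by_cases hψ1 : χ * μ = 1
      · rw [hψ1] at hu ⊢
        exact ⟨1, one_mul _, fun v hv => by rw [M.map_U_weight_one hsp (rad_le _ _ hu) v hv, one_smul]⟩
      · exact M.rad_scalar hS ⟨hψ1, hψ0⟩ hu
    by_cases hrad : rad hsp χ = rad hsp (χ * μ)
    · have hψ1 : χ * μ ≠ 1 := fun h => hχ1 (M.eq_one_of_rad_eq hsp (by rw [hrad, h, rad_one]))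
      let L : Submodule k (Module.End k V) := Submodule.span k (ℓ '' (E : Set G))
      have hLind : ∀ (C : Module.End k V → Prop), (∀ x ∈ E, C (ℓ x)) → C 0 → (∀ f g, C f → C g → C (f + g)) →
          (∀ (c : k) f, C f → C (c • f)) → ∀ f ∈ L, C f := fun C h1 h0 ha hs f hf => by
        refine Submodule.span_induction (p := fun f _ => C f) ?_ h0 (fun f g _ _ => ha f g)
          (fun c f _ => hs c f) hf
        rintro _ ⟨x, hx, rfl⟩
        exact h1 x hx
      have hmapL : ∀ (θ : D.W →* ℤˣ), ∀ f ∈ L, ∀ v ∈ weight ρ D θ, f v ∈ weight ρ D (θ * μ) := fun θ =>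
        hLind _ (fun x hx v hv => hmap θ x hx v hv) (fun v _ => by simp)
          (fun f g hf hg v hv => by rw [LinearMap.add_apply]; exact add_mem (hf v hv) (hg v hv))
          (fun c f hf v hv => by rw [LinearMap.smul_apply]; exact Submodule.smul_mem _ c (hf v hv))
      intro x hx y hy
      refine hbad m hS χ (χ * μ) hχ ⟨hψ1, hψ0⟩ hne hrad L (fun u hu => hLind _ (fun z hz => ?_) (by simp)
        (fun f g hf hg => by rw [mul_add, add_mul]; exact add_mem hf hg)
        (fun c f hf => by rw [mul_smul_comm, smul_mul_assoc]; exact Submodule.smul_mem _ c hf))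
        (hLind _ (fun z hz => ?_) (by simp)
          (fun f g hf hg => by rw [mul_add, add_mul]; exact add_mem hf hg)
          (fun c f hf => by rw [mul_smul_comm, smul_mul_assoc]; exact Submodule.smul_mem _ c hf))
        (hLind _ (fun z hz => hLind _ (fun z' hz' => (hcomm z hz z' hz').eq) (by simp)
          (fun f g hf hg => by rw [mul_add, add_mul, hf, hg])
          (fun c f hf => by rw [mul_smul_comm, smul_mul_assoc, hf]))
          (fun g _ => by simp) (fun f f' hf hf' g hg => by rw [mul_add, add_mul, hf g hg, hf' g hg])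
          (fun c f hf g hg => by rw [mul_smul_comm, smul_mul_assoc, hf g hg]))
        (hmapL χ) (fun f hf v hv => hμ2 χ ▸ hmapL (χ * μ) f hf v hv) _ (Submodule.subset_span ⟨x, hx, rfl⟩) _
        (Submodule.subset_span ⟨y, hy, rfl⟩)
      · rw [heqU u hu z hz]; exact Submodule.subset_span ⟨_, hUE u hu z hz, rfl⟩
      · rw [heqT z hz]; exact Submodule.subset_span ⟨_, P.inv z hz, rfl⟩
    obtain ⟨u₁', u₂', hu1, hu2, hu12⟩ : ∃ u₁ u₂ : D.U, (u₁ : G) ∈ rad hsp (χ * μ) ∧
        (u₂ : G) ∈ rad hsp (χ * μ) ∧ beta hsp χ u₁ u₂ = -1 := by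
      by_contra hno
      push Not at hno
      have hle : rad hsp (χ * μ) ≤ rad hsp χ := by
        have hX := M.eq_or_eq hS.pos hS.eq hsp (hS.idx χ hχ) ((inv_rad hsp χ).sup (inv_rad hsp (χ * μ)))
          le_sup_left (sup_le (rad_le _ _) (rad_le _ _))
        rcases hX with h | h
        · exact h ▸ le_sup_right
        intro z hz
        have hzU := rad_le hsp _ hz
        refine mem_rad.mpr ⟨hzU, fun y => ?_⟩
        let B : Subgroup G := (beta hsp χ ⟨z, hzU⟩).ker.map D.U.subtype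
        have hB : rad hsp χ ⊔ rad hsp (χ * μ) ≤ B := sup_le
          (fun y hy => ⟨⟨y, rad_le _ _ hy⟩, MonoidHom.mem_ker.mpr (by
            rw [← beta_symm]; exact (mem_rad.mp hy).choose_spec ⟨z, hzU⟩), rfl⟩)
          (fun y hy => ⟨⟨y, rad_le _ _ hy⟩, MonoidHom.mem_ker.mpr
            ((Int.units_eq_one_or _).resolve_right (hno ⟨z, hzU⟩ ⟨y, rad_le _ _ hy⟩ hz hy)), rfl⟩)
        obtain ⟨y', hy', he⟩ := hB (h.symm ▸ y.2 : (y : G) ∈ rad hsp χ ⊔ rad hsp (χ * μ))
        rw [show y' = y from Subtype.ext he, SetLike.mem_coe, MonoidHom.mem_ker] at hy'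
        exact hy'
      by_cases hψ1 : χ * μ = 1
      · rw [hψ1, rad_one] at hle
        exact hχ1 (M.eq_one_of_rad_eq hsp hle)
      · refine hrad (Subgroup.eq_of_le_of_card_ge hle (le_of_eq ?_)).symm
        exact Nat.eq_of_mul_eq_mul_left (pow_pos two_pos _) ((hS.idx χ hχ).symm.trans (hS.idx _ ⟨hψ1, hψ0⟩))
    -- `ρ u K ρ u = K` for `u` in the radical of the intermediate character
    have hsym : ∀ x ∈ E, ∀ y ∈ E, ∀ v, ℓ x (ℓ y v) = ℓ y (ℓ x v) := fun x hx y hy v =>
      congrArg (fun g : Module.End k V => g v) (hcomm x hx y hy).eq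
    have hK : ∀ u ∈ rad hsp (χ * μ), ∀ x ∈ E, ∀ y ∈ E, ∀ v ∈ weight ρ D χ,
        ρ u (ℓ x (ℓ y (ρ u v))) = ℓ x (ℓ y v) := by
      intro u hu x hx y hy v hv
      obtain ⟨ε, hε, hεv⟩ := hsc u hu
      have huU := rad_le hsp _ hu
      set x' := u * x * u⁻¹
      have hx' : x' ∈ E := hUE u huU x hx
      have hy' : u⁻¹ * y * u ∈ E := by simpa using hUE u⁻¹ (inv_mem huU) y hy
      have h1 : ∀ z ∈ E, ∀ w ∈ weight ρ D χ, ρ u (ℓ x (ℓ z w)) = ε • ℓ x' (ℓ z w) := fun z hz w hw => by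
        rw [← Module.End.mul_apply, hUl u huU x hx, Module.End.mul_apply, hεv _ (hmap χ z hz w hw), map_smul]
      rw [h1 y hy _ (M.weight_inv_U huU hv), hsym x' hx' y hy]
      have h2 : ∀ w, ℓ x' (ρ u w) = ρ u (ℓ x w) := fun w => by
        rw [← Module.End.mul_apply, ← hUl u huU x hx, Module.End.mul_apply]
      rw [h2, hεv _ (hmap χ x hx v hv), map_smul, smul_smul, hε, one_smul, hsym y hy x hx]
    intro x hx y hy v hv
    set K := ℓ x (ℓ y v)
    have hvU := fun (u : D.U) => M.weight_inv_U (χ := χ) u.2 hv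
    have hKw : ∀ w ∈ weight ρ D χ, ℓ x (ℓ y w) ∈ weight ρ D χ := fun w hw =>
      hμ2 χ ▸ hmap _ x hx _ (hmap χ y hy w hw)
    have h3 : ρ ((u₁' : G) * u₂') (ℓ x (ℓ y (ρ ((u₁' : G) * u₂') v))) = K :=
      hK _ (mul_mem hu1 hu2) x hx y hy v hv
    have hw : ρ (u₂' : G) (ρ (u₁' : G) v) ∈ weight ρ D χ := M.weight_inv_U u₂'.2 (hvU u₁')
    have hswap : ρ ((u₁' : G) * u₂') v = (-1 : k) • ρ (u₂' : G) (ρ (u₁' : G) v) := by
      rw [show (u₁' : G) * u₂' = ⁅(u₁' : G), (u₂' : G)⁆ * (u₂' * u₁') by rw [commutatorElement_def]; group,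
        map_mul, Module.End.mul_apply, show ⁅(u₁' : G), (u₂' : G)⁆ = ((commW hsp u₁' u₂' : D.W) : G) from rfl,
        mem_weight.mp (M.weight_inv_U (mul_mem u₂'.2 u₁'.2) hv), ← beta_apply, hu12, sgn_neg_one, map_mul,
        Module.End.mul_apply]
    rw [hswap, map_smul, map_smul, map_smul, map_mul, Module.End.mul_apply, hK _ hu2 x hx y hy _ (hvU u₁'),
      hK _ hu1 x hx y hy v hv, neg_one_smul] at h3
    have h4 : (2 : k) • K = 0 := by rw [two_smul]; exact neg_eq_iff_add_eq_zero.mp h3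
    exact (smul_eq_zero.mp h4).resolve_left M.two_ne_zero
  -- triples vanish
  have htriple : ∀ x ∈ E, ∀ y ∈ E, ∀ z ∈ E, ℓ x * ℓ y * ℓ z = 0 := by
    intro x hx y hy z hz
    refine M.ext_weight (D := D) fun χ v hv => ?_
    rw [Module.End.mul_apply, Module.End.mul_apply]
    by_cases hχ : χ = 1
    · subst hχ
      by_cases hμ1 : μ = 1
      · subst hμ1
        simp only [mul_one] at hmap
        rw [show ℓ z v = 0 from ?_, map_zero, map_zero]
        let X : Subgroup G :=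
          { carrier := {x | x ∈ E ∧ ∀ v ∈ weight ρ D (1 : D.W →* ℤˣ), ℓ x v = 0}
            one_mem' := ⟨one_mem _, fun v _ => by rw [hl1, LinearMap.zero_apply]⟩
            mul_mem' := fun {x y} hx hy => ⟨mul_mem hx.1 hy.1, fun v hv => by
              rw [hadd x hx.1 y hy.1, LinearMap.add_apply, hx.2 v hv, hy.2 v hv, add_zero]⟩
            inv_mem' := fun {x} hx => ⟨inv_mem hx.1, fun v hv => by
              rw [hlinv x hx.1, LinearMap.neg_apply, hx.2 v hv, neg_zero]⟩ }
        have hXa : Inv a X := fun x hx => ⟨P.inv x hx.1, fun v hv => by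
          rw [hTl x hx.1, hx.2 _ (hTpow _ 1 v hv), map_zero]⟩
        have hXU : D.U ≤ normalizer (X : Set G) := le_normalizer_iff.mpr fun u hu x hx =>
          ⟨hUE u hu x hx.1, fun v hv => by
            rw [← heqU u hu x hx.1, Module.End.mul_apply, Module.End.mul_apply,
              hx.2 _ (M.weight_inv_U (inv_mem hu) hv), map_zero]⟩
        have hc : u₁ * x₁ * u₁⁻¹ * x₁⁻¹ ∈ X := by
          refine ⟨mul_mem (hUE u₁ hu₁ x₁ hx₁) (inv_mem hx₁), fun v hv => ?_⟩
          rw [hadd _ (hUE u₁ hu₁ x₁ hx₁) _ (inv_mem hx₁), hlinv x₁ hx₁, ← heqU u₁ hu₁ x₁ hx₁,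
            LinearMap.add_apply, Module.End.mul_apply, Module.End.mul_apply,
            M.map_U_weight_one hsp (inv_mem hu₁) v hv,
            M.map_U_weight_one hsp hu₁ _ (hmap 1 x₁ hx₁ v hv), LinearMap.neg_apply, add_neg_cancel]
        exact ((hfill X (fun x hx => hx.1) hXa hXU ⟨_, hc, fun h => hne₁ (mul_inv_eq_one.mp h)⟩).symm ▸ hz
          : z ∈ X).2 v hv
      · exact hpair _ (by rwa [one_mul]) x hx y hy _ (hmap 1 z hz v hv)
    · rw [hpair χ hχ y hy z hz v hv, map_zero]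
  have hquad : ∀ t ∈ E, (∀ v ∈ weight ρ D (1 : D.W →* ℤˣ), ℓ t (ℓ t v) = 0) →
      (ρ t - 1) * (ρ t - 1) = 0 := by
    intro t ht h
    rw [htri htriple t ht]
    refine M.ext_weight (D := D) fun χ v hv => ?_
    rw [Module.End.mul_apply]
    by_cases hχ : χ = 1
    · subst hχ; exact h v hv
    · exact hpair χ hχ t ht t ht v hv
  by_cases hμ1 : μ = 1
  · subst hμ1
    simp only [mul_one] at hmap
    -- every product on the trivial weight vanishes
    refine ⟨u₁ * x₁ * u₁⁻¹ * x₁⁻¹, mul_mem (hUE u₁ hu₁ x₁ hx₁) (inv_mem hx₁),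
      fun h => hne₁ (mul_inv_eq_one.mp h), hquad _ (mul_mem (hUE u₁ hu₁ x₁ hx₁) (inv_mem hx₁)) fun v hv => ?_⟩
    have hz : ℓ (u₁ * x₁ * u₁⁻¹ * x₁⁻¹) v = 0 := by
      rw [hadd _ (hUE u₁ hu₁ x₁ hx₁) _ (inv_mem hx₁), hlinv x₁ hx₁, ← heqU u₁ hu₁ x₁ hx₁,
        LinearMap.add_apply, Module.End.mul_apply, Module.End.mul_apply,
        M.map_U_weight_one hsp (inv_mem hu₁) v hv,
        M.map_U_weight_one hsp hu₁ _ (hmap 1 x₁ hx₁ v hv), LinearMap.neg_apply, add_neg_cancel]
    rw [hz, map_zero]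
  by_cases hμ0 : weight ρ D μ = ⊥
  · obtain ⟨t, ht, ht1⟩ := E.bot_or_exists_ne_one.resolve_left P.ne_bot
    refine ⟨t, ht, ht1, hquad t ht fun v hv => ?_⟩
    have h := hmap 1 t ht v hv
    rw [one_mul, hμ0, Submodule.mem_bot] at h
    rw [h, map_zero]
  have hμo : Occ ρ D μ := ⟨hμ1, hμ0⟩
  obtain ⟨u, hqu⟩ : ∃ u : D.U, quad hsp μ u = -1 := by
    by_contra hno
    push Not at hno
    have hq : ∀ x, quad hsp μ x = 1 := fun x => (Int.units_eq_one_or _).resolve_right (hno x)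
    refine hμ1 (M.eq_one_of_rad_eq hsp fun z hz => mem_rad.mpr ⟨hz, fun y => ?_⟩)
    have h := (quad_isQuad hsp μ).mul ⟨z, hz⟩ y
    rw [hq, hq, hq, one_mul, one_mul] at h
    exact h.symm
  obtain ⟨i, hi⟩ : ∃ i : ℕ, beta hsp μ u ⟨_, D.inv_U.apply_pow i u.2⟩ = -1 := by
    by_contra hno
    push Not at hno
    have hurad : (u : G) ∉ rad hsp μ := fun h => by
      rw [M.quad_rad hsp μ h] at hqu; exact absurd hqu (by decide)
    let X : Subgroup G := closure ((rad hsp μ : Set G) ∪ Set.range fun i : ℕ => (a ^ i) (u : G))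
    have hXU : X ≤ D.U := (closure_le _).mpr fun y hy => hy.elim (fun h => rad_le hsp μ h)
      (fun ⟨i, hi⟩ => hi ▸ D.inv_U.apply_pow i u.2)
    have hXa : Inv a X := inv_closure fun y hy => subset_closure <| hy.elim
      (fun h => Or.inl (inv_rad hsp μ y h))
      (fun ⟨i, hi⟩ => Or.inr ⟨i + 1, by rw [← hi]; show (a ^ (i + 1)) _ = _; rw [pow_succ']; rfl⟩)
    rcases M.eq_or_eq hS.pos hS.eq hsp (hS.idx μ hμo) hXa (fun y hy => subset_closure (Or.inl hy)) hXU with h | h
    · exact hurad (h ▸ subset_closure (Or.inr ⟨0, by simp⟩))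
    · refine hurad (mem_rad.mpr ⟨u.2, fun y => ?_⟩)
      suffices ∀ z ∈ X, ∀ hz : z ∈ D.U, beta hsp μ u ⟨z, hz⟩ = 1 from this y (h.symm ▸ y.2 : (y : G) ∈ X) y.2
      intro z hzX
      induction hzX using Subgroup.closure_induction with
      | mem z hz =>
        intro hzU
        rcases hz with hz | ⟨i, rfl⟩
        · rw [← beta_symm]
          exact (mem_rad.mp hz).choose_spec u
        · exact (Int.units_eq_one_or _).resolve_right (hno i)
      | one => intro hzU; exact map_one (beta hsp μ u)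
      | mul y z hy hz ihy ihz =>
        intro hzU
        rw [show (⟨y * z, hzU⟩ : D.U) = ⟨y, hXU hy⟩ * ⟨z, hXU hz⟩ from rfl, map_mul, ihy, ihz, one_mul]
      | inv y hy ih =>
        intro hzU
        rw [show (⟨y⁻¹, hzU⟩ : D.U) = ⟨y, hXU hy⟩⁻¹ from rfl, map_inv, ih, inv_one]
  set u' : D.U := ⟨_, D.inv_U.apply_pow i u.2⟩
  have hquad' : ∀ j : ℕ, ∀ hj : (a ^ j) (u : G) ∈ D.U, quad hsp μ ⟨_, hj⟩ = quad hsp μ u := by
    intro j
    induction j with
    | zero => intro hj; rfl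
    | succ j ih =>
      intro hj
      have hj' := D.inv_U.apply_pow j u.2
      rw [← ih hj', ← M.quad_apply hsp μ ⟨_, hj'⟩]
      refine congrArg _ (Subtype.ext ?_)
      show (a ^ (j + 1)) _ = a _
      rw [pow_succ']; rfl
  have hqu' : quad hsp μ u' = -1 := (hquad' i _).trans hqu
  have hquinv : quad hsp μ u⁻¹ = -1 := by
    have h := (quad_isQuad hsp μ).mul u u⁻¹
    have e : commW hsp u u = 1 := Subtype.ext (by
      show ⁅(u : G), (u : G)⁆ = 1
      rw [commutatorElement_def]; group)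
    rw [mul_inv_cancel, (quad_isQuad hsp μ).one, hqu, map_inv, beta_apply, e, map_one, inv_one, mul_one] at h
    rcases Int.units_eq_one_or (quad hsp μ u⁻¹) with h1 | h1
    · rw [h1] at h; exact absurd h (by decide)
    · exact h1
  have hquw : quad hsp μ (u' * u⁻¹) = -1 := by
    rw [(quad_isQuad hsp μ).mul, hqu', hquinv, map_inv, ← beta_symm hsp μ u' u, hi]
    decide
  -- the form on the trivial weight
  set V1 := weight ρ D (1 : D.W →* ℤˣ) with hV1
  have hback : ∀ x ∈ E, ∀ y ∈ E, ∀ v ∈ V1, ℓ x (ℓ y v) ∈ V1 := fun x hx y hy v hv => by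
    have h := hmap _ x hx _ (hmap 1 y hy v hv)
    rwa [hμ2] at h
  have hsym : ∀ x ∈ E, ∀ y ∈ E, ∀ v, ℓ x (ℓ y v) = ℓ y (ℓ x v) := fun x hx y hy v =>
    congrArg (fun g : Module.End k V => g v) (hcomm x hx y hy).eq
  have hinv : ∀ w : D.U, ∀ x ∈ E, ∀ y ∈ E, ∀ v ∈ V1,
      ℓ ((w : G) * x * (w : G)⁻¹) (ℓ ((w : G) * y * (w : G)⁻¹) v) = ℓ x (ℓ y v) := by
    intro w x hx y hy v hv
    have hvw : ρ (w : G) v = v := M.map_U_weight_one hsp w.2 v hv
    conv_lhs => rw [← hvw]
    rw [← Module.End.mul_apply _ (ρ (w : G)), ← hUl w w.2 y hy, Module.End.mul_apply,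
      ← Module.End.mul_apply _ (ρ (w : G)), ← hUl w w.2 x hx, Module.End.mul_apply]
    exact M.map_U_weight_one hsp w.2 _ (hback x hx y hy v hv)
  have hsqinv : ∀ w : D.U, quad hsp μ w = -1 → ∀ x ∈ E,
      (w : G) * ((w : G) * x * (w : G)⁻¹) * (w : G)⁻¹ = x⁻¹ := by
    intro w hw x hx
    have h := hμ (sqW hsp w) x hx
    rw [show μ (sqW hsp w) = -1 from hw] at h
    calc (w : G) * ((w : G) * x * (w : G)⁻¹) * (w : G)⁻¹ = (w : G) * w * x * ((w : G) * w)⁻¹ := by group
      _ = x⁻¹ := by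
        show ((sqW hsp w : D.W) : G) * x * ((sqW hsp w : D.W) : G)⁻¹ = x⁻¹
        simpa using h
  have hcross : ∀ w : D.U, quad hsp μ w = -1 → ∀ x ∈ E, ∀ v ∈ V1,
      ℓ x (ℓ ((w : G) * x * (w : G)⁻¹) v) = 0 := by
    intro w hw x hx v hv
    have hwx := hUE w w.2 x hx
    have h := hinv w x hx _ hwx v hv
    rw [hsqinv w hw x hx, hlinv x hx, LinearMap.neg_apply, map_neg, hsym _ hwx x hx] at h
    have h2 : (2 : k) • ℓ x (ℓ ((w : G) * x * (w : G)⁻¹) v) = 0 := by
      rw [two_smul]; exact neg_eq_iff_add_eq_zero.mp h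
    exact (smul_eq_zero.mp h2).resolve_left M.two_ne_zero
  obtain ⟨b, c, hbc⟩ := ZMod.sq_add_sq p (-1)
  set U1 : G → G := fun x => (u : G) * x * (u : G)⁻¹ with hU1
  set U2 : G → G := fun x => (u' : G) * x * (u' : G)⁻¹ with hU2
  have hU1E : ∀ x ∈ E, U1 x ∈ E := fun x hx => hUE u u.2 x hx
  have hU2E : ∀ x ∈ E, U2 x ∈ E := fun x hx => hUE u' u'.2 x hx
  have hsum : ∀ x ∈ E, ∀ v ∈ V1, ∀ t, t = x * U1 x ^ b.val * U2 x ^ c.val → ℓ t (ℓ t v) = 0 := by
    intro x hx v hv t ht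
    have h12 : ℓ (U1 x) (ℓ (U2 x) v) = 0 := by
      have h := hcross (u' * u⁻¹) hquw (U1 x) (hU1E x hx) v hv
      rwa [show ((u' * u⁻¹ : D.U) : G) * U1 x * ((u' * u⁻¹ : D.U) : G)⁻¹ = U2 x by
        simp only [hU1, hU2, Subgroup.coe_mul, Subgroup.coe_inv]; group] at h
    have h01 : ℓ x (ℓ (U1 x) v) = 0 := hcross u hqu x hx v hv
    have h02 : ℓ x (ℓ (U2 x) v) = 0 := hcross u' hqu' x hx v hv
    have h11 : ℓ (U1 x) (ℓ (U1 x) v) = ℓ x (ℓ x v) := hinv u x hx x hx v hv
    have h22 : ℓ (U2 x) (ℓ (U2 x) v) = ℓ x (ℓ x v) := hinv u' x hx x hx v hv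
    have hbE := pow_mem (hU1E x hx) b.val
    have hcE := pow_mem (hU2E x hx) c.val
    rw [ht, hadd _ (mul_mem hx hbE) _ hcE, hadd _ hx _ hbE, hlpow _ (hU1E x hx), hlpow _ (hU2E x hx)]
    simp only [LinearMap.add_apply, LinearMap.smul_apply, map_add, map_nsmul, smul_smul, h12, h01, h02,
      h11, h22, hsym _ (hU1E x hx) x hx, hsym _ (hU2E x hx) x hx, hsym _ (hU2E x hx) _ (hU1E x hx),
      smul_zero, add_zero, zero_add]
    have hz : ((1 + b.val * b.val + c.val * c.val : ℕ) : k) = 0 := by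
      rw [CharP.cast_eq_zero_iff k p, ← ZMod.natCast_eq_zero_iff]
      push_cast
      rw [ZMod.natCast_zmod_val, ZMod.natCast_zmod_val, ← sq, ← sq, add_assoc, hbc, add_neg_cancel]
    calc ℓ x (ℓ x v) + (b.val * b.val) • ℓ x (ℓ x v) + (c.val * c.val) • ℓ x (ℓ x v)
        = (1 + b.val * b.val + c.val * c.val) • ℓ x (ℓ x v) := by rw [add_smul, add_smul, one_smul]
      _ = 0 := by rw [← Nat.cast_smul_eq_nsmul k, hz, zero_smul]
  obtain ⟨x, hx, hne⟩ : ∃ x ∈ E, x * U1 x ^ b.val * U2 x ^ c.val ≠ 1 := by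
    by_contra hno
    push Not at hno
    obtain ⟨x, hx, hx1⟩ := E.bot_or_exists_ne_one.resolve_left P.ne_bot
    have hanti : ∀ x ∈ E, U2 (U1 x) = (U1 (U2 x))⁻¹ := by
      intro x hx
      have h := hμ (commW hsp u' u) (U1 (U2 x)) (hU1E _ (hU2E x hx))
      rw [show μ (commW hsp u' u) = -1 from by rw [commW_symm, ← beta_apply]; exact hi] at h
      have e : ((commW hsp u' u : D.W) : G) * U1 (U2 x) * ((commW hsp u' u : D.W) : G)⁻¹ = U2 (U1 x) := by
        simp only [hU1, hU2]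
        show ⁅(u' : G), (u : G)⁆ * _ * ⁅(u' : G), (u : G)⁆⁻¹ = _
        rw [commutatorElement_def]; group
      rw [e] at h
      simpa using h
    have key : ∀ (A B : G → G) (β γ : ℕ), (∀ x ∈ E, A x ∈ E) → (∀ x ∈ E, B x ∈ E) →
        (∀ x ∈ E, ∀ y ∈ E, A (x * y) = A x * A y) → (∀ x ∈ E, ∀ n : ℕ, A (x ^ n) = A x ^ n) →
        (∀ x ∈ E, A x = 1 → x = 1) → (∀ x ∈ E, B x = 1 → x = 1) →
        (∀ x ∈ E, A (B x) = (B (A x))⁻¹) →
        (∀ x ∈ E, x * A x ^ β * B x ^ γ = 1) → (γ : ZMod p) = 0 := by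
      intro A B β γ hA hB hAmul hApow hAinj hBinj hAB hf
      by_contra hγ
      have h1 := congrArg A (hf x hx)
      rw [hAmul _ (mul_mem hx (pow_mem (hA x hx) _)) _ (pow_mem (hB x hx) _),
        hAmul _ hx _ (pow_mem (hA x hx) _), hApow _ (hA x hx), hApow _ (hB x hx)] at h1
      have hA1 : A 1 = 1 := by
        have := hAmul 1 (one_mem _) 1 (one_mem _)
        rwa [one_mul, left_eq_mul] at this
      rw [hA1] at h1
      have h2 := hf (A x) (hA x hx)
      have h3 : A (B x) ^ γ = B (A x) ^ γ := mul_left_cancel (h1.trans h2.symm)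
      set z := B (A x)
      have hzE : z ∈ E := hB _ (hA x hx)
      rw [hAB x hx, inv_pow, inv_eq_iff_mul_eq_one, ← pow_add] at h3
      have hz : z ^ p = 1 := P.exp z hzE
      have hcop : Nat.Coprime (γ + γ) p := ((hp.out.coprime_iff_not_dvd).mpr fun hd => hγ (by
        rw [ZMod.natCast_eq_zero_iff]
        rcases hp.out.dvd_mul.mp (show p ∣ 2 * γ by rw [two_mul]; exact hd) with h | h
        · exact absurd ((Nat.prime_dvd_prime_iff_eq hp.out Nat.prime_two).mp h) M.odd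
        · exact h)).symm
      have hz1 : z = 1 := by
        rw [← pow_one z, ← hcop]
        exact pow_gcd_eq_one.mpr ⟨h3, hz⟩
      exact hx1 (hAinj x hx (hBinj _ (hA x hx) hz1))
    have hconj : ∀ w : D.U, (∀ x ∈ E, ∀ y ∈ E, (w : G) * (x * y) * (w : G)⁻¹ =
        ((w : G) * x * (w : G)⁻¹) * ((w : G) * y * (w : G)⁻¹)) ∧
        (∀ x ∈ E, ∀ n : ℕ, (w : G) * x ^ n * (w : G)⁻¹ = ((w : G) * x * (w : G)⁻¹) ^ n) ∧
        ∀ x ∈ E, (w : G) * x * (w : G)⁻¹ = 1 → x = 1 := fun w =>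
      ⟨fun x _ y _ => by group, fun x _ n => conj_pow.symm, fun x _ h => conj_eq_one_iff.mp h⟩
    have hc0 := key U1 U2 b.val c.val hU1E hU2E (hconj u).1 (hconj u).2.1 (hconj u).2.2 (hconj u').2.2
      (fun x hx => by rw [hanti x hx, inv_inv]) (fun x hx => hno x hx)
    have hb0 := key U2 U1 c.val b.val hU2E hU1E (hconj u').1 (hconj u').2.1 (hconj u').2.2 (hconj u).2.2
      hanti (fun x hx => by
        rw [mul_assoc, P.comm _ (pow_mem (hU2E x hx) _) _ (pow_mem (hU1E x hx) _), ← mul_assoc]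
        exact hno x hx)
    rw [ZMod.natCast_zmod_val] at hc0 hb0
    rw [hc0, hb0, zero_pow _root_.two_ne_zero, zero_add, eq_comm, neg_eq_zero] at hbc
    exact one_ne_zero hbc
  exact ⟨_, mul_mem (mul_mem hx (pow_mem (hU1E x hx) _)) (pow_mem (hU2E x hx) _), hne,
    hquad _ (mul_mem (mul_mem hx (pow_mem (hU1E x hx) _)) (pow_mem (hU2E x hx) _))
      fun v hv => hsum x hx v hv _ rfl⟩

end Cfg

end Cfsg.Agent.H24.Flav
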