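import Cfsg.Agent.H24.Flav.Forms3
import Cfsg.Agent.PGroups.Basic

/-!
Projections onto weight spaces and the layers of a `p`-group.
-/

set_option autoImplicit false
set_option linter.unusedSectionVars false

namespace Cfsg.Agent.H24.Flav

open Subgroup
open Cfsg.Agent.H8.Shult hiding Min
open scoped commutatorElement

universe u v w

section Layer

variable {G : Type u} [Group G] [Finite G] {p : ℕ} [hp : Fact p.Prime]

/-- A proper normal subgroup of a normal subgroup of a `p`-group has an element over it central modulo it. -/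
theorem exists_layer {R A Z : Subgroup G} (hR : IsPGroup p R) (hAR : A ≤ R)
    (hRA : R ≤ normalizer (A : Set G)) (hRZ : R ≤ normalizer (Z : Set G)) (hne : ¬ A ≤ Z) :
    ∃ b ∈ A, b ∉ Z ∧ ∀ x ∈ R, ⁅b, x⁆ ∈ Z := by
  have hZn : (Z.subgroupOf R).Normal := normal_subgroupOf_of_le_normalizer hRZ
  have hAn : (A.subgroupOf R).Normal := normal_subgroupOf_of_le_normalizer hRA
  set π := QuotientGroup.mk' (Z.subgroupOf R)
  have : ((A.subgroupOf R).map π).Normal := hAn.map π (QuotientGroup.mk'_surjective _)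
  obtain ⟨⟨q, hq⟩, hq1⟩ := Subgroup.ne_bot_iff_exists_ne_one.1
    (PGroups.inf_center_ne_bot (hR.to_quotient (Z.subgroupOf R)) ((A.subgroupOf R).map π) fun h => hne fun x hx => by
      have h1 : π ⟨x, hAR hx⟩ ∈ (A.subgroupOf R).map π := ⟨_, mem_subgroupOf.mpr hx, rfl⟩
      rw [h, Subgroup.mem_bot] at h1
      exact mem_subgroupOf.mp ((QuotientGroup.eq_one_iff _).mp h1))
  obtain ⟨⟨b, hb, rfl⟩, hc⟩ := hq
  refine ⟨b, hb, fun h => hq1 (Subtype.ext ((QuotientGroup.eq_one_iff b).mpr h)), fun x hx => ?_⟩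
  have h2 : π ⁅b, ⟨x, hx⟩⁆ = 1 := by
    rw [map_commutatorElement]
    exact commutatorElement_eq_one_iff_mul_comm.mpr (mem_center_iff.mp hc _).symm
  exact mem_subgroupOf.mp ((QuotientGroup.eq_one_iff _).mp h2)

/-- A nontrivial normal subgroup of a `p`-group has a nontrivial central part. -/
theorem inf_centralizer_ne_bot {R A : Subgroup G} (hR : IsPGroup p R) (hAR : A ≤ R)
    (hRA : R ≤ normalizer (A : Set G)) (hA : A ≠ ⊥) : A ⊓ centralizer (R : Set G) ≠ ⊥ := by
  obtain ⟨b, hb, hb1, h⟩ := exists_layer (Z := ⊥) hR hAR hRA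
    (fun x _ => mem_normalizer_iff.mpr fun y => by simp [Subgroup.mem_bot])
    (fun h => hA (le_bot_iff.mp h))
  refine fun e => hb1 (e ▸ ⟨hb, mem_centralizer_iff.mpr fun x hx => ?_⟩)
  exact (commutatorElement_eq_one_iff_mul_comm.mp (Subgroup.mem_bot.mp (h x hx))).symm

end Layer

variable {G : Type u} [Group G] [Finite G] {p r : ℕ} [hp : Fact p.Prime] {a : MulAut G}
variable {k : Type w} [Field k] [CharP k p] {V : Type v} [AddCommGroup V] [Module k V]
variable [IsAlgClosed k] [FiniteDimensional k V]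
variable {ρ : G →* Module.End k V} {T : Module.End k V}
variable {D : UData a}

/-- An element of the fixed part of `N` permutes the weight spaces. -/
theorem map_mem_weight_act (g : D.Gam) {χ : D.W →* ℤˣ} {v : V} (hv : v ∈ weight ρ D χ) :
    ρ g v ∈ weight ρ D (D.act g χ) := by
  rw [mem_weight] at hv ⊢
  intro x
  have e : (x : G) * g = g * (D.conjW g⁻¹ x : D.W) := by
    rw [UData.conjW_apply, Subgroup.coe_inv, inv_inv]; group
  rw [← Module.End.mul_apply, ← map_mul, e, map_mul, Module.End.mul_apply, hv _, map_smul]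
  rfl

namespace Cfg

variable (M : Cfg p r a ρ T)
include M

/-- The projection onto a weight space. -/
theorem exists_wproj (χ : D.W →* ℤˣ) : ∃ e : Module.End k V, (∀ v, e v ∈ weight ρ D χ) ∧
    (∀ v ∈ weight ρ D χ, e v = v) ∧ (∀ χ', χ' ≠ χ → ∀ v ∈ weight ρ D χ', e v = 0) ∧
    (∀ f : Module.End k V, (∀ x ∈ D.W, Commute f (ρ x)) → Commute f e) ∧
    (∀ g : D.Gam, D.act g χ = χ → Commute (ρ g) e) ∧
    (∀ F : Submodule k V, (∀ x ∈ D.W, ∀ v ∈ F, ρ x v ∈ F) → ∀ v ∈ F, e v ∈ F) := by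
  classical
  have hne : (1 : k) ≠ -1 := fun h =>
    M.two_ne_zero (by rw [← one_add_one_eq_two]; nth_rw 2 [h]; exact add_neg_cancel 1)
  let _ : CommGroup D.W :=
    { (inferInstance : Group D.W) with
      mul_comm := fun u v => Subtype.ext ((M.special2_U D).fix_central u u.2 v v.2.1) }
  let τ : D.W →* Module.End k V := ρ.comp D.W.subtype
  let κ : (D.W →* ℤˣ) → (D.W →* kˣ) := fun χ => (Units.map (Int.castRingHom k).toMonoidHom).comp χ
  have hκ : ∀ χ x, ((κ χ x : kˣ) : k) = sgn k (χ x) := fun _ _ => rfl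
  have hκinj : Function.Injective κ := fun χ₁ χ₂ h => MonoidHom.ext fun x => by
    have h1 : sgn k (χ₁ x) = sgn k (χ₂ x) := by rw [← hκ, ← hκ, h]
    rcases Int.units_eq_one_or (χ₁ x) with e₁ | e₁ <;> rcases Int.units_eq_one_or (χ₂ x) with e₂ | e₂ <;>
      rw [e₁, e₂] at h1 ⊢ <;> simp only [sgn_one, sgn_neg_one] at h1
    · exact absurd h1 hne
    · exact absurd h1.symm hne
  have hmem : ∀ χ' v, v ∈ weight ρ D χ' ↔ v ∈ LinearMap.range (Coprime.Weights.proj τ (κ χ')) := fun χ' v => by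
    rw [Coprime.Weights.mem_range_iff M.natCard_W_ne_zero, mem_weight]; rfl
  refine ⟨Coprime.Weights.proj τ (κ χ), fun v => (hmem χ _).mpr ⟨v, rfl⟩, fun v hv => ?_,
    fun χ' hne v hv => ?_, fun f hf => ?_, fun g hg => ?_, fun F hF v hv => ?_⟩
  · obtain ⟨w, rfl⟩ := (hmem χ v).mp hv
    rw [← Module.End.mul_apply, Coprime.Weights.proj_mul_self M.natCard_W_ne_zero]
  · obtain ⟨w, rfl⟩ := (hmem χ' v).mp hv
    rw [← Module.End.mul_apply, Coprime.Weights.proj_mul_proj _ fun h => hne (hκinj h).symm,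
      LinearMap.zero_apply]
  · exact Commute.smul_right (Commute.sum_right _ _ _ fun (u : D.W) _ => Commute.smul_right (hf (u : G) u.2) _) _
  · have hc : ∀ u, ρ g * τ u = τ (D.conjW g u) * ρ g := fun u => by
      show ρ g * ρ u = ρ (D.conjW g u : G) * ρ g
      rw [← map_mul, ← map_mul, UData.conjW_apply, inv_mul_cancel_right]
    refine (Coprime.Weights.mul_proj_of_conj hc (κ χ)).trans ?_
    have e : (κ χ).comp (D.conjW g).symm.toMonoidHom = κ (D.act g χ) := MonoidHom.ext fun x => by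
      show κ χ ((D.conjW g).symm x) = κ χ (D.conjW g⁻¹ x)
      rw [map_inv]; rfl
    rw [e, hg]
  · simp only [Coprime.Weights.proj, LinearMap.smul_apply, LinearMap.sum_apply]
    exact F.smul_mem _ (F.sum_mem fun u _ => F.smul_mem _ (hF (u : G) u.2 v hv))

end Cfg

end Cfsg.Agent.H24.Flav
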