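import Cfsg.Agent.H8.Shult.TwoGroup
import Cfsg.Agent.H8.Shult.Reduce
import Cfsg.Agent.Coprime.EndBound
import Cfsg.Agent.H92.ExtraIso
import Cfsg.Prelude.Def_Transfer

/-!
An invariant `2`-group of displacements acting without fixed vectors: special, and the prime is a Fermat prime.
-/

set_option autoImplicit false
set_option linter.unusedSectionVars false

namespace Cfsg.Agent.H24.Flav

open Subgroup
open Cfsg.Agent.H8.Shult hiding Min
open scoped commutatorElement

universe u v w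

variable {G : Type u} [Group G] [Finite G] {r : ℕ} {a : MulAut G}
variable {k : Type w} [Field k] {V : Type v} [AddCommGroup V] [Module k V]
variable {ρ : G →* Module.End k V} {T : Module.End k V} {X : Subgroup G}

/-- Such a group is not abelian. -/
theorem exists_commutator_ne (hR : RepData a r ρ T) (ha : Coprimely a r) (h2 : (2 : k) ≠ 0)
    (hinj : Function.Injective ρ) (hX : IsPGroup 2 X) (hXa : Inv a X) (hdisp : disp a X = X) (hX0 : X ≠ ⊥) :
    ∃ u ∈ X, ∃ v ∈ X, ⁅u, v⁆ ≠ 1 := by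
  have : Fact (Nat.Prime 2) := ⟨Nat.prime_two⟩
  by_contra h
  push Not at h
  refine hX0 (eq_bot_iff.mpr fun x hx => Subgroup.mem_bot.mpr (hinj ?_))
  rw [map_one]
  refine hR.eq_one_of_comm ha hXa (fun u hu v hv => commutatorElement_eq_one_iff_mul_comm.mp (h u hu v hv)) ?_
    (hdisp.symm ▸ hx)
  obtain ⟨j, hj⟩ := IsPGroup.iff_card.mp hX
  rw [hj, Nat.cast_pow, Nat.cast_ofNat]
  exact pow_ne_zero _ h2

/-- It is special. -/
theorem isSpecial_of_special2 (hX : IsPGroup 2 X) (hsp : Special2 a X) : Cfsg.IsSpecial 2 X := by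
  have : Fact (Nat.Prime 2) := ⟨Nat.prime_two⟩
  set W : Subgroup X := (X ⊓ fixedBy a).subgroupOf X with hW
  have hcen : center X = W := by
    ext x
    refine ⟨fun h => ⟨x.2, hsp.center_le x x.2 fun y hy =>
      (congrArg Subtype.val (mem_center_iff.mp h ⟨y, hy⟩)).symm⟩, fun h => mem_center_iff.mpr fun y => ?_⟩
    exact Subtype.ext (hsp.fix_central x (mem_subgroupOf.mp h) y y.2).symm
  have hWn : W.Normal := hcen ▸ inferInstance
  have hcomm : commutator X = W := by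
    refine map_injective X.subtype_injective ?_
    rw [map_subtype_commutator, hW, subgroupOf_map_subtype, inf_eq_left.mpr inf_le_left]
    exact le_antisymm (commutator_le.mpr hsp.comm_mem) hsp.fix_le
  refine ⟨hX, ?_, hcomm.trans hcen.symm⟩
  rw [hcen]
  refine le_antisymm (PGroups.frattini_le_of_commutator_le (p := 2) W hcomm.le fun x => ?_)
    (hcomm ▸ PGroups.commutator_le_frattini hX)
  rw [hW, mem_subgroupOf, SubmonoidClass.coe_pow, pow_two]
  exact hsp.sq_mem x x.2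

theorem isSpecial_congr {p : ℕ} {A : Type*} {B : Type*} [Group A] [Group B] (e : A ≃* B)
    (h : Cfsg.IsSpecial p A) : Cfsg.IsSpecial p B := by
  obtain ⟨hp, hf, hc⟩ := h
  refine ⟨hp.of_equiv e, ?_, ?_⟩
  · rw [← H92.map_frattini_equiv e, ← H92.map_center_mulEquiv e, hf]
  · rw [← H92.map_center_mulEquiv e, ← hc, commutator_def, commutator_def, Subgroup.map_commutator,
      Subgroup.map_top_of_surjective e.toMonoidHom e.surjective]

/-- The prime is a Fermat prime. -/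
theorem exists_fermat_of_special [IsAlgClosed k] [FiniteDimensional k V] (hR : RepData a r ρ T)
    (ha : Coprimely a r) (h2 : (2 : k) ≠ 0) (hrk : (r : k) ≠ 0) (hinj : Function.Injective ρ)
    (hX : IsPGroup 2 X) (hXa : Inv a X) (hdisp : disp a X = X) (hX0 : X ≠ ⊥) : ∃ m : ℕ, r = 2 ^ m + 1 := by
  classical
  have hrF : Fact r.Prime := ⟨ha.prime⟩
  have h2F : Fact (Nat.Prime 2) := ⟨Nat.prime_two⟩
  have hsp := hR.special2 ha h2 hinj hX hXa hdisp
  have h2p : r ≠ 2 := fun h => by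
    obtain ⟨j, hj⟩ := IsPGroup.iff_card.mp hX
    rcases Nat.eq_zero_or_pos j with rfl | hj0
    · exact hX0 (Subgroup.eq_bot_of_card_eq _ (by simpa using hj))
    · exact ha.ndvd (h ▸ ((dvd_pow_self 2 hj0.ne').trans (hj ▸ card_subgroup_dvd_card X)))
  obtain ⟨u, hu, v, hv, huv⟩ := exists_commutator_ne hR ha h2 hinj hX hXa hdisp hX0
  let 𝒮 : Set (Submodule k V) :=
    {S | (∀ g ∈ X, ∀ x ∈ S, ρ g x ∈ S) ∧ (∀ x ∈ S, T x ∈ S) ∧ ∃ x ∈ S, ρ ⁅u, v⁆ x ≠ x}
  have h𝒮 : 𝒮.Nonempty := ⟨⊤, fun _ _ _ _ => Submodule.mem_top, fun _ _ => Submodule.mem_top, by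
    by_contra h
    push Not at h
    exact huv (hinj ((LinearMap.ext fun x => h x Submodule.mem_top).trans (map_one ρ).symm))⟩
  obtain ⟨S, ⟨hSX, hST, hSc⟩, hSmin⟩ := wellFounded_lt.has_min 𝒮 h𝒮
  have hmin : ∀ S' ≤ S, (∀ g ∈ X, ∀ x ∈ S', ρ g x ∈ S') → (∀ x ∈ S', T x ∈ S') →
      (∃ x ∈ S', ρ ⁅u, v⁆ x ≠ x) → S' = S := fun S' hle h1 h2' h3 =>
    eq_of_le_of_not_lt hle (hSmin S' ⟨h1, h2', h3⟩)
  have hscal : ∀ w ∈ X ⊓ fixedBy a, ∃ c : k, ∀ x ∈ S, ρ w x = c • x := by
    intro w hw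
    have hTw : ∀ x, T (ρ w x) = ρ w (T x) := fun x => by
      have h := congrArg (fun f : Module.End k V => f x) (hR.compat w)
      rw [mem_fixedBy.mp hw.2] at h
      exact h
    have hXw : ∀ g ∈ X, ∀ x, ρ w (ρ g x) = ρ g (ρ w x) := fun g hg x => by
      rw [← Module.End.mul_apply, ← map_mul, hsp.fix_central w hw g hg, map_mul, Module.End.mul_apply]
    have hww : ∀ x, ρ w (ρ w x) = x := fun x => by
      rw [← Module.End.mul_apply, ← map_mul, hsp.fix_sq w hw, map_one, Module.End.one_apply]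
    let E : k → Submodule k V := fun c => S ⊓ LinearMap.ker (ρ w - c • 1)
    have hE : ∀ c x, x ∈ E c ↔ x ∈ S ∧ ρ w x = c • x := fun c x => by simp [E, sub_eq_zero]
    by_contra hno
    push Not at hno
    have hfix : ∀ c, ∀ x ∈ E c, ρ ⁅u, v⁆ x = x := by
      intro c x hx
      by_contra hne
      have h := hmin (E c) inf_le_left (fun g hg y hy => by
        obtain ⟨hy1, hy2⟩ := (hE c y).mp hy
        exact (hE c _).mpr ⟨hSX g hg y hy1, by rw [hXw g hg, hy2, map_smul]⟩) (fun y hy => by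
        obtain ⟨hy1, hy2⟩ := (hE c y).mp hy
        exact (hE c _).mpr ⟨hST y hy1, by rw [← hTw, hy2, map_smul]⟩) ⟨x, hx, hne⟩
      obtain ⟨y, hy, hy'⟩ := hno c
      exact hy' ((hE c y).mp (h.symm ▸ hy)).2
    obtain ⟨x, hx, hx'⟩ := hSc
    refine hx' (smul_right_injective V h2 ?_)
    have hwS := hSX w hw.1 x hx
    have h1 := hfix 1 (x + ρ w x) ((hE _ _).mpr ⟨add_mem hx hwS, by rw [map_add, hww, one_smul, add_comm]⟩)
    have h3 := hfix (-1) (x - ρ w x) ((hE _ _).mpr ⟨sub_mem hx hwS, by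
      rw [map_sub, hww, neg_one_smul, neg_sub]⟩)
    have h4 := congrArg₂ (· + ·) h1 h3
    simp only [← map_add] at h4
    show (2 : k) • ρ ⁅u, v⁆ x = (2 : k) • x
    rw [← map_smul, two_smul]
    rwa [show x + ρ w x + (x - ρ w x) = x + x by abel] at h4
  have : Nontrivial S := by
    obtain ⟨x, hx, hx'⟩ := hSc
    exact ⟨⟨⟨x, hx⟩, 0, fun h => hx' (by rw [show x = 0 from congrArg Subtype.val h, map_zero])⟩⟩
  let ρS : X →* Module.End k S :=
    { toFun := fun g => (ρ g).restrict (hSX g g.2)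
      map_one' := LinearMap.ext fun x => Subtype.ext (by simp)
      map_mul' := fun g h => LinearMap.ext fun x => Subtype.ext (by simp) }
  let T' : Module.End k S := T.restrict hST
  have hsc : ∀ g h : X, ∃ c : k, ρS ⁅g, h⁆ = c • 1 := fun g h => by
    obtain ⟨c, hc⟩ := hscal ⁅(g : G), (h : G)⁆ (hsp.comm_mem g g.2 h h.2)
    exact ⟨c, LinearMap.ext fun x => Subtype.ext (hc x x.2)⟩
  rcases Coprime.EndBound.moved_le_cen_or_fermat (ρ := ρS) (p := r) hX h2p (by exact_mod_cast h2) hrk hsc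
    (subAut X hXa) T'
    (LinearMap.ext fun x => Subtype.ext (by rw [restrict_pow_coe, hR.pow_eq_one]; rfl))
    (subRep_sum hR.sum _ _)
    (fun g => LinearMap.ext fun x => Subtype.ext
      (congrArg (fun f : Module.End k V => f x) (hR.compat g))) with h | ⟨-, m, -, hm, -⟩
  · have hmov : ∀ g, g ∈ disp a X → ∃ hg : g ∈ X,
        (⟨g, hg⟩ : X) ∈ Coprime.EndBound.moved (subAut X hXa) := by
      intro g hg
      induction hg using Subgroup.closure_induction with
      | mem y hy =>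
        obtain ⟨z, hz, rfl⟩ := hy
        exact ⟨mul_mem (inv_mem hz) (hXa z hz), Coprime.EndBound.mem_moved (subAut X hXa) ⟨z, hz⟩⟩
      | one => exact ⟨one_mem _, one_mem _⟩
      | mul y z _ _ ihy ihz =>
        obtain ⟨hy, hy'⟩ := ihy
        obtain ⟨hz, hz'⟩ := ihz
        exact ⟨mul_mem hy hz, mul_mem hy' hz'⟩
      | inv y _ ihy =>
        obtain ⟨hy, hy'⟩ := ihy
        exact ⟨inv_mem hy, inv_mem hy'⟩
    obtain ⟨_, hu'⟩ := hmov u (hdisp.symm ▸ hu)
    have hc := (h hu') ⟨v, hv⟩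
    obtain ⟨x, hx, hx'⟩ := hSc
    refine absurd ?_ hx'
    have h1 : ρS ⁅(⟨u, hu⟩ : X), ⟨v, hv⟩⁆ = 1 := by
      rw [commutatorElement_def, map_mul, map_mul, map_mul, hc.eq, mul_assoc (ρS ⟨v, hv⟩), ← map_mul,
        mul_inv_cancel, map_one, mul_one, ← map_mul, mul_inv_cancel, map_one]
    exact congrArg Subtype.val (LinearMap.congr_fun h1 ⟨x, hx⟩)
  · exact ⟨m, hm⟩

end Cfsg.Agent.H24.Flav
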