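import Cfsg.Agent.H8.Shult.Forms3
import Cfsg.Agent.H24.Flav.Basic

/-!
The forms on `U` attached to the characters of `W`, in the general configuration.
-/

set_option autoImplicit false
set_option linter.unusedSectionVars false

namespace Cfsg.Agent.H24.Flav

open Subgroup
open Cfsg.Agent.H8.Shult hiding Min
open scoped commutatorElement

universe u v w

variable {G : Type u} [Group G] [Finite G] {p r : ℕ} [hp : Fact p.Prime] {a : MulAut G}
variable {k : Type w} [Field k] [CharP k p] {V : Type v} [AddCommGroup V] [Module k V]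
variable [IsAlgClosed k] [FiniteDimensional k V]
variable {ρ : G →* Module.End k V} {T : Module.End k V}
variable {D : UData a}

namespace Cfg

variable (M : Cfg p r a ρ T)
include M

theorem weight_inv_T {χ : D.W →* ℤˣ} {v : V} (hv : v ∈ weight ρ D χ) : T v ∈ weight ρ D χ := by
  rw [mem_weight] at hv ⊢
  intro x
  have h := congrArg (fun f : Module.End k V => f v) (M.rep.compat (x : G))
  simp only [Module.End.mul_apply] at h
  rw [mem_fixedBy.mp x.2.2] at h
  rw [← h, hv x, map_smul]

theorem weight_inv_U {χ : D.W →* ℤˣ} {g : G} (hg : g ∈ D.U) {v : V} (hv : v ∈ weight ρ D χ) :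
    ρ g v ∈ weight ρ D χ := by
  rw [mem_weight] at hv ⊢
  intro x
  rw [← Module.End.mul_apply, ← map_mul, (M.special2_U D).fix_central x x.2 g hg, map_mul,
    Module.End.mul_apply, hv x, map_smul]

/-- The characters of `W` occurring separate its elements. -/
theorem exists_occ {x : D.W} (hx : x ≠ 1) : ∃ χ, Occ ρ D χ ∧ χ x = -1 := by
  classical
  have := M.nontrivial
  let _ : CommGroup D.W :=
    { (inferInstance : Group D.W) with
      mul_comm := fun u v => Subtype.ext ((M.special2_U D).fix_central u u.2 v v.2.1) }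
  let τ : D.W →* Module.End k V := ρ.comp D.W.subtype
  have hτ : τ x ≠ 1 := fun h => hx (Subtype.ext (M.inj (h.trans (map_one ρ).symm)))
  obtain ⟨ψ, hψ, hψx⟩ := Coprime.Weights.exists_proj_ne_zero_of_act_ne_one M.natCard_W_ne_zero hτ
  have hval : ∀ u : D.W, (ψ u : k) = 1 ∨ (ψ u : k) = -1 := fun u => by
    have h : (ψ u : k) * ψ u = 1 := by
      rw [← Units.val_mul, ← map_mul,
        show u * u = 1 from Subtype.ext ((M.special2_U D).fix_sq u u.2), map_one, Units.val_one]
    exact mul_self_eq_one_iff.mp h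
  have hne : (1 : k) ≠ -1 := fun h => M.two_ne_zero (by rw [← one_add_one_eq_two]; nth_rw 2 [h]; exact add_neg_cancel 1)
  let e : D.W → ℤˣ := fun u => if (ψ u : k) = 1 then 1 else -1
  have he : ∀ u, sgn k (e u) = ψ u := fun u => by
    rcases hval u with h | h
    · show sgn k (if (ψ u : k) = 1 then 1 else -1) = _
      rw [if_pos h, h, sgn_one]
    · show sgn k (if (ψ u : k) = 1 then 1 else -1) = _
      rw [if_neg (fun h' => hne (h'.symm.trans h)), h, sgn_neg_one]
  have hinj : ∀ e₁ e₂ : ℤˣ, sgn k e₁ = sgn k e₂ → e₁ = e₂ := fun e₁ e₂ h => by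
    rcases Int.units_eq_one_or e₁ with rfl | rfl <;> rcases Int.units_eq_one_or e₂ with rfl | rfl <;>
      first | rfl | (simp [sgn] at h; first | exact absurd h hne | exact absurd h.symm hne)
  let χ : D.W →* ℤˣ :=
    { toFun := e
      map_one' := by simp [e]
      map_mul' := fun u v => hinj _ _ (by rw [sgn_mul, he, he, he, map_mul, Units.val_mul]) }
  have hχx : χ x = -1 := by
    refine (Int.units_eq_one_or (χ x)).resolve_left fun h => hψx (Units.ext ?_)
    rw [← he x, show e x = 1 from h, sgn_one, Units.val_one]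
  refine ⟨χ, ⟨fun h => ?_, ?_⟩, hχx⟩
  · rw [h, MonoidHom.one_apply] at hχx; exact absurd hχx (by decide)
  · refine fun h => hψ (LinearMap.range_eq_bot.mp (eq_bot_iff.mpr fun v hv => h ▸ mem_weight.mpr fun u => ?_))
    exact (((Coprime.Weights.mem_range_iff M.natCard_W_ne_zero).mp hv) u).trans (by
      rw [show sgn k (χ u) = ψ u from he u])

/-- The prime is a Fermat prime and every radical has index `2 ^ (2 * m)`. -/
theorem exists_fermat : ∃ m, 0 < m ∧ r = 2 ^ m + 1 ∧
    ∀ χ, Occ ρ D χ → Nat.card D.U = 2 ^ (2 * m) * Nat.card (rad (M.special2_U D) χ) := by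
  classical
  have hrF : Fact r.Prime := ⟨M.coprimely.prime⟩
  have h2F : Fact (Nat.Prime 2) := ⟨Nat.prime_two⟩
  set hsp := M.special2_U D
  have h2p : r ≠ 2 := fun h => by
    obtain ⟨j, hj⟩ := IsPGroup.iff_card.mp D.isPGroup_U
    rcases Nat.eq_zero_or_pos j with rfl | hj0
    · exact M.U_ne_bot D (Subgroup.eq_bot_of_card_eq _ (by simpa using hj))
    · exact M.coprimely.ndvd (h ▸ ((dvd_pow_self 2 hj0.ne').trans (hj ▸ card_subgroup_dvd_card D.U)))
  have hmov : Coprime.EndBound.moved (subAut D.U D.inv_U) = ⊤ := by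
    rw [eq_top_iff]
    intro x _
    have hx : (x : G) ∈ disp a D.U := (D.disp_U M.coprimely).symm ▸ x.2
    have key : ∀ g, g ∈ disp a D.U → ∃ h : g ∈ D.U,
        (⟨g, h⟩ : D.U) ∈ Coprime.EndBound.moved (subAut D.U D.inv_U) := by
      intro g hg
      induction hg using Subgroup.closure_induction with
      | mem y hy =>
        obtain ⟨z, hz, rfl⟩ := hy
        exact ⟨mul_mem (inv_mem hz) (D.inv_U z hz),
          Coprime.EndBound.mem_moved (subAut D.U D.inv_U) ⟨z, hz⟩⟩
      | one => exact ⟨one_mem _, one_mem _⟩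
      | mul y z _ _ ihy ihz =>
        obtain ⟨hy, hy'⟩ := ihy
        obtain ⟨hz, hz'⟩ := ihz
        exact ⟨mul_mem hy hz, mul_mem hy' hz'⟩
      | inv y _ ihy =>
        obtain ⟨hy, hy'⟩ := ihy
        exact ⟨inv_mem hy, inv_mem hy'⟩
    obtain ⟨_, hx'⟩ := key _ hx
    exact hx'
  have key : ∀ χ, Occ ρ D χ → ∃ m, 0 < m ∧ r = 2 ^ m + 1 ∧
      Nat.card D.U = 2 ^ (2 * m) * Nat.card (rad hsp χ) := by
    rintro χ ⟨hχ1, hχ⟩
    set Vχ := weight ρ D χ
    have : Nontrivial Vχ := Submodule.nontrivial_iff_ne_bot.mpr hχ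
    let ρU : D.U →* Module.End k Vχ :=
      { toFun := fun x => (ρ x).restrict fun v hv => M.weight_inv_U x.2 hv
        map_one' := LinearMap.ext fun v => Subtype.ext (by simp)
        map_mul' := fun x y => LinearMap.ext fun v => Subtype.ext (by simp) }
    let T' : Module.End k Vχ := T.restrict fun v hv => M.weight_inv_T hv
    have hscal : ∀ x y : D.U, ρU ⁅x, y⁆ = sgn k (χ (commW hsp x y)) • 1 := fun x y =>
      LinearMap.ext fun v => Subtype.ext (mem_weight.mp v.2 (commW hsp x y))
    have hT' : ∀ n v, (((T' ^ n) v : Vχ) : V) = (T ^ n) v := restrict_pow_coe _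
    have hcen : Coprime.EndBound.cen ρU = (rad hsp χ).subgroupOf D.U := by
      ext x
      rw [Coprime.EndBound.mem_cen, mem_subgroupOf, mem_rad]
      have hcomm : ∀ y, ρU x * ρU y = sgn k (χ (commW hsp x y)) • (ρU y * ρU x) := fun y => by
        rw [← map_mul, ← map_mul, show x * y = ⁅x, y⁆ * (y * x) by rw [commutatorElement_def]; group,
          map_mul, hscal, smul_mul_assoc, one_mul]
      constructor
      · refine fun h => ⟨x.2, fun y => (Int.units_eq_one_or _).resolve_right fun hneg => ?_⟩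
        have h1 := hcomm y
        rw [show χ (commW hsp x y) = -1 from hneg, (h y).eq, sgn_neg_one,
          ← map_mul] at h1
        obtain ⟨v, hv⟩ := exists_ne (0 : Vχ)
        refine hv ?_
        have h2 := congrArg (fun f : Module.End k Vχ => ρU (y * x)⁻¹ (f v)) h1
        simp only [LinearMap.smul_apply, map_smul] at h2
        rw [← Module.End.mul_apply, ← map_mul, inv_mul_cancel, map_one, Module.End.one_apply] at h2
        have h3 : (2 : k) • v = 0 := by
          rw [two_smul]; nth_rw 2 [h2]; rw [neg_one_smul, add_neg_cancel]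
        exact (smul_eq_zero.mp h3).resolve_left M.two_ne_zero
      · rintro ⟨hxU, h⟩ y
        refine (hcomm y).trans ?_
        rw [show χ (commW hsp x y) = 1 from h y, sgn_one, one_smul]
    rcases Coprime.EndBound.moved_le_cen_or_fermat (ρ := ρU) (p := r) D.isPGroup_U h2p
        (by exact_mod_cast M.two_ne_zero) M.r_ne_zero (fun x y => ⟨_, hscal x y⟩)
        (subAut D.U D.inv_U) T'
        (LinearMap.ext fun v => Subtype.ext (by rw [hT', M.rep.pow_eq_one]; rfl))
        (subRep_sum M.rep.sum _ _)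
        (fun x => LinearMap.ext fun v => Subtype.ext
          (congrArg (fun f : Module.End k V => f v) (M.rep.compat x))) with h | ⟨-, m, hm, hrm, hidx⟩
    · rw [hmov, hcen] at h
      refine absurd ?_ hχ1
      refine MonoidHom.ext fun w => ?_
      have hW : ∀ g, g ∈ ⁅D.U, D.U⁆ → ∃ h : g ∈ D.W, χ ⟨g, h⟩ = 1 := by
        intro g hg
        rw [Subgroup.commutator_def] at hg
        induction hg using Subgroup.closure_induction with
        | mem z hz =>
          obtain ⟨u, hu, v, hv, rfl⟩ := hz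
          obtain ⟨_, h1⟩ := mem_rad.mp (mem_subgroupOf.mp (h (mem_top (⟨u, hu⟩ : D.U))))
          exact ⟨hsp.comm_mem u hu v hv, h1 ⟨v, hv⟩⟩
        | one => exact ⟨one_mem _, map_one χ⟩
        | mul y z _ _ ihy ihz =>
          obtain ⟨hy, hy'⟩ := ihy
          obtain ⟨hz, hz'⟩ := ihz
          exact ⟨mul_mem hy hz, (map_mul χ ⟨y, hy⟩ ⟨z, hz⟩).trans (by rw [hy', hz', mul_one])⟩
        | inv y _ ihy =>
          obtain ⟨hy, hy'⟩ := ihy
          exact ⟨inv_mem hy, (map_inv χ ⟨y, hy⟩).trans (by rw [hy', inv_one])⟩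
      exact (hW w (hsp.fix_le w.2)).choose_spec
    · refine ⟨m, hm, hrm, ?_⟩
      change (Coprime.EndBound.cen ρU).relIndex (Coprime.EndBound.moved (subAut D.U D.inv_U)) = _ at hidx
      rw [hmov, relIndex_top_right, hcen] at hidx
      rw [← hidx, mul_comm, ← Nat.card_congr (subgroupOfEquivOfLe (rad_le hsp χ)).toEquiv, card_mul_index]
  obtain ⟨x, hx, hx1⟩ := D.W.bot_or_exists_ne_one.resolve_left (M.W_ne_bot D)
  obtain ⟨χ₀, hχ₀, -⟩ := M.exists_occ (x := ⟨x, hx⟩) fun h => hx1 (congrArg Subtype.val h)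
  obtain ⟨m, hm, hrm, -⟩ := key χ₀ hχ₀
  refine ⟨m, hm, hrm, fun χ hχ => ?_⟩
  obtain ⟨m', -, hrm', h'⟩ := key χ hχ
  have : m' = m := Nat.pow_right_injective le_rfl (Nat.add_right_cancel (hrm' ▸ hrm : 2 ^ m' + 1 = 2 ^ m + 1))
  exact this ▸ h'

end Cfg

end Cfsg.Agent.H24.Flav
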