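import Cfsg.Agent.H24.Flav.Forms

/-!
Radicals and quadratic sums, in the general configuration.
-/

set_option autoImplicit false
set_option linter.unusedSectionVars false

namespace Cfsg.Agent.H24.Flav

open Subgroup
open Cfsg.Agent.H8.Shult hiding Min
open scoped commutatorElement

universe u v w

variable {G : Type u} [Group G] [Finite G] {p r : ℕ} [hp : Fact p.Prime] {a : MulAut G}
variable {k : Type w} [Field k] [CharP k p] {V : Type v} [AddCommGroup V] [Module k V]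
variable [IsAlgClosed k] [FiniteDimensional k V]
variable {ρ : G →* Module.End k V} {T : Module.End k V}
variable {D : UData a}

namespace Cfg

variable (M : Cfg p r a ρ T)
include M

theorem inf_fixed_eq_W {B : Subgroup G} (hWB : D.W ≤ B) (hBU : B ≤ D.U) : B ⊓ fixedBy a = D.W :=
  le_antisymm (inf_le_inf_right _ hBU) (le_inf hWB D.W_le_fixed)

theorem exists_card {m : ℕ} (hm : 0 < m) (hr : r = 2 ^ m + 1) {B : Subgroup G} (hB : Inv a B)
    (hWB : D.W ≤ B) (hBU : B ≤ D.U) : ∃ j, Nat.card B = 2 ^ (2 * m * j) * Nat.card D.W := by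
  obtain ⟨j, hj⟩ := M.coprimely.exists_index_eq hm hr hB (D.isPGroup_U.to_le hBU)
  exact ⟨j, by rw [hj, M.inf_fixed_eq_W hWB hBU]⟩

/-- A map multiplicative on an invariant subgroup, invariant and trivial on `W`, is trivial. -/
theorem eq_one_of_inv_map {B : Subgroup G} (hB : Inv a B) (hWB : D.W ≤ B) (hBU : B ≤ D.U) {A : Type*}
    [Monoid A] (f : G → A) (hmul : ∀ x ∈ B, ∀ y ∈ B, f (x * y) = f x * f y)
    (hinv : ∀ x ∈ B, f (a x) = f x) (hW : ∀ x ∈ D.W, f x = 1) {x : G} (hx : x ∈ B) : f x = 1 := by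
  obtain ⟨d, hd, c, hc, rfl⟩ := M.coprimely.exists_disp_mul hB hx
  rw [M.inf_fixed_eq_W hWB hBU] at hc
  rw [hmul c (hWB hc) d (disp_le hB hd), hW c hc, one_mul]
  clear hx
  induction hd using Subgroup.closure_induction with
  | mem z hz =>
    obtain ⟨y, hy, rfl⟩ := hz
    rw [hmul _ (inv_mem hy) _ (hB y hy), hinv y hy, ← hmul _ (inv_mem hy) _ hy, inv_mul_cancel,
      hW 1 (one_mem _)]
  | one => exact hW 1 (one_mem _)
  | mul y z hy hz ihy ihz => rw [hmul _ (disp_le hB hy) _ (disp_le hB hz), ihy, ihz, one_mul]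
  | inv y hy ihy =>
    have h := hmul _ (inv_mem (disp_le hB hy)) _ (disp_le hB hy)
    rw [inv_mul_cancel, hW 1 (one_mem _), ihy, mul_one] at h
    exact h.symm

theorem quad_apply (hsp : Special2 a D.U) (χ : D.W →* ℤˣ) (x : D.U) :
    quad hsp χ (subAut D.U D.inv_U x) = quad hsp χ x := by
  refine congrArg χ (Subtype.ext ?_)
  show a (x : G) * a (x : G) = (x : G) * x
  rw [← map_mul]
  exact mem_fixedBy.mp (hsp.sq_mem x x.2).2

/-- The quadratic function is trivial on its radical. -/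
theorem quad_rad (hsp : Special2 a D.U) (χ : D.W →* ℤˣ) {x : D.U} (hx : (x : G) ∈ rad hsp χ) :
    quad hsp χ x = 1 := by
  classical
  let f : G → ℤˣ := fun g => if h : g ∈ D.U then quad hsp χ ⟨g, h⟩ else 1
  have hf : ∀ y : D.U, f y = quad hsp χ y := fun y => dif_pos y.2
  refine (hf x).symm.trans (M.eq_one_of_inv_map (inv_rad hsp χ) (W_le_rad hsp χ) (rad_le hsp χ) f
    (fun y hy z hz => ?_) (fun y hy => ?_) (fun y hy => ?_) hx)
  · have hyU := rad_le hsp χ hy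
    have hzU := rad_le hsp χ hz
    rw [show f (y * z) = quad hsp χ (⟨y, hyU⟩ * ⟨z, hzU⟩) from hf (⟨y, hyU⟩ * ⟨z, hzU⟩),
      hf ⟨y, hyU⟩, hf ⟨z, hzU⟩, (quad_isQuad hsp χ).mul, mem_radR.mp ((mem_radR_iff (x := ⟨z, hzU⟩)).mpr hz),
      mul_one]
  · have hyU := rad_le hsp χ hy
    exact ((hf (subAut D.U D.inv_U ⟨y, hyU⟩)).trans (M.quad_apply hsp χ _)).trans (hf ⟨y, hyU⟩).symm
  · refine (hf ⟨y, D.W_le_U hy⟩).trans ?_
    rw [quad, show sqW hsp ⟨y, D.W_le_U hy⟩ = 1 from Subtype.ext (hsp.fix_sq y hy), map_one]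

/-- The quadratic sum is congruent to `|W|`. -/
theorem sum_quad_modEq (hsp : Special2 a D.U) [Fintype D.U] (χ : D.W →* ℤˣ) :
    ∑ x, (quad hsp χ x : ℤ) ≡ (Nat.card D.W : ℤ) [ZMOD r] := by
  have : Fact r.Prime := ⟨M.coprimely.prime⟩
  have h := sum_modEq_fixed (subAut D.U D.inv_U) (M.coprimely.sub D.U D.inv_U).pow (quad hsp χ)
    (fun x => M.quad_apply hsp χ x) (fun x hx => M.quad_rad hsp χ (W_le_rad hsp χ
      ⟨x.2, congrArg Subtype.val hx⟩))
  rwa [Nat.card_congr (⟨fun x => ⟨(x.1 : G), x.1.2, congrArg Subtype.val x.2⟩,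
    fun x => ⟨⟨x.1, x.2.1⟩, Subtype.ext x.2.2⟩, fun _ => rfl, fun _ => rfl⟩ :
      {x : D.U // subAut D.U D.inv_U x = x} ≃ D.W)] at h

theorem not_dvd_card_W : ¬ r ∣ Nat.card D.W := fun h =>
  M.coprimely.ndvd (h.trans (card_subgroup_dvd_card _))

/-- The quadratic sum up to sign. -/
theorem sum_quad (hsp : Special2 a D.U) [Fintype D.U] (χ : D.W →* ℤˣ) {e : ℕ}
    (hidx : Nat.card D.U = 2 ^ (2 * e) * Nat.card (rad hsp χ)) :
    ∑ x, (quad hsp χ x : ℤ) = 2 ^ e * Nat.card (rad hsp χ) ∨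
      ∑ x, (quad hsp χ x : ℤ) = -(2 ^ e * Nat.card (rad hsp χ)) := by
  have hsq := (quad_isQuad hsp χ).sum_sq (fun x => Int.units_mul_self _)
  rcases hsq with h | h
  · have h0 : ∑ x, (quad hsp χ x : ℤ) = 0 := mul_self_eq_zero.mp h
    refine absurd ?_ (M.not_dvd_card_W (D := D))
    have := M.sum_quad_modEq hsp χ
    rw [h0] at this
    exact Int.natCast_dvd_natCast.mp (Int.modEq_zero_iff_dvd.mp this.symm)
  · refine mul_self_eq_mul_self_iff.mp (h.trans ?_)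
    rw [← rad_eq_map, hidx]
    push_cast
    ring

/-- Isotropic subgroups are small. -/
theorem isotropic_bound (hsp : Special2 a D.U) (χ : D.W →* ℤˣ) {e : ℕ}
    (hidx : Nat.card D.U = 2 ^ (2 * e) * Nat.card (rad hsp χ)) {S : Subgroup G} (hS : S ≤ D.U)
    (hiso : ∀ x y : D.U, (x : G) ∈ S → (y : G) ∈ S → beta hsp χ x y = 1) :
    Nat.card S ≤ 2 ^ e * Nat.card ↥(S ⊓ rad hsp χ) := by
  set R := radR (beta hsp χ)
  set S' := S.subgroupOf D.U ⊔ R with hS'
  have hRn : R.Normal := ⟨fun z hz u => mem_radR.mpr fun x => by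
    rw [map_mul, map_mul, mem_radR.mp hz, mul_one, ← map_mul, mul_inv_cancel, map_one]⟩
  have hb : ∀ x ∈ S', ∀ y ∈ S', beta hsp χ x y = 1 := by
    intro x hx y hy
    rw [hS', ← SetLike.mem_coe, Subgroup.mul_normal (N := R)] at hx hy
    obtain ⟨s, hs, c, hc, rfl⟩ := hx
    obtain ⟨s', hs', c', hc', rfl⟩ := hy
    simp only [map_mul, MonoidHom.mul_apply, mem_radR.mp (SetLike.mem_coe.mp hc') _,
      hiso s s' (mem_subgroupOf.mp hs) (mem_subgroupOf.mp hs'), mul_one]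
    exact (one_mul _).trans ((beta_symm hsp χ s' c).trans (mem_radR.mp hc s'))
  have h1 := card_sq_le_of_isotropic S' hb
  rw [inf_eq_right.mpr (le_sup_right : R ≤ S')] at h1
  have h2 : Nat.card S' * Nat.card ↥(S ⊓ rad hsp χ) = Nat.card S * Nat.card R := by
    have e1 := relIndex_mul_card_eq (le_sup_right : R ≤ S')
    have e2 := relIndex_mul_card_eq (inf_le_left : S.subgroupOf D.U ⊓ R ≤ S.subgroupOf D.U)
    have e3 : Nat.card ↥(S.subgroupOf D.U ⊓ R) = Nat.card ↥(S ⊓ rad hsp χ) := by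
      rw [← Subgroup.card_map_of_injective D.U.subtype_injective, Subgroup.map_inf _ _ _ D.U.subtype_injective,
        map_subgroupOf_eq_of_le hS]
      rfl
    rw [e3, inf_relIndex_left, Nat.card_congr (subgroupOfEquivOfLe hS).toEquiv] at e2
    rw [← e1, ← e2, relIndex_sup_right]
    ring
  rw [hidx, rad_eq_map] at h1
  have h3 : Nat.card S' ≤ 2 ^ e * Nat.card R := by
    refine Nat.mul_self_le_mul_self_iff.mp (h1.trans ?_)
    rw [two_mul, pow_add]
    exact le_of_eq (by ring)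
  refine Nat.le_of_mul_le_mul_right ?_ (Nat.card_pos (α := R))
  calc Nat.card S * Nat.card R = Nat.card S' * Nat.card ↥(S ⊓ rad hsp χ) := h2.symm
    _ ≤ 2 ^ e * Nat.card R * Nat.card ↥(S ⊓ rad hsp χ) := Nat.mul_le_mul_right _ h3
    _ = _ := by ring

/-- The quadratic sum of a form of index `2 ^ (2 * m)` is negative. -/
theorem sum_quad_neg {m : ℕ} (hm : 0 < m) (hr : r = 2 ^ m + 1) (hsp : Special2 a D.U) [Fintype D.U]
    (χ : D.W →* ℤˣ) (hidx : Nat.card D.U = 2 ^ (2 * m) * Nat.card (rad hsp χ)) :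
    ∑ x, (quad hsp χ x : ℤ) = -(2 ^ m * Nat.card (rad hsp χ)) := by
  refine (M.sum_quad hsp χ hidx).resolve_left fun h => M.not_dvd_card_W (D := D) ?_
  have h1 := M.sum_quad_modEq hsp χ
  obtain ⟨j, hj⟩ := M.exists_card hm hr (inv_rad hsp χ) (W_le_rad hsp χ) (rad_le hsp χ)
  have h2 : (2 : ℤ) ^ m ≡ -1 [ZMOD r] := by
    rw [Int.modEq_iff_dvd, hr]; push_cast; exact ⟨-1, by ring⟩
  have h3 : ((2 : ℤ) ^ m) * (2 ^ (2 * m * j) * Nat.card D.W) ≡ -1 * (1 * Nat.card D.W) [ZMOD r] := by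
    refine h2.mul (Int.ModEq.mul_right _ ?_)
    rw [show 2 * m * j = m * (2 * j) by ring, pow_mul]
    exact (h2.pow (2 * j)).trans (by rw [(even_two_mul j).neg_one_pow])
  rw [h, hj] at h1
  push_cast at h1
  have h4 : (-1 : ℤ) * (1 * Nat.card D.W) ≡ Nat.card D.W [ZMOD r] := h3.symm.trans h1
  rw [Int.modEq_iff_dvd, show (Nat.card D.W : ℤ) - -1 * (1 * Nat.card D.W) = ((2 * Nat.card D.W : ℕ) : ℤ) by
    push_cast; ring, Int.natCast_dvd_natCast] at h4
  refine (M.coprimely.prime.dvd_mul.mp h4).resolve_left fun h5 => ?_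
  have := Nat.le_of_dvd two_pos h5
  have := Nat.pow_le_pow_right two_pos hm
  rw [pow_one] at this
  omega

/-- Singular subgroups are smaller. -/
theorem singular_bound {m : ℕ} (hm : 0 < m) (hr : r = 2 ^ m + 1) (hsp : Special2 a D.U)
    (χ : D.W →* ℤˣ) (hidx : Nat.card D.U = 2 ^ (2 * m) * Nat.card (rad hsp χ)) {S : Subgroup G}
    (hS : S ≤ D.U) (hsing : ∀ x : D.U, (x : G) ∈ S → quad hsp χ x = 1) :
    Nat.card S ≤ 2 ^ (m - 1) * Nat.card ↥(S ⊓ rad hsp χ) := by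
  classical
  have := Fintype.ofFinite D.U
  have hiso : ∀ x y : D.U, (x : G) ∈ S → (y : G) ∈ S → beta hsp χ x y = 1 := fun x y hx hy => by
    have h := (quad_isQuad hsp χ).mul x y
    rw [hsing x hx, hsing y hy, hsing (x * y) (mul_mem hx hy), one_mul, one_mul] at h
    exact h.symm
  have hle := M.isotropic_bound hsp χ hidx hS hiso
  have : Fact (Nat.Prime 2) := ⟨Nat.prime_two⟩
  obtain ⟨i, hi⟩ := IsPGroup.iff_card.mp (D.isPGroup_U.to_le hS)
  obtain ⟨l, hl⟩ := IsPGroup.iff_card.mp (D.isPGroup_U.to_le ((inf_le_left : S ⊓ rad hsp χ ≤ S).trans hS))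
  rw [hi, hl, ← pow_add] at hle ⊢
  have h1 := (Nat.pow_le_pow_iff_right one_lt_two).mp hle
  refine Nat.pow_le_pow_right two_pos ?_
  by_contra hne
  obtain rfl : i = m + l := by omega
  set R := radR (beta hsp χ)
  set S' := S.subgroupOf D.U ⊔ R with hS'
  have hRn : R.Normal := ⟨fun z hz u => mem_radR.mpr fun x => by
    rw [map_mul, map_mul, mem_radR.mp hz, mul_one, ← map_mul, mul_inv_cancel, map_one]⟩
  have hq : ∀ x ∈ S', quad hsp χ x = 1 := by
    intro x hx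
    rw [hS', ← SetLike.mem_coe, Subgroup.mul_normal (N := R)] at hx
    obtain ⟨s, hs, c, hc, rfl⟩ := hx
    rw [(quad_isQuad hsp χ).mul, hsing s (mem_subgroupOf.mp hs),
      M.quad_rad hsp χ (mem_radR_iff.mp (SetLike.mem_coe.mp hc)), mem_radR.mp (SetLike.mem_coe.mp hc), mul_one,
      mul_one]
  have e3 : Nat.card ↥(S.subgroupOf D.U ⊓ R) = 2 ^ l := by
    rw [← hl, ← Subgroup.card_map_of_injective D.U.subtype_injective,
      Subgroup.map_inf _ _ _ D.U.subtype_injective, map_subgroupOf_eq_of_le hS]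
    rfl
  have hcard : Nat.card S' = 2 ^ m * Nat.card R := by
    have e2 := relIndex_mul_card_eq (inf_le_left : S.subgroupOf D.U ⊓ R ≤ S.subgroupOf D.U)
    rw [e3, inf_relIndex_left, Nat.card_congr (subgroupOfEquivOfLe hS).toEquiv, hi, pow_add] at e2
    rw [← relIndex_mul_card_eq (le_sup_right : R ≤ S'), relIndex_sup_right,
      Nat.eq_of_mul_eq_mul_right (Nat.two_pow_pos l) e2]
  have h2 := (quad_isQuad hsp χ).sum_eq_card hq (by
    rw [inf_eq_right.mpr (le_sup_right : R ≤ S'), hcard, hidx, rad_eq_map, two_mul, pow_add]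
    ring)
  rw [M.sum_quad_neg hm hr hsp χ hidx, hcard, rad_eq_map] at h2
  simp only [Nat.cast_mul, Nat.cast_pow, Nat.cast_ofNat] at h2
  have : (0 : ℤ) < 2 ^ m * Nat.card R := mul_pos (by positivity) (by exact_mod_cast Nat.card_pos)
  linarith

/-- Climbing down the invariant subgroups over `W` along forms with small `S`. -/
theorem card_le_of_forms {m : ℕ} (hm : 0 < m) (hr : r = 2 ^ m + 1) (hsp : Special2 a D.U)
    {b : ℕ} {S : Subgroup G} (F : (D.W →* ℤˣ) → Prop)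
    (hF : ∀ B : Subgroup G, B ≤ D.U → ¬ B ≤ D.W → ∃ ε, F ε ∧ ¬ B ≤ rad hsp ε)
    (hb : ∀ ε, F ε → ∀ S' : Subgroup G, S' ≤ S → S' ≤ D.U → Nat.card S' ≤ 2 ^ b * Nat.card ↥(S' ⊓ rad hsp ε)) :
    ∀ (j : ℕ) {B : Subgroup G}, Inv a B → D.W ≤ B → B ≤ D.U →
      Nat.card B = 2 ^ (2 * m * j) * Nat.card D.W →
      Nat.card ↥(S ⊓ B) ≤ 2 ^ (b * j) * Nat.card ↥(S ⊓ D.W) := by
  intro j
  induction j using Nat.strong_induction_on with
  | _ j ih =>
    intro B hB hWB hBU hj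
    by_cases hBW : B ≤ D.W
    · exact (Nat.le_of_dvd Nat.card_pos (card_dvd_of_le (inf_le_inf_left S hBW))).trans
        (Nat.le_mul_of_pos_left _ (Nat.two_pow_pos _))
    obtain ⟨ε, hε, hne⟩ := hF B hBU hBW
    have hlt : B ⊓ rad hsp ε < B := inf_le_left.lt_of_ne fun h => hne (h ▸ inf_le_right)
    obtain ⟨j', hj'⟩ := M.exists_card hm hr (hB.inf (inv_rad hsp ε)) (le_inf hWB (W_le_rad hsp ε))
      (inf_le_left.trans hBU)
    have hj'' : j' < j := by
      by_contra h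
      refine hlt.ne (Subgroup.eq_of_le_of_card_ge hlt.le ?_)
      rw [hj, hj']
      exact Nat.mul_le_mul_right _ (Nat.pow_le_pow_right two_pos (Nat.mul_le_mul_left _ (not_lt.mp h)))
    calc Nat.card ↥(S ⊓ B) ≤ 2 ^ b * Nat.card ↥(S ⊓ B ⊓ rad hsp ε) :=
          hb ε hε _ inf_le_left (inf_le_right.trans hBU)
      _ ≤ 2 ^ b * (2 ^ (b * j') * Nat.card ↥(S ⊓ D.W)) := by
          rw [inf_assoc]
          exact Nat.mul_le_mul_left _ (ih j' hj'' (hB.inf (inv_rad hsp ε)) (le_inf hWB (W_le_rad hsp ε))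
            (inf_le_left.trans hBU) hj')
      _ ≤ _ := by
          rw [← mul_assoc, ← pow_add, ← Nat.mul_succ b j' |>.trans (Nat.add_comm _ _)]
          exact Nat.mul_le_mul_right _ (Nat.pow_le_pow_right two_pos (Nat.mul_le_mul_left _ hj''))

/-- Outside `W`, some occurring character sees the subgroup. -/
theorem exists_occ_not_le {B : Subgroup G} (hBU : B ≤ D.U) (hBW : ¬ B ≤ D.W) :
    ∃ χ, Occ ρ D χ ∧ ¬ B ≤ rad (M.special2_U D) χ := by
  by_contra hne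
  push Not at hne
  refine hBW fun x hx => ⟨hBU hx, (M.special2_U D).center_le x (hBU hx) fun y hy => ?_⟩
  refine commutatorElement_eq_one_iff_mul_comm.mp ?_
  by_contra h1
  obtain ⟨χ, hχ, hχx⟩ := M.exists_occ (x := commW (M.special2_U D) ⟨x, hBU hx⟩ ⟨y, hy⟩)
    fun h => h1 (congrArg Subtype.val h)
  obtain ⟨_, h2⟩ := mem_rad.mp (hne χ hχ hx)
  rw [h2 ⟨y, hy⟩] at hχx
  exact absurd hχx (by decide)

/-- A character of `W` without commutators is trivial. -/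
theorem eq_one_of_rad_eq (hsp : Special2 a D.U) {ε : D.W →* ℤˣ} (h : D.U ≤ rad hsp ε) : ε = 1 := by
  refine MonoidHom.ext fun w => ?_
  have hW : ∀ g, g ∈ ⁅D.U, D.U⁆ → ∃ h' : g ∈ D.W, ε ⟨g, h'⟩ = 1 := by
    intro g hg
    rw [Subgroup.commutator_def] at hg
    induction hg using Subgroup.closure_induction with
    | mem z hz =>
      obtain ⟨u, hu, v, hv, rfl⟩ := hz
      obtain ⟨_, h1⟩ := mem_rad.mp (h hu)
      exact ⟨hsp.comm_mem u hu v hv, h1 ⟨v, hv⟩⟩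
    | one => exact ⟨one_mem _, map_one ε⟩
    | mul y z _ _ ihy ihz =>
      obtain ⟨hy, hy'⟩ := ihy
      obtain ⟨hz, hz'⟩ := ihz
      exact ⟨mul_mem hy hz, (map_mul ε ⟨y, hy⟩ ⟨z, hz⟩).trans (by rw [hy', hz', mul_one])⟩
    | inv y _ ihy =>
      obtain ⟨hy, hy'⟩ := ihy
      exact ⟨inv_mem hy, (map_inv ε ⟨y, hy⟩).trans (by rw [hy', inv_one])⟩
  exact (hW w (hsp.fix_le w.2)).choose_spec

/-- The quotient by a radical of index `2 ^ (2 * m)` has no invariant subgroups. -/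
theorem eq_or_eq {m : ℕ} (hm : 0 < m) (hr : r = 2 ^ m + 1) (hsp : Special2 a D.U) {χ : D.W →* ℤˣ}
    (hidx : Nat.card D.U = 2 ^ (2 * m) * Nat.card (rad hsp χ)) {B : Subgroup G} (hB : Inv a B)
    (hRB : rad hsp χ ≤ B) (hBU : B ≤ D.U) : B = rad hsp χ ∨ B = D.U := by
  obtain ⟨i, hi⟩ := M.exists_card hm hr (inv_rad hsp χ) (W_le_rad hsp χ) (rad_le hsp χ)
  obtain ⟨j, hj⟩ := M.exists_card hm hr hB ((W_le_rad hsp χ).trans hRB) hBU
  rcases Nat.lt_or_ge i j with h | h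
  · refine Or.inr (Subgroup.eq_of_le_of_card_ge hBU ?_)
    rw [hidx, hi, hj, ← mul_assoc, ← pow_add]
    refine Nat.mul_le_mul_right _ (Nat.pow_le_pow_right two_pos ?_)
    calc 2 * m + 2 * m * i = 2 * m * (i + 1) := by ring
      _ ≤ _ := Nat.mul_le_mul_left _ h
  · refine Or.inl (Subgroup.eq_of_le_of_card_ge hRB ?_).symm
    rw [hi, hj]
    exact Nat.mul_le_mul_right _ (Nat.pow_le_pow_right two_pos (Nat.mul_le_mul_left _ h))

/-- Two characters with different radicals. -/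
theorem rad_mul_eq {m : ℕ} (hm : 0 < m) (hr : r = 2 ^ m + 1) (hsp : Special2 a D.U) {χ μ : D.W →* ℤˣ}
    (hχ : Nat.card D.U = 2 ^ (2 * m) * Nat.card (rad hsp χ))
    (hμ : Nat.card D.U = 2 ^ (2 * m) * Nat.card (rad hsp μ)) (hne : rad hsp χ ≠ rad hsp μ) :
    rad hsp (χ * μ) = rad hsp χ ⊓ rad hsp μ ∧
      Nat.card D.U = 2 ^ (2 * (2 * m)) * Nat.card (rad hsp (χ * μ)) := by
  have hn : rad hsp μ ≤ normalizer (rad hsp χ : Set G) :=
    (rad_le hsp μ).trans (le_normalizer_of_W_le hsp (W_le_rad hsp χ) (rad_le hsp χ))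
  have hsup : rad hsp χ ⊔ rad hsp μ = D.U := by
    refine (M.eq_or_eq hm hr hsp hχ ((inv_rad hsp χ).sup (inv_rad hsp μ)) le_sup_left
      (sup_le (rad_le hsp χ) (rad_le hsp μ))).resolve_left fun h => hne ?_
    refine (Subgroup.eq_of_le_of_card_ge (sup_eq_left.mp h) ?_).symm
    exact Nat.le_of_mul_le_mul_left (le_of_eq (hχ.symm.trans hμ)) (Nat.two_pow_pos _)
  have heq : rad hsp (χ * μ) = rad hsp χ ⊓ rad hsp μ := by
    refine le_antisymm (fun x hx => ?_) (rad_mul_ge hsp χ μ)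
    obtain ⟨hxU, h⟩ := mem_rad.mp hx
    have h' : ∀ y, χ (commW hsp ⟨x, hxU⟩ y) = μ (commW hsp ⟨x, hxU⟩ y) := fun y => by
      have := h y
      rw [MonoidHom.mul_apply, mul_eq_one_iff_eq_inv, Int.units_inv_eq_self] at this
      exact this
    have hboth : ∀ y : D.U, χ (commW hsp ⟨x, hxU⟩ y) = 1 := by
      intro y
      have hy : (y : G) ∈ rad hsp χ ⊔ rad hsp μ := hsup.symm ▸ y.2
      rw [← SetLike.mem_coe, Subgroup.coe_mul_of_right_le_normalizer_left _ _ hn] at hy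
      obtain ⟨s, hs, t, ht, he⟩ := hy
      obtain ⟨hsU, hs'⟩ := mem_rad.mp hs
      obtain ⟨htU, ht'⟩ := mem_rad.mp ht
      rw [show y = ⟨s, hsU⟩ * ⟨t, htU⟩ from Subtype.ext he.symm, commW_mul_right, map_mul, h' ⟨t, htU⟩,
        commW_symm hsp ⟨s, hsU⟩ ⟨x, hxU⟩, commW_symm hsp ⟨t, htU⟩ ⟨x, hxU⟩, hs' ⟨x, hxU⟩, ht' ⟨x, hxU⟩,
        mul_one]
    exact ⟨mem_rad.mpr ⟨hxU, hboth⟩, mem_rad.mpr ⟨hxU, fun y => (h' y).symm.trans (hboth y)⟩⟩
  refine ⟨heq, ?_⟩
  obtain ⟨i, hi⟩ := M.exists_card hm hr (inv_rad hsp χ) (W_le_rad hsp χ) (rad_le hsp χ)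
  obtain ⟨j, hj⟩ := M.exists_card hm hr ((inv_rad hsp χ).inf (inv_rad hsp μ))
    (le_inf (W_le_rad hsp χ) (W_le_rad hsp μ)) (inf_le_left.trans (rad_le hsp χ))
  have hlt : rad hsp χ ⊓ rad hsp μ < rad hsp χ := inf_le_left.lt_of_ne fun h => hne
    (Subgroup.eq_of_le_of_card_ge (inf_eq_left.mp h)
      (Nat.le_of_mul_le_mul_left (le_of_eq (hμ.symm.trans hχ)) (Nat.two_pow_pos _)))
  have hji : j < i := by
    by_contra h
    refine hlt.ne (Subgroup.eq_of_le_of_card_ge hlt.le ?_)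
    rw [hi, hj]
    exact Nat.mul_le_mul_right _ (Nat.pow_le_pow_right two_pos (Nat.mul_le_mul_left _ (not_lt.mp h)))
  have h2 := relIndex_mul_card_eq (inf_le_left : rad hsp χ ⊓ rad hsp μ ≤ rad hsp χ)
  have h3 := relIndex_mul_card_eq (rad_le hsp μ)
  rw [inf_relIndex_left] at h2
  have h4 : (rad hsp μ).relIndex (rad hsp χ) ≤ (rad hsp μ).relIndex D.U :=
    relIndex_le_of_le_right (rad_le hsp χ) ((rad hsp μ).subgroupOf D.U).index_ne_zero_of_finite
  have h5 : (rad hsp μ).relIndex D.U = 2 ^ (2 * m) :=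
    Nat.eq_of_mul_eq_mul_right Nat.card_pos (h3.trans hμ)
  rw [h5] at h4
  have h6 : Nat.card (rad hsp χ) ≤ 2 ^ (2 * m) * Nat.card ↥(rad hsp χ ⊓ rad hsp μ) :=
    h2 ▸ Nat.mul_le_mul_right _ h4
  rw [hi, hj, ← mul_assoc, ← pow_add] at h6
  have h7 := (Nat.pow_le_pow_iff_right one_lt_two).mp (Nat.le_of_mul_le_mul_right h6 Nat.card_pos)
  have h8 : i = j + 1 := by
    have : 2 * m * i ≤ 2 * m * (j + 1) := h7.trans (le_of_eq (by ring))
    have := Nat.le_of_mul_le_mul_left this (by omega)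
    omega
  rw [heq, hχ, hi, hj, h8, ← mul_assoc, ← mul_assoc, ← pow_add, ← pow_add]
  congr 2
  ring

end Cfg

end Cfsg.Agent.H24.Flav
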