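import Cfsg.Agent.H24.Flav.Basic

/-!
Reduction to a minimal configuration, in the general setting.
-/

set_option autoImplicit false
set_option linter.unusedSectionVars false

namespace Cfsg.Agent.H24.Flav

open Subgroup
open Cfsg.Agent.H8.Shult hiding Min

universe u v w

/-- Displacements of an invariant subgroup are displacements inside it. -/
theorem disp_subAut {G : Type u} [Group G] [Finite G] {a : MulAut G} {H : Subgroup G} (hH : Inv a H) {x : G}
    (hx : x ∈ disp a H) : ∃ h : x ∈ H, (⟨x, h⟩ : H) ∈ disp (subAut H hH) (⊤ : Subgroup H) := by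
  induction hx using Subgroup.closure_induction with
  | mem y hy =>
    obtain ⟨z, hz, rfl⟩ := hy
    exact ⟨mul_mem (inv_mem hz) (hH z hz), subset_closure ⟨⟨z, hz⟩, mem_top _, rfl⟩⟩
  | one => exact ⟨one_mem _, one_mem _⟩
  | mul y z _ _ ihy ihz =>
    obtain ⟨hy, hy'⟩ := ihy
    obtain ⟨hz, hz'⟩ := ihz
    exact ⟨mul_mem hy hz, mul_mem hy' hz'⟩
  | inv y _ ihy =>
    obtain ⟨hy, hy'⟩ := ihy
    exact ⟨inv_mem hy, inv_mem hy'⟩

/-- Images of displacements are displacements of the quotient. -/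
theorem disp_quotAut {G : Type u} [Group G] [Finite G] {a : MulAut G} (N : Subgroup G) [N.Normal]
    (hN : Inv a N) {x : G} (hx : x ∈ disp a (⊤ : Subgroup G)) :
    (x : G ⧸ N) ∈ disp (quotAut N hN) (⊤ : Subgroup (G ⧸ N)) := by
  induction hx using Subgroup.closure_induction with
  | mem y hy =>
    obtain ⟨z, -, rfl⟩ := hy
    exact subset_closure ⟨(z : G ⧸ N), mem_top _, rfl⟩
  | one => exact one_mem _
  | mul y z _ _ ihy ihz => exact mul_mem ihy ihz
  | inv y _ ihy => exact inv_mem ihy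

variable {p r : ℕ} [Fact p.Prime] {k : Type w} [Field k] [CharP k p]

/-- Without a minimal configuration a normal `p`-subgroup absorbs `2`-powers of all displacements. -/
theorem ptwo_of_no_cfg (hp : p ≠ 2) (hrp : r ≠ p)
    (hcfg : ∀ (G : Type u) [Group G] [Finite G] (a : MulAut G) (V : Type v) [AddCommGroup V] [Module k V]
      [FiniteDimensional k V] (ρ : G →* Module.End k V) (T : Module.End k V),
      Cfg p r a ρ T → False) :
    ∀ (n m : ℕ) (G : Type u) [Group G] [Finite G] (a : MulAut G), Nat.card G = n → Coprimely a r →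
      ∀ (V : Type v) [AddCommGroup V] [Module k V] [FiniteDimensional k V]
        (ρ : G →* Module.End k V) (T : Module.End k V), Module.finrank k V = m →
        RepData a r ρ T → Function.Injective ρ → PTwo p a (⊤ : Subgroup G) := by
  intro n
  induction n using Nat.strong_induction_on with
  | _ n ihn =>
  intro m
  induction m using Nat.strong_induction_on with
  | _ m ihm =>
  intro G _ _ a hn ha V _ _ _ ρ T hm hR hinj
  have hbot : IsPGroup 2 (disp a (⊤ : Subgroup G)) → PTwo p a (⊤ : Subgroup G) := fun h => by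
    refine ⟨⊥, bot_le, IsPGroup.of_bot, inv_bot, le_normalizer_iff.mpr fun g _ x hx => ?_, fun x hx => ?_⟩
    · rw [Subgroup.mem_bot] at hx ⊢; rw [hx, mul_one, mul_inv_cancel]
    · obtain ⟨j, hj⟩ := h ⟨x, hx⟩
      exact ⟨j, Subgroup.mem_bot.mpr (congrArg Subtype.val hj)⟩
  -- proper invariant subgroups
  have hproper : ∀ H : Subgroup G, Inv a H → H ≠ ⊤ → PTwo p a H := by
    intro H hH hne
    have hlt : Nat.card H < n := by
      rw [← hn]
      refine lt_of_le_of_ne (Nat.le_of_dvd Nat.card_pos (card_subgroup_dvd_card H)) fun h => hne ?_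
      exact Subgroup.eq_top_of_card_eq H h
    obtain ⟨P, -, hP, hPa, hPn, htwo⟩ := ihn _ hlt m H (subAut H hH) rfl (ha.sub H hH) V (ρ.comp H.subtype) T hm
      ⟨fun g => hR.compat g, hR.sum⟩ (hinj.comp H.subtype_injective)
    refine ⟨P.map H.subtype, map_subtype_le _, hP.map _, ?_, ?_, fun x hx => ?_⟩
    · rintro _ ⟨y, hy, rfl⟩
      exact ⟨subAut H hH y, hPa y hy, rfl⟩
    · refine le_normalizer_iff.mpr fun g hg x hx => ?_
      obtain ⟨y, hy, rfl⟩ := hx
      exact ⟨⟨g, hg⟩ * y * ⟨g, hg⟩⁻¹, (mem_normalizer_iff.mp (hPn (mem_top _)) y).mp hy, rfl⟩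
    · obtain ⟨hxH, hx'⟩ := disp_subAut hH hx
      obtain ⟨j, hj⟩ := htwo _ hx'
      exact ⟨j, ⟨_, hj, rfl⟩⟩
  by_cases htwo : IsPGroup 2 (disp a (⊤ : Subgroup G))
  · exact hbot htwo
  by_cases hirr : ∀ S : Submodule k V, (∀ g, ∀ v ∈ S, ρ g v ∈ S) → (∀ v ∈ S, T v ∈ S) → S = ⊥ ∨ S = ⊤
  · exact (hcfg G a V ρ T ⟨ha, hR, hinj, hp, hrp, hirr, hproper, htwo⟩).elim
  push Not at hirr
  obtain ⟨S, hS, hT, hS0, hS1⟩ := hirr
  -- the preimage of the witness for a smaller module
  have hsmall : ∀ (V' : Type v) [AddCommGroup V'] [Module k V'] [FiniteDimensional k V']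
      (σ : G →* Module.End k V') (T' : Module.End k V'), Module.finrank k V' < m → RepData a r σ T' →
      ∃ Q : Subgroup G, Inv a Q ∧ Q.Normal ∧ (∀ x ∈ Q, ∃ j : ℕ, σ (x ^ p ^ j) = 1) ∧
        ∀ x ∈ disp a (⊤ : Subgroup G), ∃ j : ℕ, x ^ 2 ^ j ∈ Q := by
    intro V' _ _ _ σ T' hlt hR'
    have hK : Inv a σ.ker := by
      intro g hg
      rw [MonoidHom.mem_ker] at hg ⊢
      have h := hR'.compat g
      rw [hg, mul_one] at h
      have hu : IsUnit T' := IsUnit.of_pow_eq_one hR'.pow_eq_one ha.prime.ne_zero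
      exact (hu.mul_right_cancel ((one_mul T').trans h)).symm
    let σ' := QuotientGroup.lift σ.ker σ le_rfl
    have hinj' : Function.Injective σ' := by
      refine (injective_iff_map_eq_one' σ').mpr fun g => ⟨fun hg => ?_, fun hg => by rw [hg, map_one]⟩
      obtain ⟨g, rfl⟩ := QuotientGroup.mk_surjective g
      exact (QuotientGroup.eq_one_iff _).mpr hg
    have hQle : Nat.card (G ⧸ σ.ker) ≤ n :=
      hn ▸ Nat.le_of_dvd Nat.card_pos (Subgroup.card_quotient_dvd_card _)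
    have hR'' : RepData (quotAut σ.ker hK) r σ' T' := ⟨fun g => by
      obtain ⟨g, rfl⟩ := QuotientGroup.mk_surjective g
      exact hR'.compat g, hR'.sum⟩
    obtain ⟨P, -, hP, hPa, hPn, htwo'⟩ : PTwo p (quotAut σ.ker hK) (⊤ : Subgroup (G ⧸ σ.ker)) := by
      rcases lt_or_eq_of_le hQle with h | h
      · exact ihn _ h _ _ _ rfl (ha.quot _ hK) V' σ' T' rfl hR'' hinj'
      · exact ihm _ hlt _ _ h (ha.quot _ hK) V' σ' T' rfl hR'' hinj'
    refine ⟨P.comap (QuotientGroup.mk' σ.ker), fun x hx => ?_, ?_, fun x hx => ?_, fun x hx => ?_⟩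
    · show ((a x : G) : G ⧸ σ.ker) ∈ P
      rw [← quotAut_mk σ.ker hK]
      exact hPa _ hx
    · have : P.Normal := normalizer_eq_top_iff.mp (top_le_iff.mp hPn)
      exact Subgroup.Normal.comap this _
    · obtain ⟨j, hj⟩ := hP ⟨_, hx⟩
      refine ⟨j, ?_⟩
      have h1 : ((x ^ p ^ j : G) : G ⧸ σ.ker) = 1 := congrArg Subtype.val hj
      exact (QuotientGroup.eq_one_iff _).mp h1
    · obtain ⟨j, hj⟩ := htwo' _ (disp_quotAut σ.ker hK hx)
      exact ⟨j, hj⟩
  have h1 : Module.finrank k S < m := hm ▸ Submodule.finrank_lt hS1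
  have h2 : Module.finrank k (V ⧸ S) < m := by
    have := Submodule.finrank_quotient_add_finrank S
    have : 0 < Module.finrank k S := Nat.pos_of_ne_zero fun h => hS0 (Submodule.finrank_eq_zero.mp h)
    omega
  obtain ⟨Q₁, hQ₁a, hQ₁n, hQ₁, htwo₁⟩ := hsmall S (subRep S hS) (T.restrict hT) h1
    ⟨subRep_compat hR.compat S hS hT, subRep_sum hR.sum S hT⟩
  obtain ⟨Q₂, hQ₂a, hQ₂n, hQ₂, htwo₂⟩ := hsmall (V ⧸ S) (quotRep S hS) (S.mapQ S T hT) h2
    ⟨quotRep_compat hR.compat S hS hT, quotRep_sum hR.sum S hT⟩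
  refine ⟨Q₁ ⊓ Q₂, le_top, fun x => ?_, hQ₁a.inf hQ₂a, ?_, fun x hx => ?_⟩
  · obtain ⟨j1, hj1⟩ := hQ₁ _ x.2.1
    obtain ⟨j2, hj2⟩ := hQ₂ _ x.2.2
    set z := (x : G) ^ p ^ (j1 + j2) with hz
    have hz1 : subRep S hS z = 1 := by rw [hz, pow_add, pow_mul, map_pow, hj1, one_pow]
    have hz2 : quotRep S hS z = 1 := by rw [hz, add_comm, pow_add, pow_mul, map_pow, hj2, one_pow]
    have hzp : z ^ p = 1 := hinj (by
      rw [map_pow, map_one]
      refine pow_char_eq_one S (ρ z) (fun v hv => ?_) (fun v => ?_)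
      · exact congrArg Subtype.val (congrArg (fun f : Module.End k S => f ⟨v, hv⟩) hz1)
      · exact (Submodule.Quotient.eq S).mp
          (congrArg (fun f : Module.End k (V ⧸ S) => f (Submodule.Quotient.mk v)) hz2))
    exact ⟨j1 + j2 + 1, Subtype.ext (by rw [SubmonoidClass.coe_pow, pow_succ, pow_mul]; exact hzp)⟩
  · exact (normalizer_eq_top_iff.mpr (Subgroup.normal_inf_normal Q₁ Q₂)).ge
  · obtain ⟨j1, hj1⟩ := htwo₁ x hx
    obtain ⟨j2, hj2⟩ := htwo₂ x hx
    refine ⟨j1 + j2, ?_, ?_⟩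
    · rw [pow_add, pow_mul]; exact pow_mem hj1 _
    · rw [add_comm, pow_add, pow_mul]; exact pow_mem hj2 _

end Cfsg.Agent.H24.Flav
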